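import Mathlib

/-!
Subnormal subgroups of finite groups: the join theorem and the zipper lemma of Wielandt.
-/

set_option autoImplicit false
set_option linter.all false

open Subgroup
open scoped Pointwise

namespace Cfsg.Agent.FGS.Subn

variable {G : Type*} [Group G]

/-- `A` is a subnormal subgroup of `K`, both living in `G`. -/
def SN (A K : Subgroup G) : Prop := A ≤ K ∧ (A.subgroupOf K).IsSubnormal

theorem sn_top {A : Subgroup G} : SN A ⊤ ↔ A.IsSubnormal := by
  constructor
  · rintro ⟨-, h⟩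
    exact IsSubnormal.trans le_top h IsSubnormal.top
  · exact fun h => ⟨le_top, h.subgroupOf⟩

theorem sn_refl (K : Subgroup G) : SN K K :=
  ⟨le_rfl, by rw [subgroupOf_self]; exact IsSubnormal.top⟩

theorem sn_normal {A K : Subgroup G} (h : A ≤ K) (hn : K ≤ normalizer (A : Set G)) : SN A K :=
  ⟨h, (normal_subgroupOf_of_le_normalizer hn).isSubnormal⟩

theorem sn_bot (K : Subgroup G) : SN ⊥ K :=
  sn_normal bot_le (fun x _ => mem_normalizer_iff.2 fun y => by simp)

theorem sn_trans {A H K : Subgroup G} (h : SN A H) (h' : SN H K) : SN A K := by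
  refine ⟨h.1.trans h'.1, IsSubnormal.trans ?_ ?_ h'.2⟩
  · exact fun x hx => h.1 hx
  · have := h.2.comap (subgroupOfEquivOfLe h'.1).toMonoidHom
    convert this using 1
    ext; rfl

theorem sn_restrict {A H K : Subgroup G} (h : SN A K) (h1 : A ≤ H) (h2 : H ≤ K) : SN A H := by
  refine ⟨h1, ?_⟩
  have := h.2.comap (Subgroup.inclusion h2)
  convert this using 1
  ext; rfl

theorem sn_smul (φ : MulAut G) {A K : Subgroup G} (h : SN A K) : SN (φ • A) (φ • K) := by
  refine ⟨pointwise_smul_le_pointwise_smul_iff.2 h.1, ?_⟩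
  have h1 := h.2.comap (Subgroup.equivSMul φ K).symm.toMonoidHom
  convert h1 using 1
  ext ⟨x, hx⟩
  obtain ⟨y, hy, rfl⟩ := (mem_smul_pointwise_iff_exists x φ K).1 hx
  have e : (Subgroup.equivSMul φ K).symm ⟨φ • y, hx⟩ = ⟨y, hy⟩ := by
    rw [MulEquiv.symm_apply_eq]; rfl
  simp only [mem_comap, MulEquiv.coe_toMonoidHom, mem_subgroupOf, e]
  exact smul_mem_pointwise_smul_iff

theorem exists_normal_between {A K : Subgroup G} (h : SN A K) (hne : A ≠ K) :
    ∃ N : Subgroup G, A ≤ N ∧ N < K ∧ K ≤ normalizer (N : Set G) := by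
  obtain ⟨N, hN, hAN, hlt⟩ := h.2.exists_normal_and_le_and_lt_top_of_ne (fun ht => hne
    (le_antisymm h.1 (subgroupOf_eq_top.1 ht)))
  refine ⟨N.map K.subtype, fun a ha => ⟨⟨a, h.1 ha⟩, hAN ha, rfl⟩, ?_, ?_⟩
  · refine lt_of_le_of_ne (map_subtype_le N) fun he => hlt.ne ?_
    rw [← map_subtype_inj, he, ← MonoidHom.range_eq_map, range_subtype]
  · rw [← normal_subgroupOf_iff_le_normalizer (map_subtype_le N)]
    convert hN using 1
    exact comap_map_eq_self_of_injective (subtype_injective K) N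

theorem smul_eq_of_mem_normalizer {A : Subgroup G} {g : G} (h : g ∈ normalizer (A : Set G)) :
    MulAut.conj g • A = A := by
  ext y
  rw [mem_pointwise_smul_iff_inv_smul_mem, MulAut.smul_def, MulAut.conj_inv_apply,
    mem_normalizer_iff.1 h, show g * (g⁻¹ * y * g) * g⁻¹ = y by group]

theorem mem_normalizer_of_smul_le [Finite G] {A : Subgroup G} {g : G}
    (h : MulAut.conj g • A ≤ A) : g ∈ normalizer (A : Set G) := by
  have hc : Nat.card (MulAut.conj g • A : Subgroup G) = Nat.card A :=
    Nat.card_congr (equivSMul (MulAut.conj g) A).toEquiv.symm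
  have he := eq_of_le_of_card_ge h hc.ge
  refine mem_normalizer_iff.2 fun y => ?_
  have h2 := Iff.of_eq (congrArg (fun L : Subgroup G => g * y * g⁻¹ ∈ L) he)
  rw [← h2, mem_pointwise_smul_iff_inv_smul_mem, MulAut.smul_def, MulAut.conj_inv_apply,
    show g⁻¹ * (g * y * g⁻¹) * g = y by group]

theorem smul_sup_normal {N B K : Subgroup G} (hN : N ≤ K) (hn : K ≤ normalizer (N : Set G))
    (hB : SN B K) : SN (N ⊔ B) K := by
  refine ⟨sup_le hN hB.1, ?_⟩
  haveI := normal_subgroupOf_of_le_normalizer hn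
  have := (hB.2.quotient (K := N.subgroupOf K)).comap (QuotientGroup.mk' (N.subgroupOf K))
  rw [comap_map_eq, QuotientGroup.ker_mk', ← subgroupOf_sup hB.1 hN, sup_comm] at this
  exact this

/-- The subgroup generated by the conjugates of `A` by `B`. -/
def conjJoin (A B : Subgroup G) : Subgroup G := ⨆ b : B, MulAut.conj (b : G) • A

theorem le_conjJoin (A B : Subgroup G) : A ≤ conjJoin A B :=
  le_trans (by simp) (le_iSup (fun b : B => MulAut.conj (b : G) • A) 1)

theorem conjJoin_norm [Finite G] {A B : Subgroup G} : B ≤ normalizer (conjJoin A B : Set G) := by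
  intro c hc
  refine mem_normalizer_of_smul_le ?_
  rw [pointwise_smul_subset_iff]
  refine iSup_le fun b => ?_
  rw [← pointwise_smul_subset_iff, smul_smul, ← map_mul]
  exact le_iSup (fun b : B => MulAut.conj (b : G) • A) ⟨c * b, mul_mem hc b.2⟩

variable [Finite G]

theorem sup_aux (B : Subgroup G) : ∀ L A : Subgroup G, SN A L → B ≤ normalizer (A : Set G) →
    B ≤ normalizer (L : Set G) → SN B (L ⊔ B) → SN (A ⊔ B) (L ⊔ B) := by
  intro L
  induction L using WellFoundedLT.induction with
  | _ L ih =>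
  intro A hA hBA hBL hB
  rcases eq_or_ne A L with rfl | hne
  · exact sn_refl _
  obtain ⟨N, hAN, hNL, hLN⟩ := exists_normal_between hA hne
  set L₁ := conjJoin A L with hL₁
  have h1 : L₁ ≤ N := iSup_le fun k => by
    rw [← smul_eq_of_mem_normalizer (hLN k.2)]
    exact pointwise_smul_le_pointwise_smul_iff.2 hAN
  have hlt : L₁ < L := lt_of_le_of_lt h1 hNL
  have hBn : B ≤ normalizer (L₁ : Set G) := by
    intro b hb
    refine mem_normalizer_of_smul_le ?_
    rw [pointwise_smul_subset_iff]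
    refine iSup_le fun k => ?_
    rw [← pointwise_smul_subset_iff]
    have hk : b * k * b⁻¹ ∈ L := (mem_normalizer_iff.1 (hBL hb) k).1 k.2
    refine le_trans (le_of_eq ?_) (le_iSup (fun k : L => MulAut.conj (k : G) • A) ⟨_, hk⟩)
    show _ = MulAut.conj (b * k * b⁻¹) • A
    rw [map_mul, mul_smul, smul_eq_of_mem_normalizer (hBA (inv_mem hb)), map_mul, mul_smul]
  have hA1 : SN A L₁ := sn_restrict hA (le_conjJoin A L) hlt.le
  have h2 : SN (L₁ ⊔ B) (L ⊔ B) :=
    smul_sup_normal (hlt.le.trans le_sup_left) (sup_le conjJoin_norm hBn) hB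
  exact sn_trans (ih L₁ hlt A hA1 hBA hBn (sn_restrict hB le_sup_right h2.1)) h2

/-- The join of two subnormal subgroups is subnormal. -/
theorem sn_sup : ∀ K A B : Subgroup G, SN A K → SN B K → SN (A ⊔ B) K := by
  intro K
  induction K using WellFoundedLT.induction with
  | _ K ih =>
  intro A B hA hB
  rcases eq_or_ne A K with rfl | hne
  · rw [sup_eq_left.2 hB.1]; exact sn_refl _
  obtain ⟨N, hAN, hNK, hKN⟩ := exists_normal_between hA hne
  classical
  haveI := Fintype.ofFinite B
  have hb : ∀ b : B, SN (MulAut.conj (b : G) • A) N := fun b => by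
    refine sn_restrict ?_ ?_ hNK.le
    · have := sn_smul (MulAut.conj (b : G)) hA
      rwa [smul_eq_of_mem_normalizer (le_normalizer (hB.1 b.2))] at this
    · rw [← smul_eq_of_mem_normalizer (hKN (hB.1 b.2))]
      exact pointwise_smul_le_pointwise_smul_iff.2 hAN
  have hC : SN (conjJoin A B) N := by
    rw [show conjJoin A B = Finset.univ.sup fun b : B => MulAut.conj (b : G) • A from
      (Finset.sup_univ_eq_iSup _).symm]
    exact Finset.sup_induction (sn_bot N) (fun x hx y hy => ih N hNK x y hx hy) (fun b _ => hb b)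
  have hCK : SN (conjJoin A B) K := sn_trans hC (sn_normal hNK.le hKN)
  have hKB : K ⊔ B = K := sup_eq_left.2 hB.1
  have h3 := sup_aux B K (conjJoin A B) hCK conjJoin_norm (hB.1.trans le_normalizer)
    (by rw [hKB]; exact hB)
  rw [hKB] at h3
  have he : conjJoin A B ⊔ B = A ⊔ B := by
    refine le_antisymm (sup_le (iSup_le fun b => ?_) le_sup_right) (sup_le_sup_right (le_conjJoin A B) _)
    rw [← smul_eq_of_mem_normalizer (le_normalizer (mem_sup_right b.2 : (b : G) ∈ A ⊔ B))]
    exact pointwise_smul_le_pointwise_smul_iff.2 le_sup_left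
  rwa [he] at h3

theorem sn_sSup {K : Subgroup G} (S : Set (Subgroup G)) (h : ∀ U ∈ S, SN U K) : SN (sSup S) K := by
  classical
  haveI := Fintype.ofFinite S
  rw [sSup_eq_iSup', ← Finset.sup_univ_eq_iSup]
  exact Finset.sup_induction (sn_bot K) (fun x hx y hy => sn_sup K x y hx hy) (fun b _ => h b b.2)

/-- A subnormal subgroup which is not normal has a distinct conjugate normalising it. -/
theorem exists_conj_normalizing : ∀ L J : Subgroup G, SN J L → ¬ L ≤ normalizer (J : Set G) →
    ∃ g ∈ L, MulAut.conj g • J ≠ J ∧ MulAut.conj g • J ≤ normalizer (J : Set G) := by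
  intro L
  induction L using WellFoundedLT.induction with
  | _ L ih =>
  intro J hJ hn
  obtain ⟨N, hJN, hNL, hLN⟩ := exists_normal_between hJ (fun he => hn (he ▸ le_normalizer))
  by_cases hN : N ≤ normalizer (J : Set G)
  · obtain ⟨g, hg, hgn⟩ := SetLike.not_le_iff_exists.1 hn
    refine ⟨g, hg, fun he => hgn (mem_normalizer_of_smul_le he.le), le_trans ?_ hN⟩
    rw [← smul_eq_of_mem_normalizer (hLN hg)]
    exact pointwise_smul_le_pointwise_smul_iff.2 hJN
  · obtain ⟨g, hg, h1⟩ := ih N hNL J (sn_restrict hJ hJN hNL.le) hN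
    exact ⟨g, hNL.le hg, h1⟩

/-- Wielandt's zipper lemma. -/
theorem zipper (K : Subgroup G) : ∀ A : Subgroup G, A ≤ K → (∀ H, H < K → A ≤ H → SN A H) →
    ¬ SN A K → ∃ M, M < K ∧ ∀ H, H < K → A ≤ H → H ≤ M := by
  intro A
  induction A using WellFoundedGT.induction with
  | _ A ih =>
  intro hAK hall hA
  have hN : normalizer (A : Set G) ⊓ K < K :=
    lt_of_le_of_ne inf_le_right fun he => hA (sn_normal hAK (inf_eq_right.1 he))
  obtain ⟨M, hNM, hM⟩ := (Set.toFinite {H : Subgroup G | H < K}).exists_le_maximal hN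
  refine ⟨M, hM.prop, fun H hH hAH => ?_⟩
  obtain ⟨H', hHH', hH'⟩ := (Set.toFinite {H : Subgroup G | H < K}).exists_le_maximal hH
  refine hHH'.trans ?_
  by_cases hn : H' ≤ normalizer (A : Set G)
  · exact le_trans (le_inf hn (hH'.prop : H' < K).le) hNM
  have hAH' := hAH.trans hHH'
  obtain ⟨g, hg, hne, hT⟩ := exists_conj_normalizing H' A (hall H' hH'.prop hAH') hn
  set T := MulAut.conj g • A with hTdef
  have hgK : g ∈ K := by
    have h0 : H' ≤ K := le_of_lt (show H' < K from hH'.prop)
    exact h0 hg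
  have hTH : T ≤ H' := by
    rw [hTdef, ← smul_eq_of_mem_normalizer (le_normalizer hg)]
    exact pointwise_smul_le_pointwise_smul_iff.2 hAH'
  have hTK : T ≤ K := hTH.trans (hH'.prop : H' < K).le
  have hlt : A < A ⊔ T := by
    refine lt_of_le_of_ne le_sup_left fun he => hne ?_
    refine eq_of_le_of_card_ge (le_trans le_sup_right he.ge) ?_
    exact (Nat.card_congr (equivSMul (MulAut.conj g) A).toEquiv).le
  have hUM : A ⊔ T ≤ M := (le_inf (sup_le le_normalizer hT) (sup_le hAK hTK)).trans hNM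
  have hU : ∀ H, H < K → A ⊔ T ≤ H → SN (A ⊔ T) H := by
    intro H hH hle
    obtain ⟨h1, h2⟩ := sup_le_iff.1 hle
    refine sn_sup H A T (hall H hH h1) ?_
    have h3 : (MulAut.conj g)⁻¹ • H < K := by
      have h4 : (MulAut.conj g)⁻¹ • H ≤ K := by
        rw [pointwise_smul_subset_iff, inv_inv, smul_eq_of_mem_normalizer (le_normalizer hgK)]
        exact hH.le
      refine lt_of_le_of_ne h4 fun he => hH.ne ?_
      rw [← smul_inv_smul (MulAut.conj g) H, he, smul_eq_of_mem_normalizer (le_normalizer hgK)]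
    have h5 := sn_smul (MulAut.conj g) (hall _ h3 (pointwise_smul_subset_iff.1 h2))
    rwa [smul_inv_smul] at h5
  have hUK : ¬ SN (A ⊔ T) K := fun h => hA (sn_trans
    (sn_restrict (hall M hM.prop (le_sup_left.trans hUM)) le_sup_left hUM) h)
  obtain ⟨M', hM', hall'⟩ := ih (A ⊔ T) hlt (sup_le hAK hTK) hU hUK
  have e1 := hall' M hM.prop hUM
  have e2 := hall' H' hH'.prop (sup_le hAH' hTH)
  exact e2.trans (hM.2 hM' e1)

/-- Subnormality is detected in the joins with the conjugates by conjugates of elements of `A`. -/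
theorem sn_of_conj_conj (A : Subgroup G)
    (h : ∀ a ∈ A, ∀ g : G, SN A (A ⊔ MulAut.conj (g⁻¹ * a * g) • A)) :
    ∀ K : Subgroup G, A ≤ K → SN A K := by
  intro K
  induction K using WellFoundedLT.induction with
  | _ K ih =>
  intro hAK
  by_contra hA
  obtain ⟨M, hMK, hM⟩ := zipper K A hAK ih hA
  have hAM : A ≤ M := hM A (lt_of_le_of_ne hAK fun he => hA (he ▸ sn_refl A)) le_rfl
  have hcon : ∀ g ∈ K, MulAut.conj g • A ≤ M := by
    intro g hg
    intro y hy
    obtain ⟨a, ha, rfl⟩ := (mem_smul_pointwise_iff_exists y _ A).1 hy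
    by_contra hxM
    have hx : g * a * g⁻¹ ∈ K := mul_mem (mul_mem hg (hAK ha)) (inv_mem hg)
    have h1 : SN A (A ⊔ MulAut.conj (g * a * g⁻¹) • A) := by simpa using h a ha g⁻¹
    have h2 : MulAut.conj (g * a * g⁻¹) • A ≤ K := by
      rw [← smul_eq_of_mem_normalizer (le_normalizer hx)]
      exact pointwise_smul_le_pointwise_smul_iff.2 hAK
    have h3 : MulAut.conj (g * a * g⁻¹) • A ≤ M := by
      rcases (sup_le hAK h2).eq_or_lt with he | hlt
      · exact absurd (he ▸ h1) hA
      · exact le_sup_right.trans (hM _ hlt le_sup_left)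
    have h4 : (MulAut.conj (g * a * g⁻¹))⁻¹ • M ≤ M := by
      refine hM _ ?_ (pointwise_smul_subset_iff.1 h3)
      have h5 : (MulAut.conj (g * a * g⁻¹))⁻¹ • M ≤ K := by
        rw [pointwise_smul_subset_iff, inv_inv, smul_eq_of_mem_normalizer (le_normalizer hx)]
        exact hMK.le
      refine lt_of_le_of_ne h5 fun he => hMK.ne ?_
      rw [← smul_inv_smul (MulAut.conj (g * a * g⁻¹)) M, he,
        smul_eq_of_mem_normalizer (le_normalizer hx)]
    rw [← map_inv] at h4
    have h6 : g * a * g⁻¹ ∈ normalizer (M : Set G) := by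
      simpa using inv_mem (mem_normalizer_of_smul_le h4)
    have h7 : ¬ K ≤ normalizer (M : Set G) := fun hn =>
      hA (sn_trans (ih M hMK hAM) (sn_normal hMK.le hn))
    have h8 : normalizer (M : Set G) ⊓ K ≤ M := by
      refine hM _ (lt_of_le_of_ne inf_le_right fun he => h7 (inf_eq_right.1 he)) ?_
      exact le_inf (hAM.trans le_normalizer) hAK
    exact hxM (h8 (mem_inf.2 ⟨h6, hx⟩))
  set C := conjJoin A K with hC
  have hCM : C ≤ M := iSup_le fun k => hcon k k.2
  exact hA (sn_trans (ih C (lt_of_le_of_lt hCM hMK) (le_conjJoin A K))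
    (sn_normal (hCM.trans hMK.le) conjJoin_norm))

end Cfsg.Agent.FGS.Subn
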