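import Cfsg.Prelude.Def_PLocal
import Cfsg.Agent.Lib.Basics.Frattini

/-!
Powers in regular p-groups.
-/

set_option autoImplicit false
set_option linter.all false

open Subgroup
open scoped commutatorElement

namespace Cfsg.Agent.FGS.RegularPow

variable {G : Type*} [Group G] [Finite G] {p : ℕ} [Fact p.Prime]

theorem zpowers_sup_commutator_lt (hp : IsPGroup p G) {K : Subgroup G} {a : G} (ha : a ∈ K)
    (hna : ¬ K ≤ zpowers a) : zpowers a ⊔ ⁅K, K⁆ < K := by
  have hD : ⁅K, K⁆ ≤ K := commutator_le.2 fun x hx y hy => by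
    rw [commutatorElement_def]
    exact mul_mem (mul_mem (mul_mem hx hy) (inv_mem hx)) (inv_mem hy)
  refine lt_of_le_of_ne (sup_le (zpowers_le.2 ha) hD) fun he => hna ?_
  haveI : Group.IsNilpotent K := (hp.to_subgroup K).isNilpotent
  haveI : Finite K := inferInstance
  have hz : zpowers a ≤ K := zpowers_le.2 ha
  have h1 : (zpowers a).subgroupOf K ⊔ _root_.commutator K = ⊤ := by
    refine Subgroup.map_injective (subtype_injective K) ?_
    rw [Subgroup.map_sup, map_subgroupOf_eq_of_le hz, map_subtype_commutator, he, ← MonoidHom.range_eq_map,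
      range_subtype]
  have h2 : (zpowers a).subgroupOf K ⊔ frattini K = ⊤ :=
    top_le_iff.1 (h1.ge.trans (sup_le_sup_left Basics.commutator_le_frattini _))
  exact subgroupOf_eq_top.1 (frattini_nongenerating h2)

theorem main (hG : Cfsg.IsRegularPGroup p G) (k : ℕ) : ∀ K : Subgroup G, ∀ a ∈ K, ∀ b ∈ K,
    (a ^ p ^ k = 1 → (a * b) ^ p ^ k = b ^ p ^ k) ∧
      (a ^ p ^ k = b ^ p ^ k → (a * b⁻¹) ^ p ^ k = 1) := by
  intro K
  induction K using WellFoundedLT.induction with
  | _ K ih =>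
  intro a ha b hb
  by_cases hab : Commute a b
  · refine ⟨fun h => by rw [hab.mul_pow, h, one_mul], fun h => ?_⟩
    rw [hab.inv_right.mul_pow, h, inv_pow, mul_inv_cancel]
  set L := closure ({a, b} : Set G) with hL
  have haL : a ∈ L := subset_closure (Set.mem_insert a _)
  have hbL : b ∈ L := subset_closure (Set.mem_insert_of_mem a rfl)
  have hLK : L ≤ K := (closure_le K).2 (by rintro x (rfl | rfl) <;> assumption)
  rcases hLK.lt_or_eq with hlt | he
  · exact ih L hlt a haL b hbL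
  subst he
  set D := ⁅L, L⁆ with hD
  have hHa : zpowers a ⊔ D < L := zpowers_sup_commutator_lt hG.1 haL fun h => by
    obtain ⟨i, hi⟩ := mem_zpowers_iff.1 (h hbL)
    exact hab (hi ▸ (Commute.refl a).zpow_right i)
  set W : Subgroup G :=
    { carrier := {d | d ∈ D ∧ d ^ p ^ k = 1}
      one_mem' := ⟨one_mem D, one_pow _⟩
      mul_mem' := fun {x y} hx hy => ⟨mul_mem hx.1 hy.1, by
        rw [(ih D (lt_of_le_of_lt le_sup_right hHa) x hx.1 y hy.1).1 hx.2, hy.2]⟩
      inv_mem' := fun {x} hx => ⟨inv_mem hx.1, by rw [inv_pow, hx.2, inv_one]⟩ } with hW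
  have hDc : ∀ g ∈ L, ∀ d ∈ D, g * d * g⁻¹ ∈ D := fun g hg d hd => by
    rw [show g * d * g⁻¹ = ⁅g, d⁆ * d by rw [commutatorElement_def]; group]
    refine mul_mem (commutator_mem_commutator hg ?_) hd
    exact (le_trans le_sup_right hHa.le) hd
  have hWc : ∀ g ∈ L, ∀ d ∈ W, g * d * g⁻¹ ∈ W := fun g hg d hd =>
    ⟨hDc g hg d hd.1, by rw [conj_pow, hd.2, mul_one, mul_inv_cancel]⟩
  have hexp : ⁅a, b⁆ ^ p ^ k = 1 → ∀ c ∈ Cfsg.powerClosure p k D, c = 1 := by
    intro hc
    have hab' : ⁅a, b⁆ ∈ W := ⟨commutator_mem_commutator haL hbL, hc⟩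
    have hstep : ∀ x ∈ L, ⁅x, a⁆ ∈ W → ⁅x, b⁆ ∈ W → ∀ y ∈ L, ⁅x, y⁆ ∈ W := by
      intro x hx h1 h2 y hy
      induction hy using closure_induction with
      | mem y hy => rcases hy with rfl | rfl <;> assumption
      | one => simp
      | mul y z hy hz iy iz =>
        rw [show ⁅x, y * z⁆ = ⁅x, y⁆ * (y * ⁅x, z⁆ * y⁻¹) by simp only [commutatorElement_def]; group]
        exact mul_mem iy (hWc y hy _ iz)
      | inv y hy iy =>
        rw [show ⁅x, y⁻¹⁆ = y⁻¹ * ⁅x, y⁆⁻¹ * y⁻¹⁻¹ by simp only [commutatorElement_def]; group]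
        exact hWc _ (inv_mem hy) _ (inv_mem iy)
    have hall : ∀ x ∈ L, ∀ y ∈ L, ⁅x, y⁆ ∈ W := by
      intro x hx
      induction hx using closure_induction with
      | mem x hx =>
        rcases hx with rfl | rfl
        · exact hstep x haL (by simp) hab'
        · exact hstep x hbL (by rw [← commutatorElement_inv]; exact inv_mem hab') (by simp)
      | one => simp
      | mul x z hx hz ix iz =>
        intro y hy
        rw [show ⁅x * z, y⁆ = x * ⁅z, y⁆ * x⁻¹ * ⁅x, y⁆ by simp only [commutatorElement_def]; group]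
        exact mul_mem (hWc x hx _ (iz y hy)) (ix y hy)
      | inv x hx ix =>
        intro y hy
        rw [show ⁅x⁻¹, y⁆ = x⁻¹ * ⁅x, y⁆⁻¹ * x⁻¹⁻¹ by simp only [commutatorElement_def]; group]
        exact hWc _ (inv_mem hx) _ (inv_mem (ix y hy))
    have hDW : D ≤ W := commutator_le.2 hall
    intro c hc'
    induction hc' using closure_induction with
    | mem y hy => obtain ⟨d, hd, rfl⟩ := hy; exact (hDW hd).2
    | one => rfl
    | mul x y _ _ hx hy => rw [hx, hy, mul_one]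
    | inv x _ hx => rw [hx, inv_one]
  have hmemH : ∀ d ∈ D, ∀ i : ℤ, a ^ i * d ∈ zpowers a ⊔ D := fun d hd i =>
    mul_mem (mem_sup_left (zpow_mem (mem_zpowers a) i)) (mem_sup_right hd)
  constructor
  · intro hq
    have ha' : b * a⁻¹ * b⁻¹ ∈ zpowers a ⊔ D := by
      rw [show b * a⁻¹ * b⁻¹ = a ^ (-1 : ℤ) * ⁅a, b⁆ by rw [commutatorElement_def]; group]
      exact hmemH _ (commutator_mem_commutator haL hbL) _
    have h1 : ⁅a, b⁆ ^ p ^ k = 1 := by
      rw [show ⁅a, b⁆ = a * (b * a⁻¹ * b⁻¹) by rw [commutatorElement_def]; group,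
        (ih _ hHa a (mem_sup_left (mem_zpowers a)) _ ha').1 hq, conj_pow, inv_pow, hq, inv_one,
        mul_one, mul_inv_cancel]
    obtain ⟨c, hc, he⟩ := hG.2 a b k
    rw [← hL] at hc
    rw [he, hexp h1 c hc, hq, one_mul, mul_one]
  · intro hq
    have ha' : b * a * b⁻¹ ∈ zpowers a ⊔ D := by
      rw [show b * a * b⁻¹ = a ^ (1 : ℤ) * ⁅a⁻¹, b⁆ by rw [commutatorElement_def]; group]
      exact hmemH _ (commutator_mem_commutator (inv_mem haL) hbL) _
    have h0 : ⁅b, a⁆ ^ p ^ k = 1 := by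
      rw [show ⁅b, a⁆ = b * a * b⁻¹ * a⁻¹ by rw [commutatorElement_def]]
      refine (ih _ hHa _ ha' a (mem_sup_left (mem_zpowers a))).2 ?_
      rw [conj_pow, hq, ← pow_succ', pow_succ, mul_inv_cancel_right]
    have h1 : ⁅a, b⁆ ^ p ^ k = 1 := by
      rw [← commutatorElement_inv, inv_pow, h0, inv_one]
    obtain ⟨c, hc, he⟩ := hG.2 a b⁻¹ k
    have hcl : closure ({a, b⁻¹} : Set G) = L := by
      refine le_antisymm ((closure_le _).2 ?_) ((closure_le _).2 ?_)
      · rintro x (rfl | rfl)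
        · exact haL
        · exact inv_mem hbL
      · rintro x (rfl | rfl)
        · exact subset_closure (Set.mem_insert x _)
        · have := inv_mem (subset_closure (Set.mem_insert_of_mem a (rfl : x⁻¹ ∈ ({x⁻¹} : Set G))) :
            x⁻¹ ∈ closure ({a, x⁻¹} : Set G))
          simpa using this
    rw [hcl] at hc
    rw [he, hexp h1 c hc, mul_one, hq, inv_pow, mul_inv_cancel]

theorem mul_pow_of_left (hG : Cfsg.IsRegularPGroup p G) {a : G} {k : ℕ} (h : a ^ p ^ k = 1) (b : G) :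
    (a * b) ^ p ^ k = b ^ p ^ k :=
  (main hG k ⊤ a (mem_top a) b (mem_top b)).1 h

theorem pow_eq_iff (hG : Cfsg.IsRegularPGroup p G) (a b : G) (k : ℕ) :
    a ^ p ^ k = b ^ p ^ k ↔ (a * b⁻¹) ^ p ^ k = 1 := by
  refine ⟨(main hG k ⊤ a (mem_top a) b (mem_top b)).2, fun h => ?_⟩
  conv_lhs => rw [show a = a * b⁻¹ * b by group]
  exact mul_pow_of_left hG h b

end Cfsg.Agent.FGS.RegularPow
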