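import Cfsg.Agent.Lib.FGS.RegularPow

/-!
Power subgroups in regular p-groups and Kemhadze's criterion.
-/

set_option autoImplicit false
set_option linter.all false

open Subgroup
open scoped commutatorElement

namespace Cfsg.Agent.FGS.RegularPow

/-- The regularity formula at one exponent. -/
def Formula (p n : ℕ) (G : Type*) [Group G] : Prop :=
  ∀ a b : G, ∃ c ∈ Cfsg.powerClosure p n ⁅closure ({a, b} : Set G), closure ({a, b} : Set G)⁆,
    (a * b) ^ p ^ n = a ^ p ^ n * b ^ p ^ n * c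

variable {G : Type*} [Group G] {p : ℕ}

theorem powerClosure_mono (n : ℕ) {H K : Subgroup G} (h : H ≤ K) :
    Cfsg.powerClosure p n H ≤ Cfsg.powerClosure p n K :=
  closure_mono fun _ ⟨x, hx, e⟩ => ⟨x, h hx, e⟩

theorem powerClosure_le (n : ℕ) (H : Subgroup G) : Cfsg.powerClosure p n H ≤ H :=
  (closure_le H).2 fun _ ⟨x, hx, e⟩ => e ▸ pow_mem hx _

theorem powerClosure_conj (n : ℕ) {H : Subgroup G} {g : G} (hg : ∀ x ∈ H, g * x * g⁻¹ ∈ H) :
    ∀ y ∈ Cfsg.powerClosure p n H, g * y * g⁻¹ ∈ Cfsg.powerClosure p n H := by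
  intro y hy
  induction hy using closure_induction with
  | mem y hy =>
    obtain ⟨x, hx, rfl⟩ := hy
    exact subset_closure ⟨_, hg x hx, conj_pow.symm⟩
  | one => simp
  | mul a b _ _ ha hb =>
    rw [show g * (a * b) * g⁻¹ = g * a * g⁻¹ * (g * b * g⁻¹) by group]; exact mul_mem ha hb
  | inv a _ ha =>
    rw [show g * a⁻¹ * g⁻¹ = (g * a * g⁻¹)⁻¹ by group]; exact inv_mem ha

theorem commutator_self_le (L : Subgroup G) : ⁅L, L⁆ ≤ L :=
  commutator_le.2 fun x hx y hy => by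
    rw [commutatorElement_def]
    exact mul_mem (mul_mem (mul_mem hx hy) (inv_mem hx)) (inv_mem hy)

theorem conj_mem_commutator_self {L : Subgroup G} {g x : G} (hg : g ∈ L) (hx : x ∈ ⁅L, L⁆) :
    g * x * g⁻¹ ∈ ⁅L, L⁆ := by
  rw [show g * x * g⁻¹ = ⁅g, x⁆ * x by rw [commutatorElement_def]; group]
  exact mul_mem (commutator_mem_commutator hg (commutator_self_le L hx)) hx

/-- The derived subgroup of a two-generated subgroup with commuting-modulo generators. -/
theorem commutator_closure_pair_le {N : Subgroup G} {x y : G} (hx : ∀ z ∈ N, x * z * x⁻¹ ∈ N)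
    (hx' : ∀ z ∈ N, x⁻¹ * z * x ∈ N) (hy : ∀ z ∈ N, y * z * y⁻¹ ∈ N)
    (hy' : ∀ z ∈ N, y⁻¹ * z * y ∈ N) (h : ⁅x, y⁆ ∈ N) :
    ⁅closure ({x, y} : Set G), closure ({x, y} : Set G)⁆ ≤ N := by
  set L := closure ({x, y} : Set G) with hL
  have hn : L ≤ normalizer (N : Set G) := (closure_le _).2 (by
    have key : ∀ w : G, (∀ z ∈ N, w * z * w⁻¹ ∈ N) → (∀ z ∈ N, w⁻¹ * z * w ∈ N) →
        w ∈ normalizer (N : Set G) := fun w h1 h2 => mem_normalizer_iff.2 fun z => ⟨h1 z, fun hz => by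
      have := h2 _ hz; rwa [show w⁻¹ * (w * z * w⁻¹) * w = z by group] at this⟩
    rintro w (rfl | rfl)
    · exact key _ hx hx'
    · exact key _ hy hy')
  have hc : ∀ g ∈ L, ∀ z ∈ N, g * z * g⁻¹ ∈ N := fun g hg z hz => (mem_normalizer_iff.1 (hn hg) z).1 hz
  have hstep : ∀ a ∈ L, ⁅a, x⁆ ∈ N → ⁅a, y⁆ ∈ N → ∀ b ∈ L, ⁅a, b⁆ ∈ N := by
    intro a ha h1 h2 b hb
    induction hb using closure_induction with
    | mem b hb => rcases hb with rfl | rfl <;> assumption
    | one => simp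
    | mul b c hb' hc' ib ic =>
      rw [show ⁅a, b * c⁆ = ⁅a, b⁆ * (b * ⁅a, c⁆ * b⁻¹) by simp only [commutatorElement_def]; group]
      exact mul_mem ib (hc b hb' _ ic)
    | inv b hb' ib =>
      rw [show ⁅a, b⁻¹⁆ = b⁻¹ * ⁅a, b⁆⁻¹ * b⁻¹⁻¹ by simp only [commutatorElement_def]; group]
      exact hc _ (inv_mem hb') _ (inv_mem ib)
  refine commutator_le.2 fun a ha => ?_
  induction ha using closure_induction with
  | mem a ha =>
    rcases ha with rfl | rfl
    · exact hstep a (subset_closure (Set.mem_insert a _)) (by simp) h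
    · exact hstep a (subset_closure (Set.mem_insert_of_mem _ rfl))
        (by rw [← commutatorElement_inv]; exact inv_mem h) (by simp)
  | one => simp
  | mul a c ha' hc' ia ic =>
    intro b hb
    rw [show ⁅a * c, b⁆ = a * ⁅c, b⁆ * a⁻¹ * ⁅a, b⁆ by simp only [commutatorElement_def]; group]
    exact mul_mem (hc a ha' _ (ic b hb)) (ia b hb)
  | inv a ha' ia =>
    intro b hb
    rw [show ⁅a⁻¹, b⁆ = a⁻¹ * ⁅a, b⁆⁻¹ * a⁻¹⁻¹ by simp only [commutatorElement_def]; group]
    exact hc _ (inv_mem ha') _ (inv_mem (ia b hb))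

/-- The commutator of a power with an element. -/
theorem commutator_pow_mem {n : ℕ} (hF : Formula p n G) {H : Subgroup G} {a b : G} (ha : a ∈ H)
    (hb : b ∈ H) : ⁅b, a ^ p ^ n⁆ ∈ Cfsg.powerClosure p n ⁅H, H⁆ := by
  obtain ⟨c, hc, he⟩ := hF ⁅b, a⁆ a
  have hba : ⁅b, a⁆ ∈ ⁅H, H⁆ := commutator_mem_commutator hb ha
  have hc' : c ∈ Cfsg.powerClosure p n ⁅H, H⁆ := by
    refine powerClosure_mono n (commutator_mono ?_ ?_) hc <;>
    · refine (closure_le H).2 ?_
      rintro x (rfl | rfl)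
      · exact commutator_self_le H hba
      · exact ha
  have e : ⁅b, a ^ p ^ n⁆ = ⁅b, a⁆ ^ p ^ n * (a ^ p ^ n * c * (a ^ p ^ n)⁻¹) := by
    rw [show ⁅b, a⁆ ^ p ^ n * (a ^ p ^ n * c * (a ^ p ^ n)⁻¹) =
      ⁅b, a⁆ ^ p ^ n * a ^ p ^ n * c * (a ^ p ^ n)⁻¹ by group, ← he,
      show ⁅b, a⁆ * a = b * a * b⁻¹ by rw [commutatorElement_def]; group, conj_pow,
      commutatorElement_def]
  rw [e]
  exact mul_mem (subset_closure ⟨_, hba, rfl⟩)
    (powerClosure_conj n (fun x hx => conj_mem_commutator_self (pow_mem ha _) hx) c hc')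

/-- Powers generate a subgroup with small derived subgroup. -/
theorem commutator_powerClosure_le {n : ℕ} (hF : Formula p n G) (H : Subgroup G) :
    ⁅Cfsg.powerClosure p n H, Cfsg.powerClosure p n H⁆ ≤ Cfsg.powerClosure p n ⁅H, H⁆ := by
  refine commutator_le.2 fun u hu v hv => ?_
  have hu' : u ∈ H := powerClosure_le n H hu
  induction hv using closure_induction with
  | mem v hv => obtain ⟨a, ha, rfl⟩ := hv; exact commutator_pow_mem hF ha hu'
  | one => simp
  | mul v w hv' hw iv iw =>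
    rw [show ⁅u, v * w⁆ = ⁅u, v⁆ * (v * ⁅u, w⁆ * v⁻¹) by simp only [commutatorElement_def]; group]
    exact mul_mem iv (powerClosure_conj n
      (fun x hx => conj_mem_commutator_self (powerClosure_le n H hv') hx) _ iw)
  | inv v hv' iv =>
    rw [show ⁅u, v⁻¹⁆ = v⁻¹ * ⁅u, v⁆⁻¹ * v⁻¹⁻¹ by simp only [commutatorElement_def]; group]
    exact powerClosure_conj n
      (fun x hx => conj_mem_commutator_self (inv_mem (powerClosure_le n H hv')) hx) _ (inv_mem iv)

variable [Finite G] [Fact p.Prime]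

theorem powers_mul (hp : IsPGroup p G) {n : ℕ} (hF : Formula p n G) :
    ∀ K : Subgroup G, ∀ a ∈ K, ∀ b ∈ K, ∃ x ∈ K, a ^ p ^ n * b ^ p ^ n = x ^ p ^ n := by
  intro K
  induction K using WellFoundedLT.induction with
  | _ K ih =>
  intro a ha b hb
  by_cases hab : Commute a b
  · exact ⟨a * b, mul_mem ha hb, (hab.mul_pow _).symm⟩
  set L := closure ({a, b} : Set G) with hL
  have hLK : L ≤ K := (closure_le K).2 (by rintro x (rfl | rfl) <;> assumption)
  have haL : a ∈ L := subset_closure (Set.mem_insert a _)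
  have hbL : b ∈ L := subset_closure (Set.mem_insert_of_mem a rfl)
  set R := zpowers (a * b) ⊔ ⁅L, L⁆ with hR
  have hlt : R < L := zpowers_sup_commutator_lt hp (mul_mem haL hbL) fun h => by
    obtain ⟨i, hi⟩ := mem_zpowers_iff.1 (h haL)
    obtain ⟨j, hj⟩ := mem_zpowers_iff.1 (h hbL)
    refine hab ?_
    have h' := (Commute.refl (a * b)).zpow_zpow i j
    rwa [hi, hj] at h'
  have hRK : R < K := lt_of_lt_of_le hlt hLK
  obtain ⟨c, hc, he⟩ := hF a b
  rw [← hL] at hc
  obtain ⟨d, hd, rfl⟩ : ∃ d ∈ ⁅L, L⁆, c = d ^ p ^ n := by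
    clear he
    induction hc using closure_induction with
    | mem y hy => exact hy
    | one => exact ⟨1, one_mem _, by simp⟩
    | mul u v _ _ hu hv =>
      obtain ⟨x, hx, rfl⟩ := hu
      obtain ⟨y, hy, rfl⟩ := hv
      exact ih _ (lt_of_le_of_lt le_sup_right hRK) x hx y hy
    | inv u _ hu =>
      obtain ⟨x, hx, rfl⟩ := hu
      exact ⟨x⁻¹, inv_mem hx, (inv_pow x _).symm⟩
  obtain ⟨x, hx, hxe⟩ := ih R hRK (a * b) (mem_sup_left (mem_zpowers _)) d⁻¹
    (mem_sup_right (inv_mem hd))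
  refine ⟨x, hRK.le hx, ?_⟩
  rw [← hxe, he, inv_pow, mul_inv_cancel_right]

theorem powerClosure_eq (hp : IsPGroup p G) {n : ℕ} (hF : Formula p n G) (H : Subgroup G) :
    {y : G | ∃ x ∈ H, y = x ^ (p ^ n)} = (Cfsg.powerClosure p n H : Set G) := by
  refine subset_antisymm subset_closure fun y hy => ?_
  induction hy using closure_induction with
  | mem y hy => exact hy
  | one => exact ⟨1, one_mem _, by simp⟩
  | mul u v _ _ hu hv =>
    obtain ⟨x, hx, rfl⟩ := hu
    obtain ⟨y, hy, rfl⟩ := hv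
    exact powers_mul hp hF H x hx y hy
  | inv u _ hu =>
    obtain ⟨x, hx, rfl⟩ := hu
    exact ⟨x⁻¹, inv_mem hx, (inv_pow x _).symm⟩

/-- Kemhadze: the formula at exponent one gives all. -/
theorem formula_all (hp : IsPGroup p G) (h1 : ∀ a b : G, ∃ c ∈ ⁅closure ({a, b} : Set G),
    closure ({a, b} : Set G)⁆, (a * b) ^ p = a ^ p * b ^ p * c ^ p) : ∀ n, Formula p n G
  | 0 => fun a b => ⟨1, one_mem _, by simp⟩
  | n + 1 => fun a b => by
    have hF := formula_all hp h1 n
    set L := closure ({a, b} : Set G) with hL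
    have haL : a ∈ L := subset_closure (Set.mem_insert a _)
    have hbL : b ∈ L := subset_closure (Set.mem_insert_of_mem a rfl)
    set N := Cfsg.powerClosure p n ⁅L, L⁆ with hN
    have hNn : ∀ g ∈ L, ∀ z ∈ N, g * z * g⁻¹ ∈ N := fun g hg z hz =>
      powerClosure_conj n (fun x hx => conj_mem_commutator_self hg hx) z hz
    have hNp : ∀ z ∈ N, z ^ p ∈ Cfsg.powerClosure p (n + 1) ⁅L, L⁆ := by
      intro z hz
      rw [hN, ← SetLike.mem_coe, ← powerClosure_eq hp hF] at hz
      obtain ⟨x, hx, rfl⟩ := hz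
      exact subset_closure ⟨x, hx, by rw [← pow_mul, pow_succ]⟩
    obtain ⟨c, hc, he⟩ := hF a b
    rw [← hL] at hc
    obtain ⟨e, he', hee⟩ := h1 (a ^ p ^ n * b ^ p ^ n) c
    obtain ⟨f, hf, hfe⟩ := h1 (a ^ p ^ n) (b ^ p ^ n)
    have hcL : c ∈ L := commutator_self_le L (powerClosure_le n _ hc)
    have habL : a ^ p ^ n * b ^ p ^ n ∈ L := mul_mem (pow_mem haL _) (pow_mem hbL _)
    have heN : e ∈ N := by
      refine commutator_closure_pair_le (fun z hz => hNn _ habL z hz) (fun z hz => ?_)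
        (fun z hz => hNn _ hcL z hz) (fun z hz => ?_) ?_ he'
      · have := hNn _ (inv_mem habL) z hz; rwa [inv_inv] at this
      · have := hNn _ (inv_mem hcL) z hz; rwa [inv_inv] at this
      · rw [commutatorElement_def]
        exact mul_mem (hNn _ habL c hc) (inv_mem hc)
    have hfN : f ∈ N := by
      have hm : ∀ x ∈ L, x ^ p ^ n ∈ Cfsg.powerClosure p n L := fun x hx => subset_closure ⟨x, hx, rfl⟩
      refine commutator_powerClosure_le hF L ((commutator_mono ?_ ?_) hf) <;>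
      · refine (closure_le _).2 ?_
        rintro x (rfl | rfl)
        · exact hm a haL
        · exact hm b hbL
    refine ⟨f ^ p * c ^ p * e ^ p, mul_mem (mul_mem (hNp f hfN) (hNp c hc)) (hNp e heN), ?_⟩
    rw [pow_succ, pow_mul, he, hee, hfe, ← pow_mul, ← pow_mul]
    group

end Cfsg.Agent.FGS.RegularPow
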