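import Cfsg.Agent.Lib.FGS.RegularAgemo

/-!
Polynomial sequences in nilpotent groups and the regularity of groups of small class.
-/

set_option autoImplicit false
set_option linter.all false

open Subgroup
open scoped commutatorElement

namespace Cfsg.Agent.FGS.PolySeq

variable {G : Type*} [Group G]

/-- The lower central filtration, starting with the whole group twice. -/
def fil : ℕ → Subgroup G
  | 0 => ⊤
  | n + 1 => (⊤ : Subgroup G).lowerCentralSeries n

instance fil_normal : ∀ n, (fil (G := G) n).Normal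
  | 0 => inferInstanceAs (⊤ : Subgroup G).Normal
  | n + 1 => inferInstanceAs ((⊤ : Subgroup G).lowerCentralSeries n).Normal

theorem fil_succ_le : ∀ n, fil (G := G) (n + 1) ≤ fil n
  | 0 => le_top
  | n + 1 => (⊤ : Subgroup G).lowerCentralSeries_antitone (Nat.le_succ n)

theorem fil_anti {m n : ℕ} (h : m ≤ n) : fil (G := G) n ≤ fil m :=
  antitone_nat_of_succ_le fil_succ_le h

theorem three {N A B C : Subgroup G} [N.Normal] (h1 : ⁅⁅B, C⁆, A⁆ ≤ N) (h2 : ⁅⁅C, A⁆, B⁆ ≤ N) :
    ⁅⁅A, B⁆, C⁆ ≤ N := by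
  have e : ∀ X Y Z : Subgroup G, ⁅⁅X, Y⁆, Z⁆ ≤ N ↔ ⁅⁅X.map (QuotientGroup.mk' N),
      Y.map (QuotientGroup.mk' N)⁆, Z.map (QuotientGroup.mk' N)⁆ = ⊥ := by
    intro X Y Z
    rw [← map_commutator, ← map_commutator, Subgroup.map_eq_bot_iff, QuotientGroup.ker_mk']
  rw [e] at h1 h2 ⊢
  exact commutator_commutator_eq_bot_of_rotate h1 h2

theorem fil_comm : ∀ j i, ⁅fil (G := G) i, fil (G := G) j⁆ ≤ fil (i + j)
  | 0, i => by rw [add_zero]; exact commutator_le_left _ _
  | 1, 0 => by rw [zero_add]; exact commutator_le_right _ _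
  | 1, i + 1 => le_rfl
  | j + 2, i => by
    show ⁅fil (G := G) i, ⁅fil (G := G) (j + 1), (⊤ : Subgroup G)⁆⁆ ≤ fil (i + (j + 2))
    rw [commutator_comm]
    rcases i with _ | i
    · rw [zero_add]
      exact commutator_le_left _ _
    refine three ?_ ?_
    · rw [commutator_comm (⊤ : Subgroup G) (fil (i + 1)), show i + 1 + (j + 2) = i + 2 + (j + 1) by omega]
      exact fil_comm (j + 1) (i + 2)
    · refine le_trans (commutator_mono (fil_comm (j + 1) (i + 1)) le_rfl) ?_
      rw [show i + 1 + (j + 1) = (i + j + 1) + 1 by omega,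
        show i + 1 + (j + 2) = (i + j + 2) + 1 by omega]
      exact le_rfl

/-- The forward difference. -/
def dd (g : ℕ → G) : ℕ → G := fun n => g (n + 1) * (g n)⁻¹

/-- Polynomial sequences, to depth `K`, of degree at least `d`. -/
def Poly : ℕ → ℕ → (ℕ → G) → Prop
  | 0, d, g => ∀ n, g n ∈ fil (G := G) d
  | K + 1, d, g => (∀ n, g n ∈ fil (G := G) d) ∧ Poly K (d + 1) (dd g)

theorem poly_mem : ∀ {K d : ℕ} {g : ℕ → G}, Poly K d g → ∀ n, g n ∈ fil (G := G) d
  | 0, _, _, h => h
  | _ + 1, _, _, h => h.1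

theorem poly_depth : ∀ {K d : ℕ} {g : ℕ → G}, Poly (K + 1) d g → Poly K d g
  | 0, _, _, h => h.1
  | _ + 1, _, _, h => ⟨h.1, poly_depth h.2⟩

theorem poly_anti : ∀ {K d e : ℕ}, d ≤ e → ∀ {g : ℕ → G}, Poly K e g → Poly K d g
  | 0, _, _, h, _, hg => fun n => fil_anti h (hg n)
  | _ + 1, _, _, h, _, hg => ⟨fun n => fil_anti h (hg.1 n), poly_anti (Nat.succ_le_succ h) hg.2⟩

theorem poly_one : ∀ K d, Poly K d (fun _ => (1 : G))
  | 0, _ => fun _ => one_mem _
  | K + 1, d => ⟨fun _ => one_mem _, by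
    have : dd (fun _ : ℕ => (1 : G)) = fun _ => 1 := funext fun n => by simp [dd]
    rw [this]; exact poly_one K (d + 1)⟩

/-- Products, inverses and commutators of polynomial sequences. -/
theorem poly_closed : ∀ K,
    (∀ d (g h : ℕ → G), Poly K d g → Poly K d h → Poly K d (fun n => g n * h n)) ∧
    (∀ d (g : ℕ → G), Poly K d g → Poly K d (fun n => (g n)⁻¹)) ∧
    (∀ i j (g h : ℕ → G), Poly K i g → Poly K j h → Poly K (i + j) (fun n => ⁅g n, h n⁆))
  | 0 => ⟨fun d g h hg hh n => mul_mem (hg n) (hh n), fun d g hg n => inv_mem (hg n),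
      fun i j g h hg hh n => fil_comm j i (commutator_mem_commutator (hg n) (hh n))⟩
  | K + 1 => by
    obtain ⟨mulS, invS, comS⟩ := poly_closed K
    have conS : ∀ e (x y : ℕ → G), Poly K e x → Poly K 0 y →
        Poly K e (fun n => y n * x n * (y n)⁻¹) := by
      intro e x y hx hy
      have h1 := mulS e _ _ (poly_anti (Nat.le_add_left e 0) (comS 0 e y x hy hx)) hx
      convert h1 using 1
      funext n
      simp only [commutatorElement_def]; group
    refine ⟨fun d g h hg hh => ⟨fun n => mul_mem (hg.1 n) (hh.1 n), ?_⟩,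
      fun d g hg => ⟨fun n => inv_mem (hg.1 n), ?_⟩,
      fun i j g h hg hh => ⟨fun n => fil_comm j i (commutator_mem_commutator (hg.1 n) (hh.1 n)), ?_⟩⟩
    · have h1 := mulS _ _ _ hg.2 (conS _ _ g hh.2 (poly_anti (Nat.zero_le d) (poly_depth hg)))
      convert h1 using 1
      funext n
      simp only [dd]; group
    · have h1 := conS _ _ _ (invS _ _ hg.2) (poly_anti (Nat.zero_le d) (invS _ _ (poly_depth hg)))
      convert h1 using 1
      funext n
      simp only [dd]; group
    · have hu := comS i j g h (poly_depth hg) (poly_depth hh)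
      have ha := hg.2
      have hb := hh.2
      have ha0 := poly_anti (Nat.zero_le _) ha
      have hb0 := poly_anti (Nat.zero_le _) hb
      have hz := mulS (i + j + 1) _ _
        (poly_anti (e := i + 1 + (j + 1)) (by omega) (comS (i + 1) (j + 1) (dd g) (dd h) ha hb))
        (conS _ _ _ (poly_anti (e := i + 1 + j) (by omega) (comS (i + 1) j (dd g) h ha (poly_depth hh))) hb0)
      have h1 := conS (i + j + 1) _ _
        (poly_anti (e := i + (j + 1)) (by omega) (comS i (j + 1) g (dd h) (poly_depth hg) hb)) ha0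
      have hab := mulS (min (i + 1) (j + 1)) _ _ (poly_anti (min_le_left _ _) ha)
        (poly_anti (min_le_right _ _) hb)
      have h2 : Poly K (i + j + 1) (fun n => ⁅dd g n * dd h n, ⁅g n, h n⁆⁆) :=
        poly_anti (e := min (i + 1) (j + 1) + (i + j)) (by omega) (comS _ _ _ _ hab hu)
      have h3 := conS _ _ _ hz (poly_anti (Nat.zero_le _) hu)
      have h4 := mulS _ _ _ (mulS _ _ _ h1 h2) h3
      convert h4 using 1
      funext n
      simp only [dd, commutatorElement_def]; group

theorem poly_choose : ∀ K k d (x : G), x ∈ fil (G := G) (d + k) →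
    Poly K d (fun n => x ^ n.choose k)
  | 0, k, d, x, hx => fun n => pow_mem (fil_anti (Nat.le_add_right d k) hx) _
  | K + 1, 0, d, x, hx => ⟨fun n => pow_mem hx _, by
      have : dd (fun n : ℕ => x ^ n.choose 0) = fun _ => 1 := funext fun n => by simp [dd]
      rw [this]; exact poly_one K _⟩
  | K + 1, k + 1, d, x, hx => ⟨fun n => pow_mem (fil_anti (Nat.le_add_right d _) hx) _, by
      have : dd (fun n : ℕ => x ^ n.choose (k + 1)) = fun n => x ^ n.choose k := funext fun n => by
        simp [dd, Nat.choose_succ_succ', pow_add]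
      rw [this]
      exact poly_choose K k (d + 1) x (by rwa [show d + 1 + k = d + (k + 1) by omega])⟩

theorem apply_mem : ∀ k K d (h : ℕ → G), k ≤ K → Poly K d h → (∀ m < k, h m = 1) →
    h k ∈ fil (G := G) (d + k)
  | 0, K, d, h, _, hh, _ => poly_mem hh 0
  | k + 1, 0, d, h, hk, _, _ => absurd hk (by omega)
  | k + 1, K + 1, d, h, hk, hh, h0 => by
    have h1 := apply_mem k K (d + 1) (dd h) (by omega) hh.2 fun m hm => by
      simp only [dd]; rw [h0 m (by omega), h0 (m + 1) (by omega)]; simp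
    simp only [dd] at h1
    rw [h0 k (by omega), inv_one, mul_one, show d + 1 + k = d + (k + 1) by omega] at h1
    exact h1

theorem apply_prime_mem {p : ℕ} (hp : p.Prime)
    (hc : (⊤ : Subgroup G).lowerCentralSeries (p - 1) = ⊥) :
    ∀ t k, 2 ≤ k → p ≤ k + t → ∀ h : ℕ → G, Poly p 0 h → (∀ m < k, h m = 1) →
      h p ∈ Cfsg.powerClosure p 1 ⁅(⊤ : Subgroup G), (⊤ : Subgroup G)⁆
  | t, k, hk, hkt, h, hh, h0 => by
    rcases lt_trichotomy p k with hlt | rfl | hlt
    · rw [h0 p hlt]; exact one_mem _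
    · have h1 := apply_mem p p 0 h le_rfl hh h0
      obtain ⟨p', rfl⟩ : ∃ p', p = p' + 1 := ⟨p - 1, by have := hp.two_le; omega⟩
      rw [zero_add, show fil (G := G) (p' + 1) = (⊤ : Subgroup G).lowerCentralSeries p' from rfl,
        show (⊤ : Subgroup G).lowerCentralSeries p' = ⊥ from hc, mem_bot] at h1
      rw [h1]; exact one_mem _
    · rcases t with _ | t
      · omega
      set x := h k with hx
      have hxm : x ∈ fil (G := G) (0 + k) := apply_mem k p 0 h hlt.le hh h0
      obtain ⟨mulS, invS, -⟩ := poly_closed (G := G) p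
      set h' : ℕ → G := fun n => (x ^ n.choose k)⁻¹ * h n with hh'
      have hP : Poly p 0 h' := mulS _ _ _ (invS _ _ (poly_choose p k 0 x hxm)) hh
      have h0' : ∀ m < k + 1, h' m = 1 := by
        intro m hm
        rcases Nat.lt_succ_iff_lt_or_eq.1 hm with hm | rfl
        · simp [hh', Nat.choose_eq_zero_of_lt hm, h0 m hm]
        · simp [hh', hx]
      have ih := apply_prime_mem hp hc t (k + 1) (by omega) (by omega) h' hP h0'
      have hxc : x ∈ ⁅(⊤ : Subgroup G), (⊤ : Subgroup G)⁆ := by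
        have := fil_anti (G := G) (by omega : 2 ≤ 0 + k) hxm
        exact this
      obtain ⟨q, hq⟩ := hp.dvd_choose_self (by omega : k ≠ 0) hlt
      rw [show h p = x ^ p.choose k * h' p by simp [hh']]
      refine mul_mem ?_ ih
      rw [hq, mul_comm, pow_mul]
      exact subset_closure ⟨x ^ q, pow_mem hxc _, by rw [pow_one]⟩

/-- The power formula in a group of small class. -/
theorem mul_pow_eq {p : ℕ} (hp : p.Prime) (hc : (⊤ : Subgroup G).lowerCentralSeries (p - 1) = ⊥)
    (a b : G) : ∃ c ∈ Cfsg.powerClosure p 1 ⁅(⊤ : Subgroup G), (⊤ : Subgroup G)⁆,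
      (a * b) ^ p = a ^ p * b ^ p * c := by
  obtain ⟨mulS, invS, -⟩ := poly_closed (G := G) p
  have hlin : ∀ x : G, Poly p 0 (fun n => x ^ n) := fun x => by
    have := poly_choose p 1 0 x (mem_top x)
    simpa using this
  refine ⟨(b ^ p)⁻¹ * (a ^ p)⁻¹ * (a * b) ^ p, apply_prime_mem hp hc p 2 le_rfl (by omega)
    (fun n => (b ^ n)⁻¹ * (a ^ n)⁻¹ * (a * b) ^ n)
    (mulS _ _ _ (mulS _ _ _ (invS _ _ (hlin b)) (invS _ _ (hlin a))) (hlin (a * b))) ?_, by group⟩
  intro m hm
  interval_cases m <;> simp [mul_assoc]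

theorem lcs_subgroup {c : ℕ} (hc : (⊤ : Subgroup G).lowerCentralSeries c = ⊥) (L : Subgroup G) :
    (⊤ : Subgroup L).lowerCentralSeries c = ⊥ := by
  have key : ∀ n, ((⊤ : Subgroup L).lowerCentralSeries n).map L.subtype ≤
      (⊤ : Subgroup G).lowerCentralSeries n := by
    intro n
    induction n with
    | zero => exact le_top
    | succ n ih =>
      rw [Subgroup.lowerCentralSeries_succ, Subgroup.lowerCentralSeries_succ, map_commutator]
      exact commutator_mono ih le_top
  rw [← Subgroup.map_eq_bot_iff_of_injective _ (subtype_injective L), eq_bot_iff, ← hc]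
  exact key c

theorem criterion [Finite G] {p : ℕ} [hp : Fact p.Prime] (hG : IsPGroup p G)
    (hc : (⊤ : Subgroup G).lowerCentralSeries (p - 1) = ⊥) : ∀ K : Subgroup G, ∀ a ∈ K, ∀ b ∈ K,
      ∃ c ∈ ⁅closure ({a, b} : Set G), closure ({a, b} : Set G)⁆,
        (a * b) ^ p = a ^ p * b ^ p * c ^ p := by
  intro K
  induction K using WellFoundedLT.induction with
  | _ K ih =>
  intro a ha b hb
  by_cases hab : Commute a b
  · exact ⟨1, one_mem _, by rw [hab.mul_pow, one_pow, mul_one]⟩
  set L := closure ({a, b} : Set G) with hL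
  have haL : a ∈ L := subset_closure (Set.mem_insert a _)
  have hbL : b ∈ L := subset_closure (Set.mem_insert_of_mem a rfl)
  set D := ⁅L, L⁆ with hD
  have hDK : D < K := by
    refine lt_of_lt_of_le (lt_of_le_of_lt le_sup_right (RegularPow.zpowers_sup_commutator_lt hG haL
      fun h => hab ?_)) ((closure_le K).2 (by rintro x (rfl | rfl) <;> assumption))
    obtain ⟨i, hi⟩ := mem_zpowers_iff.1 (h hbL)
    exact hi ▸ (Commute.refl a).zpow_right i
  obtain ⟨c, hc', he⟩ := mul_pow_eq hp.out (lcs_subgroup hc L) ⟨a, haL⟩ ⟨b, hbL⟩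
  have he' : (a * b) ^ p = a ^ p * b ^ p * (c : G) := congrArg Subtype.val he
  have hcD : (c : G) ∈ Cfsg.powerClosure p 1 D := by
    have := mem_map_of_mem L.subtype hc'
    rw [Cfsg.powerClosure, MonoidHom.map_closure] at this
    refine closure_mono ?_ this
    rintro _ ⟨_, ⟨x, hx, rfl⟩, rfl⟩
    refine ⟨(x : G), ?_, by simp⟩
    have h2 := mem_map_of_mem L.subtype hx
    rwa [map_commutator, ← MonoidHom.range_eq_map, range_subtype] at h2
  have hcrit : ∀ u v : D, ∃ w ∈ ⁅closure ({u, v} : Set D), closure ({u, v} : Set D)⁆,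
      (u * v) ^ p = u ^ p * v ^ p * w ^ p := by
    intro u v
    obtain ⟨w, hw, hwe⟩ := ih D hDK u u.2 v v.2
    have hwD : w ∈ D := by
      have h1 : closure ({(u : G), (v : G)} : Set G) ≤ D :=
        (closure_le D).2 (by rintro x (rfl | rfl) <;> first | exact u.2 | exact v.2)
      exact RegularPow.commutator_self_le D (commutator_mono h1 h1 hw)
    refine ⟨⟨w, hwD⟩, ?_, Subtype.ext (by simpa using hwe)⟩
    rw [← mem_map_iff_mem (f := D.subtype) (subtype_injective D)]
    rw [map_commutator, MonoidHom.map_closure, Set.image_pair]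
    exact hw
  obtain ⟨d, hd, hde⟩ : ∃ d ∈ D, (c : G) = d ^ p := by
    clear he he' hc'
    generalize (c : G) = y at hcD ⊢
    induction hcD using closure_induction with
    | mem y hy => obtain ⟨x, hx, rfl⟩ := hy; exact ⟨x, hx, by rw [pow_one]⟩
    | one => exact ⟨1, one_mem _, by simp⟩
    | mul x y _ _ hx hy =>
      obtain ⟨x', hx', rfl⟩ := hx
      obtain ⟨y', hy', rfl⟩ := hy
      obtain ⟨z, -, hz⟩ := RegularPow.powers_mul (hG.to_subgroup D)
        (RegularPow.formula_all (hG.to_subgroup D) hcrit 1) ⊤ ⟨x', hx'⟩ (mem_top _) ⟨y', hy'⟩ (mem_top _)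
      exact ⟨z, z.2, by simpa using congrArg Subtype.val hz⟩
    | inv x _ hx =>
      obtain ⟨x', hx', rfl⟩ := hx
      exact ⟨x'⁻¹, inv_mem hx', (inv_pow _ _).symm⟩
  exact ⟨d, hd, by rw [← hde]; exact he'⟩

end Cfsg.Agent.FGS.PolySeq
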