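/-
A finite group with a nilpotent maximal subgroup whose Sylow 2-subgroup is abelian is solvable
(Thompson).
-/
import Mathlib
import Cfsg.Agent.Lib.Basics.CoprimeAction
import Cfsg.Agent.Lib.Basics.ThompsonFpf
import Cfsg.Agent.Lib.Transfer.Hall
import Cfsg.Agent.Lib.Transfer.Thompson

set_option autoImplicit false
set_option linter.all false

namespace Cfsg.Agent.FGS

open Subgroup
open scoped Pointwise

universe u

variable {G : Type u} [Group G] [Finite G]

/-- Thompson's criterion, stated through the normalizers of characteristic subgroups of `P`. -/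
theorem hasNormalPComplement_of_normalizers {p : ℕ} [hp : Fact p.Prime] (hodd : p ≠ 2)
    (P : Sylow p G)
    (h : ∀ K : Subgroup G, K ≠ ⊥ → K ≤ (P : Subgroup G) →
      normalizer ((P : Subgroup G) : Set G) ≤ normalizer (K : Set G) →
      Cfsg.HasNormalPComplement p (normalizer (K : Set G))) :
    Cfsg.HasNormalPComplement p G := by
  by_cases hP : (P : Subgroup G) = ⊥
  · rw [Transfer.hasNormalPComplement_iff]
    intro hd
    exact P.ne_bot_of_dvd_card (hd.trans (card_subgroup_dvd_card _)) hP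
  refine Transfer.hasNormalPComplement_of_thompsonHyp_aux hp.out hodd (Nat.card G) rfl P ⟨?_, ?_⟩
  · exact h _ (Transfer.thompsonSubgroupOf_ne_bot P.2 hP) (Transfer.thompsonSubgroupOf_le _)
      (Transfer.normalizer_le_normalizer_thompson _)
  · exact Transfer.hasNormalPComplement_of_le (Transfer.centralizer_le_normalizer_self _)
      (h _ (Transfer.center_ne_bot P.2 hP) inf_le_left
        (Transfer.normalizer_le_normalizer_center _))

/-- Thompson's theorem on nilpotent maximal subgroups. -/
theorem isSolvable_of_nilpotent_coatom : ∀ (n : ℕ) (G : Type u) [Group G] [Finite G],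
    Nat.card G = n → ∀ M : Subgroup G, IsCoatom M → Group.IsNilpotent M →
    (∀ x ∈ M, ∀ y ∈ M, (∃ k, orderOf x ∣ 2 ^ k) → (∃ k, orderOf y ∣ 2 ^ k) → Commute x y) →
    Group.IsSolvable G := by
  intro n
  induction n using Nat.strong_induction_on with
  | _ n ih =>
  intro G _ _ hn M hM hMn h2
  subst hn
  haveI := hMn
  haveI : Group.IsSolvable M := inferInstance
  by_cases hcase : ∃ N : Subgroup G, N.Normal ∧ N ≠ ⊥ ∧ N ≤ M
  · obtain ⟨N, hNn, hN1, hNM⟩ := hcase
    haveI := hNn
    have hNs : Group.IsSolvable N := Basics.isSolvable_of_le hNM inferInstance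
    have hker : (QuotientGroup.mk' N).ker ≤ M := by rw [QuotientGroup.ker_mk']; exact hNM
    have hcm : (M.map (QuotientGroup.mk' N)).comap (QuotientGroup.mk' N) = M :=
      comap_map_eq_self hker
    have hco : IsCoatom (M.map (QuotientGroup.mk' N)) := by
      refine ⟨fun ht => hM.1 (by rw [← hcm, ht, comap_top]), fun K hK => ?_⟩
      have h1 : M < K.comap (QuotientGroup.mk' N) := by
        rw [← hcm]
        exact (comap_lt_comap_of_surjective (QuotientGroup.mk'_surjective N)).2 hK
      have h3 := hM.2 _ h1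
      rw [← map_comap_eq_self_of_surjective (QuotientGroup.mk'_surjective N) K, h3]
      exact map_top_of_surjective _ (QuotientGroup.mk'_surjective N)
    have hnil : Group.IsNilpotent (M.map (QuotientGroup.mk' N)) :=
      Group.nilpotent_of_surjective _ ((QuotientGroup.mk' N).subgroupMap_surjective M)
    have h2' : ∀ x ∈ M.map (QuotientGroup.mk' N), ∀ y ∈ M.map (QuotientGroup.mk' N),
        (∃ k, orderOf x ∣ 2 ^ k) → (∃ k, orderOf y ∣ 2 ^ k) → Commute x y := by
      haveI : Fact (Nat.Prime 2) := ⟨Nat.prime_two⟩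
      have lift : ∀ x ∈ M.map (QuotientGroup.mk' N), (∃ k, orderOf x ∣ 2 ^ k) →
          ∃ a ∈ M, (∃ k, orderOf a ∣ 2 ^ k) ∧ QuotientGroup.mk' N a = x := by
        rintro _ ⟨g, hg, rfl⟩ hk
        obtain ⟨a, b, ha, hb, hab, hak, hbc⟩ := Transfer.exists_pPart_mul (p := 2) g
        refine ⟨a, zpowers_le.2 hg ha, hak, ?_⟩
        have hb1 : QuotientGroup.mk' N b = 1 := by
          obtain ⟨i, hi⟩ := mem_zpowers_iff.1 hb
          refine Transfer.eq_one_of_pow_of_coprime (p := 2) ?_
            (Nat.Coprime.coprime_dvd_left (orderOf_map_dvd _ _) hbc)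
          obtain ⟨k, hk⟩ := hk
          refine ⟨k, (orderOf_dvd_of_pow_eq_one ?_).trans hk⟩
          rw [← hi, map_zpow, ← zpow_natCast, ← zpow_mul, mul_comm, zpow_mul, zpow_natCast,
            pow_orderOf_eq_one, one_zpow]
        conv_rhs => rw [← hab, map_mul, hb1, mul_one]
      intro x hx y hy hxk hyk
      obtain ⟨a, haM, hak, rfl⟩ := lift x hx hxk
      obtain ⟨b, hbM, hbk, rfl⟩ := lift y hy hyk
      exact (h2 a haM b hbM hak hbk).map _
    have hq : Group.IsSolvable (G ⧸ N) :=
      ih _ (Basics.card_quotient_lt hN1) (G ⧸ N) rfl _ hco hnil h2'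
    exact (Group.isSolvable_iff_subgroup_quotient N).mpr ⟨hNs, hq⟩
  push Not at hcase
  -- `M` is core-free
  by_cases hMb : M = ⊥
  · subst hMb
    rcases subsingleton_or_nontrivial G with hs | hnt
    · infer_instance
    obtain ⟨g, hg⟩ := exists_ne (1 : G)
    have htop : zpowers g = ⊤ := hM.2 _ (bot_lt_iff_ne_bot.2 (by simpa using hg))
    haveI : IsCyclic G := isCyclic_iff_exists_zpowers_eq_top.2 ⟨g, htop⟩
    exact isSolvable_of_comm IsCyclic.commutative.is_comm.comm
  have hnorm : ∀ K : Subgroup G, K ≠ ⊥ → K ≤ M → M ≤ normalizer (K : Set G) →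
      normalizer (K : Set G) = M := by
    intro K hK1 hKM hMK
    refine (eq_or_lt_of_le hMK).elim Eq.symm fun hlt => ?_
    exact absurd hKM (hcase K (normalizer_eq_top_iff.1 (hM.2 _ hlt)) hK1)
  have hsyl : ∀ p : ℕ, p.Prime → p ∣ Nat.card M → ∃ P : Sylow p G, (P : Subgroup G) ≠ ⊥ ∧
      (P : Subgroup G) ≤ M ∧ normalizer ((P : Subgroup G) : Set G) = M := by
    intro p hp hpd
    haveI := Fact.mk hp
    obtain ⟨P0⟩ : Nonempty (Sylow p M) := inferInstance
    haveI hP0n : (P0 : Subgroup M).Normal :=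
      Sylow.normal_of_normalizerCondition Group.normalizerCondition_of_isNilpotent P0
    set Q := (P0 : Subgroup M).map M.subtype with hQ
    have hQM : Q ≤ M := map_subtype_le _
    have hQ1 : Q ≠ ⊥ := by
      rw [hQ, Ne, map_eq_bot_iff_of_injective _ M.subtype_injective]
      exact P0.ne_bot_of_dvd_card hpd
    have hMQ : M ≤ normalizer (Q : Set G) := by
      refine le_trans (le_of_eq ?_) (le_normalizer_map M.subtype)
      rw [normalizer_eq_top_iff.2 hP0n, ← MonoidHom.range_eq_map, range_subtype]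
    obtain ⟨T, hQT⟩ := (P0.2.map M.subtype).exists_le_sylow
    haveI : Group.IsNilpotent (T : Subgroup G) := T.2.isNilpotent
    have hQT' : Q = (T : Subgroup G) := by
      by_contra hne
      have hlt : Q.subgroupOf T < ⊤ := lt_top_iff_ne_top.2 fun h =>
        hne (le_antisymm hQT (subgroupOf_eq_top.1 h))
      obtain ⟨t, ht, htQ⟩ := SetLike.exists_of_lt
        (Group.normalizerCondition_of_isNilpotent _ hlt)
      have htN : (t : G) ∈ normalizer (Q : Set G) := by
        rw [mem_normalizer_iff] at ht ⊢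
        intro x
        constructor
        · intro hx
          exact mem_subgroupOf.1 ((ht ⟨x, hQT hx⟩).1 (mem_subgroupOf.2 hx))
        · intro hx
          have h' : x = (t : G)⁻¹ * ((t : G) * x * (t : G)⁻¹) * t := by group
          have hxT : x ∈ (T : Subgroup G) := by
            rw [h']; exact mul_mem (mul_mem (inv_mem t.2) (hQT hx)) t.2
          exact mem_subgroupOf.1 ((ht ⟨x, hxT⟩).2 (mem_subgroupOf.2 hx))
      have htM : (t : G) ∈ M := (hnorm Q hQ1 hQM hMQ).le htN
      apply htQ
      rw [mem_subgroupOf]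
      refine ⟨⟨t, htM⟩, ?_, rfl⟩
      obtain ⟨k, hk⟩ := (IsPGroup.iff_orderOf.mp T.2) t
      have hpg : IsPGroup p (zpowers (⟨t, htM⟩ : M)) := by
        refine IsPGroup.of_card (n := k) ?_
        rw [Nat.card_zpowers, Subgroup.orderOf_mk, ← hk, Subgroup.orderOf_coe]
      obtain ⟨R, hR⟩ := hpg.exists_le_sylow
      haveI := Sylow.unique_of_normal P0 hP0n
      rw [Subsingleton.elim P0 R]
      exact hR (mem_zpowers _)
    exact ⟨T, hQT' ▸ hQ1, hQT' ▸ hQM, hQT' ▸ hnorm Q hQ1 hQM hMQ⟩
  have hHall : (Nat.card M).Coprime M.index := by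
    rw [Nat.coprime_iff_gcd_eq_one]
    by_contra hne
    obtain ⟨p, hp, hpd⟩ := Nat.exists_prime_and_dvd hne
    haveI := Fact.mk hp
    obtain ⟨P, -, hPM, -⟩ := hsyl p hp (hpd.trans (Nat.gcd_dvd_left _ _))
    exact P.not_dvd_index ((hpd.trans (Nat.gcd_dvd_right _ _)).trans (index_dvd_of_le hPM))
  have hnpc : ∀ p : ℕ, p.Prime → p ∣ Nat.card M → Cfsg.HasNormalPComplement p G := by
    intro p hp hpd
    haveI := Fact.mk hp
    obtain ⟨P, hP1, hPM, hPN⟩ := hsyl p hp hpd
    by_cases hp2 : p = 2
    · subst hp2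
      refine Transfer.hasNormalPComplement_of_normalizer_le P fun g hg => ?_
      replace hg : g ∈ M := hPN.le hg
      rw [mem_centralizer_iff]
      intro x hx
      obtain ⟨a, b, ha, hb, hab, hak, hbc⟩ := Transfer.exists_pPart_mul (p := 2) g
      have haM : a ∈ M := zpowers_le.2 hg ha
      have hbM : b ∈ M := zpowers_le.2 hg hb
      obtain ⟨k, hk⟩ := (IsPGroup.iff_orderOf.mp P.2) ⟨x, hx⟩
      rw [Subgroup.orderOf_mk] at hk
      have c1 : Commute x a := h2 x (hPM hx) a haM ⟨k, hk.dvd⟩ hak
      have c2 : Commute x b := by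
        have h4 : Commute (⟨x, hPM hx⟩ : M) ⟨b, hbM⟩ := by
          refine Transfer.commute_of_coprime_of_nilpotent ?_
          rw [Subgroup.orderOf_mk, Subgroup.orderOf_mk, hk]
          exact (Nat.Coprime.pow_left k hbc.symm)
        exact h4.map M.subtype
      rw [← hab]
      exact c1.mul_right c2
    · refine hasNormalPComplement_of_normalizers hp2 P fun K hK1 hKP hK => ?_
      rw [hPN] at hK
      rw [hnorm K hK1 (hKP.trans hPM) hK]
      exact Basics.hasNormalPComplement_of_nilpotent p
  obtain ⟨N, hNn, hNc⟩ := Transfer.exists_normal_complement_of_forall M hHall hnpc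
  haveI := hNn
  have hcop : (Nat.card M).Coprime (Nat.card N) := by
    rw [← hNc.index_eq_card]; exact hHall
  have hqs : Group.IsSolvable (G ⧸ N) := by
    refine solvable_of_surjective (f := (QuotientGroup.mk' N).comp M.subtype) fun x => ?_
    obtain ⟨g, rfl⟩ := QuotientGroup.mk'_surjective N x
    obtain ⟨⟨⟨a, ha⟩, ⟨b, hb⟩⟩, hab, -⟩ := hNc.existsUnique g
    refine ⟨⟨b, hb⟩, ?_⟩
    simp only [MonoidHom.comp_apply, Subgroup.coe_subtype, QuotientGroup.mk'_apply]
    rw [← hab, QuotientGroup.mk_mul, (QuotientGroup.eq_one_iff a).2 ha, one_mul]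
  refine (Group.isSolvable_iff_subgroup_quotient N).mpr ⟨?_, hqs⟩
  rcases eq_or_ne (Nat.card N) 1 with h1 | h1
  · haveI : Subsingleton N := (Nat.card_eq_one_iff_unique.1 h1).1
    infer_instance
  obtain ⟨r, hr, hrd⟩ := Nat.exists_prime_and_dvd h1
  haveI := Fact.mk hr
  obtain ⟨R, hR, hMR⟩ := Basics.exists_invariant_isSylowIn M N
    (fun g _ => by rw [normalizer_eq_top_iff.2 hNn]; exact mem_top g) hcop (Or.inl inferInstance) r
  have hR1 : R ≠ ⊥ := by
    intro hb
    have := hR.2
    rw [hb, card_bot] at this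
    have hpos := hr.factorization_pos_of_dvd Nat.card_pos.ne' hrd
    exact absurd this.symm (Nat.one_lt_pow hpos.ne' hr.one_lt).ne'
  have hcopR : (Nat.card R).Coprime (Nat.card M) :=
    Nat.Coprime.coprime_dvd_left (card_dvd_of_le hR.1) hcop.symm
  have hcard := Basics.card_sup_of_coprime hMR hcopR
  have hlt : M < R ⊔ M := by
    refine lt_of_le_of_ne le_sup_right fun he => hR1 ?_
    rw [← card_eq_one]
    have : Nat.card R ∣ Nat.card M := card_dvd_of_le (le_sup_left.trans_eq he.symm)
    exact Nat.eq_one_of_dvd_coprimes hcopR dvd_rfl this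
  rw [hM.2 _ hlt, card_top, ← hNc.card_mul] at hcard
  have hNR : R = N := eq_of_le_of_card_ge hR.1
    (Nat.le_of_eq (Nat.eq_of_mul_eq_mul_right Nat.card_pos hcard))
  exact Basics.isSolvable_of_isPGroup (hNR ▸ hR.isPGroup)

end Cfsg.Agent.FGS
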