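/-
Kazarin's theorem: in a group with trivial `p`-core an element with `p`-power class size lies in
the centre of the Fitting subgroup.
-/
import Mathlib
import Cfsg.Agent.Lib.Blocks.Normal
import Cfsg.Agent.Lib.Blocks.Orthogonality
import Cfsg.Agent.Lib.Blocks.Idempotent
import Cfsg.Agent.Lib.ClassSum.Basic
import Cfsg.Agent.Lib.CT.Kernel
import Cfsg.Agent.Lib.CT.Integral
import Cfsg.Agent.Lib.Basics.CoprimeAction
import Cfsg.Agent.Lib.Components.Fitting
import Cfsg.Agent.Lib.Transfer.Residual
import Cfsg.Agent.Lib.FGB.PRegularClasses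

set_option autoImplicit false
set_option linter.all false

namespace Cfsg.Agent.FGS.Kazarin

open Subgroup Cfsg
open scoped ComplexConjugate Pointwise IsMulCommutative

universe u

variable {G : Type u} [Group G] [Finite G]

lemma card_mul_relIndex {H K : Subgroup G} (h : H ≤ K) :
    Nat.card H * H.relIndex K = Nat.card K := by
  rw [← Basics.card_subgroupOf h, relIndex]
  exact card_mul_index _

/-- If the Sylow subgroup `P` of `K` is as big as possible relative to `C`, then `K = P C`. -/
lemma exists_mul_mem {p : ℕ} [hp : Fact p.Prime] {K P C : Subgroup G} (hC : C ≤ K)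
    (hP : Basics.IsSylowIn p K P) {b : ℕ} (hidx : C.relIndex K = p ^ b) {k : G} (hk : k ∈ K) :
    ∃ π ∈ P, π⁻¹ * k ∈ C := by
  set f : P ⧸ C.subgroupOf P → K ⧸ C.subgroupOf K :=
    Quotient.map' (fun x : P => (⟨x, hP.1 x.2⟩ : K)) (fun a b h => by
      rw [QuotientGroup.leftRel_apply] at h ⊢
      exact h)
  have hf : Function.Injective f := by
    intro a c
    induction a using QuotientGroup.induction_on with
    | _ a =>
    induction c using QuotientGroup.induction_on with
    | _ c =>
    intro h
    have h1 := QuotientGroup.eq.1 (show QuotientGroup.mk (s := C.subgroupOf K) (⟨a, hP.1 a.2⟩ : K)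
      = QuotientGroup.mk ⟨c, hP.1 c.2⟩ from h)
    exact QuotientGroup.eq.2 h1
  have hge : Nat.card (K ⧸ C.subgroupOf K) ≤ Nat.card (P ⧸ C.subgroupOf P) := by
    rw [← index_eq_card, ← index_eq_card]
    change C.relIndex K ≤ C.relIndex P
    have h1 : Nat.card (C ⊓ P : Subgroup G) * C.relIndex P = Nat.card P := by
      rw [← inf_relIndex_right]
      exact card_mul_relIndex inf_le_right
    have h2 : Nat.card C * C.relIndex K = Nat.card K := card_mul_relIndex hC
    obtain ⟨i, hi⟩ := (hP.isPGroup.to_le (inf_le_right : C ⊓ P ≤ P)).exists_card_eq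
    have hiC : i ≤ (Nat.card C).factorization p :=
      (hp.out.pow_dvd_iff_le_factorization Nat.card_pos.ne').1
        (hi ▸ card_dvd_of_le inf_le_left)
    have h3 : (Nat.card K).factorization p = (Nat.card C).factorization p + b := by
      rw [← h2, hidx, Nat.factorization_mul Nat.card_pos.ne' (pow_ne_zero b hp.out.ne_zero),
        Finsupp.add_apply, hp.out.factorization_pow, Finsupp.single_eq_same]
    rw [hP.2, hi, h3] at h1
    rw [hidx]
    refine Nat.le_of_mul_le_mul_left ?_ (pow_pos hp.out.pos i)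
    rw [h1, ← pow_add]
    exact Nat.pow_le_pow_right hp.out.pos (by omega)
  have hsurj : Function.Surjective f :=
    (hf.bijective_of_nat_card_le hge).2
  obtain ⟨q, hq⟩ := hsurj (QuotientGroup.mk ⟨k, hk⟩)
  induction q using QuotientGroup.induction_on with
  | _ q =>
    exact ⟨q, q.2, mem_subgroupOf.1 (QuotientGroup.eq.1 (show QuotientGroup.mk (s := C.subgroupOf K)
      (⟨q, hP.1 q.2⟩ : K) = QuotientGroup.mk ⟨k, hk⟩ from hq))⟩

/-- An element of `p`-power order with class size a power of `p` lies in the `p`-core. -/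
lemma mem_pCore_of_pElement {p : ℕ} [hp : Fact p.Prime] {y : G}
    (hy : ∃ k, orderOf y ∣ p ^ k)
    (hclass : ∃ b, (centralizer ({y} : Set G)).index = p ^ b) : y ∈ pCore p G := by
  obtain ⟨b, hb⟩ := hclass
  obtain ⟨k, hk⟩ := hy
  have hpy : IsPGroup p (zpowers y) := by
    obtain ⟨j, -, hj⟩ := (Nat.dvd_prime_pow hp.out).1 hk
    exact IsPGroup.of_card (n := j) (by rw [Nat.card_zpowers, hj])
  obtain ⟨P, hP⟩ := hpy.exists_le_sylow
  have hP' : Basics.IsSylowIn p ⊤ (P : Subgroup G) := ⟨le_top, by
    rw [card_top]; exact P.card_eq_multiplicity⟩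
  have hsub : normalClosure ({y} : Set G) ≤ (P : Subgroup G) := by
    refine (closure_le _).2 fun x hx => ?_
    obtain ⟨w, hw, hc⟩ := Group.mem_conjugatesOfSet_iff.1 hx
    rw [Set.mem_singleton_iff] at hw
    subst w
    obtain ⟨g, rfl⟩ := isConj_iff.1 hc
    obtain ⟨π, hπ, hc⟩ := exists_mul_mem (C := centralizer ({y} : Set G)) le_top hP'
      (by rw [relIndex_top_right]; exact hb) (mem_top g)
    have h1 := mem_centralizer_singleton_iff.1 hc
    have h2 : g * y * g⁻¹ = π * y * π⁻¹ := by
      calc g * y * g⁻¹ = π * ((π⁻¹ * g) * y) * g⁻¹ := by group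
        _ = π * (y * (π⁻¹ * g)) * g⁻¹ := by rw [h1]
        _ = π * y * π⁻¹ := by group
    rw [h2]
    exact mul_mem (mul_mem hπ (hP (mem_zpowers y))) (inv_mem hπ)
  exact Components.le_pCore inferInstance (P.2.to_le hsub) (subset_normalClosure rfl)

/-- An irreducible character which is a scalar on an element generating the group as a normal
subgroup is linear. -/
lemma deg_eq_one_of_scalar {χ : G → ℂ} (hχ : IsIrrCharacter G χ) {y : G}
    (hgen : normalClosure ({y} : Set G) = ⊤) (h : ‖χ y‖ = (CT.deg χ : ℝ)) : χ 1 = 1 := by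
  haveI := Fintype.ofFinite G
  obtain ⟨n, ρ, hρ, rfl⟩ := hχ
  rw [CT.deg_eq_finrank] at h
  have hs := CT.scalar_of_norm_eq ρ h
  set Z := (Subgroup.center ρ.asGroupHom.range).comap ρ.asGroupHom.rangeRestrict with hZ
  haveI : Z.Normal := inferInstance
  have hyZ : y ∈ Z := by
    rw [hZ, mem_comap, mem_center_iff]
    rintro ⟨_, g, rfl⟩
    refine Subtype.ext (Units.ext ?_)
    simp only [MonoidHom.coe_rangeRestrict, Subgroup.coe_mul, Units.val_mul,
      Representation.asGroupHom_apply]
    rw [hs]
    ext v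
    simp
  have htop : Z = ⊤ := eq_top_iff.2 (hgen ▸ normalClosure_le_normal (by simpa using hyZ))
  have hker : commutator G ≤ ρ.asGroupHom.ker := by
    rw [commutator_def, commutator_le]
    intro a _ b _
    have ha : ρ.asGroupHom.rangeRestrict a ∈ Subgroup.center ρ.asGroupHom.range :=
      mem_comap.1 (htop ▸ mem_top a : a ∈ Z)
    have hab := congrArg Subtype.val (mem_center_iff.1 ha (ρ.asGroupHom.rangeRestrict b))
    simp only [Subgroup.coe_mul, MonoidHom.coe_rangeRestrict] at hab
    rw [MonoidHom.mem_ker, map_commutatorElement, commutatorElement_eq_one_iff_mul_comm]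
    exact hab.symm
  have hirr : IsIrrCharacter G ρ.character := ⟨n, ρ, hρ, rfl⟩
  obtain ⟨ψ, hψ, hval⟩ := CT.exists_quotient_irr hirr (commutator G) fun m hm => by
    have : ρ m = 1 := congrArg Units.val (MonoidHom.mem_ker.1 (hker hm))
    simp [Representation.character, this]
  rw [← hval 1, QuotientGroup.mk_one]
  refine CT.irr_degree_one_of_comm (fun a b => ?_) hψ
  exact (inferInstance : CommGroup (Abelianization G)).mul_comm a b

/-- The key character-theoretic step. -/
lemma key {p r : ℕ} [hp : Fact p.Prime] [hr : Fact r.Prime] (hrp : r ≠ p) {y : G}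
    (hy : ∃ k, orderOf y ∣ r ^ k) {a : ℕ} (hclass : (centralizer ({y} : Set G)).index = p ^ a)
    (hgen : normalClosure ({y} : Set G) = ⊤) : ¬ r ∣ Nat.card (commutator G) := by
  classical
  haveI := Fintype.ofFinite G
  intro hd
  obtain ⟨s, hs⟩ := exists_prime_orderOf_dvd_card' r hd
  obtain ⟨M, hM⟩ := ClassSum.exists_modular r hr.out
  haveI := Blocks.isPrime_of_modular hM
  set A := principalBlock M G with hA
  have horth := Blocks.weak_orthogonality' hM
    (fun u => Blocks.blockCoeff_mem_loc Blocks.isPBlock_principalBlock u) (A := A)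
    (g := (s : G)) (h := 1) (by rw [Subgroup.orderOf_coe, hs])
    (by rw [orderOf_one]; exact hr.out.not_dvd_one)
  obtain ⟨k, hk⟩ := hy
  -- the abelianization is a cyclic `r`-group generated by the image of `y`
  have hzp : zpowers (Abelianization.of y) = ⊤ := by
    have h1 : normalClosure ({y} : Set G) ≤ (zpowers (Abelianization.of y)).comap Abelianization.of := by
      haveI : (zpowers (Abelianization.of y)).Normal := ⟨fun a ha g => by
        rwa [mul_comm g, mul_inv_cancel_right]⟩
      exact normalClosure_le_normal (by simp [mem_zpowers])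
    rw [eq_top_iff]
    intro q _
    induction q using QuotientGroup.induction_on with
    | _ g => exact h1 (hgen ▸ mem_top g)
  have hindex : ∃ j, (commutator G).index = r ^ j := by
    have h2 : (commutator G).index ∣ r ^ k := by
      rw [index_eq_card]
      show Nat.card (Abelianization G) ∣ _
      rw [← card_top (G := Abelianization G), ← hzp, Nat.card_zpowers]
      exact (orderOf_map_dvd Abelianization.of y).trans hk
    obtain ⟨j, -, hj⟩ := (Nat.dvd_prime_pow hr.out).1 h2
    exact ⟨j, hj⟩
  -- every linear character is in the principal block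
  have hlin : ∀ χ : IrrCharacter G, (χ : G → ℂ) 1 = 1 → χ ∈ A := by
    intro χ h1 g
    obtain ⟨lam, hlam⟩ := CT.exists_hom_of_degree_one (CT.isCharacter_of_isIrr χ.2) h1
    have hpow : ((χ : G → ℂ) g) ^ r ^ k = 1 := by
      have hg : g ^ r ^ k ∈ commutator G := by
        have h3 : (Abelianization.of g) ^ r ^ k = 1 := by
          obtain ⟨i, hi⟩ := mem_zpowers_iff.1 (hzp ▸ mem_top (Abelianization.of g) :
            Abelianization.of g ∈ zpowers (Abelianization.of y))
          rw [← hi, ← zpow_natCast, ← zpow_mul, mul_comm, zpow_mul, zpow_natCast,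
            orderOf_dvd_iff_pow_eq_one.1 ((orderOf_map_dvd Abelianization.of y).trans hk),
            one_zpow]
        rw [← map_pow] at h3
        exact (QuotientGroup.eq_one_iff _).1 h3
      have h4 := CT.linear_trivial_on_commutator (CT.isCharacter_of_isIrr χ.2) h1 _ hg
      rw [h1, hlam] at h4
      simpa [hlam] using h4
    have hint : IsIntegral ℤ ((χ : G → ℂ) g) :=
      IsIntegral.of_pow (pow_pos hr.out.pos k) (by rw [hpow]; exact isIntegral_one)
    have hred := Blocks.red_root_eq_one hM (z := Blocks.locInt hint) (k := k)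
      (Subtype.ext hpow)
    have hmem : MemLocalIdeal M ((χ : G → ℂ) g - 1) := by
      rw [← map_one (Blocks.red M)] at hred
      exact Blocks.red_eq_iff.1 hred
    have hN : ((centralizer ({g} : Set G)).index : ℂ) ∈ Blocks.Loc M :=
      Blocks.integral_mem_loc (CT.isIntegral_natCast _)
    have h5 := Blocks.memLocalIdeal_neg (Blocks.memLocalIdeal_mul_left hN hmem)
    simp only [centralChar, h1, div_one]
    convert h5 using 1
    ring
  -- members of the block of degree prime to `p` are linear
  have hdeg : ∀ χ ∈ A, ¬ p ∣ CT.deg (χ : G → ℂ) → (χ : G → ℂ) 1 = 1 := by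
    intro χ hχA hpd
    obtain ⟨n, ρ, hρ, hρχ⟩ := χ.2
    have hd' : ¬ p ∣ Module.finrank ℂ (Fin n → ℂ) := by
      rw [← CT.deg_eq_finrank ρ, hρχ]; exact hpd
    rcases CT.zero_or_norm_of_coprime ρ y
      (hclass ▸ ((hp.out.coprime_iff_not_dvd.2 hd').symm.pow_right a)) with h | h
    · exfalso
      rw [hρχ] at h
      have h1 := hχA y
      simp only [centralChar, h, mul_zero, zero_div, sub_zero, mul_one, div_one, hclass] at h1
      have h2 := (Blocks.memLocalIdeal_natCast hM _).1 h1
      exact hrp ((Nat.prime_dvd_prime_iff_eq hr.out hp.out).1 (hr.out.dvd_of_dvd_pow h2))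
    · refine deg_eq_one_of_scalar χ.2 hgen ?_
      rw [← hρχ, CT.deg_eq_finrank]
      exact h
  have hsplit : ∑ᶠ χ ∈ A, (χ : G → ℂ) s * conj ((χ : G → ℂ) 1) =
      ((commutator G).index : ℂ) + ∑ χ ∈ Finset.univ.filter (fun χ : IrrCharacter G =>
        χ ∈ A ∧ (χ : G → ℂ) 1 ≠ 1), (χ : G → ℂ) s * conj ((χ : G → ℂ) 1) := by
    rw [finsum_mem_eq_toFinset_sum, ← Finset.sum_filter_add_sum_filter_not A.toFinset
      (fun χ : IrrCharacter G => (χ : G → ℂ) 1 = 1)]
    congr 1
    · rw [← CT.card_linear_irr, Nat.card_eq_fintype_card, Fintype.card_subtype,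
        Finset.sum_congr rfl (g := fun _ => (1 : ℂ)) fun χ hχ => ?_, Finset.sum_const,
        nsmul_eq_mul, mul_one]
      · congr 2
        ext χ
        simp only [Finset.mem_filter, Set.mem_toFinset, Finset.mem_univ, true_and]
        exact ⟨fun h => h.2, fun h => ⟨hlin χ h, h⟩⟩
      · have h1 := (Finset.mem_filter.1 hχ).2
        rw [CT.linear_trivial_on_commutator (CT.isCharacter_of_isIrr χ.2) h1 _ s.2, h1]
        simp
    · refine Finset.sum_congr ?_ fun _ _ => rfl
      ext χ
      simp
  rw [hsplit] at horth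
  have hint : IsIntegral ℤ (((commutator G).index : ℂ) / (p : ℂ)) := by
    rw [eq_neg_of_add_eq_zero_left horth, neg_div, Finset.sum_div]
    refine IsIntegral.neg (IsIntegral.sum _ fun χ hχ => ?_)
    obtain ⟨hχA, hne⟩ := (Finset.mem_filter.1 hχ).2
    obtain ⟨d, hd⟩ : p ∣ CT.deg (χ : G → ℂ) := by
      by_contra h
      exact hne (hdeg χ hχA h)
    rw [CT.deg_eq (CT.isCharacter_of_isIrr χ.2), hd, map_natCast, Nat.cast_mul]
    have : (χ : G → ℂ) s * ((p : ℂ) * (d : ℂ)) / (p : ℂ) = (χ : G → ℂ) s * d := by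
      have hp0 : (p : ℂ) ≠ 0 := Nat.cast_ne_zero.mpr hp.out.ne_zero
      field_simp
    rw [this]
    exact (CT.isIntegral_isCharacter (CT.isCharacter_of_isIrr χ.2) s).mul
      (CT.isIntegral_natCast d)
  obtain ⟨j, hj⟩ := hindex
  have h6 := CT.dvd_of_isIntegral_div hp.out.ne_zero hint
  rw [hj] at h6
  exact hrp ((Nat.prime_dvd_prime_iff_eq hp.out hr.out).1 (hp.out.dvd_of_dvd_pow h6)).symm

/-- **Kazarin**: with trivial `p`-core, elements with `p`-power class size lie in the Fitting
subgroup. -/
theorem mem_fitting : ∀ (n : ℕ) (G : Type u) [Group G] [Finite G], Nat.card G = n →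
    ∀ (p : ℕ) [Fact p.Prime], pCore p G = ⊥ → ∀ y : G,
      (∃ a, (centralizer ({y} : Set G)).index = p ^ a) → y ∈ fittingSubgroup G := by
  intro n
  induction n using Nat.strong_induction_on with
  | _ n ih =>
  intro G _ _ hn p hp hO y
  subst hn
  induction ho : orderOf y using Nat.strong_induction_on generalizing y with
  | _ o io =>
  intro hclass
  obtain ⟨a, ha⟩ := hclass
  by_cases hy1 : y = 1
  · rw [hy1]; exact one_mem _
  obtain ⟨r, hr, hrd⟩ := Nat.exists_prime_and_dvd fun h => hy1 (orderOf_eq_one_iff.1 h)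
  haveI := Fact.mk hr
  obtain ⟨x, z, hx, hz, hxz, hxk, hzc⟩ := Transfer.exists_pPart_mul (p := r) y
  have hdvd : ∀ w ∈ zpowers y, ∃ b, (centralizer ({w} : Set G)).index = p ^ b := by
    intro w hw
    have hle : centralizer ({y} : Set G) ≤ centralizer ({w} : Set G) := by
      intro g hg
      rw [mem_centralizer_singleton_iff] at hg ⊢
      obtain ⟨i, rfl⟩ := mem_zpowers_iff.1 hw
      exact (show Commute g y from hg).zpow_right i
    obtain ⟨b, -, hb⟩ := (Nat.dvd_prime_pow hp.out).1 (ha ▸ index_dvd_of_le hle)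
    exact ⟨b, hb⟩
  by_cases hz1 : z ≠ 1
  · have hord : ∀ w ∈ zpowers y, orderOf w ∣ o := fun w hw => by
      rw [← ho, ← Nat.card_zpowers, ← Nat.card_zpowers]
      exact card_dvd_of_le (zpowers_le.2 hw)
    have hpos : 0 < o := ho ▸ orderOf_pos y
    have hxlt : orderOf x < o := by
      refine lt_of_le_of_ne (Nat.le_of_dvd hpos (hord x hx)) fun h => hz1 ?_
      obtain ⟨k, hk⟩ := hxk
      rw [← orderOf_eq_one_iff]
      exact Nat.eq_one_of_dvd_coprimes (hzc.pow_right k) dvd_rfl
        ((hord z hz).trans (h ▸ hk))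
    have hzlt : orderOf z < o := lt_of_le_of_ne (Nat.le_of_dvd hpos (hord z hz)) fun h =>
      hr.one_lt.ne' (Nat.eq_one_of_dvd_coprimes (h ▸ hzc) (ho ▸ hrd) dvd_rfl)
    rw [← hxz]
    exact mul_mem (io _ hxlt x rfl (hdvd x hx)) (io _ hzlt z rfl (hdvd z hz))
  push Not at hz1
  rw [hz1, mul_one] at hxz
  subst hxz
  by_cases hrp : r = p
  · subst hrp
    have := mem_pCore_of_pElement hxk ⟨a, ha⟩
    rw [hO, mem_bot] at this
    exact absurd this hy1
  set D := normalClosure ({x} : Set G) with hD
  by_cases hDtop : D ≠ ⊤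
  · have hxD : x ∈ D := subset_normalClosure rfl
    have hOD : pCore p D = ⊥ := by
      have h1 : (pCore p D).map D.subtype ≤ pCore p G := by
        haveI : (pCore p D).Characteristic := inferInstance
        exact Components.le_pCore ConjAct.normal_of_characteristic_of_normal
          ((Components.sSup_isPGroup_of_normal (G := D)).map D.subtype)
      rw [hO, le_bot_iff, map_eq_bot_iff_of_injective _ D.subtype_injective] at h1
      exact h1
    have hcl : ∃ b, (centralizer ({⟨x, hxD⟩} : Set D)).index = p ^ b := by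
      have h2 : centralizer ({⟨x, hxD⟩} : Set D) = (centralizer ({x} : Set G)).subgroupOf D := by
        ext g
        simp [mem_subgroupOf, mem_centralizer_singleton_iff, Subtype.ext_iff]
      have h3 : (centralizer ({x} : Set G)).relIndex D ∣ p ^ a := by
        rw [← ha]
        calc (centralizer ({x} : Set G)).relIndex D
            ∣ (centralizer ({x} : Set G)).relIndex D * (D.index / Nat.gcd D.index D.index) :=
              dvd_mul_right _ _
          _ ∣ _ := by
            rw [Nat.gcd_self, Nat.div_self (Nat.pos_of_ne_zero index_ne_zero_of_finite), mul_one]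
            exact FGB.relIndex_dvd_index_of_normal_right _ _
      obtain ⟨b, -, hb⟩ := (Nat.dvd_prime_pow hp.out).1 h3
      exact ⟨b, by rw [h2]; exact hb⟩
    have h4 := ih _ (Basics.card_lt_card_of_ne_top hDtop) D rfl p hOD ⟨x, hxD⟩ hcl
    exact Components.fitting_map_normal_le D ⟨_, h4, rfl⟩
  push Not at hDtop
  have hnd := key (p := p) (r := r) hrp hxk ha hDtop
  -- coprime case: `[G', x]` is a normal `p`-subgroup
  set K := commutator G with hK
  set A := zpowers x with hA
  obtain ⟨k, hk⟩ := hxk
  have hcop : (Nat.card A).Coprime (Nat.card K) := by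
    rw [Nat.card_zpowers]
    exact Nat.Coprime.coprime_dvd_left hk
      (Nat.Coprime.pow_left k (hr.coprime_iff_not_dvd.2 hnd))
  obtain ⟨P, hP, hAP⟩ := Basics.exists_invariant_isSylowIn A K
    (by rw [normalizer_eq_top_iff.2 (inferInstance : K.Normal)]; exact le_top) hcop
    (Or.inl inferInstance) p
  set C := K ⊓ centralizer ({x} : Set G) with hC
  have hCb : ∃ b, C.relIndex K = p ^ b := by
    rw [hC, inf_relIndex_left]
    have h3 : (centralizer ({x} : Set G)).relIndex K ∣ p ^ a :=
      ha ▸ FGB.relIndex_dvd_index_of_normal_right _ _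
    obtain ⟨b, -, hb⟩ := (Nat.dvd_prime_pow hp.out).1 h3
    exact ⟨b, hb⟩
  obtain ⟨b, hb⟩ := hCb
  set S : Set G := {w | ∃ g ∈ K, w = g * x * g⁻¹ * x⁻¹} with hS
  have hsub : closure S ≤ P := by
    refine (closure_le _).2 ?_
    rintro _ ⟨g, hg, rfl⟩
    obtain ⟨π, hπ, hc⟩ := exists_mul_mem (inf_le_left : C ≤ K) hP hb hg
    have h1 := mem_centralizer_singleton_iff.1 hc.2
    have h2 : g * x * g⁻¹ * x⁻¹ = π * (x * π⁻¹ * x⁻¹) := by
      calc g * x * g⁻¹ * x⁻¹ = π * ((π⁻¹ * g) * x) * g⁻¹ * x⁻¹ := by group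
        _ = π * (x * (π⁻¹ * g)) * g⁻¹ * x⁻¹ := by rw [h1]
        _ = π * (x * π⁻¹ * x⁻¹) := by group
    rw [h2]
    exact mul_mem hπ ((mem_normalizer_iff.1 (hAP (mem_zpowers x)) _).1 (inv_mem hπ))
  haveI hSn : (closure S).Normal := by
    rw [← normalizer_eq_top_iff, eq_top_iff]
    have hgen : K ⊔ A = ⊤ := by
      haveI : K.Normal := inferInstance
      have hn : (K ⊔ A).Normal := Subgroup.Normal.of_commutator_le _ le_sup_left
      haveI := hn
      exact eq_top_iff.2 (hDtop ▸ normalClosure_le_normal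
        (by simpa using mem_sup_right (mem_zpowers x)))
    rw [← hgen]
    have hinK : ∀ l ∈ K, ∀ w ∈ closure S, l * w * l⁻¹ ∈ closure S := by
      intro l hl w hw
      induction hw using closure_induction with
      | mem w hw =>
        obtain ⟨g, hg, rfl⟩ := hw
        have e : l * (g * x * g⁻¹ * x⁻¹) * l⁻¹ =
            ((l * g) * x * (l * g)⁻¹ * x⁻¹) * (l * x * l⁻¹ * x⁻¹)⁻¹ := by group
        rw [e]
        exact mul_mem (subset_closure ⟨_, mul_mem hl hg, rfl⟩)
          (inv_mem (subset_closure ⟨l, hl, rfl⟩))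
      | one => simp [one_mem]
      | mul a b _ _ ha hb =>
        have e : l * (a * b) * l⁻¹ = (l * a * l⁻¹) * (l * b * l⁻¹) := by group
        rw [e]; exact mul_mem ha hb
      | inv a _ ha =>
        have e : l * a⁻¹ * l⁻¹ = (l * a * l⁻¹)⁻¹ := by group
        rw [e]; exact inv_mem ha
    refine sup_le ?_ (zpowers_le.2 ?_)
    · intro l hl
      rw [mem_normalizer_iff]
      intro w
      refine ⟨hinK l hl w, fun hw => ?_⟩
      have := hinK l⁻¹ (inv_mem hl) _ hw
      simpa [mul_assoc] using this
    · rw [mem_normalizer_iff_map_conj_eq]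
      refine eq_of_le_of_card_ge ?_ (by rw [card_map_of_injective (MulAut.conj x).injective])
      rw [map_le_iff_le_comap, closure_le]
      rintro _ ⟨g, hg, rfl⟩
      refine subset_closure ⟨x * g * x⁻¹, (inferInstance : K.Normal).conj_mem g hg x, ?_⟩
      simp only [MonoidHom.coe_coe, MulAut.conj_apply]
      group
  have hbot : closure S = ⊥ := by
    rw [eq_bot_iff, ← hO]
    exact Components.le_pCore hSn (hP.isPGroup.to_le hsub)
  haveI : Group.IsNilpotent (Subgroup.center G) := CommGroup.isNilpotent (G := Subgroup.center G)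
  refine Components.le_fitting (N := Subgroup.center G) inferInstance inferInstance ?_
  rw [mem_center_iff]
  intro g
  have hgc : g ∈ centralizer ({x} : Set G) := by
    have hle : K ⊔ A ≤ centralizer ({x} : Set G) := by
      refine sup_le (fun l hl => ?_) (zpowers_le.2 (mem_centralizer_singleton_iff.2 rfl))
      have h1 : l * x * l⁻¹ * x⁻¹ ∈ closure S := subset_closure ⟨l, hl, rfl⟩
      rw [hbot, mem_bot, mul_inv_eq_one, mul_inv_eq_iff_eq_mul] at h1
      exact mem_centralizer_singleton_iff.2 h1
    have hn : (K ⊔ A).Normal := Subgroup.Normal.of_commutator_le _ le_sup_left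
    haveI := hn
    exact hle ((hDtop.ge.trans (normalClosure_le_normal
      (by simpa using mem_sup_right (mem_zpowers x)))) (mem_top g))
  exact mem_centralizer_singleton_iff.1 hgc

end Cfsg.Agent.FGS.Kazarin
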