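import Mathlib
import Cfsg.Agent.Lib.Basics.Frattini

/-!
Automorphisms of a p-group and of its Frattini quotient.
-/

set_option autoImplicit false
set_option linter.all false

open Subgroup
open scoped commutatorElement

namespace Cfsg.Agent.FGS.AutFrattini

theorem exists_gens (p : ℕ) [Fact p.Prime] : ∀ (r : ℕ) (Q : Type*) [Group Q] [Finite Q],
    Nat.card Q = p ^ r → ∃ f : Fin r → Q, closure (Set.range f) = ⊤
  | 0, Q, _, _, h => ⟨fun i => i.elim0, by
      rw [pow_zero] at h
      haveI := (Nat.card_eq_one_iff_unique.1 h).1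
      exact Subsingleton.elim _ _⟩
  | r + 1, Q, _, _, h => by
    have hp := (Fact.out : p.Prime)
    obtain ⟨M, hM⟩ := Sylow.exists_subgroup_card_pow_prime p (n := r)
      (show p ^ r ∣ Nat.card Q by rw [h]; exact pow_dvd_pow p (Nat.le_succ r))
    obtain ⟨g, hg⟩ := exists_gens p r M hM
    obtain ⟨q, hq⟩ : ∃ q, q ∉ M := by
      by_contra hcon
      push Not at hcon
      rw [show M = ⊤ from eq_top_iff.2 fun x _ => hcon x, card_top, h] at hM
      have := Nat.pow_right_injective hp.two_le hM
      omega
    refine ⟨Fin.cons q (fun i => (g i : Q)), ?_⟩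
    set K := closure (Set.range (Fin.cons q (fun i => (g i : Q)) : Fin (r + 1) → Q)) with hK
    have hMK : M ≤ K := by
      intro m hm
      have h1 : (⟨m, hm⟩ : M) ∈ closure (Set.range g) := hg ▸ mem_top _
      have h2 : closure (Set.range g) ≤ K.comap M.subtype := (closure_le _).2 (by
        rintro _ ⟨i, rfl⟩
        exact subset_closure ⟨i.succ, by simp⟩)
      exact h2 h1
    have hlt : p ^ r < Nat.card K := by
      rw [← hM]
      refine lt_of_le_of_ne (Nat.le_of_dvd Nat.card_pos (card_dvd_of_le hMK)) fun he => hq ?_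
      rw [eq_of_le_of_card_ge hMK he.ge]
      exact subset_closure ⟨0, by simp⟩
    obtain ⟨k, hk, hke⟩ := (Nat.dvd_prime_pow hp).1 (h ▸ K.card_subgroup_dvd_card)
    rw [hke] at hlt
    have hk1 : r < k := (Nat.pow_lt_pow_iff_right hp.one_lt).1 hlt
    refine eq_of_le_of_card_ge le_top ?_
    rw [card_top, h, hke, show k = r + 1 by omega]

variable {P : Type*} [Group P] [Finite P] {p n r : ℕ} [Fact p.Prime]

theorem card_frattini (hP : Nat.card P = p ^ n) (hr : (frattini P).index = p ^ r) :
    Nat.card (frattini P) = p ^ (n - r) := by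
  have h1 := (frattini P).card_mul_index
  rw [hP, hr] at h1
  have hp := (Fact.out : p.Prime)
  have hle : r ≤ n := (Nat.pow_le_pow_iff_right hp.one_lt).1
    (Nat.le_of_dvd (pow_pos hp.pos n) (Dvd.intro_left _ h1))
  refine Nat.eq_of_mul_eq_mul_right (pow_pos hp.pos r) (h1.trans ?_)
  rw [← pow_add, Nat.sub_add_cancel hle]

theorem card_stabilizer_dvd (hP : Nat.card P = p ^ n) (hr : (frattini P).index = p ^ r)
    (A : Subgroup (MulAut P)) (hA : ∀ α ∈ A, ∀ x : P, α x * x⁻¹ ∈ frattini P) :
    Nat.card A ∣ p ^ (r * (n - r)) := by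
  classical
  obtain ⟨f, hf⟩ := exists_gens p r (P ⧸ frattini P) (by rw [← index_eq_card, hr])
  let X := Fin r → frattini P
  let g : Fin r → P := fun i => (f i).out
  letI : MulAction A X :=
    { smul := fun α t i => ⟨(α : MulAut P) (t i * g i) * (g i)⁻¹, by
        have h1 := hA α α.2 ((t i : P) * g i)
        have h2 := mul_mem h1 (t i).2
        convert h2 using 1
        group⟩
      one_smul := fun t => funext fun i => Subtype.ext (by
        show (1 : MulAut P) (t i * g i) * (g i)⁻¹ = t i
        rw [MulAut.one_apply, mul_inv_cancel_right])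
      mul_smul := fun α β t => funext fun i => Subtype.ext (by
        show ((α * β : A) : MulAut P) (t i * g i) * (g i)⁻¹ =
          (α : MulAut P) ((β : MulAut P) (t i * g i) * (g i)⁻¹ * g i) * (g i)⁻¹
        rw [inv_mul_cancel_right]; rfl) }
  have hfree : ∀ t : X, MulAction.stabilizer A t = ⊥ := by
    intro t
    rw [eq_bot_iff]
    intro α hα
    rw [mem_bot]
    have hfix : ∀ i, (α : MulAut P) (t i * g i) = t i * g i := fun i => by
      have h1 : (α : MulAut P) (t i * g i) * (g i)⁻¹ = t i :=
        congrArg Subtype.val (congrFun (MulAction.mem_stabilizer_iff.1 hα) i)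
      rw [mul_inv_eq_iff_eq_mul] at h1
      exact h1
    set K := closure (Set.range fun i => (t i : P) * g i) with hK
    have hKtop : K = ⊤ := by
      refine frattini_nongenerating (top_le_iff.1 fun x _ => ?_)
      have h2 : (x : P ⧸ frattini P) ∈ K.map (QuotientGroup.mk' (frattini P)) := by
        have h3 : closure (Set.range f) ≤ K.map (QuotientGroup.mk' (frattini P)) :=
          (closure_le _).2 (by
            rintro _ ⟨i, rfl⟩
            refine ⟨t i * g i, subset_closure ⟨i, rfl⟩, ?_⟩
            rw [map_mul, show QuotientGroup.mk' (frattini P) (t i : P) = 1 from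
              (QuotientGroup.eq_one_iff _).2 (t i).2, one_mul]
            exact QuotientGroup.out_eq' (f i))
        exact h3 (hf ▸ mem_top _)
      obtain ⟨k, hk, hkx⟩ := h2
      rw [show x = k * (k⁻¹ * x) by group]
      exact mul_mem_sup hk (QuotientGroup.eq.1 hkx)
    refine Subtype.ext (MulEquiv.ext fun x => ?_)
    have hle : K ≤ MonoidHom.eqLocus (α : MulAut P).toMonoidHom (MonoidHom.id P) :=
      (closure_le _).2 (by rintro _ ⟨i, rfl⟩; exact hfix i)
    exact hle (hKtop ▸ mem_top x)
  have hX : Nat.card X = p ^ (r * (n - r)) := by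
    rw [Nat.card_fun, card_frattini hP hr, Nat.card_eq_fintype_card, Fintype.card_fin, ← pow_mul,
      mul_comm]
  haveI := Fintype.ofFinite A
  haveI := Fintype.ofFinite (MulAction.orbitRel.Quotient A X)
  rw [← hX, Nat.card_congr (MulAction.selfEquivSigmaOrbitsQuotientStabilizer A X), Nat.card_sigma]
  refine Finset.dvd_sum fun q _ => ?_
  rw [hfree, ← index_eq_card, index_bot]

theorem card_mulAut_elementary_dvd {Q : Type*} [Group Q] [Finite Q] (hc : ∀ a b : Q, a * b = b * a)
    (hexp : ∀ a : Q, a ^ p = 1) (hQ : Nat.card Q = p ^ r) :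
    Nat.card (MulAut Q) ∣ ∏ i ∈ Finset.range r, (p ^ r - p ^ i) := by
  classical
  letI : CommGroup Q := { (inferInstance : Group Q) with mul_comm := hc }
  letI : Module (ZMod p) (Additive Q) :=
    AddCommGroup.zmodModule (n := p) fun a => congrArg Additive.ofMul (hexp a.toMul)
  haveI : Module.Finite (ZMod p) (Additive Q) := Module.Finite.of_finite
  have hp := (Fact.out : p.Prime)
  have hfr : Module.finrank (ZMod p) (Additive Q) = r := by
    have h1 := Module.natCard_eq_pow_finrank (K := ZMod p) (V := Additive Q)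
    rw [Nat.card_zmod] at h1
    refine Nat.pow_right_injective hp.two_le ?_
    show p ^ _ = p ^ r
    rw [← h1, ← hQ]
    exact Nat.card_congr Additive.toMul
  let b := Module.finBasisOfFinrankEq (ZMod p) (Additive Q) hfr
  let E : MulAut Q →* Module.End (ZMod p) (Additive Q) :=
    { toFun := fun φ => (MulEquiv.toAdditive φ).toAddMonoidHom.toZModLinearMap p
      map_one' := LinearMap.ext fun _ => rfl
      map_mul' := fun _ _ => LinearMap.ext fun _ => rfl }
  let F : MulAut Q →* GL (Fin r) (ZMod p) :=
    MonoidHom.toHomUnits ((LinearMap.toMatrixAlgEquiv b).toMulEquiv.toMonoidHom.comp E)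
  have hF : Function.Injective F := by
    intro φ ψ h
    have h1 : LinearMap.toMatrixAlgEquiv b (E φ) = LinearMap.toMatrixAlgEquiv b (E ψ) :=
      congrArg Units.val h
    have h2 := (LinearMap.toMatrixAlgEquiv b).injective h1
    exact MulEquiv.ext fun x => congrArg Additive.toMul (LinearMap.congr_fun h2 (Additive.ofMul x))
  refine (Subgroup.card_dvd_of_injective F hF).trans ?_
  rw [Matrix.card_GL_field]
  rw [Finset.prod_range fun i => p ^ r - p ^ i]
  simp [ZMod.card]

theorem card_mulAut_dvd (hP : Nat.card P = p ^ n) (hr : (frattini P).index = p ^ r) :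
    Nat.card (MulAut P) ∣ p ^ (r * (n - r)) * ∏ i ∈ Finset.range r, (p ^ r - p ^ i) := by
  classical
  haveI : Group.IsNilpotent P := (IsPGroup.of_card hP).isNilpotent
  have hchar : ∀ φ : MulAut P, (frattini P).map φ.toMonoidHom = frattini P := fun φ =>
    (characteristic_iff_map_eq.1 (inferInstance : (frattini P).Characteristic)) φ
  let π : MulAut P →* MulAut (P ⧸ frattini P) :=
    { toFun := fun φ => QuotientGroup.congr (frattini P) (frattini P) φ (hchar φ)
      map_one' := MulEquiv.ext fun q => by
        induction q using QuotientGroup.induction_on with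
        | _ x => rfl
      map_mul' := fun φ ψ => MulEquiv.ext fun q => by
        induction q using QuotientGroup.induction_on with
        | _ x => rfl }
  have hker : Nat.card π.ker ∣ p ^ (r * (n - r)) := by
    refine card_stabilizer_dvd hP hr π.ker fun α hα x => ?_
    have h1 : π α (x : P ⧸ frattini P) = (x : P ⧸ frattini P) := by
      rw [MonoidHom.mem_ker.1 hα]; rfl
    have h2 : ((α x : P) : P ⧸ frattini P) = x := h1
    have h3 := QuotientGroup.eq.1 h2.symm
    have h4 := (inferInstance : (frattini P).Normal).conj_mem _ h3 x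
    convert h4 using 1
    group
  rw [← π.ker.card_mul_index, Subgroup.index_ker]
  refine Nat.mul_dvd_mul hker ((Subgroup.card_subgroup_dvd_card _).trans ?_)
  refine card_mulAut_elementary_dvd (fun a b => ?_) (fun a => ?_) (by rw [← index_eq_card, hr])
  · obtain ⟨a, rfl⟩ := QuotientGroup.mk'_surjective _ a
    obtain ⟨b, rfl⟩ := QuotientGroup.mk'_surjective _ b
    refine commutatorElement_eq_one_iff_mul_comm.1 ?_
    rw [← map_commutatorElement]
    exact (QuotientGroup.eq_one_iff _).2
      (Basics.commutator_le_frattini (commutator_mem_commutator (mem_top a) (mem_top b)))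
  · obtain ⟨a, rfl⟩ := QuotientGroup.mk'_surjective _ a
    rw [← map_pow]
    exact (QuotientGroup.eq_one_iff _).2 (Basics.pow_mem_frattini (IsPGroup.of_card hP) a)

end Cfsg.Agent.FGS.AutFrattini
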