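/-
Automorphisms of alternating groups preserving the class of 3-cycles are conjugations by permutations.
-/
import Mathlib

set_option autoImplicit false
set_option linter.all false

namespace Cfsg.Agent.FGS.AutAlt

open Equiv Equiv.Perm


section
variable {α : Type*} [DecidableEq α] [Fintype α]

/-- The cycle sending `a ↦ b ↦ c ↦ a`. -/
def c3 (a b c : α) : Perm α := swap a b * swap b c

theorem c3_a {a b c : α} (hab : a ≠ b) (hac : a ≠ c) : c3 a b c a = b := by
  rw [c3, Perm.mul_apply, swap_apply_of_ne_of_ne hab hac, swap_apply_left]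

theorem c3_b {a b c : α} (hac : a ≠ c) (hbc : b ≠ c) : c3 a b c b = c := by
  rw [c3, Perm.mul_apply, swap_apply_left, swap_apply_of_ne_of_ne hac.symm hbc.symm]

theorem c3_c {a b c : α} : c3 a b c c = a := by
  rw [c3, Perm.mul_apply, swap_apply_right, swap_apply_right]

theorem c3_other {a b c x : α} (ha : x ≠ a) (hb : x ≠ b) (hc : x ≠ c) : c3 a b c x = x := by
  rw [c3, Perm.mul_apply, swap_apply_of_ne_of_ne hb hc, swap_apply_of_ne_of_ne ha hb]

theorem c3_three {a b c : α} (hab : a ≠ b) (hac : a ≠ c) (hbc : b ≠ c) : (c3 a b c).IsThreeCycle := by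
  rw [c3, swap_comm a b]
  exact isThreeCycle_swap_mul_swap_same hab.symm hbc hac

theorem three_eq {u : Perm α} (hu : u.IsThreeCycle) {a : α} (ha : u a ≠ a) :
    u (u a) ≠ a ∧ u (u a) ≠ u a ∧ u (u (u a)) = a ∧ (∀ x, u x ≠ x → x = a ∨ x = u a ∨ x = u (u a)) ∧
      u = c3 a (u a) (u (u a)) := by
  have h3 : u (u (u a)) = a := by
    have h : u ^ 3 = 1 := by rw [← hu.orderOf]; exact pow_orderOf_eq_one u
    have := congrArg (fun f : Perm α => f a) h
    simpa [pow_succ, Perm.mul_apply] using this
  have hne : u (u a) ≠ a := fun h => ha (by rw [h] at h3; exact h3)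
  have hne2 : u (u a) ≠ u a := fun h => ha (u.injective h)
  have hsub : ({a, u a, u (u a)} : Finset α) ⊆ u.support := by
    intro x hx
    simp only [Finset.mem_insert, Finset.mem_singleton] at hx
    rw [mem_support]
    rcases hx with rfl | rfl | rfl
    · exact ha
    · exact hne2
    · rw [h3]; exact hne.symm
  have heq : ({a, u a, u (u a)} : Finset α) = u.support := Finset.eq_of_subset_of_card_le hsub (by
    rw [hu.card_support, Finset.card_insert_of_notMem (by simp [ha.symm, hne.symm]), Finset.card_pair hne2.symm])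
  have hmem : ∀ x, u x ≠ x → x = a ∨ x = u a ∨ x = u (u a) := fun x hx => by
    have : x ∈ ({a, u a, u (u a)} : Finset α) := heq ▸ mem_support.2 hx
    simpa using this
  refine ⟨hne, hne2, h3, hmem, ?_⟩
  refine Perm.ext fun x => ?_
  by_cases hxa : x = a
  · rw [hxa, c3_a ha.symm hne.symm]
  by_cases hxb : x = u a
  · rw [hxb, c3_b hne.symm hne2.symm]
  by_cases hxc : x = u (u a)
  · rw [hxc, c3_c, h3]
  rw [c3_other hxa hxb hxc]
  by_contra h
  rcases hmem x h with h | h | h <;> contradiction

theorem rot {u : Perm α} (hu : u.IsThreeCycle) {a b : α} (ha : u a ≠ a) (hb : u b ≠ b) :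
    b = a ∨ b = u a ∨ b = u (u a) := (three_eq hu ha).2.2.2.1 b hb

/-- Two 3-cycles whose product is an involution share an edge. -/
theorem shared {u v : Perm α} (hu : u.IsThreeCycle) (hv : v.IsThreeCycle) (hne : v ≠ u⁻¹)
    (h : (u * v) ^ 2 = 1) : ∃ x, u x ≠ x ∧ u x = v x := by
  by_contra hcon
  push Not at hcon
  have happ : ∀ x, u (v (u (v x))) = x := fun x => by
    have := congrArg (fun f : Perm α => f x) h
    simpa [pow_two, Perm.mul_apply] using this
  -- the supports meet
  obtain ⟨a, hua, hva⟩ : ∃ a, u a ≠ a ∧ v a ≠ a := by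
    by_contra hd
    push Not at hd
    obtain ⟨x, hx⟩ : ∃ x, u x ≠ x := by
      by_contra h0
      push Not at h0
      exact hu.isCycle.ne_one (Perm.ext h0)
    obtain ⟨-, -, h3, -, -⟩ := three_eq hu hx
    have h1 : v (u x) = u x := hd _ fun e => hx (u.injective e)
    have := happ x
    rw [hd x hx, h1] at this
    exact (three_eq hu hx).1 this
  obtain ⟨hca, hcb, hu3, humem, hue⟩ := three_eq hu hua
  obtain ⟨hwa, hwy, hv3, hvmem, hve⟩ := three_eq hv hva
  set b := u a with hb
  set c := u b with hc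
  set y := v a with hy
  set w := v y with hw
  have hyb : y ≠ b := fun e => hcon a hua e.symm
  have hwc : w ≠ c := fun e => hcon c (by rw [hu3]; exact hca.symm) (by rw [hu3, ← e, hv3])
  have fixu : ∀ x, x ≠ a → x ≠ b → x ≠ c → u x = x := fun x h1 h2 h3' => by
    by_contra hh
    rcases humem x hh with e | e | e <;> contradiction
  have fixv : ∀ x, x ≠ a → x ≠ y → x ≠ w → v x = x := fun x h1 h2 h3' => by
    by_contra hh
    rcases hvmem x hh with e | e | e <;> contradiction
  by_cases hyc : y = c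
  · by_cases hwb : w = b
    · apply hne
      rw [eq_inv_iff_mul_eq_one]
      refine Perm.ext fun x => ?_
      rw [Perm.mul_apply, Perm.one_apply]
      by_cases hxa : x = a
      · rw [hxa, ← hb, ← hwb, hv3]
      by_cases hxb : x = b
      · rw [hxb, ← hc, ← hyc, ← hw, hwb]
      by_cases hxc : x = c
      · rw [hxc, hu3, ← hy, hyc]
      rw [fixu x hxa hxb hxc, fixv x hxa (by rwa [hyc]) (by rwa [hwb])]
    · have h1 : v b = b := fixv b hua hyb.symm (Ne.symm hwb)
      have h2 := happ b
      rw [h1, ← hc, ← hyc, ← hw, fixu w hwa hwb hwc] at h2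
      exact hwb h2
  · have hua' : u y = y := fixu y hva hyb hyc
    have h2 := happ a
    rw [← hy, hua', ← hw] at h2
    by_cases hwb : w = b
    · rw [hwb, ← hc] at h2; exact hca h2
    · rw [fixu w hwa hwb hwc] at h2; exact hwa h2

/-- Two different edges of `u` cannot be shared with 3-cycles that share an edge. -/
theorem edge_clash {u v w : Perm α} (hu : u.IsThreeCycle) (hv : v.IsThreeCycle) (hw : w.IsThreeCycle)
    (hvu : v ≠ u) (hwu : w ≠ u) {a y : α} (ha : u a ≠ a) (hva : v a = u a) (hwb : w (u a) = u (u a))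
    (hy : v y ≠ y) (hyw : v y = w y) : False := by
  obtain ⟨hca, hcb, hu3, -, hue⟩ := three_eq hu ha
  have hva' : v a ≠ a := by rwa [hva]
  obtain ⟨hda, hdb, hv3, hvmem, hve⟩ := three_eq hv hva'
  have hwb' : w (u a) ≠ u a := by rwa [hwb]
  obtain ⟨hec, -, hw3, hwmem, hwe⟩ := three_eq hw hwb'
  have hwa : w a = a := by
    by_contra h
    rcases hwmem a h with e | e | e
    · exact ha e.symm
    · rw [hwb] at e; exact hca e.symm
    · apply hwu
      rw [hwe, ← e, hwb]
      have : c3 (u a) (u (u a)) a = c3 a (u a) (u (u a)) := by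
        refine Perm.ext fun x => ?_
        by_cases h1 : x = a
        · rw [h1, c3_c, c3_a ha.symm hca.symm]
        by_cases h2 : x = u a
        · rw [h2, c3_a hcb.symm ha, c3_b hca.symm hcb.symm]
        by_cases h3 : x = u (u a)
        · rw [h3, c3_b ha hca, c3_c]
        rw [c3_other h2 h3 h1, c3_other h1 h2 h3]
      rw [this]; exact hue.symm
  rcases hvmem y hy with e | e | e
  · rw [e, hwa] at hyw; exact hva' hyw
  · apply hvu
    rw [e, hva, hwb] at hyw
    rw [hve, hva, hyw, ← hue]
  · rw [e, hv3] at hyw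
    have : v (v a) = a := w.injective (by rw [← hyw, hwa])
    exact hda this

end

theorem fact_bound : ∀ j m : ℕ, 1 ≤ j → (1 ≤ m ∨ 2 ≤ j) →
    2 * (3 ^ j * (j + 1).factorial * m.factorial) < (m + 3 * j).factorial := by
  intro j
  induction j with
  | zero => intro m h; omega
  | succ k ih =>
    intro m _ h
    rw [show m + 3 * (k + 1) = m + 3 * k + 1 + 1 + 1 by ring, Nat.factorial_succ (m + 3 * k + 1 + 1),
      Nat.factorial_succ (m + 3 * k + 1), Nat.factorial_succ (m + 3 * k)]
    rcases Nat.eq_zero_or_pos k with rfl | hk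
    · have : 1 ≤ m := by omega
      have := Nat.factorial_pos m
      simp only [Nat.mul_zero, Nat.add_zero, Nat.zero_add, pow_one, Nat.reduceAdd, Nat.factorial_two]
      have h6 : 12 < (m + 3) * ((m + 2) * (m + 1)) :=
        lt_of_lt_of_le (by norm_num : 12 < 4 * (3 * 2)) (Nat.mul_le_mul (by omega) (Nat.mul_le_mul (by omega) (by omega)))
      nlinarith
    · by_cases hbase : 1 ≤ m ∨ 2 ≤ k
      · have h1 := ih m hk hbase
        rw [show (k + 1 + 1).factorial = (k + 2) * (k + 1).factorial from Nat.factorial_succ _, pow_succ]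
        have h2 : 3 * (k + 2) ≤ (m + 3 * k + 3) * ((m + 3 * k + 2) * (m + 3 * k + 1)) :=
          Nat.mul_le_mul (by omega) (le_trans (by omega : k + 2 ≤ (m + 3 * k + 2) * 1) (Nat.mul_le_mul_left _ (by omega)))
        calc 2 * (3 ^ k * 3 * ((k + 2) * (k + 1).factorial) * m.factorial)
            = (3 * (k + 2)) * (2 * (3 ^ k * (k + 1).factorial * m.factorial)) := by ring
          _ < (3 * (k + 2)) * (m + 3 * k).factorial := Nat.mul_lt_mul_of_pos_left h1 (by omega)
          _ ≤ _ := Nat.mul_le_mul_right _ h2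
          _ = _ := by ring
      · obtain rfl : k = 1 := by omega
        obtain rfl : m = 0 := by omega
        decide

theorem three_to_three {n : ℕ} (hn : 4 ≤ n) (h6 : n ≠ 6) (σ : MulAut (alternatingGroup (Fin n)))
    (t : alternatingGroup (Fin n)) (ht : (t : Perm (Fin n)).IsThreeCycle) :
    (σ t : Perm (Fin n)).IsThreeCycle := by
  classical
  set x : Perm (Fin n) := (σ t : Perm (Fin n)) with hx
  have ho : orderOf x = 3 := by
    rw [hx, Subgroup.orderOf_coe, MulEquiv.orderOf_eq, ← Subgroup.orderOf_coe]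
    exact ht.orderOf
  obtain ⟨j, hj⟩ := cycleType_prime_order (σ := x) (by rw [ho]; exact Nat.prime_three)
  rw [ho] at hj
  rcases Nat.eq_zero_or_pos j with rfl | hjpos
  · simpa [IsThreeCycle] using hj
  exfalso
  have hsum : 3 * (j + 1) ≤ n := by
    have := x.support.card_le_univ
    rw [← sum_cycleType, hj, Multiset.sum_replicate, Fintype.card_fin, smul_eq_mul] at this
    omega
  obtain ⟨m, hm⟩ : ∃ m, n = m + 3 * (j + 1) := ⟨n - 3 * (j + 1), by omega⟩
  have cC : ∀ g : Perm (Fin n), ∀ i : ℕ, g.cycleType = Multiset.replicate i 3 → i ≠ 0 → 3 * i ≤ n →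
      Nat.card (Subgroup.centralizer ({g} : Set (Perm (Fin n)))) = (n - 3 * i).factorial * 3 ^ i * i.factorial := by
    intro g i hg hi _
    rw [Equiv.Perm.nat_card_centralizer, hg, Multiset.sum_replicate, Multiset.prod_replicate,
      Multiset.toFinset_replicate, if_neg hi, Finset.prod_singleton, Multiset.count_replicate_self,
      Fintype.card_fin, smul_eq_mul, mul_comm i 3]
  have h1 := cC x (j + 1) hj (by omega) hsum
  have h2 := cC t 1 (by simpa [IsThreeCycle] using ht) one_ne_zero (by omega)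
  have hA : ∀ g : alternatingGroup (Fin n),
      (Subgroup.centralizer ({g} : Set (alternatingGroup (Fin n)))) =
        (Subgroup.centralizer ({(g : Perm (Fin n))} : Set (Perm (Fin n)))).subgroupOf (alternatingGroup (Fin n)) := by
    intro g
    ext y
    rw [Subgroup.mem_subgroupOf, Subgroup.mem_centralizer_singleton_iff, Subgroup.mem_centralizer_singleton_iff,
      ← Subgroup.coe_mul, ← Subgroup.coe_mul, Subtype.coe_inj]
  have hle : Nat.card (Subgroup.centralizer ({σ t} : Set (alternatingGroup (Fin n)))) ≤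
      Nat.card (Subgroup.centralizer ({x} : Set (Perm (Fin n)))) := by
    rw [hA]
    exact Nat.card_le_card_of_injective
      (fun y => (⟨_, y.2⟩ : Subgroup.centralizer ({x} : Set (Perm (Fin n)))))
      (fun a b h => Subtype.ext (Subtype.ext (congrArg Subtype.val h :)))
  have hge : Nat.card (Subgroup.centralizer ({(t : Perm (Fin n))} : Set (Perm (Fin n)))) ≤
      2 * Nat.card (Subgroup.centralizer ({t} : Set (alternatingGroup (Fin n)))) := by
    set C := Subgroup.centralizer ({(t : Perm (Fin n))} : Set (Perm (Fin n))) with hC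
    haveI : Nontrivial (Fin n) := Fin.nontrivial_iff_two_le.2 (by omega)
    have h3 : (alternatingGroup (Fin n)).relIndex C ≤ 2 := Nat.le_of_dvd two_pos (by
      have := Subgroup.relIndex_dvd_index_of_normal (alternatingGroup (Fin n)) C
      rwa [alternatingGroup.index_eq_two] at this)
    have h4 := ((alternatingGroup (Fin n)).subgroupOf C).card_mul_index
    have h5 : Nat.card ((alternatingGroup (Fin n)).subgroupOf C) = Nat.card (C.subgroupOf (alternatingGroup (Fin n))) :=
      Nat.card_congr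
        { toFun := fun y => ⟨⟨y.1.1, y.2⟩, y.1.2⟩
          invFun := fun y => ⟨⟨y.1.1, y.2⟩, y.1.2⟩
          left_inv := fun y => rfl
          right_inv := fun y => rfl }
    rw [hA, ← hC, ← h5]
    calc Nat.card C = Nat.card ((alternatingGroup (Fin n)).subgroupOf C) * (alternatingGroup (Fin n)).relIndex C := h4.symm
      _ ≤ _ := by rw [mul_comm 2]; exact Nat.mul_le_mul_left _ h3
  have heq : Nat.card (Subgroup.centralizer ({σ t} : Set (alternatingGroup (Fin n)))) =
      Nat.card (Subgroup.centralizer ({t} : Set (alternatingGroup (Fin n)))) := by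
    refine (Nat.card_congr (Equiv.subtypeEquiv σ.toEquiv fun y => ?_)).symm
    rw [Subgroup.mem_centralizer_singleton_iff, Subgroup.mem_centralizer_singleton_iff]
    show y * t = t * y ↔ σ y * σ t = σ t * σ y
    rw [← map_mul, ← map_mul, σ.injective.eq_iff]
  have hb := fact_bound j m hjpos (by omega)
  rw [h1, show n - 3 * (j + 1) = m by omega] at hle
  rw [h2, show n - 3 * 1 = m + 3 * j by omega] at hge
  rw [heq] at hle
  simp only [Nat.factorial_one, pow_one, mul_one] at hge
  have e : m.factorial * 3 ^ (j + 1) * (j + 1).factorial = 3 * (3 ^ j * (j + 1).factorial * m.factorial) := by ring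
  rw [e] at hle
  omega

/-- An automorphism preserving 3-cycles is a conjugation. -/
theorem of_preserves {n : ℕ} (hn : 4 ≤ n) (σ : MulAut (alternatingGroup (Fin n)))
    (hσ : ∀ t : alternatingGroup (Fin n), (t : Perm (Fin n)).IsThreeCycle → (σ t : Perm (Fin n)).IsThreeCycle) :
    ∃ g : Perm (Fin n), MulAut.conjNormal g = σ := by
  classical
  haveI : Nontrivial (Fin n) := Fin.nontrivial_iff_two_le.2 (by omega)
  have mem3 : ∀ a b c : Fin n, a ≠ b → a ≠ c → b ≠ c → c3 a b c ∈ alternatingGroup (Fin n) :=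
    fun a b c h1 h2 h3 => (c3_three h1 h2 h3).mem_alternatingGroup
  have avoid : ∀ s : Finset (Fin n), s.card ≤ 3 → ∃ d, d ∉ s := fun s hs => by
    by_contra h
    push Not at h
    have := Finset.card_le_card (show (Finset.univ : Finset (Fin n)) ⊆ s from fun d _ => h d)
    rw [Finset.card_univ, Fintype.card_fin] at this
    omega
  let p0 : Fin n := ⟨0, by omega⟩
  let p1 : Fin n := ⟨1, by omega⟩
  let p2 : Fin n := ⟨2, by omega⟩
  have h01 : p0 ≠ p1 := by simp [p0, p1, Fin.ext_iff]
  have h02 : p0 ≠ p2 := by simp [p0, p2, Fin.ext_iff]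
  have h12 : p1 ≠ p2 := by simp [p1, p2, Fin.ext_iff]
  let I := {i : Fin n // i ≠ p0 ∧ i ≠ p1}
  let s : I → alternatingGroup (Fin n) := fun i => ⟨c3 p0 p1 i.1, mem3 _ _ _ h01 i.2.1.symm i.2.2.symm⟩
  have hsinj : Function.Injective s := fun i j h => by
    have := congrArg (fun x : alternatingGroup (Fin n) => (x : Perm (Fin n)) p1) h
    simp only [s] at this
    rw [c3_b i.2.1.symm i.2.2.symm, c3_b j.2.1.symm j.2.2.symm] at this
    exact Subtype.ext this
  let U : I → Perm (Fin n) := fun i => (σ (s i) : Perm (Fin n))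
  have hU3 : ∀ i, (U i).IsThreeCycle := fun i =>
    hσ (s i) (c3_three h01 i.2.1.symm i.2.2.symm)
  have hUinj : Function.Injective U := fun i j h => hsinj (σ.injective (Subtype.ext h))
  have hprod : ∀ i j, i ≠ j → (U i * U j) ^ 2 = 1 ∧ U j ≠ (U i)⁻¹ := by
    intro i j hij
    have hij' : i.1 ≠ j.1 := fun h => hij (Subtype.ext h)
    have e : ((s i * s j) ^ 2 : alternatingGroup (Fin n)) = 1 := by
      apply Subtype.ext
      refine Perm.ext fun x => ?_
      show ((c3 p0 p1 i.1 * c3 p0 p1 j.1) ^ 2) x = x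
      rw [pow_two]
      simp only [Perm.mul_apply]
      obtain ⟨hi0, hi1⟩ := i.2
      obtain ⟨hj0, hj1⟩ := j.2
      by_cases x0 : x = p0
      · rw [x0, c3_a h01 hj0.symm, c3_b hi0.symm hi1.symm, c3_other hi0 hi1 hij', c3_c]
      by_cases x1 : x = p1
      · rw [x1, c3_b hj0.symm hj1.symm, c3_other hj0 hj1 hij'.symm, c3_c, c3_a h01 hi0.symm]
      by_cases xi : x = i.1
      · rw [xi, c3_other hi0 hi1 hij', c3_c, c3_a h01 hj0.symm, c3_b hi0.symm hi1.symm]
      by_cases xj : x = j.1
      · rw [xj, c3_c, c3_a h01 hi0.symm, c3_b hj0.symm hj1.symm, c3_other hj0 hj1 hij'.symm]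
      rw [c3_other x0 x1 xj, c3_other x0 x1 xi, c3_other x0 x1 xj, c3_other x0 x1 xi]
    refine ⟨?_, fun h => ?_⟩
    · have := congrArg (fun y => (σ y : Perm (Fin n))) e
      simpa [U] using this
    · have h' : U i * U j = 1 := by rw [h, mul_inv_cancel]
      have : s i * s j = 1 := σ.injective (by
        rw [map_mul, map_one]; exact Subtype.ext h')
      have := congrArg (fun y : alternatingGroup (Fin n) => (y : Perm (Fin n)) p0) this
      simp only [s, Subgroup.coe_mul, Subgroup.coe_one, Perm.mul_apply, Perm.one_apply] at this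
      rw [c3_a h01 j.2.1.symm, c3_b i.2.1.symm i.2.2.symm] at this
      exact i.2.1 this
  let i0 : I := ⟨p2, h02.symm, h12.symm⟩
  obtain ⟨d, hd⟩ := avoid {p0, p1, p2} Finset.card_le_three
  simp only [Finset.mem_insert, Finset.mem_singleton, not_or] at hd
  let j0 : I := ⟨d, hd.1, hd.2.1⟩
  have hj0 : j0 ≠ i0 := fun h => hd.2.2 (congrArg Subtype.val h)
  set u := U i0 with hu
  obtain ⟨a, ha, hja⟩ := shared (hU3 i0) (hU3 j0) (hprod i0 j0 hj0.symm).2 (hprod i0 j0 hj0.symm).1
  set b := u a with hb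
  have hall : ∀ i, U i a = b := by
    intro i
    by_cases hi : i = i0
    · rw [hi]
    obtain ⟨x, hx, hix⟩ := shared (hU3 i0) (hU3 i) (hprod i0 i (Ne.symm hi)).2 (hprod i0 i (Ne.symm hi)).1
    by_cases hij : i = j0
    · rw [hij]; exact hja.symm
    obtain ⟨y, hy, hyij⟩ := shared (hU3 i) (hU3 j0) (hprod i j0 hij).2 (hprod i j0 hij).1
    have hne1 : U j0 ≠ u := fun h => hj0 (hUinj h)
    have hne2 : U i ≠ u := fun h => hi (hUinj h)
    obtain ⟨-, -, hu3, humem, -⟩ := three_eq (hU3 i0) ha
    rcases humem x hx with e | e | e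
    · rw [e] at hix; exact hix.symm
    · exfalso
      rw [e] at hix
      exact edge_clash (hU3 i0) (hU3 j0) (hU3 i) hne1 hne2 ha hja.symm hix.symm
        (y := y) (by rw [← hyij]; exact hy) hyij.symm
    · exfalso
      rw [e] at hix hx
      refine edge_clash (hU3 i0) (hU3 i) (hU3 j0) hne2 hne1 (a := u (u a)) hx hix.symm ?_ hy hyij
      rw [show u (u (u a)) = a from hu3]
      exact hja.symm
  have hab : a ≠ b := Ne.symm ha
  let π : Fin n → Fin n := fun x => if h0 : x = p0 then a else if h1 : x = p1 then b else U ⟨x, h0, h1⟩ b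
  have hUa : ∀ i, U i a ≠ a := fun i => by rw [hall i]; exact ha
  have hUe : ∀ i, U i = c3 a b (U i b) ∧ U i b ≠ a ∧ U i b ≠ b := fun i => by
    obtain ⟨h1, h2, -, -, h5⟩ := three_eq (hU3 i) (hUa i)
    rw [hall i] at h1 h2 h5
    exact ⟨h5, h1, h2⟩
  have hπ : Function.Injective π := by
    intro x y h
    simp only [π] at h
    by_cases x0 : x = p0 <;> by_cases y0 : y = p0
    · rw [x0, y0]
    · rw [dif_pos x0, dif_neg y0] at h
      split_ifs at h
      · exact absurd h hab
      · exact absurd h.symm (hUe _).2.1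
    · rw [dif_neg x0, dif_pos y0] at h
      split_ifs at h
      · exact absurd h hab.symm
      · exact absurd h (hUe _).2.1
    · rw [dif_neg x0, dif_neg y0] at h
      by_cases x1 : x = p1 <;> by_cases y1 : y = p1
      · rw [x1, y1]
      · rw [dif_pos x1, dif_neg y1] at h; exact absurd h.symm (hUe _).2.2
      · rw [dif_neg x1, dif_pos y1] at h; exact absurd h (hUe _).2.2
      · rw [dif_neg x1, dif_neg y1] at h
        exact congrArg Subtype.val (hUinj ((hUe ⟨x, x0, x1⟩).1.trans ((congrArg (c3 a b) h).trans (hUe ⟨y, y0, y1⟩).1.symm)))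
  let g : Perm (Fin n) := Equiv.ofBijective π (Finite.injective_iff_bijective.1 hπ)
  refine ⟨g, ?_⟩
  have hgen : ∀ i, MulAut.conjNormal g (s i) = σ (s i) := fun i => by
    apply Subtype.ext
    rw [MulAut.conjNormal_apply]
    show g * c3 p0 p1 i.1 * g⁻¹ = U i
    rw [(hUe i).1, c3, c3, ← mul_assoc, show g * swap p0 p1 = swap (g p0) (g p1) * g from mul_swap_eq_swap_mul g p0 p1,
      mul_assoc (swap (g p0) (g p1)), mul_swap_eq_swap_mul, ← mul_assoc, mul_inv_cancel_right]
    have e0 : g p0 = a := by simp [g, π]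
    have e1 : g p1 = b := by simp [g, π, h01.symm]
    have e2 : g i.1 = U i b := by
      show π i.1 = U i b
      simp only [π]
      rw [dif_neg i.2.1, dif_neg i.2.2]
    rw [e0, e1, e2]
  let H : Subgroup (alternatingGroup (Fin n)) := (MulAut.conjNormal g : MulAut _).toMonoidHom.eqLocus σ.toMonoidHom
  have hs : ∀ i, s i ∈ H := hgen
  have hH : ∀ a b c (h1 : a ≠ b) (h2 : a ≠ c) (h3 : b ≠ c), (⟨c3 a b c, mem3 a b c h1 h2 h3⟩ : alternatingGroup (Fin n)) ∈ H := by
    have key : ∀ b c (h1 : p0 ≠ b) (h2 : p0 ≠ c) (h3 : b ≠ c),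
        (⟨c3 p0 b c, mem3 p0 b c h1 h2 h3⟩ : alternatingGroup (Fin n)) ∈ H := by
      intro b c h1 h2 h3
      by_cases hb : b = p1
      · subst hb; exact hs ⟨c, h2.symm, h3.symm⟩
      by_cases hc : c = p1
      · subst hc
        have : (⟨c3 p0 b p1, mem3 p0 b p1 h1 h2 h3⟩ : alternatingGroup (Fin n)) = (s ⟨b, h1.symm, hb⟩)⁻¹ := by
          rw [eq_inv_iff_mul_eq_one]
          refine Subtype.ext (Perm.ext fun x => ?_)
          show c3 p0 b p1 (c3 p0 p1 b x) = x
          by_cases x0 : x = p0
          · rw [x0, c3_a h01 h1, c3_c]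
          by_cases x1 : x = p1
          · rw [x1, c3_b h1 (Ne.symm hb), c3_b h2 h3]
          by_cases xb : x = b
          · rw [xb, c3_c, c3_a h1 h2]
          rw [c3_other x0 x1 xb, c3_other x0 xb x1]
        rw [this]; exact inv_mem (hs _)
      have : (⟨c3 p0 b c, mem3 p0 b c h1 h2 h3⟩ : alternatingGroup (Fin n)) =
          s ⟨c, h2.symm, hc⟩ * (s ⟨b, h1.symm, hb⟩)⁻¹ := by
        rw [eq_mul_inv_iff_mul_eq]
        refine Subtype.ext (Perm.ext fun x => ?_)
        show c3 p0 b c (c3 p0 p1 b x) = c3 p0 p1 c x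
        by_cases x0 : x = p0
        · rw [x0, c3_a h01 h1, c3_a h01 h2, c3_other h01.symm (Ne.symm hb) (Ne.symm hc)]
        by_cases x1 : x = p1
        · rw [x1, c3_b h1 (Ne.symm hb), c3_b h2 (Ne.symm hc), c3_b h2 h3]
        by_cases xb : x = b
        · rw [xb, c3_c, c3_a h1 h2, c3_other h1.symm hb h3]
        by_cases xc : x = c
        · rw [xc, c3_other h2.symm hc h3.symm, c3_c, c3_c]
        rw [c3_other x0 x1 xb, c3_other x0 xb xc, c3_other x0 x1 xc]
      rw [this]; exact mul_mem (hs _) (inv_mem (hs _))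
    intro a b c h1 h2 h3
    by_cases ha' : a = p0
    · subst ha'; exact key b c h1 h2 h3
    by_cases hb' : b = p0
    · subst hb'
      have := key c a h3 h1.symm h2.symm
      convert this using 1
      refine Subtype.ext (Perm.ext fun x => ?_)
      show c3 a p0 c x = c3 p0 c a x
      by_cases x0 : x = a
      · rw [x0, c3_a h1 h2, c3_c]
      by_cases x1 : x = p0
      · rw [x1, c3_b h2 h3, c3_a h3 h1.symm]
      by_cases xc : x = c
      · rw [xc, c3_c, c3_b h1.symm h2.symm]
      rw [c3_other x0 x1 xc, c3_other x1 xc x0]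
    by_cases hc' : c = p0
    · subst hc'
      have := key a b h2.symm h3.symm h1
      convert this using 1
      refine Subtype.ext (Perm.ext fun x => ?_)
      show c3 a b p0 x = c3 p0 a b x
      by_cases x0 : x = a
      · rw [x0, c3_a h1 h2, c3_b h3.symm h1]
      by_cases x1 : x = b
      · rw [x1, c3_b h2 h3, c3_c]
      by_cases xc : x = p0
      · rw [xc, c3_c, c3_a h2.symm h3.symm]
      rw [c3_other x0 x1 xc, c3_other xc x0 x1]
    have e : (⟨c3 a b c, mem3 a b c h1 h2 h3⟩ : alternatingGroup (Fin n)) =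
        ⟨c3 p0 a b, mem3 p0 a b (Ne.symm ha') (Ne.symm hb') h1⟩ * ⟨c3 p0 b c, mem3 p0 b c (Ne.symm hb') (Ne.symm hc') h3⟩ := by
      refine Subtype.ext (Perm.ext fun x => ?_)
      show c3 a b c x = c3 p0 a b (c3 p0 b c x)
      by_cases x0 : x = p0
      · rw [x0, c3_a (Ne.symm hb') (Ne.symm hc'), c3_c, c3_other (Ne.symm ha') (Ne.symm hb') (Ne.symm hc')]
      by_cases xa : x = a
      · rw [xa, c3_a h1 h2, c3_other ha' h1 h2, c3_b (Ne.symm hb') h1]
      by_cases xb : x = b
      · rw [xb, c3_b h2 h3, c3_b (Ne.symm hc') h3, c3_other hc' h2.symm h3.symm]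
      by_cases xc : x = c
      · rw [xc, c3_c, c3_c, c3_a (Ne.symm ha') (Ne.symm hb')]
      rw [c3_other xa xb xc, c3_other x0 xb xc, c3_other x0 xa xb]
    rw [e]
    exact mul_mem (key a b (Ne.symm ha') (Ne.symm hb') h1) (key b c (Ne.symm hb') (Ne.symm hc') h3)
  have hle : alternatingGroup (Fin n) ≤ H.map (alternatingGroup (Fin n)).subtype := by
    refine (le_of_eq Equiv.Perm.closure_three_cycles_eq_alternating.symm).trans ?_
    rw [Subgroup.closure_le]
    intro t ht
    obtain ⟨x, hx⟩ : ∃ x, t x ≠ x := by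
      by_contra h0
      push Not at h0
      exact ht.isCycle.ne_one (Perm.ext h0)
    obtain ⟨k1, k2, -, -, k5⟩ := three_eq ht hx
    exact ⟨_, hH x (t x) (t (t x)) (Ne.symm hx) k1.symm k2.symm, k5.symm⟩
  refine MulEquiv.ext fun x => ?_
  obtain ⟨x', hx', e⟩ := hle x.2
  rw [← Subtype.ext (show (x' : Perm (Fin n)) = x from e)]
  exact hx'

end Cfsg.Agent.FGS.AutAlt
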