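import Mathlib

/-!
# How many elements have class size prime to a given prime

An element has class size prime to `p` iff it centralizes a Sylow `p`-subgroup `P`; hence there
are at most `[G : N(P)] * #C(P)` of them. In particular at most half of the group, unless
`N(P) = C(P)`, in which case `G` has a normal `p`-complement by Burnside.
-/

set_option autoImplicit false
set_option linter.all false

namespace Cfsg.Agent.FGS.ClassPrimeCount

open Subgroup
open scoped Pointwise

variable {G : Type*} [Group G] [Finite G]

/-- Elements of class size prime to `p` centralize some Sylow `p`-subgroup. -/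
theorem exists_sylow_le {p : ℕ} [Fact p.Prime] {C : Subgroup G} (hC : ¬ p ∣ C.index) :
    ∃ P : Sylow p G, (P : Subgroup G) ≤ C := by
  obtain ⟨R⟩ := (inferInstance : Nonempty (Sylow p C))
  have hR : Nat.card ((R : Subgroup C).map C.subtype) = p ^ (Nat.card G).factorization p := by
    rw [card_map_of_injective C.subtype_injective, R.card_eq_multiplicity,
      ← card_mul_index C, Nat.factorization_mul Nat.card_pos.ne' index_ne_zero_of_finite,
      Finsupp.add_apply, Nat.factorization_eq_zero_of_not_dvd hC, add_zero]
  exact ⟨Sylow.ofCard ((R : Subgroup C).map C.subtype) hR, map_subtype_le _⟩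

theorem centralizer_smul (P : Subgroup G) (g : G) :
    Nat.card (centralizer ((MulAut.conj g • P : Subgroup G) : Set G)) =
      Nat.card (centralizer (P : Set G)) := by
  have h : centralizer ((MulAut.conj g • P : Subgroup G) : Set G) =
      MulAut.conj g • centralizer (P : Set G) := by
    ext x
    rw [mem_pointwise_smul_iff_inv_smul_mem, mem_centralizer_iff, mem_centralizer_iff]
    constructor
    · intro h z hz
      have h1 := h (MulAut.conj g • z) (smul_mem_pointwise_smul z _ _ hz)
      have h2 := congrArg (fun a => (MulAut.conj g)⁻¹ • a) h1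
      simpa [smul_mul', mul_assoc] using h2
    · intro h z hz
      have h1 := h ((MulAut.conj g)⁻¹ • z) (mem_pointwise_smul_iff_inv_smul_mem.1 hz)
      have h2 := congrArg (fun a => MulAut.conj g • a) h1
      simpa [smul_mul', mul_assoc] using h2
  rw [h, Nat.card_congr (equivSMul (MulAut.conj g) (centralizer (P : Set G))).toEquiv.symm]

/-- The counting bound. -/
theorem ncard_not_dvd_le {p : ℕ} [Fact p.Prime] (P : Sylow p G) :
    {x : G | ¬ p ∣ (centralizer ({x} : Set G)).index}.ncard ≤
      (normalizer ((P : Subgroup G) : Set G)).index * Nat.card (centralizer ((P : Subgroup G) : Set G)) := by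
  classical
  haveI := Fintype.ofFinite (Sylow p G)
  have hsub : {x : G | ¬ p ∣ (centralizer ({x} : Set G)).index} ⊆
      ⋃ Q : Sylow p G, (centralizer ((Q : Subgroup G) : Set G) : Set G) := by
    intro x hx
    obtain ⟨Q, hQ⟩ := exists_sylow_le (p := p) hx
    refine Set.mem_iUnion.2 ⟨Q, mem_centralizer_iff.2 fun z hz => ?_⟩
    exact mem_centralizer_singleton_iff.1 (hQ hz)
  refine (Set.ncard_le_ncard hsub (Set.toFinite _)).trans ?_
  refine (Set.ncard_iUnion_le_of_fintype _).trans ?_
  have hc : ∀ Q : Sylow p G, (centralizer ((Q : Subgroup G) : Set G) : Set G).ncard =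
      Nat.card (centralizer ((P : Subgroup G) : Set G)) := by
    intro Q
    obtain ⟨g, rfl⟩ := MulAction.exists_smul_eq G P Q
    rw [← Nat.card_coe_set_eq, Sylow.coe_subgroup_smul]
    exact centralizer_smul _ g
  rw [Finset.sum_congr rfl (fun Q _ => hc Q), Finset.sum_const, smul_eq_mul, Finset.card_univ,
    ← Nat.card_eq_fintype_card, P.card_eq_index_normalizer]
  exact le_rfl

/-- Either `N(P) ≤ C(P)`, or at most half of the elements have class size prime to `p`. -/
theorem two_mul_ncard_not_dvd_le {p : ℕ} [Fact p.Prime] (P : Sylow p G)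
    (h : ¬ normalizer ((P : Subgroup G) : Set G) ≤ centralizer ((P : Subgroup G) : Set G)) :
    2 * {x : G | ¬ p ∣ (centralizer ({x} : Set G)).index}.ncard ≤ Nat.card G := by
  set N := normalizer ((P : Subgroup G) : Set G) with hN
  set C := centralizer ((P : Subgroup G) : Set G) with hC
  have hCN : C ≤ N := centralizer_le_normalizer _
  have h2 : 2 * Nat.card C ≤ Nat.card N := by
    have h1 := card_mul_index (C.subgroupOf N)
    rw [Nat.card_congr (subgroupOfEquivOfLe hCN).toEquiv] at h1
    have h3 : 1 < (C.subgroupOf N).index := by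
      refine (C.subgroupOf N).one_lt_index_of_ne_top fun e => h ?_
      exact subgroupOf_eq_top.1 e
    rw [← h1, mul_comm]
    exact Nat.mul_le_mul_left _ h3
  calc 2 * {x : G | ¬ p ∣ (centralizer ({x} : Set G)).index}.ncard
      ≤ 2 * (N.index * Nat.card C) := Nat.mul_le_mul_left _ (ncard_not_dvd_le P)
    _ = N.index * (2 * Nat.card C) := by ring
    _ ≤ N.index * Nat.card N := Nat.mul_le_mul_left _ h2
    _ = Nat.card G := index_mul_card N

end Cfsg.Agent.FGS.ClassPrimeCount
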