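import Cfsg.Agent.Lib.Basics.CoprimeAction
import Cfsg.Agent.Lib.Basics.Frattini
import Cfsg.Agent.Lib.OddLocal.FrobeniusAction
import Cfsg.Agent.Lib.LocalEvenA.Large

/-!
# Fixed points of a commutator subgroup are generated elementwise

For an element `t` of odd prime order acting coprimely on a solvable group `H`, the centraliser
of `t` in `⁅H, ⟨t⟩⁆` is generated by the centralisers in the subgroups `[h, ⟨t⟩]`.
-/

set_option autoImplicit false
set_option maxHeartbeats 1000000
set_option linter.all false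

namespace Cfsg.Agent.CommFixedGen

open Subgroup
open scoped commutatorElement

universe u

variable {G : Type u} [Group G]

/-- `[h, ⟨t⟩]`, generated by the `h⁻¹ q h q⁻¹`. -/
def R (t h : G) : Subgroup G := closure ((fun q => ⁅h⁻¹, q⁆) '' (zpowers t : Set G))

/-- The subgroup generated by the fixed points in the `[h, ⟨t⟩]`, `h ∈ H`. -/
def X (t : G) (H : Subgroup G) : Subgroup G :=
  ⨆ h ∈ H, R t h ⊓ centralizer (zpowers t : Set G)

theorem gen_mem {t h q : G} (hq : q ∈ zpowers t) : ⁅h⁻¹, q⁆ ∈ R t h :=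
  subset_closure ⟨q, hq, rfl⟩

theorem R_le_comm {t : G} {H : Subgroup G} {h : G} (hh : h ∈ H) : R t h ≤ ⁅H, zpowers t⁆ := by
  rw [R, closure_le]
  rintro _ ⟨q, hq, rfl⟩
  exact commutator_mem_commutator (Subgroup.inv_mem _ hh) hq

theorem comm_le {t : G} {H : Subgroup G} (hN : zpowers t ≤ normalizer (H : Set G)) :
    ⁅H, zpowers t⁆ ≤ H :=
  le_normalizer_iff_commutator_le_left.mp hN

theorem le_normalizer_of_conj_mem {A B : Subgroup G}
    (h : ∀ a ∈ A, ∀ b ∈ B, a * b * a⁻¹ ∈ B) : A ≤ normalizer (B : Set G) := by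
  intro a ha
  refine Subgroup.mem_normalizer_iff.mpr fun b => ⟨fun hb => h a ha b hb, fun hb => ?_⟩
  have := h a⁻¹ (Subgroup.inv_mem _ ha) _ hb
  simpa [mul_assoc] using this

theorem R_normalized {t h : G} : zpowers t ≤ normalizer (R t h : Set G) := by
  refine le_normalizer_of_conj_mem fun a ha b hb => ?_
  suffices R t h ≤ (R t h).comap (MulAut.conj a).toMonoidHom from this hb
  rw [R, closure_le]
  rintro _ ⟨q, hq, rfl⟩
  show a * ⁅h⁻¹, q⁆ * a⁻¹ ∈ R t h
  have e : a * ⁅h⁻¹, q⁆ * a⁻¹ = ⁅h⁻¹, a⁆⁻¹ * ⁅h⁻¹, a * q⁆ := by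
    simp only [commutatorElement_def]; group
  rw [e]
  exact mul_mem (Subgroup.inv_mem _ (gen_mem ha)) (gen_mem (mul_mem ha hq))

theorem comm_eq_iSup {t : G} {H : Subgroup G} : ⁅H, zpowers t⁆ = ⨆ h ∈ H, R t h := by
  refine le_antisymm (commutator_le.mpr fun h hh q hq => ?_) (iSup₂_le fun h hh => R_le_comm hh)
  have : R t h⁻¹ ≤ ⨆ h ∈ H, R t h := le_iSup₂_of_le h⁻¹ (Subgroup.inv_mem _ hh) le_rfl
  refine this ?_
  simpa using gen_mem (h := h⁻¹) hq

theorem mem_X {t : G} {H : Subgroup G} {h : G} (hh : h ∈ H) :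
    R t h ⊓ centralizer (zpowers t : Set G) ≤ X t H :=
  le_iSup₂_of_le (f := fun h (_ : h ∈ H) => R t h ⊓ centralizer (zpowers t : Set G)) h hh le_rfl

theorem X_mono {t : G} {A H : Subgroup G} (h : A ≤ H) : X t A ≤ X t H :=
  iSup₂_le fun a ha => mem_X (h ha)

theorem X_le {t : G} {H : Subgroup G} (hN : zpowers t ≤ normalizer (H : Set G)) :
    X t H ≤ H ⊓ centralizer (zpowers t : Set G) :=
  iSup₂_le fun h hh => inf_le_inf_right _ ((R_le_comm hh).trans (comm_le hN))

theorem conj_R {t c h : G} (hc : c ∈ centralizer (zpowers t : Set G)) :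
    (R t h).map (MulAut.conj c).toMonoidHom ≤ R t (c * h * c⁻¹) := by
  rw [R, MonoidHom.map_closure, closure_le]
  rintro _ ⟨_, ⟨q, hq, rfl⟩, rfl⟩
  show c * ⁅h⁻¹, q⁆ * c⁻¹ ∈ R t (c * h * c⁻¹)
  have hcq : q * c = c * q := Subgroup.mem_centralizer_iff.mp hc q hq
  have hq' : c * q * c⁻¹ = q := by rw [← hcq]; group
  have := gen_mem (t := t) (h := c * h * c⁻¹) hq
  have e : ⁅(c * h * c⁻¹)⁻¹, q⁆ = c * ⁅h⁻¹, q⁆ * c⁻¹ := by
    conv_lhs => rw [← hq']
    simp only [commutatorElement_def]; group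
  rwa [e] at this

theorem X_normalized {t : G} {H : Subgroup G} :
    H ⊓ centralizer (zpowers t : Set G) ≤ normalizer (X t H : Set G) := by
  refine le_normalizer_of_conj_mem fun c hc x hx => ?_
  suffices X t H ≤ (X t H).comap (MulAut.conj c).toMonoidHom from this hx
  refine iSup₂_le fun h hh y hy => ?_
  exact mem_X (mul_mem (mul_mem hc.1 hh) (Subgroup.inv_mem _ hc.1))
    ⟨conj_R hc.2 ⟨y, hy.1, rfl⟩, mul_mem (mul_mem hc.2 hy.2) (Subgroup.inv_mem _ hc.2)⟩

theorem normal_of_le_center {S : Subgroup G} (h : S ≤ center G) : S.Normal :=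
  ⟨fun x hx g => by rwa [Subgroup.mem_center_iff.mp (h hx) g, mul_inv_cancel_right]⟩

theorem R_map {G' : Type*} [Group G'] (f : G →* G') (t h : G) :
    (R t h).map f = R (f t) (f h) := by
  rw [R, R, MonoidHom.map_closure, ← MonoidHom.map_zpowers, Subgroup.coe_map]
  simp only [Set.image_image, map_commutatorElement, map_inv]

theorem map_centralizer_zpowers {G' : Type*} [Group G'] (f : G →* G') {t x : G}
    (hx : x ∈ centralizer (zpowers t : Set G)) :
    f x ∈ centralizer (zpowers (f t) : Set G') := by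
  rw [← MonoidHom.map_zpowers]
  rintro _ ⟨q, hq, rfl⟩
  rw [← map_mul, ← map_mul, Subgroup.mem_centralizer_iff.mp hx q hq]

section Finite

variable [Finite G]

/-- An element of `h R(h)` fixed by `t`. -/
theorem exists_fixed_coset {t : G} {H : Subgroup G} {h : G} (hh : h ∈ H)
    (hN : zpowers t ≤ normalizer (H : Set G))
    (hcop : (Nat.card (zpowers t)).Coprime (Nat.card H)) :
    ∃ c ∈ H ⊓ centralizer (zpowers t : Set G), h⁻¹ * c ∈ R t h := by
  have hRH : R t h ≤ H := (R_le_comm hh).trans (comm_le hN)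
  obtain ⟨c, hc, hcR⟩ := Basics.exists_centralizer_mem_leftCoset (zpowers t) (R t h) R_normalized
    (hcop.coprime_dvd_right (card_dvd_of_le hRH)) (Or.inl inferInstance) h
    (fun a ha => by simpa [commutatorElement_def, mul_assoc] using gen_mem (h := h) ha)
  refine ⟨c, ⟨?_, hc⟩, hcR⟩
  simpa using mul_mem hh (hRH hcR)

/-- Fixed points lift to quotients. -/
theorem X_map_le {t : G} {H E : Subgroup G} [E.Normal]
    (hN : zpowers t ≤ normalizer (H : Set G))
    (hcop : (Nat.card (zpowers t)).Coprime (Nat.card H)) :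
    X (QuotientGroup.mk' E t) (H.map (QuotientGroup.mk' E)) ≤
      (X t H).map (QuotientGroup.mk' E) := by
  refine iSup₂_le ?_
  rintro _ ⟨h, hh, rfl⟩ _ hx
  rw [← R_map] at hx
  obtain ⟨⟨r, hr, rfl⟩, hrc⟩ := hx
  obtain ⟨c, hc, hcr⟩ := Basics.exists_inf_centralizer_mem_coset (zpowers t) (R t h) (R t h ⊓ E)
    inf_le_left (le_normalizer_of_conj_mem fun a ha b hb =>
      ⟨mul_mem (mul_mem ha hb.1) (Subgroup.inv_mem _ ha), Normal.conj_mem inferInstance b hb.2 a⟩)
    (le_normalizer_of_conj_mem fun a ha b hb =>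
      ⟨((Subgroup.mem_normalizer_iff (G := G)).mp (R_normalized ha) b).mp hb.1,
        Normal.conj_mem inferInstance b hb.2 a⟩)
    (hcop.coprime_dvd_right (card_dvd_of_le ((R_le_comm hh).trans (comm_le hN))))
    (Or.inl inferInstance) r hr (fun a ha => by
      refine ⟨mul_mem (((Subgroup.mem_normalizer_iff (G := G)).mp (R_normalized ha) r).mp hr)
        (Subgroup.inv_mem _ hr), (QuotientGroup.eq_one_iff _).mp ?_⟩
      have hm : QuotientGroup.mk' E a ∈ zpowers (QuotientGroup.mk' E t) := by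
        rw [← MonoidHom.map_zpowers]; exact ⟨a, ha, rfl⟩
      have := Subgroup.mem_centralizer_iff.mp hrc _ hm
      show QuotientGroup.mk' E (a * r * a⁻¹ * r⁻¹) = 1
      rw [map_mul, map_mul, map_mul, map_inv, map_inv, this, mul_inv_cancel_right, mul_inv_cancel])
  exact ⟨c, mem_X hh hc, (QuotientGroup.eq.mpr hcr.2).symm⟩

end Finite

variable (p : ℕ)

/-- The statement at order less than `n`. -/
def Below (n : ℕ) : Prop :=
  ∀ {L : Type u} [Group L] [Finite L] (H : Subgroup L) (t : L), Nat.card L < n →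
    Group.IsSolvable L → H.Normal → H ⊔ zpowers t = ⊤ → t ^ p = 1 → (Nat.card H).Coprime p →
    ⁅H, zpowers t⁆ ⊓ centralizer (zpowers t : Set L) ≤ X t H

/-- The standing hypotheses of the inductive step. -/
structure Ctx (H : Subgroup G) (t : G) : Prop where
  solv : Group.IsSolvable G
  normal : H.Normal
  top : H ⊔ zpowers t = ⊤
  pow : t ^ p = 1
  cop : (Nat.card H).Coprime p
  perf : ⁅H, zpowers t⁆ = H
  below : Below.{u} p (Nat.card G)

variable {p}
variable [Finite G] [hp : Fact p.Prime] {H : Subgroup G} {t : G}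

theorem card_zpowers_dvd (ht : t ^ p = 1) : Nat.card (zpowers t) ∣ p := by
  rw [Nat.card_zpowers]
  exact orderOf_dvd_of_pow_eq_one ht

theorem Ctx.copP (c : Ctx p H t) : (Nat.card (zpowers t)).Coprime (Nat.card H) :=
  (c.cop.coprime_dvd_right (card_zpowers_dvd c.pow)).symm

theorem Ctx.normP (c : Ctx p H t) : zpowers t ≤ normalizer (H : Set G) := by
  haveI := c.normal
  exact le_normalizer_of_normal

theorem Ctx.inf_P (c : Ctx p H t) : H ⊓ zpowers t = ⊥ :=
  (Subgroup.disjoint_of_coprime_natCard c.copP.symm).eq_bot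

theorem Ctx.copA (c : Ctx p H t) {A : Subgroup G} (hA : A ≤ H) :
    (Nat.card (zpowers t)).Coprime (Nat.card A) :=
  c.copP.coprime_dvd_right (card_dvd_of_le hA)

/-- A subgroup normalised by `H` and by `t` is normal. -/
theorem Ctx.mk_normal (c : Ctx p H t) {E : Subgroup G} (h1 : H ≤ normalizer (E : Set G))
    (h2 : zpowers t ≤ normalizer (E : Set G)) : E.Normal := by
  rw [← normalizer_eq_top_iff, eq_top_iff, ← c.top]
  exact sup_le h1 h2

/-- Proper invariant subgroups are covered. -/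
theorem Ctx.covered (c : Ctx p H t) {A : Subgroup G} (hA : A ≤ H) (hne : A ≠ H)
    (hN : zpowers t ≤ normalizer (A : Set G)) :
    ⁅A, zpowers t⁆ ⊓ centralizer (zpowers t : Set G) ≤ X t H := by
  refine le_trans ?_ (X_mono hA)
  set L := A ⊔ zpowers t with hLdef
  have hAL : A ≤ L := le_sup_left
  have htL : t ∈ L := Subgroup.mem_sup_right (mem_zpowers t)
  have hLlt : Nat.card L < Nat.card G := by
    refine Basics.card_lt_card_of_ne_top fun h => hne (le_antisymm hA fun x hx => ?_)
    have hxL : x ∈ L := h ▸ mem_top x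
    obtain ⟨a, ha, q, hq, rfl⟩ := (Basics.mem_sup_of_le_normalizer hN).mp hxL
    have : q ∈ H ⊓ zpowers t := ⟨by simpa using mul_mem (Subgroup.inv_mem _ (hA ha)) hx, hq⟩
    rw [c.inf_P, Subgroup.mem_bot] at this
    simpa [this] using ha
  set t' : L := ⟨t, htL⟩
  have hzp : (zpowers t').map L.subtype = zpowers t := MonoidHom.map_zpowers _ _
  have hA' : (A.subgroupOf L).map L.subtype = A := map_subgroupOf_eq_of_le hAL
  haveI := c.solv
  have key := c.below (A.subgroupOf L) t' hLlt inferInstance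
    ((normal_subgroupOf_iff_le_normalizer hAL).mpr (sup_le le_normalizer hN))
    (by
      apply Subgroup.map_injective L.subtype_injective
      rw [Subgroup.map_sup, hA', hzp, ← MonoidHom.range_eq_map, range_subtype])
    (Subtype.ext c.pow)
    (by rw [Basics.card_subgroupOf hAL]; exact c.cop.coprime_dvd_left (card_dvd_of_le hA))
  intro x hx
  have hx1 : x ∈ (⁅A.subgroupOf L, zpowers t'⁆).map L.subtype := by
    rw [Subgroup.map_commutator, hA', hzp]; exact hx.1
  obtain ⟨y, hy, rfl⟩ := hx1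
  have hyc : y ∈ centralizer (zpowers t' : Set L) := by
    intro q hq
    exact Subtype.ext (Subgroup.mem_centralizer_iff.mp hx.2 _
      (hzp ▸ Subgroup.mem_map_of_mem L.subtype hq))
  suffices X t' (A.subgroupOf L) ≤ (X t A).comap L.subtype from this (key ⟨hy, hyc⟩)
  refine iSup₂_le fun h hh z hz => ?_
  refine mem_X (t := t) (h := (h : G)) hh ⟨?_, map_centralizer_zpowers L.subtype hz.2⟩
  have := Subgroup.mem_map_of_mem L.subtype hz.1
  rwa [R_map] at this

/-- Fixed points are covered modulo any normal subgroup. -/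
theorem Ctx.reduce (c : Ctx p H t) {E : Subgroup G} [E.Normal] (hE : E ≤ H) (hE1 : E ≠ ⊥)
    (hEX : E ⊓ centralizer (zpowers t : Set G) ≤ X t H ⊔ (E ⊓ centralizer (zpowers t : Set G)))
    : H ⊓ centralizer (zpowers t : Set G) ≤ X t H ⊔ (E ⊓ centralizer (zpowers t : Set G)) := by
  set f := QuotientGroup.mk' E with hf
  haveI := c.solv
  haveI := c.normal
  have key := c.below (H.map f) (f t) (Basics.card_quotient_lt hE1) inferInstance
    (Subgroup.Normal.map inferInstance f (QuotientGroup.mk'_surjective E))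
    (by rw [← MonoidHom.map_zpowers, ← Subgroup.map_sup, c.top,
      Subgroup.map_top_of_surjective f (QuotientGroup.mk'_surjective E)])
    (by rw [← map_pow, c.pow, map_one])
    (c.cop.coprime_dvd_left (Subgroup.card_map_dvd _ f))
  intro x hx
  have h1 : f x ∈ (X t H).map f := by
    refine X_map_le c.normP c.copP (key ⟨?_, map_centralizer_zpowers f hx.2⟩)
    rw [← MonoidHom.map_zpowers, ← Subgroup.map_commutator, c.perf]
    exact Subgroup.mem_map_of_mem f hx.1
  obtain ⟨a, ha, hax⟩ := h1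
  have ha' := X_le c.normP ha
  have : a⁻¹ * x ∈ E ⊓ centralizer (zpowers t : Set G) :=
    ⟨QuotientGroup.eq.mp hax, mul_mem (Subgroup.inv_mem _ ha'.2) hx.2⟩
  simpa using mul_mem (Subgroup.mem_sup_left ha) (Subgroup.mem_sup_right this)

theorem Ctx.reduce' (c : Ctx p H t) {E : Subgroup G} (hn : E.Normal) (hE : E ≤ H) (hE1 : E ≠ ⊥)
    (hEX : E ⊓ centralizer (zpowers t : Set G) ≤ X t H) :
    H ⊓ centralizer (zpowers t : Set G) ≤ X t H :=
  haveI := hn
  (c.reduce hE hE1 le_sup_right).trans (sup_le le_rfl hEX)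

theorem Ctx.abelian_fixed (c : Ctx p H t) {V : Subgroup G} [IsMulCommutative V] (hV : V ≤ H)
    (hN : zpowers t ≤ normalizer (V : Set G)) :
    ⁅V, zpowers t⁆ ⊓ centralizer (zpowers t : Set G) = ⊥ := by
  rw [eq_bot_iff]
  intro x hx
  have : x ∈ (V ⊓ centralizer (zpowers t : Set G)) ⊓ ⁅V, zpowers t⁆ :=
    ⟨⟨comm_le hN hx.1, hx.2⟩, hx.1⟩
  rwa [Basics.inf_centralizer_inf_commutator_eq_bot _ _ hN (c.copA hV)] at this

/-- A fixed element whose commutators with `H` are central and fixed is central. -/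
theorem Ctx.fixed_central (c : Ctx p H t) {a : G} (haC : a ∈ centralizer (zpowers t : Set G))
    (hac : ∀ h ∈ H, ⁅a, h⁆ ∈ center G) : a ∈ centralizer (H : Set G) := by
  have hmul : ∀ x ∈ H, ∀ y ∈ H, ⁅a, x * y⁆ = ⁅a, x⁆ * ⁅a, y⁆ := by
    intro x hx y hy
    have hy' := Subgroup.mem_center_iff.mp (hac y hy) x
    calc ⁅a, x * y⁆ = ⁅a, x⁆ * (x * ⁅a, y⁆ * x⁻¹) := by simp only [commutatorElement_def]; group
      _ = ⁅a, x⁆ * ⁅a, y⁆ := by rw [hy', mul_inv_cancel_right]
  have hle : ⁅H, zpowers t⁆ ≤ centralizer ({a} : Set G) := by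
    refine commutator_le.mpr fun h hh q hq => ?_
    have hqa : q * a = a * q := Subgroup.mem_centralizer_iff.mp haC q hq
    have hqh : q * h⁻¹ * q⁻¹ ∈ H := c.normal.conj_mem _ (Subgroup.inv_mem _ hh) q
    have h1 : ⁅a, q * h⁻¹ * q⁻¹⁆ = ⁅a, h⁻¹⁆ := by
      have hq' : q⁻¹ * a * q = a := by rw [mul_assoc, ← hqa]; group
      calc ⁅a, q * h⁻¹ * q⁻¹⁆ = q * ⁅q⁻¹ * a * q, h⁻¹⁆ * q⁻¹ := by
            simp only [commutatorElement_def]; group
        _ = q * ⁅a, h⁻¹⁆ * q⁻¹ := by rw [hq']
        _ = ⁅a, h⁻¹⁆ := by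
            rw [Subgroup.mem_center_iff.mp (hac _ (Subgroup.inv_mem _ hh)) q, mul_inv_cancel_right]
    have h2 : ⁅a, ⁅h, q⁆⁆ = 1 := by
      have : ⁅h, q⁆ = h * (q * h⁻¹ * q⁻¹) := by simp only [commutatorElement_def]; group
      rw [this, hmul h hh _ hqh, h1, ← hmul h hh _ (Subgroup.inv_mem _ hh), mul_inv_cancel,
        commutatorElement_one_right]
    rw [Subgroup.mem_centralizer_iff]
    rintro _ rfl
    exact commutatorElement_eq_one_iff_mul_comm.mp h2
  rw [c.perf] at hle
  rw [Subgroup.mem_centralizer_iff]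
  intro h hh
  exact (Subgroup.mem_centralizer_iff.mp (hle hh) a rfl).symm

/-- An `r`-group `H` all of whose proper invariant subgroups are covered. -/
theorem Ctx.pgroup_case (c : Ctx p H t) (hp2 : p ≠ 2) {r : ℕ} [Fact r.Prime] (hH : IsPGroup r H)
    (hH1 : H ≠ ⊥) (hZC : H ⊓ centralizer (H : Set G) ≤ center G)
    (hXZ : X t H ⊓ (H ⊓ centralizer (H : Set G)) = ⊥) :
    H ⊓ centralizer (zpowers t : Set G) ≤ X t H := by
  set P := zpowers t with hP
  set Z := H ⊓ centralizer (H : Set G) with hZ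
  by_cases hex : ∃ h ∈ H, R t h = H
  · obtain ⟨h, hh, e⟩ := hex
    exact le_trans (le_of_eq (by rw [e])) (mem_X hh)
  push_neg at hex
  exfalso
  haveI := c.normal
  haveI : Group.IsNilpotent H := hH.isNilpotent
  have hcen : ∀ {a : G}, a ∈ H → a ∈ centralizer (P : Set G) → (∀ h ∈ H, ⁅a, h⁆ ∈ Z) → a ∈ Z :=
    fun ha hC hac => ⟨ha, c.fixed_central hC fun h hh => hZC (hac h hh)⟩
  by_cases hcl : ⁅H, H⁆ ≤ Z
  · -- class two
    have hc : ∀ a ∈ H, ∀ b ∈ H, ∀ g : G, g * ⁅a, b⁆ = ⁅a, b⁆ * g := fun a ha b hb =>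
      Subgroup.mem_center_iff.mp (hZC (hcl (commutator_mem_commutator ha hb)))
    have hl : ∀ a ∈ H, ∀ b ∈ H, ∀ d ∈ H, ⁅a * b, d⁆ = ⁅a, d⁆ * ⁅b, d⁆ := by
      intro a ha b hb d hd
      calc ⁅a * b, d⁆ = a * ⁅b, d⁆ * a⁻¹ * ⁅a, d⁆ := by simp only [commutatorElement_def]; group
        _ = ⁅b, d⁆ * ⁅a, d⁆ := by rw [hc b hb d hd a, mul_inv_cancel_right]
        _ = ⁅a, d⁆ * ⁅b, d⁆ := (hc b hb d hd _).symm
    have hr : ∀ a ∈ H, ∀ b ∈ H, ∀ d ∈ H, ⁅a, b * d⁆ = ⁅a, b⁆ * ⁅a, d⁆ := by
      intro a ha b hb d hd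
      calc ⁅a, b * d⁆ = ⁅a, b⁆ * (b * ⁅a, d⁆ * b⁻¹) := by simp only [commutatorElement_def]; group
        _ = ⁅a, b⁆ * ⁅a, d⁆ := by rw [hc a ha d hd b, mul_inv_cancel_right]
    have hconj : ∀ a ∈ H, t * a * t⁻¹ ∈ H := fun a ha => c.normal.conj_mem a ha t
    have hconj' : ∀ a ∈ H, t⁻¹ * a * t ∈ H := fun a ha => by
      simpa using c.normal.conj_mem a ha t⁻¹
    have hsq : ∀ h ∈ H, ⁅h, t * h * t⁻¹⁆ = 1 := by
      intro h hh
      obtain ⟨a, ha, haR⟩ := exists_fixed_coset hh c.normP c.copP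
      have haZ : a ∈ Z := hcen ha.1 ha.2 fun x hx => hcl (commutator_mem_commutator ha.1 hx)
      set e := h⁻¹ * a with he
      have heH : e ∈ H := mul_mem (Subgroup.inv_mem _ hh) ha.1
      have hae : h = a * e⁻¹ := by
        have := Subgroup.mem_center_iff.mp (hZC haZ) h
        rw [he, mul_inv_rev, inv_inv, ← mul_assoc, mul_inv_cancel, one_mul]
      have hta : t * a * t⁻¹ = a := by
        rw [Subgroup.mem_centralizer_iff.mp ha.2 t (mem_zpowers t), mul_inv_cancel_right]
      have hz1 : ∀ y : G, ⁅a, y⁆ = 1 := fun y =>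
        commutatorElement_eq_one_iff_mul_comm.mpr (Subgroup.mem_center_iff.mp (hZC haZ) y).symm
      have hz2 : ∀ y : G, ⁅y, a⁆ = 1 := fun y => by
        rw [← commutatorElement_inv, hz1, inv_one]
      have hth : t * h * t⁻¹ = a * (t * e⁻¹ * t⁻¹) := by
        conv_lhs => rw [hae]
        calc t * (a * e⁻¹) * t⁻¹ = (t * a * t⁻¹) * (t * e⁻¹ * t⁻¹) := by group
          _ = a * (t * e⁻¹ * t⁻¹) := by rw [hta]
      have h3 : ⁅h, t * h * t⁻¹⁆ = ⁅e⁻¹, t * e⁻¹ * t⁻¹⁆ := by
        rw [hth, hae, hl a ha.1 _ (Subgroup.inv_mem _ heH) _ (mul_mem ha.1 (hconj _ (Subgroup.inv_mem _ heH))), hz1,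
          one_mul, hr _ (Subgroup.inv_mem _ heH) a ha.1 _ (hconj _ (Subgroup.inv_mem _ heH)), hz2, one_mul]
      have hR : ⁅e⁻¹, t * e⁻¹ * t⁻¹⁆ ∈ R t h := by
        have h4 : e⁻¹ ∈ R t h := Subgroup.inv_mem _ haR
        have h5 : t * e⁻¹ * t⁻¹ ∈ R t h :=
          ((Subgroup.mem_normalizer_iff (G := G)).mp (R_normalized (mem_zpowers t)) _).mp h4
        rw [commutatorElement_def]
        exact mul_mem (mul_mem (mul_mem h4 h5) (Subgroup.inv_mem _ h4)) (Subgroup.inv_mem _ h5)
      have hZ' : ⁅h, t * h * t⁻¹⁆ ∈ Z := hcl (commutator_mem_commutator hh (hconj h hh))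
      have hX : ⁅h, t * h * t⁻¹⁆ ∈ X t H := by
        refine mem_X hh ⟨h3 ▸ hR, Subgroup.mem_centralizer_iff.mpr fun q _ => ?_⟩
        exact Subgroup.mem_center_iff.mp (hZC hZ') q
      have : ⁅h, t * h * t⁻¹⁆ ∈ X t H ⊓ Z := ⟨hX, hZ'⟩
      rwa [hXZ, Subgroup.mem_bot] at this
    have hpol : ∀ a ∈ H, ∀ b ∈ H, ⁅a, t * b * t⁻¹⁆ = ⁅a, t⁻¹ * b * t⁆ := by
      intro a ha b hb
      have ha' := hconj a ha
      have hb' := hconj b hb
      have e : t * (a * b) * t⁻¹ = (t * a * t⁻¹) * (t * b * t⁻¹) := by group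
      have h1 := hsq (a * b) (mul_mem ha hb)
      rw [e, hl a ha b hb _ (mul_mem ha' hb'), hr a ha _ ha' _ hb', hr b hb _ ha' _ hb',
        hsq a ha, hsq b hb, one_mul, mul_one] at h1
      have h2 : ⁅a, t * b * t⁻¹⁆ = ⁅t * a * t⁻¹, b⁆ := by
        rw [← commutatorElement_inv b]; exact eq_inv_of_mul_eq_one_left h1
      have h3 : t * ⁅a, t⁻¹ * b * t⁆ * t⁻¹ = ⁅t * a * t⁻¹, b⁆ := by
        simp only [commutatorElement_def]; group
      rw [h2, ← h3, hc a ha _ (hconj' b hb) t, mul_inv_cancel_right]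
    have hZ2 : ∀ d ∈ H, ⁅t ^ 2, d⁆ ∈ Z := by
      intro d hd
      have hb := hconj d hd
      have hy : t * (t * d * t⁻¹) * t⁻¹ ∈ H := hconj _ hb
      refine ⟨?_, Subgroup.mem_centralizer_iff.mpr fun a ha => ?_⟩
      · rw [commutatorElement_def]; exact mul_mem (c.normal.conj_mem d hd _) (Subgroup.inv_mem _ hd)
      · have h1 := hpol a ha _ hb
        have h2 : t⁻¹ * (t * d * t⁻¹) * t = d := by group
        rw [h2] at h1
        have h3 : ⁅a, d⁻¹⁆ * ⁅a, d⁆ = 1 := by
          rw [← hr a ha _ (Subgroup.inv_mem _ hd) _ hd, inv_mul_cancel, commutatorElement_one_right]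
        have h4 : ⁅t ^ 2, d⁆ = (t * (t * d * t⁻¹) * t⁻¹) * d⁻¹ := by
          simp only [commutatorElement_def, pow_two]; group
        rw [h4]
        refine commutatorElement_eq_one_iff_mul_comm.mp ?_
        rw [hr a ha _ hy _ (Subgroup.inv_mem _ hd), h1]
        calc ⁅a, d⁆ * ⁅a, d⁻¹⁆ = ⁅a, d⁻¹⁆ * ⁅a, d⁆ := hc a ha _ (Subgroup.inv_mem _ hd) _
          _ = 1 := h3
    have hpow : ∀ n : ℕ, ∀ d ∈ H, ⁅(t ^ 2) ^ n, d⁆ ∈ Z := by
      intro n
      induction n with
      | zero => intro d hd; rw [pow_zero, commutatorElement_one_left]; exact one_mem Z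
      | succ n ih =>
        intro d hd
        have h1 := ih d hd
        have h2 := hZ2 d hd
        have e : ⁅(t ^ 2) ^ (n + 1), d⁆ = t ^ 2 * ⁅(t ^ 2) ^ n, d⁆ * (t ^ 2)⁻¹ * ⁅t ^ 2, d⁆ := by
          rw [pow_succ']; simp only [commutatorElement_def]; group
        rw [e, Subgroup.mem_center_iff.mp (hZC h1) (t ^ 2), mul_inv_cancel_right]
        exact mul_mem h1 h2
    have hodd : Odd p := hp.out.odd_of_ne_two hp2
    have hHZ : H ≤ Z := by
      rw [← c.perf, Subgroup.commutator_comm, commutator_le]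
      intro q hq d hd
      obtain ⟨n, rfl⟩ := (Submonoid.mem_powers_iff _ _).mp (mem_powers_iff_mem_zpowers.mpr hq)
      obtain ⟨k, hk⟩ := hodd
      have : t = (t ^ 2) ^ (k + 1) := by
        rw [← pow_mul, show 2 * (k + 1) = p + 1 by omega, pow_succ, c.pow, one_mul]
      rw [this, ← pow_mul]
      exact hpow _ d hd
    have hab : IsMulCommutative H :=
      ⟨⟨fun a b => Subtype.ext (Subgroup.mem_centralizer_iff.mp (hHZ b.2).2 a a.2)⟩⟩
    have h0 := c.abelian_fixed le_rfl c.normP
    rw [c.perf] at h0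
    refine hH1 (le_bot_iff.mp (le_trans ?_ h0.le))
    refine le_inf le_rfl fun x hx => Subgroup.mem_centralizer_iff.mpr fun q _ => ?_
    exact Subgroup.mem_center_iff.mp (hZC (hHZ hx)) q
  · -- higher class
    obtain ⟨m, hm⟩ := (Subgroup.isNilpotent_iff_lowerCentralSeries (S := H)).mp inferInstance
    classical
    have hex' : ∃ n, H.lowerCentralSeries (n + 1) ≤ Z := ⟨m, le_trans
      (H.lowerCentralSeries_antitone (Nat.le_succ m)) (by rw [hm]; exact bot_le)⟩
    obtain ⟨k, hk⟩ : ∃ k, Nat.find hex' = k + 1 := Nat.exists_eq_succ_of_ne_zero fun h0 => by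
      have := Nat.find_spec hex'
      rw [h0] at this
      exact hcl this
    set D := H.lowerCentralSeries (k + 1) with hD
    have hDZ : ¬ D ≤ Z := Nat.find_min hex' (by omega)
    have hDH : ⁅D, H⁆ ≤ Z := by
      have := Nat.find_spec hex'
      rwa [hk, Subgroup.lowerCentralSeries_succ] at this
    have hD' : D ≤ ⁅H, H⁆ := H.lowerCentralSeries_antitone (Nat.le_add_left 1 k)
    have hDH' : D ≤ H := H.lowerCentralSeries_antitone (Nat.zero_le (k + 1))
    haveI : D.Normal := inferInstanceAs (H.lowerCentralSeries (k + 1)).Normal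
    have hDP : P ≤ normalizer (D : Set G) := le_normalizer_of_normal
    have hUZ : ⁅D, P⁆ ≤ Z := by
      intro u hu
      refine ⟨hDH' (comm_le hDP hu), ?_⟩
      suffices H ≤ centralizer ({u} : Set G) by
        exact Subgroup.mem_centralizer_iff.mpr fun h hh =>
          (Subgroup.mem_centralizer_iff.mp (this hh) u rfl).symm
      refine le_trans c.perf.ge ?_
      rw [comm_eq_iSup]
      refine iSup₂_le fun h hh e he => ?_
      set M := D ⊔ R t h with hMdef
      have hRH : R t h ≤ H := (R_le_comm hh).trans (comm_le c.normP)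
      have hMH : M ≤ H := sup_le hDH' hRH
      have hMne : M ≠ H := by
        intro hM
        refine hex h hh (le_antisymm hRH ?_)
        have h1 : (R t h).subgroupOf H ⊔ frattini H = ⊤ := by
          apply Subgroup.map_injective H.subtype_injective
          rw [Subgroup.map_sup, map_subgroupOf_eq_of_le hRH, ← MonoidHom.range_eq_map,
            range_subtype]
          refine le_antisymm (sup_le hRH (map_subtype_le _)) ?_
          refine hM.symm.le.trans (sup_le (le_trans hD' ?_) le_sup_left)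
          refine le_trans ?_ le_sup_right
          rw [← Subgroup.map_subtype_commutator]
          exact Subgroup.map_mono Basics.commutator_le_frattini
        exact Subgroup.subgroupOf_eq_top.mp (frattini_nongenerating h1)
      have hMP : P ≤ normalizer (M : Set G) :=
        (le_inf hDP R_normalized).trans (Subgroup.normalizer_inf_normalizer_le_normalizer_sup _ _)
      have huM : u ∈ ⁅M, P⁆ := Subgroup.commutator_mono le_sup_left le_rfl hu
      have heM : e ∈ M := Subgroup.mem_sup_right he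
      have h1 : ⁅u, e⁆ ∈ ⁅M, P⁆ := by
        have hn := Subgroup.normalizer_commutator_ge_left M P heM
        have := ((Subgroup.mem_normalizer_iff (G := G)).mp hn u⁻¹).mp (Subgroup.inv_mem _ huM)
        rw [commutatorElement_def, mul_assoc, mul_assoc]
        exact mul_mem huM (by simpa [mul_assoc] using this)
      have h2 : ⁅u, e⁆ ∈ Z := hDH (commutator_mem_commutator (comm_le hDP hu) (hRH he))
      have h3 : ⁅u, e⁆ ∈ X t H ⊓ Z := ⟨c.covered hMH hMne hMP ⟨h1,
        Subgroup.mem_centralizer_iff.mpr fun q _ => Subgroup.mem_center_iff.mp (hZC h2) q⟩, h2⟩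
      rw [hXZ, Subgroup.mem_bot] at h3
      rw [Subgroup.mem_centralizer_iff]
      rintro _ rfl
      exact commutatorElement_eq_one_iff_mul_comm.mp h3
    apply hDZ
    rw [← Basics.commutator_sup_inf_centralizer P D hDP (c.copA hDH') (Or.inl inferInstance)]
    refine sup_le hUZ fun a ha => hcen (hDH' ha.1) ha.2 fun h hh => ?_
    exact hDH (commutator_mem_commutator ha.1 hh)

theorem Ctx.not_dvd_index (c : Ctx p H t) {r : ℕ} [Fact r.Prime] (hr : r ∣ Nat.card H)
    {S : Subgroup G} (hS : Basics.IsSylowIn r H S) : ¬ r ∣ S.index := by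
  intro hd
  haveI := c.normal
  have hG : Nat.card G = Nat.card H * Nat.card (zpowers t) := by
    rw [← Basics.card_sup_of_coprime (N := H) (H := zpowers t) c.normP c.copP.symm, c.top,
      Subgroup.card_top]
  have h1 : r ^ ((Nat.card H).factorization r + 1) ∣ Nat.card H * Nat.card (zpowers t) := by
    rw [← hG, ← S.card_mul_index, hS.2, pow_succ]
    exact mul_dvd_mul_left _ hd
  have hr' : ¬ r ∣ Nat.card (zpowers t) := fun h =>
    (Fact.out : r.Prime).one_lt.ne' (Nat.eq_one_of_dvd_coprimes c.copP h hr)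
  have h2 := (Nat.Coprime.pow_left _ ((Nat.Prime.coprime_iff_not_dvd Fact.out).mpr hr')).dvd_of_dvd_mul_right h1
  have := (Nat.Prime.pow_dvd_iff_le_factorization Fact.out Nat.card_pos.ne').mp h2
  omega

/-- The case of a nontrivial centre. -/
theorem Ctx.center_case (c : Ctx p H t) (hp2 : p ≠ 2)
    (hZ1 : H ⊓ centralizer (H : Set G) ≠ ⊥) :
    H ⊓ centralizer (zpowers t : Set G) ≤ X t H := by
  set P := zpowers t with hP
  set Z := H ⊓ centralizer (H : Set G) with hZ
  haveI := c.normal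
  haveI : Z.Normal := Subgroup.normal_inf_normal _ _
  have hZH : Z ≤ H := inf_le_left
  haveI : IsMulCommutative Z :=
    ⟨⟨fun a b => Subtype.ext (Subgroup.mem_centralizer_iff.mp b.2.2 a a.2.1)⟩⟩
  have hZP : P ≤ normalizer (Z : Set G) := le_normalizer_of_normal
  by_cases hZc : ⁅Z, P⁆ = ⊥
  swap
  · have hle := comm_le hZP
    refine c.reduce' (c.mk_normal (le_normalizer_of_conj_mem fun a ha b hb => ?_)
      (Subgroup.normalizer_commutator_ge_right _ _)) (hle.trans hZH) hZc
      ((c.abelian_fixed hZH hZP).le.trans bot_le)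
    rwa [Subgroup.mem_centralizer_iff.mp (hle hb).2 a ha, mul_inv_cancel_right]
  have hZP' : Z ≤ centralizer (P : Set G) := Subgroup.commutator_eq_bot_iff_le_centralizer.mp hZc
  have hZC : Z ≤ center G := by
    intro z hz
    rw [Subgroup.mem_center_iff]
    intro g
    have hg : g ∈ H ⊔ P := c.top ▸ mem_top g
    suffices H ⊔ P ≤ centralizer ({z} : Set G) from
      (Subgroup.mem_centralizer_iff.mp (this hg) z rfl).symm
    refine sup_le (fun h hh => ?_) (fun q hq => ?_)
    · rw [Subgroup.mem_centralizer_iff]; rintro _ rfl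
      exact (Subgroup.mem_centralizer_iff.mp hz.2 h hh).symm
    · rw [Subgroup.mem_centralizer_iff]; rintro _ rfl
      exact (Subgroup.mem_centralizer_iff.mp (hZP' hz) q hq).symm
  by_cases hXZ : X t H ⊓ Z = ⊥
  swap
  · exact c.reduce' (normal_of_le_center (inf_le_right.trans hZC))
      (inf_le_right.trans hZH) hXZ (inf_le_left.trans inf_le_left)
  obtain ⟨r, hr, hrd⟩ := Nat.exists_prime_and_dvd
    (fun h => hZ1 (Subgroup.card_eq_one.mp h) : Nat.card Z ≠ 1)
  haveI := Fact.mk hr
  obtain ⟨⟨n, hnZ⟩, hn⟩ := exists_prime_orderOf_dvd_card' (G := Z) r hrd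
  rw [Subgroup.orderOf_mk] at hn
  have hn1 : n ≠ 1 := fun h => hr.one_lt.ne (by rw [← hn, h, orderOf_one])
  suffices hnX : n ∈ X t H by
    have : n ∈ X t H ⊓ Z := ⟨hnX, hnZ⟩
    rw [hXZ, Subgroup.mem_bot] at this
    exact absurd this hn1
  set N := zpowers n with hN
  have hNZ : N ≤ Z := by rwa [hN, zpowers_le]
  have hNc : N ≤ center G := hNZ.trans hZC
  haveI : N.Normal := normal_of_le_center hNc
  have hN1 : N ≠ ⊥ := by rwa [hN, Ne, zpowers_eq_bot]
  have hC : H ⊓ centralizer (P : Set G) ≤ X t H ⊔ N :=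
    (c.reduce (hNZ.trans hZH) hN1 le_sup_right).trans (sup_le_sup_left inf_le_left _)
  have hNr : IsPGroup r N := IsPGroup.of_card (n := 1) (by rw [Nat.card_zpowers, hn, pow_one])
  obtain ⟨S, hS, hNS, hPS⟩ := Basics.exists_invariant_isSylowIn_ge P H c.normP c.copP
    (Or.inl inferInstance) r N (hNZ.trans hZH) hNr le_normalizer_of_normal
  by_cases hSH : S = H
  · exact c.pgroup_case hp2 (hSH ▸ hS.isPGroup) (ne_bot_of_le_ne_bot hZ1 hZH) hZC hXZ
      ⟨hZH hnZ, hZP' hnZ⟩
  have hSC : S ⊓ centralizer (P : Set G) ≤ (X t H ⊓ S) ⊔ N := by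
    intro s hs
    obtain ⟨a, ha, m, hm, rfl⟩ := (Basics.mem_sup_of_le_normalizer' (N := N) (H := X t H)
      le_normalizer_of_normal).mp (sup_comm (X t H) N ▸ hC ⟨hS.1 hs.1, hs.2⟩)
    refine Subgroup.mul_mem_sup ⟨ha, ?_⟩ hm
    simpa using mul_mem hs.1 (Subgroup.inv_mem _ (hNS hm))
  set D := ⁅S, P⁆ with hD
  set M := D ⊔ (X t H ⊓ S) with hM
  have hDS : D ≤ S := comm_le hPS
  have hMS : M ≤ S := sup_le hDS inf_le_right
  have hPM : P ≤ normalizer (M : Set G) := by
    refine (le_inf (Subgroup.normalizer_commutator_ge_right _ _)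
      (le_normalizer_of_conj_mem fun a ha b hb => ?_)).trans (Subgroup.normalizer_inf_normalizer_le_normalizer_sup _ _)
    rwa [Subgroup.mem_centralizer_iff.mp (X_le c.normP hb.1).2 a ha, mul_inv_cancel_right]
  set K := S ⊔ P with hK
  have hnK : ∀ k, n ^ k ∈ K := fun k => Subgroup.mem_sup_left (hNS (pow_mem (mem_zpowers n) k))
  haveI : K.FiniteIndex := Subgroup.finiteIndex_of_finite
  have hkey : ∀ (k : ℕ) (g₀ : G), g₀⁻¹ * n ^ k * g₀ ∈ K → g₀⁻¹ * n ^ k * g₀ = n ^ k := by
    intro k g₀ _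
    have := Subgroup.mem_center_iff.mp (hZC (pow_mem hnZ k)) g₀
    rw [mul_assoc, ← this, inv_mul_cancel_left]
  have hτ : MonoidHom.transfer (Abelianization.of : K →* Abelianization K) n = 1 := by
    have h1 : H ≤ (MonoidHom.transfer (Abelianization.of : K →* Abelianization K)).ker :=
      c.perf.symm.le.trans ((Subgroup.commutator_mono le_top le_top).trans
        (Abelianization.commutator_subset_ker _))
    exact h1 (hZH hnZ)
  rw [MonoidHom.transfer_eq_pow _ n hkey] at hτ
  have h2 : n ^ K.index ∈ ⁅K, K⁆ := by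
    have h3 : (⟨n ^ K.index, hnK _⟩ : K) ∈ commutator K := by
      rw [← Abelianization.ker_of]; exact hτ
    rw [← Subgroup.map_subtype_commutator]
    exact ⟨_, h3, rfl⟩
  have hKle : K ≤ N ⊔ (M ⊔ P) := by
    refine sup_le ?_ (le_sup_right.trans le_sup_right)
    rw [← Basics.commutator_sup_inf_centralizer P S hPS (c.copA hS.1) (Or.inl inferInstance)]
    refine sup_le (le_sup_left.trans (le_sup_left.trans le_sup_right)) (hSC.trans (sup_le ?_ le_sup_left))
    exact le_sup_right.trans (le_sup_left.trans le_sup_right)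
  have h4 : ⁅K, K⁆ ≤ M ⊔ P := by
    refine (Subgroup.commutator_mono hKle hKle).trans (commutator_le.mpr ?_)
    intro x hx y hy
    obtain ⟨n1, hn1', a, ha, rfl⟩ :=
      (Basics.mem_sup_of_le_normalizer (N := N) le_normalizer_of_normal).mp hx
    obtain ⟨n2, hn2', b, hb, rfl⟩ :=
      (Basics.mem_sup_of_le_normalizer (N := N) le_normalizer_of_normal).mp hy
    have e1 := Subgroup.mem_center_iff.mp (hNc hn1')
    have e2 := Subgroup.mem_center_iff.mp (hNc hn2')
    have : ⁅n1 * a, n2 * b⁆ = ⁅a, b⁆ := by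
      rw [commutatorElement_def, commutatorElement_def, mul_inv_rev, mul_inv_rev]
      calc n1 * a * (n2 * b) * (a⁻¹ * n1⁻¹) * (b⁻¹ * n2⁻¹)
          = n1 * (a * n2) * b * a⁻¹ * (n1⁻¹ * b⁻¹) * n2⁻¹ := by group
        _ = n1 * (n2 * a) * b * a⁻¹ * (b⁻¹ * n1⁻¹) * n2⁻¹ := by
            rw [e2 a, show n1⁻¹ * b⁻¹ = b⁻¹ * n1⁻¹ from
              (Subgroup.mem_center_iff.mp (Subgroup.inv_mem _ (hNc hn1')) b⁻¹).symm]
        _ = (n1 * n2) * (a * b * a⁻¹ * b⁻¹) * (n2 * n1)⁻¹ := by group
        _ = a * b * a⁻¹ * b⁻¹ := by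
            rw [e2 n1, ← Subgroup.mem_center_iff.mp (mul_mem (hNc hn2') (hNc hn1')),
              mul_inv_cancel_right]
    rw [this, commutatorElement_def]
    exact mul_mem (mul_mem (mul_mem ha hb) (Subgroup.inv_mem _ ha)) (Subgroup.inv_mem _ hb)
  have h5 : n ^ K.index ∈ M := by
    obtain ⟨a, ha, q, hq, e⟩ := (Basics.mem_sup_of_le_normalizer hPM).mp (h4 h2)
    have : q ∈ H ⊓ P := ⟨by
      have : q = a⁻¹ * n ^ K.index := by rw [e]; group
      rw [this]; exact mul_mem (Subgroup.inv_mem _ (hS.1 (hMS ha))) (pow_mem (hZH hnZ) _), hq⟩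
    rw [c.inf_P, Subgroup.mem_bot] at this
    rwa [e, this, mul_one]
  have hidx : ¬ r ∣ K.index := fun h => c.not_dvd_index
    (hrd.trans (card_dvd_of_le hZH)) hS (h.trans (Subgroup.index_dvd_of_le le_sup_left))
  obtain ⟨j, hj⟩ := exists_pow_eq_self_of_coprime (x := n) (n := K.index)
    (by rw [hn]; exact ((Nat.Prime.coprime_iff_not_dvd hr).mpr hidx).symm)
  have hnM : n ∈ M := hj ▸ pow_mem h5 j
  obtain ⟨d, hd, a, ha, e⟩ := (Basics.mem_sup_of_le_normalizer (N := D) (H := X t H ⊓ S)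
    (inf_le_right.trans (Subgroup.normalizer_commutator_ge_left _ _))).mp hnM
  have hdC : d ∈ centralizer (P : Set G) := by
    have : d = n * a⁻¹ := by rw [e]; group
    rw [this]; exact mul_mem (hZP' hnZ) (Subgroup.inv_mem _ (X_le c.normP ha.1).2)
  rw [e]
  exact mul_mem (c.covered hS.1 hSH hPS ⟨hd, hdC⟩) ha.1

/-- The case of a trivial centre. -/
theorem Ctx.centerless_case (c : Ctx p H t) (hp2 : p ≠ 2)
    (hZ : H ⊓ centralizer (H : Set G) = ⊥) :
    H ⊓ centralizer (zpowers t : Set G) ≤ X t H := by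
  set P := zpowers t with hP
  haveI := c.solv
  haveI := c.normal
  rcases eq_or_ne H ⊥ with h | hH1
  · rw [h, bot_inf_eq]; exact bot_le
  obtain ⟨N, hNn, hNH, hN1, hmin⟩ := Basics.exists_minimal_normal (N := H) hH1
  haveI := hNn
  obtain ⟨hNab, r, hr, hexp, hNr⟩ := Basics.minimal_normal_solvable hN1 inferInstance hmin
  haveI := hNab
  haveI := Fact.mk hr
  have hNz : ¬ N ≤ centralizer (H : Set G) := fun h => hN1 (le_bot_iff.mp (hZ ▸ le_inf hNH h))
  set K := H ⊓ centralizer (N : Set G) with hK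
  haveI : K.Normal := Subgroup.normal_inf_normal _ _
  set f := QuotientGroup.mk' K with hf
  have hfk : f.ker = K := QuotientGroup.ker_mk' K
  haveI : (H.map f).Normal := Subgroup.Normal.map inferInstance f (QuotientGroup.mk'_surjective K)
  have hHK : H.map f ≠ ⊥ := by
    rw [Ne, Subgroup.map_eq_bot_iff, hfk]
    exact fun h => hNz (Subgroup.le_centralizer_iff.mp (h.trans inf_le_right))
  obtain ⟨q, E, hq, hEn, hEH, hE1, hEab, hEexp⟩ :=
    Basics.exists_elementary_normal (N := H.map f) hHK inferInstance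
  haveI := hEn
  haveI := hEab
  haveI := Fact.mk hq
  set F := E.comap f with hF
  haveI : F.Normal := Subgroup.Normal.comap inferInstance f
  have hKF : K ≤ F := hfk ▸ Subgroup.ker_le_comap f E
  have hFH : F ≤ H := by
    refine (Subgroup.comap_mono hEH).trans (le_of_eq ?_)
    rw [Subgroup.comap_map_eq, hfk, sup_eq_left]
    exact inf_le_left
  have hFab : ∀ a ∈ F, ∀ b ∈ F, ⁅a, b⁆ ∈ K := fun a ha b hb => by
    rw [← hfk, MonoidHom.mem_ker, map_commutatorElement, commutatorElement_eq_one_iff_mul_comm]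
    exact congrArg Subtype.val (mul_comm' (⟨f a, ha⟩ : E) ⟨f b, hb⟩)
  have hFK : ¬ F ≤ K := fun h => hE1 (le_bot_iff.mp (by
    rw [← Subgroup.map_comap_eq_self_of_surjective (QuotientGroup.mk'_surjective K) E, ← hF]
    exact ((Subgroup.map_mono h).trans (le_of_eq (QuotientGroup.map_mk'_self K)))))
  obtain ⟨Q, hQ, hPQ⟩ := Basics.exists_invariant_isSylowIn P F le_normalizer_of_normal
    (c.copA hFH) (Or.inl inferInstance) q
  have hQH : Q ≤ H := hQ.1.trans hFH
  have hFQ : F ≤ K ⊔ Q := by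
    rw [← Subgroup.relIndex_eq_one]
    have h1 : (K ⊔ Q).relIndex F ∣ K.relIndex F :=
      Subgroup.relIndex_dvd_of_le_left F le_sup_left
    have h2 : (K ⊔ Q).relIndex F ∣ Q.relIndex F :=
      Subgroup.relIndex_dvd_of_le_left F le_sup_right
    have hKq : K.relIndex F = Nat.card E := by
      have h5 : f.ker.relIndex F = Nat.card E := by
        rw [Subgroup.relIndex_ker, hF,
          Subgroup.map_comap_eq_self_of_surjective (QuotientGroup.mk'_surjective K) E]
      simpa only [hfk] using h5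
    obtain ⟨m, hm⟩ := IsPGroup.iff_card.mp (Basics.isPGroup_of_pow_eq_one hEexp)
    have hQq : ¬ q ∣ Q.relIndex F := by
      rw [Subgroup.relIndex]
      intro hd
      have h3 := (Q.subgroupOf F).card_mul_index
      rw [Basics.card_subgroupOf hQ.1, hQ.2] at h3
      have h4 : q ^ ((Nat.card F).factorization q + 1) ∣ Nat.card F := by
        conv_rhs => rw [← h3]
        rw [pow_succ]; exact mul_dvd_mul_left _ hd
      have := (Nat.Prime.pow_dvd_iff_le_factorization hq Nat.card_pos.ne').mp h4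
      omega
    exact Nat.eq_one_of_dvd_coprimes
      (Nat.Coprime.pow_left m ((Nat.Prime.coprime_iff_not_dvd hq).mpr hQq))
      ((hKq.trans hm) ▸ h1) h2
  -- no element of `N` is centralised by `Q`
  have hfixQ : N ⊓ centralizer (Q : Set G) = ⊥ := by
    have h1 : N ⊓ centralizer (Q : Set G) ≤ N ⊓ centralizer (F : Set G) := by
      refine le_inf inf_le_left (Subgroup.le_centralizer_iff.mp (hFQ.trans (sup_le ?_ ?_)))
      · exact fun k hk => Subgroup.centralizer_le (fun x hx => hx.1) hk.2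
      · exact Subgroup.le_centralizer_iff.mp inf_le_right
    rcases hmin _ (Subgroup.normal_inf_normal N (centralizer (F : Set G))) inf_le_left with h | h
    · exact le_bot_iff.mp (h1.trans h.le)
    · refine absurd (le_inf hFH ?_) hFK
      exact Subgroup.le_centralizer_iff.mp (h.symm.le.trans inf_le_right)
  have hrq : q ≠ r := fun e => by
    subst e
    exact LocalEvenA.inf_centralizer_ne_bot hQ.isPGroup hNr hN1 le_normalizer_of_normal hfixQ
  obtain ⟨e, he⟩ := IsPGroup.iff_card.mp hNr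
  obtain ⟨d, hd⟩ := IsPGroup.iff_card.mp hQ.isPGroup
  have hQN : (Nat.card Q).Coprime (Nat.card N) := by
    rw [he, hd]; exact Nat.Coprime.pow _ _ ((Nat.coprime_primes hq hr).mpr hrq)
  set A := ⁅Q, P⁆ with hA
  set C0 := Q ⊓ centralizer (P : Set G) with hC0
  have hAQ : A ≤ Q := comm_le hPQ
  have hAH : A ≤ H := hAQ.trans hQH
  have hAN : (Nat.card A).Coprime (Nat.card N) := hQN.coprime_dvd_left (card_dvd_of_le hAQ)
  have hAP : P ≤ normalizer (A : Set G) := Subgroup.normalizer_commutator_ge_right _ _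
  have hAA : ⁅A, P⁆ = A :=
    Basics.commutator_commutator_eq P Q hPQ (c.copA hQH) (Or.inl inferInstance)
  have hNA : N ⊓ A = ⊥ := (Subgroup.disjoint_of_coprime_natCard hAN.symm).eq_bot
  refine c.reduce' hNn hNH hN1 ?_
  by_cases hNAH : N ⊔ A = H
  swap
  · -- covered
    set W := N ⊓ centralizer (A : Set G) with hW
    have hWC : W ⊓ centralizer (P : Set G) ≤ X t H := by
      set V := W ⊓ centralizer (P : Set G) with hV
      haveI : IsMulCommutative V := ⟨⟨fun a b => Subtype.ext (congrArg Subtype.val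
        (mul_comm' (⟨a, a.2.1.1⟩ : N) ⟨b, b.2.1.1⟩) :)⟩⟩
      have hC0A : C0 ≤ normalizer (A : Set G) :=
        inf_le_left.trans (Subgroup.normalizer_commutator_ge_left _ _)
      have hC0V : C0 ≤ normalizer (V : Set G) := le_normalizer_of_conj_mem fun z hz v hv => by
        refine ⟨⟨hNn.conj_mem v hv.1.1 z, Subgroup.mem_centralizer_iff.mpr fun a ha => ?_⟩,
          mul_mem (mul_mem hz.2 hv.2) (Subgroup.inv_mem _ hz.2)⟩
        have ha' : z⁻¹ * a * z ∈ A := by
          simpa using ((Subgroup.mem_normalizer_iff (G := G)).mp (Subgroup.inv_mem _ (hC0A hz)) a).mp ha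
        calc a * (z * v * z⁻¹) = z * ((z⁻¹ * a * z) * v) * z⁻¹ := by group
          _ = z * (v * (z⁻¹ * a * z)) * z⁻¹ := by
              rw [Subgroup.mem_centralizer_iff.mp hv.1.2 _ ha']
          _ = z * v * z⁻¹ * a := by group
      have hcopV : (Nat.card C0).Coprime (Nat.card V) :=
        (hQN.coprime_dvd_left (card_dvd_of_le inf_le_left)).coprime_dvd_right
          (card_dvd_of_le (inf_le_left.trans inf_le_left))
      have hVfix : V ⊓ centralizer (C0 : Set G) = ⊥ := by
        rw [eq_bot_iff, ← hfixQ]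
        refine le_inf (inf_le_left.trans (inf_le_left.trans inf_le_left)) ?_
        rw [Subgroup.le_centralizer_iff, ← Basics.commutator_sup_inf_centralizer P Q hPQ
          (c.copA hQH) (Or.inl inferInstance)]
        exact sup_le (Subgroup.le_centralizer_iff.mp (inf_le_left.trans (inf_le_left.trans inf_le_right)))
          (Subgroup.le_centralizer_iff.mp inf_le_right)
      have hV' := Basics.commutator_sup_inf_centralizer C0 V hC0V hcopV (Or.inr inferInstance)
      rw [hVfix, sup_bot_eq] at hV'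
      rw [← hV']
      refine commutator_le.mpr fun v hv z hz => ?_
      have hvH : v ∈ H ⊓ centralizer (P : Set G) := ⟨hNH hv.1.1, hv.2⟩
      have hz' := c.reduce hNH hN1 le_sup_right ⟨hQH hz.1, hz.2⟩
      have hz'' : z ∈ N ⊔ X t H :=
        (sup_le le_sup_right (inf_le_left.trans le_sup_left) :
          X t H ⊔ (N ⊓ centralizer (P : Set G)) ≤ N ⊔ X t H) hz'
      obtain ⟨a, ha, m, hm, rfl⟩ := (Basics.mem_sup_of_le_normalizer' (N := N) (H := X t H)
        le_normalizer_of_normal).mp hz''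
      have hvm : v * m = m * v := congrArg Subtype.val (mul_comm' (⟨v, hv.1.1⟩ : N) ⟨m, hm⟩)
      have h1 : v * m * v⁻¹ = m := by rw [hvm, mul_inv_cancel_right]
      have : ⁅v, a * m⁆ = (v * a * v⁻¹) * a⁻¹ := by
        calc ⁅v, a * m⁆ = (v * a * v⁻¹) * (v * m * v⁻¹) * m⁻¹ * a⁻¹ := by
              simp only [commutatorElement_def]; group
          _ = (v * a * v⁻¹) * a⁻¹ := by rw [h1]; group
      rw [this]
      exact mul_mem (((Subgroup.mem_normalizer_iff (G := G)).mp (X_normalized hvH) a).mp ha)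
        (Subgroup.inv_mem _ ha)
    have hNAc : ⁅N, A⁆ ⊓ centralizer (P : Set G) ≤ X t H := by
      have hPn : P ≤ normalizer ((N ⊔ A : Subgroup G) : Set G) :=
        (le_inf le_normalizer_of_normal hAP).trans (Subgroup.normalizer_inf_normalizer_le_normalizer_sup _ _)
      refine le_trans (inf_le_inf_right _ (commutator_le.mpr fun m hm a ha => ?_))
        (c.covered (sup_le hNH hAH) hNAH hPn)
      have ha' : a ∈ ⁅N ⊔ A, P⁆ := Subgroup.commutator_mono le_sup_right le_rfl (hAA.symm ▸ ha)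
      have hn := Subgroup.normalizer_commutator_ge_left (N ⊔ A) P (Subgroup.mem_sup_left hm)
      rw [commutatorElement_def]
      exact mul_mem (((Subgroup.mem_normalizer_iff (G := G)).mp hn a).mp ha') (Subgroup.inv_mem _ ha')
    have hdis : ⁅N, A⁆ ⊓ W = ⊥ := by
      rw [inf_comm]
      exact Basics.inf_centralizer_inf_commutator_eq_bot A N le_normalizer_of_normal hAN
    have hsup := Basics.commutator_sup_inf_centralizer A N le_normalizer_of_normal hAN
      (Or.inr inferInstance)
    intro v hv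
    have hle : ⁅N, A⁆ ≤ N := Subgroup.commutator_le_left N A
    have hWn : W ≤ normalizer ((⁅N, A⁆ : Subgroup G) : Set G) :=
      inf_le_left.trans (Subgroup.normalizer_commutator_ge_left _ _)
    obtain ⟨x, hx, w, hw, rfl⟩ := (Basics.mem_sup_of_le_normalizer hWn).mp (hsup.symm.le hv.1)
    have hfx : ∀ s ∈ P, s * x * s⁻¹ = x := by
      intro s hs
      have hxN : s * x * s⁻¹ ∈ ⁅N, A⁆ :=
        ((Subgroup.mem_normalizer_iff (G := G)).mp
          (OddLocal.normalizer_le_normalizer_commutator ⟨le_normalizer_of_normal hs, hAP hs⟩) x).mp hx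
      have hwW : s * w * s⁻¹ ∈ W :=
        ((Subgroup.mem_normalizer_iff (G := G)).mp
          (OddLocal.normalizer_le_normalizer_inf_centralizer ⟨le_normalizer_of_normal hs, hAP hs⟩) w).mp hw
      have hprod : (s * x * s⁻¹) * (s * w * s⁻¹) = x * w := by
        rw [show (s * x * s⁻¹) * (s * w * s⁻¹) = s * (x * w) * s⁻¹ by group,
          Subgroup.mem_centralizer_iff.mp hv.2 s hs, mul_inv_cancel_right]
      have h2 : x⁻¹ * (s * x * s⁻¹) = w * (s * w * s⁻¹)⁻¹ := by
        rw [eq_mul_inv_iff_mul_eq, mul_assoc, hprod, inv_mul_cancel_left]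
      have : x⁻¹ * (s * x * s⁻¹) ∈ ⁅N, A⁆ ⊓ W :=
        ⟨mul_mem (Subgroup.inv_mem _ hx) hxN, h2 ▸ mul_mem hw (Subgroup.inv_mem _ hwW)⟩
      rw [hdis, Subgroup.mem_bot, inv_mul_eq_one] at this
      exact this.symm
    have hxC : x ∈ centralizer (P : Set G) := Subgroup.mem_centralizer_iff.mpr fun s hs =>
      mul_inv_eq_iff_eq_mul.mp (hfx s hs)
    have hwC : w ∈ centralizer (P : Set G) := by
      simpa using mul_mem (Subgroup.inv_mem _ hxC) hv.2
    exact mul_mem (hNAc ⟨hx, hxC⟩) (hWC ⟨hw, hwC⟩)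
  · -- `H = N A`
    have hAne : A ≠ H := fun e => by
      have : N ⊓ A = N := inf_eq_left.mpr (e ▸ hNH)
      exact hN1 (this ▸ hNA)
    by_cases hD : A ⊓ centralizer (N : Set G) = ⊥
    swap
    · set D := A ⊓ centralizer (N : Set G) with hDdef
      have hDn : D.Normal := c.mk_normal (hNAH ▸ sup_le
          (le_normalizer_of_conj_mem fun m hm x hx => by
            rwa [Subgroup.mem_centralizer_iff.mp hx.2 m hm, mul_inv_cancel_right])
          ((le_inf Subgroup.le_normalizer le_normalizer_of_normal).trans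
            OddLocal.normalizer_le_normalizer_inf_centralizer))
        ((le_inf hAP le_normalizer_of_normal).trans
          OddLocal.normalizer_le_normalizer_inf_centralizer)
      have hDX : D ⊓ centralizer (P : Set G) ≤ X t H := by
        refine le_trans (inf_le_inf_right _ ?_) (c.covered hAH hAne hAP)
        rw [hAA]; exact inf_le_left
      exact (inf_le_inf_right _ hNH).trans (c.reduce' hDn (inf_le_left.trans hAH) hD hDX)
    haveI hAab : IsMulCommutative A := ⟨⟨fun a b => Subtype.ext (by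
      have h1 : ⁅(a : G), (b : G)⁆ ∈ A ⊓ centralizer (N : Set G) :=
        ⟨A.commutator_le_self (commutator_mem_commutator a.2 b.2),
          (hFab a (hQ.1 (hAQ a.2)) b (hQ.1 (hAQ b.2))).2⟩
      rw [hD, Subgroup.mem_bot, commutatorElement_eq_one_iff_mul_comm] at h1
      exact h1)⟩⟩
    have hA0 : A ⊓ centralizer (P : Set G) = ⊥ := by
      have := c.abelian_fixed hAH hAP
      rwa [hAA] at this
    have hAne1 : A ≠ ⊥ := fun e => hNz (by
      rw [← hNAH, e, sup_bot_eq]
      exact fun x hx => Subgroup.mem_centralizer_iff.mpr fun y hy =>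
        congrArg Subtype.val (mul_comm' (⟨y, hy⟩ : N) ⟨x, hx⟩))
    obtain ⟨⟨h, hhA⟩, hh1'⟩ := Subgroup.ne_bot_iff_exists_ne_one.mp hAne1
    have hh1 : h ≠ 1 := fun e => hh1' (Subtype.ext e)
    have hhH : h ∈ H := hAH hhA
    have hRA : R t h ≤ A := (R_le_comm hhA).trans (comm_le hAP)
    have hR1 : R t h ≠ ⊥ := fun e => hh1 (by
      have : h ∈ A ⊓ centralizer (P : Set G) := ⟨hhA, Subgroup.mem_centralizer_iff.mpr fun s hs => by
        have := gen_mem (h := h) hs
        rw [e, Subgroup.mem_bot, commutatorElement_eq_one_iff_mul_comm] at this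
        calc s * h = h * (h⁻¹ * s) * h := by group
          _ = h * (s * h⁻¹) * h := by rw [this]
          _ = h * s := by group⟩
      rwa [hA0, Subgroup.mem_bot] at this)
    haveI : IsMulCommutative (R t h) := ⟨⟨fun a b => Subtype.ext (congrArg Subtype.val
      (mul_comm' (⟨a, hRA a.2⟩ : A) ⟨b, hRA b.2⟩) :)⟩⟩
    have hNR : ⁅N, R t h⁆ = N := by
      have hn : (N ⊓ centralizer (R t h : Set G)).Normal := c.mk_normal (hNAH ▸ sup_le
          (le_normalizer_of_conj_mem fun m hm x hx => by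
            rwa [show m * x = x * m from congrArg Subtype.val
              (mul_comm' (⟨m, hm⟩ : N) ⟨x, hx.1⟩), mul_inv_cancel_right])
          ((le_inf le_normalizer_of_normal (le_normalizer_of_conj_mem fun a ha x hx => by
            rwa [show a * x = x * a from congrArg Subtype.val
              (mul_comm' (⟨a, ha⟩ : A) ⟨x, hRA hx⟩), mul_inv_cancel_right])).trans
            OddLocal.normalizer_le_normalizer_inf_centralizer))
        ((le_inf le_normalizer_of_normal R_normalized).trans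
          OddLocal.normalizer_le_normalizer_inf_centralizer)
      have hbot : N ⊓ centralizer (R t h : Set G) = ⊥ := (hmin _ hn inf_le_left).resolve_right
        fun e => hR1 (le_bot_iff.mp (hD ▸ le_inf hRA
          (Subgroup.le_centralizer_iff.mp (e.symm.le.trans inf_le_right))))
      have := Basics.commutator_sup_inf_centralizer (R t h) N le_normalizer_of_normal
        (hAN.coprime_dvd_left (card_dvd_of_le hRA)) (Or.inr inferInstance)
      rwa [hbot, sup_bot_eq] at this
    have hRR : ⁅R t h, P⁆ = R t h := by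
      have hbot : R t h ⊓ centralizer (P : Set G) = ⊥ :=
        le_bot_iff.mp (hA0 ▸ inf_le_inf_right _ hRA)
      have := Basics.commutator_sup_inf_centralizer P (R t h) R_normalized
        (c.copA (hRA.trans hAH)) (Or.inl inferInstance)
      rwa [hbot, sup_bot_eq] at this
    by_cases hRNH : N ⊔ R t h = H
    swap
    · have hPn : P ≤ normalizer ((N ⊔ R t h : Subgroup G) : Set G) :=
        (le_inf le_normalizer_of_normal R_normalized).trans (Subgroup.normalizer_inf_normalizer_le_normalizer_sup _ _)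
      refine le_trans (inf_le_inf_right _ ?_) (c.covered (sup_le hNH (hRA.trans hAH)) hRNH hPn)
      conv_lhs => rw [← hNR]
      refine commutator_le.mpr fun m hm a ha => ?_
      have ha' : a ∈ ⁅N ⊔ R t h, P⁆ :=
        Subgroup.commutator_mono le_sup_right le_rfl (hRR.symm ▸ ha)
      have hn := Subgroup.normalizer_commutator_ge_left (N ⊔ R t h) P (Subgroup.mem_sup_left hm)
      rw [commutatorElement_def]
      exact mul_mem (((Subgroup.mem_normalizer_iff (G := G)).mp hn a).mp ha') (Subgroup.inv_mem _ ha')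
    by_cases hesc : ∃ v ∈ N, N ≤ R t (v * h)
    · obtain ⟨v, hv, hle⟩ := hesc
      exact (inf_le_inf_right _ hle).trans (mem_X (mul_mem (hNH hv) hhH))
    push_neg at hesc
    have hsurj : ∀ v ∈ N, ∃ m ∈ N ⊓ centralizer (P : Set G),
        ∃ w ∈ N ⊓ centralizer (P : Set G), v = m * w * (h * m⁻¹ * h⁻¹) := by
      intro v hv
      set L := R t (v * h) with hL
      have hLH : L ≤ H := (R_le_comm (mul_mem (hNH hv) hhH)).trans (comm_le c.normP)
      have hNL : N ⊔ L = H := by
        refine le_antisymm (sup_le hNH hLH) (hRNH.symm.le.trans (sup_le le_sup_left ?_))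
        have h1 : (R t h).map (QuotientGroup.mk' N) ≤ L.map (QuotientGroup.mk' N) := by
          rw [R_map, hL, R_map, map_mul,
            show QuotientGroup.mk' N v = 1 from (QuotientGroup.eq_one_iff v).mpr hv, one_mul]
        rw [Subgroup.map_le_iff_le_comap, Subgroup.comap_map_eq, QuotientGroup.ker_mk',
          sup_comm] at h1
        exact h1
      have hn : (N ⊓ L).Normal := c.mk_normal (hNL ▸ sup_le
          (le_normalizer_of_conj_mem fun m hm x hx => by
            rwa [show m * x = x * m from congrArg Subtype.val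
              (mul_comm' (⟨m, hm⟩ : N) ⟨x, hx.1⟩), mul_inv_cancel_right])
          (le_normalizer_of_conj_mem fun a ha x hx =>
            ⟨hNn.conj_mem x hx.1 a, mul_mem (mul_mem ha hx.2) (Subgroup.inv_mem _ ha)⟩))
        (le_normalizer_of_conj_mem fun a ha x hx => ⟨hNn.conj_mem x hx.1 a,
          ((Subgroup.mem_normalizer_iff (G := G)).mp (R_normalized ha) x).mp hx.2⟩)
      have hdisL : N ⊓ L = ⊥ :=
        (hmin _ hn inf_le_left).resolve_right fun e => hesc v hv (e.symm.le.trans inf_le_right)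
      have hcardH : Nat.card H = Nat.card N * Nat.card A := by
        rw [← hNAH, Basics.card_sup_of_coprime le_normalizer_of_normal hAN.symm]
      have hcardL : Nat.card L = Nat.card A := by
        have := Basics.card_mul_card_eq_card_sup_mul_card_inf (N := N) (H := L)
          le_normalizer_of_normal
        rw [hNL, hdisL, Subgroup.card_bot, mul_one, hcardH] at this
        exact Nat.eq_of_mul_eq_mul_left Nat.card_pos this
      obtain ⟨a', ha'⟩ := IsPGroup.iff_card.mp (hQ.isPGroup.to_le hAQ)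
      have hfac : Nat.card A = q ^ (Nat.card H).factorization q := by
        rw [hcardH, Nat.factorization_mul Nat.card_pos.ne' Nat.card_pos.ne', Finsupp.add_apply, he,
          ha', hr.factorization_pow, hq.factorization_pow, Finsupp.single_eq_same,
          Finsupp.single_eq_of_ne hrq, zero_add]
      obtain ⟨g, hg, hgL⟩ := Basics.invariant_isSylowIn_conj P H c.normP c.copP
        (Or.inl inferInstance) q (S := A) (T := L) ⟨hAH, hfac⟩ ⟨hLH, hcardL.trans hfac⟩
        hAP R_normalized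
      obtain ⟨m, hm, a, ha, e⟩ := (Basics.mem_sup_of_le_normalizer
        (N := N) (H := A) le_normalizer_of_normal).mp (hNAH.symm.le hg.1)
      have hmC : m ∈ centralizer (P : Set G) ∧ a = 1 := by
        have h2 : ∀ s ∈ P, s * m * s⁻¹ = m ∧ s * a * s⁻¹ = a := by
          intro s hs
          have hprod : (s * m * s⁻¹) * (s * a * s⁻¹) = m * a := by
            rw [show (s * m * s⁻¹) * (s * a * s⁻¹) = s * g * s⁻¹ by rw [e]; group,
              Subgroup.mem_centralizer_iff.mp hg.2 s hs, mul_inv_cancel_right, e]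
          have hsa : s * a * s⁻¹ ∈ A := ((Subgroup.mem_normalizer_iff (G := G)).mp (hAP hs) a).mp ha
          have h3 : m⁻¹ * (s * m * s⁻¹) = a * (s * a * s⁻¹)⁻¹ := by
            rw [eq_mul_inv_iff_mul_eq, mul_assoc, hprod, inv_mul_cancel_left]
          have h4 : m⁻¹ * (s * m * s⁻¹) ∈ N ⊓ A :=
            ⟨mul_mem (Subgroup.inv_mem _ hm) (hNn.conj_mem m hm s), h3 ▸ mul_mem ha (Subgroup.inv_mem _ hsa)⟩
          rw [hNA, Subgroup.mem_bot] at h4
          refine ⟨(inv_mul_eq_one.mp h4).symm, ?_⟩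
          rw [h4] at h3
          exact (mul_inv_eq_one.mp h3.symm).symm
        refine ⟨Subgroup.mem_centralizer_iff.mpr fun s hs =>
          mul_inv_eq_iff_eq_mul.mp (h2 s hs).1, ?_⟩
        have : a ∈ A ⊓ centralizer (P : Set G) := ⟨ha, Subgroup.mem_centralizer_iff.mpr fun s hs =>
          mul_inv_eq_iff_eq_mul.mp (h2 s hs).2⟩
        rwa [hA0, Subgroup.mem_bot] at this
      rw [e, hmC.2, mul_one] at hgL
      -- `R (v h) = m A m⁻¹`
      set w := m⁻¹ * v * (h * m * h⁻¹) with hw
      have hwN : w ∈ N := mul_mem (mul_mem (Subgroup.inv_mem _ hm) hv) (hNn.conj_mem m hm h)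
      have hwC : w ∈ centralizer (P : Set G) := by
        rw [Subgroup.mem_centralizer_iff]
        intro s hs
        have h5 : ⁅(v * h)⁻¹, s⁆ ∈ L := gen_mem hs
        rw [← hgL, Basics.mem_conj_smul] at h5
        have hsm : m⁻¹ * s * m = s := by
          rw [mul_assoc, Subgroup.mem_centralizer_iff.mp hmC.1 s hs, inv_mul_cancel_left]
        have h6 : m⁻¹ * ⁅(v * h)⁻¹, s⁆ * m = h⁻¹ * ⁅w⁻¹, s⁆ * h * ⁅h⁻¹, s⁆ := by
          calc m⁻¹ * ⁅(v * h)⁻¹, s⁆ * m = ⁅m⁻¹ * (v * h)⁻¹ * m, m⁻¹ * s * m⁆ := by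
                simp only [commutatorElement_def]; group
            _ = ⁅m⁻¹ * (v * h)⁻¹ * m, s⁆ := by rw [hsm]
            _ = h⁻¹ * ⁅w⁻¹, s⁆ * h * ⁅h⁻¹, s⁆ := by
                rw [hw]; simp only [commutatorElement_def]; group
        rw [h6] at h5
        have h7 : ⁅w⁻¹, s⁆ ∈ A := by
          have h8 : ⁅h⁻¹, s⁆ ∈ A := hRA (gen_mem hs)
          have h9 : h * (h⁻¹ * ⁅w⁻¹, s⁆ * h * ⁅h⁻¹, s⁆ * ⁅h⁻¹, s⁆⁻¹) * h⁻¹ ∈ A :=
            mul_mem (mul_mem hhA (mul_mem h5 (Subgroup.inv_mem _ h8))) (Subgroup.inv_mem _ hhA)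
          have e9 : h * (h⁻¹ * ⁅w⁻¹, s⁆ * h * ⁅h⁻¹, s⁆ * ⁅h⁻¹, s⁆⁻¹) * h⁻¹ = ⁅w⁻¹, s⁆ := by group
          rwa [e9] at h9
        have h10 : ⁅w⁻¹, s⁆ ∈ N ⊓ A := ⟨by
          rw [commutatorElement_def, mul_assoc, mul_assoc, ← mul_assoc s]
          exact mul_mem (Subgroup.inv_mem _ hwN) (hNn.conj_mem _ (Subgroup.inv_mem _ (Subgroup.inv_mem _ hwN)) s), h7⟩
        rw [hNA, Subgroup.mem_bot, commutatorElement_eq_one_iff_mul_comm] at h10
        calc s * w = w * (w⁻¹ * s) * w := by group
          _ = w * (s * w⁻¹) * w := by rw [h10]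
          _ = w * s := by group
      refine ⟨m, ⟨hm, hmC.1⟩, w, ⟨hwN, hwC⟩, ?_⟩
      rw [hw]; group
    -- counting
    set C := N ⊓ centralizer (P : Set G) with hC
    have hle : Nat.card N ≤ Nat.card C * Nat.card C := by
      rw [← Nat.card_prod]
      refine Nat.card_le_card_of_surjective (fun x : C × C => (⟨(x.1 : G) * x.2 * (h * (x.1 : G)⁻¹ * h⁻¹),
        mul_mem (mul_mem x.1.2.1 x.2.2.1) (hNn.conj_mem _ (Subgroup.inv_mem _ x.1.2.1) h)⟩ : N)) ?_
      rintro ⟨v, hv⟩
      obtain ⟨m, hm, w, hw, e⟩ := hsurj v hv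
      exact ⟨(⟨m, hm⟩, ⟨w, hw⟩), Subtype.ext e.symm⟩
    have ht1 : t ≠ 1 := fun e => by
      have h0 : ⁅H, zpowers t⁆ = ⊥ := by rw [e, zpowers_one_eq_bot, commutator_bot_right]
      exact hH1 (c.perf.symm.trans h0)
    have hord : orderOf t = p := orderOf_eq_prime c.pow ht1
    have hcardP : Nat.card P = p := by rw [hP, Nat.card_zpowers, hord]
    have hNfix : N ⊓ centralizer (A : Set G) = ⊥ := by
      rw [eq_bot_iff]
      intro x hx
      have hbot : N ⊓ centralizer (R t h : Set G) = ⊥ := by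
        rw [eq_bot_iff, ← Basics.inf_centralizer_inf_commutator_eq_bot (R t h) N
          le_normalizer_of_normal (hAN.coprime_dvd_left (card_dvd_of_le hRA)), hNR]
        exact le_inf le_rfl inf_le_left
      have hxR : x ∈ N ⊓ centralizer (R t h : Set G) := ⟨hx.1, Subgroup.centralizer_le hRA hx.2⟩
      rwa [hbot] at hxR
    have hfr := (OddLocal.frobenius_card_fixed _ A P N rfl inferInstance inferInstance hAP
      (fun x hx hx1 k hk hxk => by
        have hxtop : zpowers x = P := by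
          refine Subgroup.eq_of_le_of_card_ge (zpowers_le.mpr hx) (le_of_eq ?_)
          rw [hcardP, Nat.card_zpowers]
          have hxp : x ^ p = 1 :=
            orderOf_dvd_iff_pow_eq_one.mp (hcardP ▸ Subgroup.orderOf_dvd_natCard P hx)
          exact (orderOf_eq_prime hxp hx1).symm
        have : k ∈ A ⊓ centralizer (P : Set G) := ⟨hk, by
          show k ∈ centralizer (P : Set G)
          rw [← hxtop, Subgroup.mem_centralizer_iff]
          rintro _ ⟨i, rfl⟩
          exact ((show Commute x k from hxk).zpow_left i)⟩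
        rwa [hA0, Subgroup.mem_bot] at this)
      hAN (c.copA hNH) le_normalizer_of_normal le_normalizer_of_normal hNfix).1
    rw [hcardP, ← hC] at hfr
    by_contra hcon
    have h1 : 1 < Nat.card C := (Subgroup.one_lt_card_iff_ne_bot C).mpr fun e => hcon (e ▸ bot_le)
    have h3 : 2 < p := lt_of_le_of_ne hp.out.two_le (Ne.symm hp2)
    have h4 := Nat.pow_lt_pow_right h1 h3
    rw [sq] at h4
    omega

/-- The inductive step and conclusion. -/
theorem main (p : ℕ) [Fact p.Prime] (hp2 : p ≠ 2) : ∀ n : ℕ, Below.{u} p n := by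
  intro n
  induction n using Nat.strong_induction_on with
  | _ n ih =>
    intro L _ _ H t hlt hs hn htop hpow hcop
    have hB : Below.{u} p (Nat.card L) := ih _ hlt
    have hcopP : (Nat.card (zpowers t)).Coprime (Nat.card H) :=
      (hcop.coprime_dvd_right (card_zpowers_dvd hpow)).symm
    haveI := hn
    haveI := hs
    have hN : zpowers t ≤ normalizer (H : Set L) := le_normalizer_of_normal
    by_cases hperf : ⁅H, zpowers t⁆ = H
    · have c : Ctx p H t := ⟨hs, hn, htop, hpow, hcop, hperf, hB⟩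
      rw [hperf]
      rcases eq_or_ne (H ⊓ centralizer (H : Set L)) ⊥ with h | h
      · exact c.centerless_case hp2 h
      · exact c.center_case hp2 h
    · set K := ⁅H, zpowers t⁆ with hK
      have hKP : zpowers t ≤ normalizer (K : Set L) := Subgroup.normalizer_commutator_ge_right _ _
      have hKH : K ≤ H := comm_le hN
      set M := K ⊔ zpowers t with hM
      have hMlt : Nat.card M < Nat.card L := by
        refine Basics.card_lt_card_of_ne_top fun h => hperf (le_antisymm hKH fun x hx => ?_)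
        have hxM : x ∈ M := h ▸ mem_top x
        obtain ⟨a, ha, q, hq, rfl⟩ := (Basics.mem_sup_of_le_normalizer hKP).mp hxM
        have : q ∈ H ⊓ zpowers t := ⟨by simpa using mul_mem (Subgroup.inv_mem _ (hKH ha)) hx, hq⟩
        rw [(Subgroup.disjoint_of_coprime_natCard hcopP.symm).eq_bot, Subgroup.mem_bot] at this
        simpa [this] using ha
      have hKK : ⁅K, zpowers t⁆ = K :=
        Basics.commutator_commutator_eq (zpowers t) H hN hcopP (Or.inl inferInstance)
      have hzp : (zpowers (⟨t, Subgroup.mem_sup_right (mem_zpowers t)⟩ : M)).map M.subtype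
          = zpowers t := MonoidHom.map_zpowers _ _
      have hK' : (K.subgroupOf M).map M.subtype = K := map_subgroupOf_eq_of_le le_sup_left
      have key := ih _ hlt (K.subgroupOf M) ⟨t, Subgroup.mem_sup_right (mem_zpowers t)⟩ hMlt
        inferInstance
        ((normal_subgroupOf_iff_le_normalizer le_sup_left).mpr (sup_le le_normalizer hKP))
        (by
          apply Subgroup.map_injective M.subtype_injective
          rw [Subgroup.map_sup, hK', hzp, ← MonoidHom.range_eq_map, range_subtype])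
        (Subtype.ext hpow)
        (by rw [Basics.card_subgroupOf le_sup_left]; exact hcop.coprime_dvd_left (card_dvd_of_le hKH))
      intro x hx
      have hx1 : x ∈ (⁅K.subgroupOf M, zpowers (⟨t, Subgroup.mem_sup_right (mem_zpowers t)⟩ : M)⁆).map
          M.subtype := by
        rw [Subgroup.map_commutator, hK', hzp, hKK]; exact hx.1
      obtain ⟨y, hy, rfl⟩ := hx1
      have hyc : y ∈ centralizer
          (zpowers (⟨t, Subgroup.mem_sup_right (mem_zpowers t)⟩ : M) : Set M) := fun q hq =>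
        Subtype.ext (Subgroup.mem_centralizer_iff.mp hx.2 _
          (hzp ▸ Subgroup.mem_map_of_mem M.subtype hq))
      suffices X (⟨t, Subgroup.mem_sup_right (mem_zpowers t)⟩ : M) (K.subgroupOf M) ≤
          (X t H).comap M.subtype from this (key ⟨hy, hyc⟩)
      refine iSup₂_le fun h hh z hz => ?_
      refine mem_X (t := t) (h := (h : L)) (hKH hh) ⟨?_, map_centralizer_zpowers M.subtype hz.2⟩
      have := Subgroup.mem_map_of_mem M.subtype hz.1
      rwa [R_map] at this

end Cfsg.Agent.CommFixedGen
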