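import Mathlib

/-!
# Fixed points of a `2`-group in a module over the field with two elements
-/

set_option autoImplicit false
set_option linter.all false

namespace Cfsg.Agent.FixedTwoModule

open scoped TensorProduct

variable {S : Type*} [Group S] [Finite S]

local notation "kk" => AlgebraicClosure (ZMod 2)

section space

variable {V : Type*} [AddCommGroup V] [Module kk V]

/-- The weight space of a character of a normal subgroup. -/
def wsp (R : Representation kk S V) (A : Subgroup S) (χ : A →* kk) : Submodule kk V where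
  carrier := {v | ∀ u : A, R u v = χ u • v}
  add_mem' := fun {v w} hv hw u => by rw [map_add, hv u, hw u, smul_add]
  zero_mem' := fun u => by simp
  smul_mem' := fun c v hv u => by rw [map_smul, hv u, smul_comm]

variable (R : Representation kk S V) (A : Subgroup S)

theorem mem_wsp {χ : A →* kk} {v : V} : v ∈ wsp R A χ ↔ ∀ u : A, R u v = χ u • v := Iff.rfl

theorem indep (F : Finset (A →* kk)) (f : (A →* kk) → V) (hf : ∀ χ ∈ F, f χ ∈ wsp R A χ)
    (h : ∑ χ ∈ F, f χ = 0) : ∀ χ ∈ F, f χ = 0 := by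
  classical
  induction F using Finset.induction_on generalizing f with
  | empty => simp
  | @insert χ₀ F hχ₀ ih =>
    have hrest : ∀ χ ∈ F, f χ = 0 := by
      intro χ hχ
      obtain ⟨u, hu⟩ : ∃ u : A, χ u ≠ χ₀ u := by
        by_contra! hh
        exact hχ₀ (MonoidHom.ext hh ▸ hχ)
      have h' : ∑ ψ ∈ F, (ψ u - χ₀ u) • f ψ = 0 := by
        have h1 := congrArg (fun v => R (u : S) v - χ₀ u • v) h
        simp only [map_sum, Finset.smul_sum, ← Finset.sum_sub_distrib, map_zero, smul_zero, sub_zero] at h1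
        rw [Finset.sum_insert hχ₀, hf χ₀ (Finset.mem_insert_self _ _) u, sub_self, zero_add] at h1
        rw [← h1]
        exact Finset.sum_congr rfl fun ψ hψ => by rw [hf ψ (Finset.mem_insert_of_mem hψ) u, sub_smul]
      have := ih (fun ψ => (ψ u - χ₀ u) • f ψ)
        (fun ψ hψ => Submodule.smul_mem _ _ (hf ψ (Finset.mem_insert_of_mem hψ))) h' χ hχ
      exact (smul_eq_zero.1 this).resolve_left (sub_ne_zero.2 hu)
    intro χ hχ
    rcases Finset.mem_insert.1 hχ with rfl | hχ
    · rw [Finset.sum_insert hχ₀, Finset.sum_eq_zero hrest, add_zero] at h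
      exact h
    · exact hrest χ hχ

theorem exists_weight [FiniteDimensional kk V] [Nontrivial V]
    (hA : ∀ a ∈ A, ∀ b ∈ A, a * b = b * a) : ∃ χ : A →* kk, ∃ v : V, v ≠ 0 ∧ v ∈ wsp R A χ := by
  let Inv : Set (Submodule kk V) := {W | W ≠ ⊥ ∧ ∀ u : A, ∀ v ∈ W, R u v ∈ W}
  obtain ⟨W, ⟨hW0, hWinv⟩, hmin⟩ := (wellFounded_lt (α := Submodule kk V)).has_min Inv ⟨⊤, top_ne_bot, fun _ _ _ => trivial⟩
  have hscal : ∀ u : A, ∃ c : kk, ∀ v ∈ W, R u v = c • v := by
    intro u
    have : Nontrivial W := Submodule.nontrivial_iff_ne_bot.2 hW0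
    let f : Module.End kk W := (R (u : S)).restrict (hWinv u)
    obtain ⟨c, hc⟩ := Module.End.exists_eigenvalue f
    refine ⟨c, fun v hv => ?_⟩
    let W' : Submodule kk V := W ⊓ LinearMap.ker (R (u : S) - c • LinearMap.id)
    have hmem : ∀ v, v ∈ W' ↔ v ∈ W ∧ R (u : S) v = c • v := fun v => by
      simp [W', sub_eq_zero]
    have hW' : W' ∈ Inv := by
      obtain ⟨w, hw⟩ := hc.exists_hasEigenvector
      refine ⟨fun e => hw.2 (Subtype.ext ?_), fun u' v hv => ?_⟩
      · have : (w : V) ∈ W' := (hmem _).2 ⟨w.2, congrArg Subtype.val hw.apply_eq_smul⟩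
        rw [e] at this
        exact (Submodule.mem_bot kk).1 this
      · obtain ⟨h1, h2⟩ := (hmem _).1 hv
        refine (hmem _).2 ⟨hWinv u' v h1, ?_⟩
        rw [← Module.End.mul_apply, ← map_mul, hA _ u.2 _ u'.2, map_mul, Module.End.mul_apply, h2, map_smul]
    have e : W' = W := by
      by_contra hne
      exact hmin W' hW' (lt_of_le_of_ne inf_le_left hne)
    exact ((hmem v).1 (e.symm ▸ hv)).2
  choose c hc using hscal
  obtain ⟨v, hvW, hv0⟩ := Submodule.exists_mem_ne_zero_of_ne_bot hW0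
  refine ⟨⟨⟨c, ?_⟩, fun a b => ?_⟩, v, hv0, fun u => hc u v hvW⟩
  · refine smul_left_injective kk hv0 ?_
    show c 1 • v = (1 : kk) • v
    rw [← hc 1 v hvW]; simp
  · refine smul_left_injective kk hv0 ?_
    show c (a * b) • v = (c a * c b) • v
    rw [← hc (a * b) v hvW, Subgroup.coe_mul, map_mul, Module.End.mul_apply, hc b v hvW, map_smul,
      hc a v hvW, smul_smul, mul_comm]

variable [hAn : A.Normal]

/-- Conjugate character. -/
noncomputable def tw (s : S) (χ : A →* kk) : A →* kk :=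
  χ.comp (MulAut.conjNormal (H := A) s⁻¹).toMonoidHom

theorem tw_one (χ : A →* kk) : tw A 1 χ = χ := by
  ext u; simp [tw]

theorem tw_mul (s t : S) (χ : A →* kk) : tw A (s * t) χ = tw A s (tw A t χ) := by
  ext u; simp [tw, map_mul, MulAut.mul_apply]

theorem map_wsp (s : S) {χ : A →* kk} {v : V} (hv : v ∈ wsp R A χ) : R s v ∈ wsp R A (tw A s χ) := by
  intro u
  have h := hv (MulAut.conjNormal (H := A) s⁻¹ u)
  show R u (R s v) = χ (MulAut.conjNormal (H := A) s⁻¹ u) • R s v
  rw [← map_smul, ← h, MulAut.conjNormal_apply, inv_inv, ← Module.End.mul_apply, ← map_mul,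
    ← Module.End.mul_apply, ← map_mul]
  congr 2; group

variable (T : Subgroup S) (hT : IsPGroup 2 T)

include hT in
theorem exists_fixed_weight {χ : A →* kk} {v : V} (hv0 : v ≠ 0) (hv : v ∈ wsp R A χ) :
    ∃ w, w ≠ 0 ∧ w ∈ wsp R A χ ∧ ∀ t ∈ T, tw A t χ = χ → R t w = w := by
  let T' : Subgroup T :=
    { carrier := {t | tw A (t : S) χ = χ}
      one_mem' := tw_one A χ
      mul_mem' := fun {a b} ha hb => by
        show tw A ((a : S) * b) χ = χ
        rw [tw_mul, hb, ha]
      inv_mem' := fun {a} ha => by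
        show tw A ((a : S)⁻¹) χ = χ
        conv_lhs => rw [← show tw A (a : S) χ = χ from ha]
        rw [← tw_mul, inv_mul_cancel, tw_one] }
  have h2 : ∀ w : V, (2 : ℕ) • w = 0 := fun w => by
    rw [← Nat.cast_smul_eq_nsmul kk, show ((2 : ℕ) : kk) = 0 from CharP.cast_eq_zero kk 2, zero_smul]
  letI : Module (ZMod 2) V := AddCommGroup.zmodModule h2
  let W : Submodule (ZMod 2) V := Submodule.span (ZMod 2) (Set.range fun t : T' => R ((t : T) : S) v)
  have hWfin : Module.Finite (ZMod 2) W := Module.Finite.span_of_finite _ (Set.finite_range _)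
  have : Finite W := Module.finite_of_finite (ZMod 2)
  have hWle : ∀ w ∈ W, w ∈ wsp R A χ := by
    intro w hw
    induction hw using Submodule.span_induction with
    | mem w hw =>
      obtain ⟨t, rfl⟩ := hw
      have := map_wsp R A ((t : T) : S) hv
      rwa [show tw A ((t : T) : S) χ = χ from t.2] at this
    | zero => exact zero_mem _
    | add w w' _ _ h h' => exact add_mem h h'
    | smul c w _ h =>
      obtain rfl | rfl : c = 0 ∨ c = 1 := (show ∀ c : ZMod 2, c = 0 ∨ c = 1 by decide) c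
      · rw [zero_smul]; exact zero_mem _
      · rwa [one_smul]
  have hinv : ∀ (t : T') (w : V), w ∈ W → R ((t : T) : S) w ∈ W := by
    intro t w hw
    induction hw using Submodule.span_induction with
    | mem w hw =>
      obtain ⟨t', rfl⟩ := hw
      refine Submodule.subset_span ⟨t * t', ?_⟩
      show R (((t : T) : S) * ((t' : T) : S)) v = _
      rw [map_mul]; rfl
    | zero => rw [map_zero]; exact zero_mem _
    | add w w' _ _ h h' => rw [map_add]; exact add_mem h h'
    | smul c w _ h =>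
      obtain rfl | rfl : c = 0 ∨ c = 1 := (show ∀ c : ZMod 2, c = 0 ∨ c = 1 by decide) c
      · rw [zero_smul, map_zero]; exact zero_mem _
      · rwa [one_smul]
  letI : MulAction T' W :=
    { smul := fun t w => ⟨R ((t : T) : S) w.1, hinv t w.1 w.2⟩
      one_smul := fun w => Subtype.ext (by show R ((1 : T') : T).1 w.1 = w.1; simp)
      mul_smul := fun a b w => Subtype.ext (by
        show R (((a : T) : S) * ((b : T) : S)) w.1 = R ((a : T) : S) (R ((b : T) : S) w.1)
        rw [map_mul]; rfl) }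
  have hvW : v ∈ W := Submodule.subset_span ⟨1, by simp⟩
  have hd : 2 ∣ Nat.card W := by
    have : Nontrivial W := ⟨⟨⟨v, hvW⟩, 0, fun e => hv0 (congrArg Subtype.val e)⟩⟩
    rw [Module.natCard_eq_pow_finrank (K := ZMod 2), Nat.card_zmod]
    exact dvd_pow_self _ Module.finrank_pos.ne'
  obtain ⟨w, hw, hne⟩ := (hT.to_subgroup T').exists_fixed_point_of_prime_dvd_card_of_fixed_point
    (α := W) hd (a := (0 : W)) (fun t => Subtype.ext (map_zero _))
  exact ⟨w.1, fun e => hne (Subtype.ext e.symm), hWle w.1 w.2, fun t ht hχ =>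
    congrArg Subtype.val (hw ⟨⟨t, ht⟩, hχ⟩)⟩

include hT in
/-- A fixed vector supported exactly on one orbit of characters. -/
theorem exists_orbit_sum {χ : A →* kk} {v : V} (hv0 : v ≠ 0) (hv : v ∈ wsp R A χ) :
    ∃ (F : Finset (A →* kk)) (f : (A →* kk) → V),
      (∀ θ, θ ∈ F ↔ ∃ t ∈ T, tw A t χ = θ) ∧ (∀ θ ∈ F, f θ ≠ 0 ∧ f θ ∈ wsp R A θ) ∧
      ∀ t ∈ T, R t (∑ θ ∈ F, f θ) = ∑ θ ∈ F, f θ := by
  classical
  have := Fintype.ofFinite T
  obtain ⟨w, hw0, hw, hfix⟩ := exists_fixed_weight R A T hT hv0 hv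
  let F : Finset (A →* kk) := Finset.univ.image fun t : T => tw A (t : S) χ
  have hF : ∀ θ, θ ∈ F ↔ ∃ t ∈ T, tw A t χ = θ := fun θ => by simp [F]
  let rep : (A →* kk) → S := fun θ => if h : ∃ t ∈ T, tw A t χ = θ then h.choose else 1
  have hrep : ∀ θ ∈ F, rep θ ∈ T ∧ tw A (rep θ) χ = θ := fun θ hθ => by
    simp only [rep, dif_pos ((hF θ).1 hθ)]
    exact ((hF θ).1 hθ).choose_spec
  refine ⟨F, fun θ => R (rep θ) w, hF, fun θ hθ => ⟨fun e => hw0 ?_, ?_⟩, fun t ht => ?_⟩
  · have := congrArg (R (rep θ)⁻¹) e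
    rwa [← Module.End.mul_apply, ← map_mul, inv_mul_cancel, map_one, Module.End.one_apply, map_zero] at this
  · have := map_wsp R A (rep θ) hw
    rwa [(hrep θ hθ).2] at this
  · have hmem : ∀ θ ∈ F, tw A t θ ∈ F := fun θ hθ => (hF _).2
      ⟨t * rep θ, mul_mem ht (hrep θ hθ).1, by rw [tw_mul, (hrep θ hθ).2]⟩
    rw [map_sum]
    refine Finset.sum_nbij (fun θ => tw A t θ) hmem ?_ ?_ ?_
    · intro a _ b _ h
      have := congrArg (tw A t⁻¹) h
      simpa [← tw_mul, tw_one] using this
    · intro θ hθ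
      refine ⟨tw A t⁻¹ θ, (hF _).2 ⟨t⁻¹ * rep θ, mul_mem (inv_mem ht) (hrep θ hθ).1, by
        rw [tw_mul, (hrep θ hθ).2]⟩, ?_⟩
      show tw A t (tw A t⁻¹ θ) = θ
      rw [← tw_mul, mul_inv_cancel, tw_one]
    · intro θ hθ
      obtain ⟨h1, h2⟩ := hrep θ hθ
      obtain ⟨h1', h2'⟩ := hrep _ (hmem θ hθ)
      have hk := hfix ((rep (tw A t θ))⁻¹ * (t * rep θ)) (mul_mem (inv_mem h1') (mul_mem ht h1)) (by
        rw [tw_mul, tw_mul A t, h2]
        have h3 := congrArg (tw A (rep (tw A t θ))⁻¹) h2'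
        rw [← tw_mul, inv_mul_cancel, tw_one] at h3
        exact h3.symm)
      show R t (R (rep θ) w) = R (rep (tw A t θ)) w
      rw [← Module.End.mul_apply, ← map_mul]
      conv_rhs => rw [← hk, ← Module.End.mul_apply, ← map_mul, mul_inv_cancel_left]

end space

variable {E : Type*} [AddCommGroup E] [Module (ZMod 2) E] [Finite E]

/-- The base change of a representation. -/
noncomputable def ext' (ρ : Representation (ZMod 2) S E) : Representation kk S (kk ⊗[ZMod 2] E) where
  toFun s := (ρ s).baseChange kk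
  map_one' := by ext; simp
  map_mul' a b := by ext; simp

noncomputable def comp' (i : Module.Basis.ofVectorSpaceIndex (ZMod 2) kk) :
    kk ⊗[ZMod 2] E →ₗ[ZMod 2] E := by
  classical
  exact (Finsupp.lapply i).comp
    (TensorProduct.equivFinsuppOfBasisLeft (Module.Basis.ofVectorSpace (ZMod 2) kk)).toLinearMap

theorem comp_ext (ρ : Representation (ZMod 2) S E) (s : S)
    (i : Module.Basis.ofVectorSpaceIndex (ZMod 2) kk) (v : kk ⊗[ZMod 2] E) :
    comp' i (ext' ρ s v) = ρ s (comp' i v) := by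
  induction v with
  | zero => simp
  | tmul c e =>
    show comp' i ((ρ s).baseChange kk (c ⊗ₜ e)) = _
    simp [comp', map_smul]
  | add x y hx hy => simp only [map_add, hx, hy]

theorem mem_span_of_fixed (ρ : Representation (ZMod 2) S E) (X : Set S) {v : kk ⊗[ZMod 2] E}
    (hv : ∀ s ∈ X, ext' ρ s v = v) :
    v ∈ Submodule.span kk ((fun e : E => (1 : kk) ⊗ₜ[ZMod 2] e) '' {e | ∀ s ∈ X, ρ s e = e}) := by
  classical
  set B := Module.Basis.ofVectorSpace (ZMod 2) kk
  have hv' := (TensorProduct.equivFinsuppOfBasisLeft B).symm_apply_apply v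
  rw [← LinearEquiv.coe_coe, TensorProduct.equivFinsuppOfBasisLeft_symm, Finsupp.lsum_apply] at hv'
  rw [← hv', Finsupp.sum]
  refine Submodule.sum_mem _ fun i _ => ?_
  show B i ⊗ₜ[ZMod 2] comp' i v ∈ _
  rw [show B i ⊗ₜ[ZMod 2] comp' i v = B i • ((1 : kk) ⊗ₜ[ZMod 2] comp' i v) by
    rw [TensorProduct.smul_tmul', smul_eq_mul, mul_one]]
  exact Submodule.smul_mem _ _ (Submodule.subset_span
    ⟨_, fun s hs => by rw [← comp_ext, hv s hs], rfl⟩)

theorem main (ρ : Representation (ZMod 2) S E) (hE : Nontrivial E) (A : Subgroup S) [hAn : A.Normal]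
    (hA : ∀ a ∈ A, ∀ b ∈ A, a * b = b * a) (hfix : ∀ e : E, (∀ a ∈ A, ρ a e = e) → e = 0)
    (T : Subgroup S) (hT : IsPGroup 2 T) (x : S) {q : ℕ} (hq : q.Prime) (hq2 : q ≠ 2)
    (hx : orderOf x = q)
    (hxfix : ∀ χ : A →* kk, tw A x χ = χ → ∀ a, χ a = 1) :
    8 ≤ Nat.card {v : E // ∀ s ∈ T, ρ s v = v} ∨
      (Nat.card {v : E // ∀ s ∈ T, ρ s v = v} = 4 ∧
        ∃ v : E, (∀ s ∈ T, ρ s v = v) ∧ ¬ ∀ s ∈ T, ρ s (ρ x v) = ρ x v) := by
  classical
  have hFq := Fact.mk hq
  have : Module.Finite (ZMod 2) E := Module.Finite.of_finite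
  have hntV : Nontrivial (kk ⊗[ZMod 2] E) := by
    refine Module.nontrivial_of_finrank_pos (R := kk) ?_
    rw [Module.finrank_baseChange]
    exact Module.finrank_pos
  let E0 : Submodule (ZMod 2) E :=
    { carrier := {v | ∀ s ∈ T, ρ s v = v}
      add_mem' := fun {v w} hv hw s hs => by rw [map_add, hv s hs, hw s hs]
      zero_mem' := fun s _ => map_zero _
      smul_mem' := fun c v hv s hs => by rw [map_smul, hv s hs] }
  have hcard : Nat.card {v : E // ∀ s ∈ T, ρ s v = v} = 2 ^ Module.finrank (ZMod 2) E0 := by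
    show Nat.card E0 = _
    rw [Module.natCard_eq_pow_finrank (K := ZMod 2), Nat.card_zmod]
  set d := Module.finrank (ZMod 2) E0 with hd
  set R := ext' ρ
  -- the span of the fixed space
  set Φ : Submodule kk (kk ⊗[ZMod 2] E) :=
    Submodule.span kk ((fun e : E => (1 : kk) ⊗ₜ[ZMod 2] e) '' {e | ∀ s ∈ (T : Set S), ρ s e = e})
  have hΦd : Module.finrank kk Φ ≤ d := by
    let b := Module.finBasis (ZMod 2) E0
    have hle : Φ ≤ Submodule.span kk (Set.range fun j => (1 : kk) ⊗ₜ[ZMod 2] ((b j : E))) := by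
      refine Submodule.span_le.2 ?_
      rintro _ ⟨e, he, rfl⟩
      have h := congrArg (fun z : E0 => (1 : kk) ⊗ₜ[ZMod 2] (z : E)) (b.sum_repr ⟨e, he⟩)
      simp only [Submodule.coe_sum, Submodule.coe_smul, TensorProduct.tmul_sum, TensorProduct.tmul_smul] at h
      show (1 : kk) ⊗ₜ[ZMod 2] e ∈ _
      rw [← h]
      exact Submodule.sum_mem _ fun j _ =>
        Submodule.smul_of_tower_mem _ (b.repr ⟨e, he⟩ j) (Submodule.subset_span (Set.mem_range_self j))
    refine (Submodule.finrank_mono hle).trans ((finrank_range_le_card _).trans (le_of_eq ?_))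
    exact Fintype.card_fin _
  obtain ⟨χ, v, hv0, hv⟩ := exists_weight R A hA
  have hnt : ∀ θ : A →* kk, ∀ w : kk ⊗[ZMod 2] E, w ≠ 0 → w ∈ wsp R A θ → ¬ ∀ a, θ a = 1 := by
    intro θ w hw0 hw h1
    refine hw0 ?_
    have := mem_span_of_fixed ρ (A : Set S) (v := w) fun s hs => by
      have := hw ⟨s, hs⟩
      rw [h1, one_smul] at this
      exact this
    rw [show {e | ∀ s ∈ (A : Set S), ρ s e = e} = {(0 : E)} from Set.eq_singleton_iff_unique_mem.2
      ⟨fun s _ => map_zero _, fun e he => hfix e he⟩, Set.image_singleton, TensorProduct.tmul_zero,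
      Submodule.span_singleton_eq_bot.2 rfl, Submodule.mem_bot] at this
    exact this
  obtain ⟨F1, f1, hF1, hf1, hs1⟩ := exists_orbit_sum R A T hT hv0 hv
  have htw : ∀ (i : ℕ) (θ : A →* kk), (tw A x)^[i] θ = tw A (x ^ i) θ := by
    intro i
    induction i with
    | zero => intro θ; simp [tw_one]
    | succ i ih => intro θ; rw [Function.iterate_succ', Function.comp, ih, ← tw_mul, ← pow_succ']
  -- no orbit of `T` is invariant under `x`
  have hnoninv : ∀ (χ' : A →* kk) (F : Finset (A →* kk)), (∀ θ, θ ∈ F ↔ ∃ t ∈ T, tw A t χ' = θ) →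
      (∀ θ ∈ F, ¬ ∀ a, θ a = 1) → ¬ ∀ θ ∈ F, tw A x θ ∈ F := by
    intro χ' F hF hne hinv
    let σ : Equiv.Perm {θ // θ ∈ F} := Equiv.ofBijective (fun θ => ⟨tw A x θ, hinv θ θ.2⟩)
      (Finite.injective_iff_bijective.1 fun a b h => Subtype.ext (by
        have := congrArg (tw A x⁻¹) (congrArg Subtype.val h)
        simpa [← tw_mul, tw_one] using this))
    have hσ : σ ^ q ^ 1 = 1 := by
      refine Equiv.ext fun θ => Subtype.ext ?_
      have hpow : ∀ m : ℕ, ((σ ^ m) θ).1 = (tw A x)^[m] θ.1 := by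
        intro m
        induction m with
        | zero => rfl
        | succ m ih => rw [pow_succ', Equiv.Perm.mul_apply, Function.iterate_succ', Function.comp, ← ih]; rfl
      rw [pow_one, hpow, htw, ← hx, pow_orderOf_eq_one, tw_one]; rfl
    have hmod := Equiv.Perm.card_compl_support_modEq (σ := σ) hσ
    have h0 : σ.supportᶜ = ∅ := by
      rw [Finset.eq_empty_iff_forall_notMem]
      intro θ hθ
      rw [Finset.mem_compl, Equiv.Perm.notMem_support] at hθ
      exact hne θ θ.2 (hxfix θ (congrArg Subtype.val hθ))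
    rw [h0, Finset.card_empty, Fintype.card_coe] at hmod
    have hdiv : q ∣ F.card := Nat.modEq_zero_iff_dvd.1 hmod.symm
    -- the orbit has `2`-power length
    let T' : Subgroup T :=
      { carrier := {t | tw A (t : S) χ' = χ'}
        one_mem' := tw_one A χ'
        mul_mem' := fun {a b} ha hb => by
          show tw A ((a : S) * b) χ' = χ'
          rw [tw_mul, hb, ha]
        inv_mem' := fun {a} ha => by
          show tw A ((a : S)⁻¹) χ' = χ'
          conv_lhs => rw [← show tw A (a : S) χ' = χ' from ha]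
          rw [← tw_mul, inv_mul_cancel, tw_one] }
    let g : T ⧸ T' → {θ // θ ∈ F} := Quotient.lift
      (fun t : T => (⟨tw A (t : S) χ', (hF _).2 ⟨t, t.2, rfl⟩⟩ : {θ // θ ∈ F})) (fun a b hab => by
        have h : tw A ((a : S)⁻¹ * b) χ' = χ' := QuotientGroup.leftRel_apply.1 hab
        refine Subtype.ext ?_
        show tw A (a : S) χ' = tw A (b : S) χ'
        conv_lhs => rw [← h]
        rw [← tw_mul, mul_inv_cancel_left])
    have hg : Function.Bijective g := by
      constructor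
      · intro a b
        induction a using QuotientGroup.induction_on with | _ a => ?_
        induction b using QuotientGroup.induction_on with | _ b => ?_
        intro h
        have h' : tw A (a : S) χ' = tw A (b : S) χ' := congrArg Subtype.val h
        refine QuotientGroup.eq.2 ?_
        show tw A ((a : S)⁻¹ * b) χ' = χ'
        rw [tw_mul, ← h', ← tw_mul, inv_mul_cancel, tw_one]
      · rintro ⟨θ, hθ⟩
        obtain ⟨t, ht, rfl⟩ := (hF θ).1 hθ
        exact ⟨QuotientGroup.mk ⟨t, ht⟩, rfl⟩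
    obtain ⟨m, hm⟩ := hT.index T'
    rw [Subgroup.index_eq_card, Nat.card_congr (Equiv.ofBijective g hg), Nat.card_eq_fintype_card,
      Fintype.card_coe] at hm
    rw [hm] at hdiv
    exact hq2 ((Nat.prime_dvd_prime_iff_eq hq Nat.prime_two).1 (hq.dvd_of_dvd_pow hdiv))
  have hne1 : ∀ θ ∈ F1, ¬ ∀ a, θ a = 1 := fun θ hθ => hnt θ _ (hf1 θ hθ).1 (hf1 θ hθ).2
  have hn1 := hnoninv χ F1 hF1 hne1
  obtain ⟨θ0, hθ0, hθ0'⟩ := not_forall₂.1 hn1
  have hv2 : R x (f1 θ0) ∈ wsp R A (tw A x θ0) := map_wsp R A x (hf1 θ0 hθ0).2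
  have hinj : ∀ w, R x w = 0 → w = 0 := fun w h => by
    have := congrArg (R x⁻¹) h
    rwa [← Module.End.mul_apply, ← map_mul, inv_mul_cancel, map_one, Module.End.one_apply, map_zero] at this
  obtain ⟨F2, f2, hF2, hf2, hs2⟩ := exists_orbit_sum R A T hT
    (fun e => (hf1 θ0 hθ0).1 (hinj _ e)) hv2
  have hn2 := hnoninv _ F2 hF2 fun θ hθ => hnt θ _ (hf2 θ hθ).1 (hf2 θ hθ).2
  have hdisj : Disjoint F1 F2 := by
    rw [Finset.disjoint_left]
    intro θ h h'
    obtain ⟨a, ha, ea⟩ := (hF1 θ).1 h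
    obtain ⟨b, hb, eb⟩ := (hF2 θ).1 h'
    refine hθ0' ((hF1 _).2 ⟨b⁻¹ * a, mul_mem (inv_mem hb) ha, ?_⟩)
    rw [tw_mul, ea, ← eb, ← tw_mul A b⁻¹ b, inv_mul_cancel, tw_one]
  set s1 := ∑ θ ∈ F1, f1 θ
  set s2 := ∑ θ ∈ F2, f2 θ
  have hχF1 : χ ∈ F1 := (hF1 χ).2 ⟨1, one_mem _, tw_one A χ⟩
  have hxF2 : tw A x θ0 ∈ F2 := (hF2 _).2 ⟨1, one_mem _, tw_one A _⟩
  -- coefficients of a combination
  have coef : ∀ (F : Finset (A →* kk)) (f : (A →* kk) → kk ⊗[ZMod 2] E),
      (∀ θ ∈ F, f θ ≠ 0 ∧ f θ ∈ wsp R A θ) → ∀ a b : kk,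
      ∑ θ ∈ F, f θ = a • s1 + b • s2 →
      ∀ θ, (θ ∈ F ↔ (a ≠ 0 ∧ θ ∈ F1) ∨ (b ≠ 0 ∧ θ ∈ F2)) := by
    intro F f hf a b he θ
    let g : (A →* kk) → kk ⊗[ZMod 2] E := fun θ => (if θ ∈ F then f θ else 0) -
      ((if θ ∈ F1 then a • f1 θ else 0) + (if θ ∈ F2 then b • f2 θ else 0))
    have hg : ∀ θ ∈ F ∪ (F1 ∪ F2), g θ ∈ wsp R A θ := fun θ _ => by
      refine sub_mem ?_ (add_mem ?_ ?_) <;> split_ifs with h
      · exact (hf θ h).2
      · exact zero_mem _
      · exact Submodule.smul_mem _ _ (hf1 θ h).2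
      · exact zero_mem _
      · exact Submodule.smul_mem _ _ (hf2 θ h).2
      · exact zero_mem _
    have hsum : ∑ θ ∈ F ∪ (F1 ∪ F2), g θ = 0 := by
      simp only [g, Finset.sum_sub_distrib, Finset.sum_add_distrib, Finset.sum_ite_mem, ← Finset.smul_sum]
      rw [Finset.inter_eq_right.2 Finset.subset_union_left,
        Finset.inter_eq_right.2 (Finset.subset_union_left.trans Finset.subset_union_right),
        Finset.inter_eq_right.2 (Finset.subset_union_right.trans Finset.subset_union_right), he, sub_self]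
    have h0 : g θ = 0 := by
      by_cases hθ : θ ∈ F ∪ (F1 ∪ F2)
      · exact indep R A _ g hg hsum θ hθ
      · simp only [Finset.mem_union, not_or] at hθ
        simp [g, hθ.1, hθ.2.1, hθ.2.2]
    simp only [g, sub_eq_zero] at h0
    by_cases h1 : θ ∈ F1
    · have h2 : θ ∉ F2 := Finset.disjoint_left.1 hdisj h1
      simp only [h1, h2, if_true, if_false, add_zero, and_true, and_false, or_false] at h0 ⊢
      constructor
      · intro h ha
        rw [if_pos h, ha, zero_smul] at h0
        exact (hf θ h).1 h0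
      · intro ha
        by_contra h
        rw [if_neg h] at h0
        exact (hf1 θ h1).1 ((smul_eq_zero.1 h0.symm).resolve_left ha)
    · by_cases h2 : θ ∈ F2
      · simp only [h1, h2, if_true, if_false, zero_add, and_true, and_false, false_or] at h0 ⊢
        constructor
        · intro h hb
          rw [if_pos h, hb, zero_smul] at h0
          exact (hf θ h).1 h0
        · intro hb
          by_contra h
          rw [if_neg h] at h0
          exact (hf2 θ h2).1 ((smul_eq_zero.1 h0.symm).resolve_left hb)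
      · simp only [h1, h2, if_false, add_zero, and_false, or_false, iff_false] at h0 ⊢
        intro h
        rw [if_pos h] at h0
        exact (hf θ h).1 h0
  have h12 : LinearIndependent kk ![s1, s2] := by
    rw [LinearIndependent.pair_iff]
    intro a b h
    have hc := coef ∅ (fun _ => 0) (by simp) a b (by simpa using h.symm)
    constructor
    · by_contra ha
      exact absurd ((hc χ).2 (Or.inl ⟨ha, hχF1⟩)) (Finset.notMem_empty _)
    · by_contra hb
      exact absurd ((hc _).2 (Or.inr ⟨hb, hxF2⟩)) (Finset.notMem_empty _)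
  have hle : Submodule.span kk (Set.range ![s1, s2]) ≤ Φ := by
    rw [Submodule.span_le, Matrix.range_cons, Matrix.range_cons, Matrix.range_empty]
    simp only [Set.union_empty, Set.singleton_union, Set.insert_subset_iff, Set.singleton_subset_iff]
    exact ⟨mem_span_of_fixed ρ (T : Set S) hs1, mem_span_of_fixed ρ (T : Set S) hs2⟩
  have hr2 : Module.finrank kk (Submodule.span kk (Set.range ![s1, s2])) = 2 := by
    rw [finrank_span_eq_card h12, Fintype.card_fin]
  have hd2 : 2 ≤ d := by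
    have := Submodule.finrank_mono hle
    omega
  rcases Nat.lt_or_ge 2 d with h3 | h3
  · refine Or.inl ?_
    rw [hcard]
    calc 8 = 2 ^ 3 := rfl
      _ ≤ 2 ^ d := Nat.pow_le_pow_right (by norm_num) h3
  have hd' : d = 2 := by omega
  refine Or.inr ⟨by rw [hcard, hd']; norm_num, ?_⟩
  by_contra! hinv
  have hΦ : Submodule.span kk (Set.range ![s1, s2]) = Φ :=
    Submodule.eq_of_le_of_finrank_le hle (by omega)
  have hxΦ : ∀ w ∈ Φ, R x w ∈ Φ := by
    intro w hw
    induction hw using Submodule.span_induction with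
    | mem w hw =>
      obtain ⟨e, he, rfl⟩ := hw
      refine Submodule.subset_span ⟨ρ x e, hinv e he, ?_⟩
      show _ = (ρ x).baseChange kk (1 ⊗ₜ e)
      rw [LinearMap.baseChange_tmul]
    | zero => rw [map_zero]; exact zero_mem _
    | add w w' _ _ h h' => rw [map_add]; exact add_mem h h'
    | smul c w _ h => rw [map_smul]; exact Submodule.smul_mem _ _ h
  have img : ∀ (F : Finset (A →* kk)) (f : (A →* kk) → kk ⊗[ZMod 2] E),
      (∀ θ ∈ F, f θ ≠ 0 ∧ f θ ∈ wsp R A θ) → ∑ θ ∈ F, f θ ∈ Φ →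
      F.image (tw A x) = F1 ∨ F.image (tw A x) = F2 ∨ F.image (tw A x) = F1 ∪ F2 ∨ F = ∅ := by
    intro F f hf hs
    have hmem := hxΦ _ hs
    rw [← hΦ, Matrix.range_cons, Matrix.range_cons, Matrix.range_empty, Set.union_empty,
      Set.singleton_union, Submodule.mem_span_pair] at hmem
    obtain ⟨a, b, hab⟩ := hmem
    have hinjtw : Function.Injective (tw A x) := fun a b h => by
      have := congrArg (tw A x⁻¹) h
      simpa [← tw_mul, tw_one] using this
    have hc := coef (F.image (tw A x)) (fun θ => R x (f (tw A x⁻¹ θ))) (fun θ hθ => by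
      obtain ⟨η, hη, rfl⟩ := Finset.mem_image.1 hθ
      rw [← tw_mul A x⁻¹ x, inv_mul_cancel, tw_one]
      exact ⟨fun e => (hf η hη).1 (hinj _ e), map_wsp R A x (hf η hη).2⟩) a b (by
      rw [hab, map_sum, Finset.sum_image fun a _ b _ h => hinjtw h]
      exact Finset.sum_congr rfl fun η _ => by rw [← tw_mul A x⁻¹ x, inv_mul_cancel, tw_one])
    by_cases ha : a = 0 <;> by_cases hb : b = 0
    · refine Or.inr (Or.inr (Or.inr ?_))
      rw [← Finset.image_eq_empty (f := tw A x)]
      ext θ; simp [hc, ha, hb]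
    · exact Or.inr (Or.inl (by ext θ; simp [hc, ha, hb]))
    · exact Or.inl (by ext θ; simp [hc, ha, hb])
    · exact Or.inr (Or.inr (Or.inl (by ext θ; simp [hc, ha, hb])))
  have hcardimg : ∀ F : Finset (A →* kk), (F.image (tw A x)).card = F.card := fun F =>
    Finset.card_image_of_injective _ fun a b h => by
      have := congrArg (tw A x⁻¹) h
      simpa [← tw_mul, tw_one] using this
  have hpos1 : 0 < F1.card := Finset.card_pos.2 ⟨χ, hχF1⟩
  have hpos2 : 0 < F2.card := Finset.card_pos.2 ⟨_, hxF2⟩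
  have hunion := Finset.card_union_of_disjoint hdisj
  have hnot : ∀ F : Finset (A →* kk), (¬ ∀ θ ∈ F, tw A x θ ∈ F) → F.image (tw A x) ≠ F :=
    fun F h e => h fun θ hθ => e ▸ Finset.mem_image_of_mem _ hθ
  have e1 : F1.image (tw A x) = F2 := by
    rcases img F1 f1 hf1 (mem_span_of_fixed ρ (T : Set S) hs1) with e | e | e | e
    · exact absurd e (hnot F1 hn1)
    · exact e
    · have := hcardimg F1; rw [e, hunion] at this; omega
    · rw [e] at hpos1; simp at hpos1
  have e2 : F2.image (tw A x) = F1 := by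
    rcases img F2 f2 hf2 (mem_span_of_fixed ρ (T : Set S) hs2) with e | e | e | e
    · exact e
    · exact absurd e (hnot F2 hn2)
    · have := hcardimg F2; rw [e, hunion] at this; omega
    · rw [e] at hpos2; simp at hpos2
  -- `x` is a power of its square
  refine hn1 fun θ hθ => ?_
  have h2 : ∀ m : ℕ, ∀ θ ∈ F1, tw A (x ^ (2 * m)) θ ∈ F1 := by
    intro m
    induction m with
    | zero => intro θ hθ; simpa [tw_one] using hθ
    | succ m ih =>
      intro θ hθ
      rw [show 2 * (m + 1) = 2 + 2 * m by ring, pow_add, tw_mul, pow_two, tw_mul, ← e2]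
      exact Finset.mem_image_of_mem _ (e1 ▸ Finset.mem_image_of_mem _ (ih θ hθ))
  obtain ⟨m, hm⟩ : Odd q := hq.odd_of_ne_two hq2
  have hxx : x ^ (2 * (m + 1)) = x := by
    rw [show 2 * (m + 1) = orderOf x + 1 by omega, pow_succ, pow_orderOf_eq_one, one_mul]
  have := h2 (m + 1) θ hθ
  rwa [hxx] at this

end Cfsg.Agent.FixedTwoModule
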