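/-
G₂(F): the torus in root coordinates and the two commuting SL₂'s of the orthogonal pair a, 3a+2b.
-/
import Cfsg.Agent.Lib.Chev.SL2
import Cfsg.Agent.Lib.Chev.AllC
import Cfsg.Agent.Lib.Chev.Cent
import Cfsg.Agent.Lib.Chev.Bruhat

set_option autoImplicit false

namespace Cfsg.Agent.FGS.G2I

open Cfsg.Lie Cfsg.Agent.Chev
open scoped MatrixGroups

variable {F : Type*} [Field F]

/-- Two homomorphisms out of SL₂ agreeing on the elementary matrices are equal. -/
theorem sl2_hom_ext {G : Type*} [Group G] {f g : SL(2, F) →* G}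
    (hu : ∀ t, f (sU t) = g (sU t)) (hl : ∀ t, f (sL t) = g (sL t)) : f = g := by
  refine MonoidHom.ext fun x => ?_
  induction x using sl2_induction with
  | one => rw [map_one, map_one]
  | hu t x ih => rw [map_mul, map_mul, ih, hu]
  | hw x ih => rw [map_mul, map_mul, ih, sW_eq]; simp only [map_mul, hu, hl]

/-- Conjugation of SL₂ by `diag(a, 1)`. -/
def sg (a : Fˣ) : SL(2, F) →* SL(2, F) where
  toFun x := ⟨!![x.1 0 0, a * x.1 0 1; (a⁻¹ : Fˣ) * x.1 1 0, x.1 1 1], by
    have e := x.2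
    rw [Matrix.det_fin_two] at e
    rw [Matrix.det_fin_two_of, ← mul_assoc, mul_right_comm (a : F), Units.mul_inv, one_mul, e]⟩
  map_one' := by
    apply Subtype.ext
    ext i j
    fin_cases i <;> fin_cases j <;> simp
  map_mul' x y := by
    apply Subtype.ext
    show !![(x * y).1 0 0, (a : F) * (x * y).1 0 1; ((a⁻¹ : Fˣ) : F) * (x * y).1 1 0, (x * y).1 1 1] =
      !![x.1 0 0, (a : F) * x.1 0 1; ((a⁻¹ : Fˣ) : F) * x.1 1 0, x.1 1 1] *
        !![y.1 0 0, (a : F) * y.1 0 1; ((a⁻¹ : Fˣ) : F) * y.1 1 0, y.1 1 1]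
    ext i j
    fin_cases i <;> fin_cases j <;>
      simp [Matrix.SpecialLinearGroup.coe_mul, Matrix.mul_apply, Fin.sum_univ_two] <;> field_simp

theorem coe_sg (a : Fˣ) (x : SL(2, F)) :
    (sg a x).1 = !![x.1 0 0, a * x.1 0 1; (a⁻¹ : Fˣ) * x.1 1 0, x.1 1 1] := rfl

theorem sg_sU (a : Fˣ) (t : F) : sg a (sU t) = sU (a * t) := by
  apply Subtype.ext; simp [coe_sg, coe_sU]

theorem sg_sL (a : Fˣ) (t : F) : sg a (sL t) = sL ((a⁻¹ : Fˣ) * t) := by
  apply Subtype.ext; simp [coe_sg, coe_sL]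

theorem sg_one (x : SL(2, F)) : sg 1 x = x := by
  apply Subtype.ext; rw [coe_sg]; ext i j; fin_cases i <;> fin_cases j <;> simp

theorem sg_sg (a b : Fˣ) (x : SL(2, F)) : sg a (sg b x) = sg (a * b) x := by
  apply Subtype.ext; rw [coe_sg, coe_sg, coe_sg]
  ext i j; fin_cases i <;> fin_cases j <;> simp <;> ring

/-- The diagonal matrices of SL₂. -/
def dg : Fˣ →* SL(2, F) where
  toFun a := ⟨!![(a : F), 0; 0, (a⁻¹ : Fˣ)], by simp [Matrix.det_fin_two_of]⟩
  map_one' := by apply Subtype.ext; simp [Matrix.one_fin_two]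
  map_mul' a b := by
    apply Subtype.ext
    show !![((a * b : Fˣ) : F), 0; 0, ((a * b)⁻¹ : Fˣ)] =
      !![(a : F), 0; 0, (a⁻¹ : Fˣ)] * !![(b : F), 0; 0, (b⁻¹ : Fˣ)]
    simp [mul_comm]

theorem coe_dg (a : Fˣ) : (dg a).1 = !![(a : F), 0; 0, (a⁻¹ : Fˣ)] := rfl

theorem dg_eq (a : Fˣ) : dg a = (sU (a : F) * sL (-(a : F)⁻¹) * sU (a : F)) * (sU (-1) * sL 1 * sU (-1)) := by
  have ha : (a : F) ≠ 0 := a.ne_zero
  apply Subtype.ext
  simp [Matrix.SpecialLinearGroup.coe_mul, coe_dg, coe_sU, coe_sL, ha]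

theorem dg_neg_one : dg (-1 : Fˣ) = (-1 : SL(2, F)) := by
  apply Subtype.ext
  ext i j
  fin_cases i <;> fin_cases j <;> simp [coe_dg]

local notation "h" => Chev.G2.ok

theorem rlt {r : ℕ} (hr : r < 12) : r < G2.pk.nroots := hr

/-- The homomorphism of SL₂ onto the subgroup of the root pair `± r`. -/
noncomputable def phR (r : ℕ) (hr : r < 12) : SL(2, F) →* GL chevG2.Idx F :=
  Classical.choose ((h).exists_sl2 (F := F) ckRefl_G2 (rlt hr))

theorem phR_spec (r : ℕ) (hr : r < 12) :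
    (phR (F := F) r hr).range = chevG2.rootSubgroup F r ⊔ chevG2.rootSubgroup F (G2.pk.ng r) ∧
      (∀ t : F, phR r hr (sU t) = (h).xG r t) ∧ ∀ t : F, phR r hr (sL t) = (h).xG (G2.pk.ng r) t :=
  Classical.choose_spec ((h).exists_sl2 (F := F) ckRefl_G2 (rlt hr))

theorem phR_mem (r : ℕ) (hr : r < 12) (x : SL(2, F)) : phR r hr x ∈ chevG2.group F := by
  induction x using sl2_induction with
  | one => rw [map_one]; exact one_mem _
  | hu t x ih => rw [map_mul, (phR_spec r hr).2.1]; exact mul_mem ((h).mem_group_of_xG _ _) ih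
  | hw x ih =>
    rw [map_mul, sW_eq, map_mul, map_mul, (phR_spec r hr).2.1, (phR_spec r hr).2.2]
    exact mul_mem (mul_mem (mul_mem ((h).mem_group_of_xG _ _) ((h).mem_group_of_xG _ _))
      ((h).mem_group_of_xG _ _)) ih

theorem phR_sW (r : ℕ) (hr : r < 12) : phR (F := F) r hr sW = (h).nt r 1 := by
  rw [sW_eq, map_mul, map_mul, (phR_spec r hr).2.1, (phR_spec r hr).2.2, Ok.nt, inv_one]

/-- The coroot cocharacter as a parameter vector. -/
def cco (r : ℕ) (a : Fˣ) : Fin G2.pk.rank → Fˣ := fun i => a ^ G2.pk.co r i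

theorem hchar_cco (r : ℕ) (a : Fˣ) (s : ℕ) : hchar G2.pk (cco r a) s = (a : F) ^ G2.pk.pair r s := by
  simp only [hchar, cco, Units.val_zpow_eq_zpow_val, ← zpow_mul]
  rw [prod_zpow a.ne_zero, Pk.pair, ← List.sum_toFinset _ List.nodup_range]
  rw [show (List.range G2.pk.rank).toFinset = Finset.range G2.pk.rank by ext; simp,
    Fin.sum_univ_eq_sum_range (fun i => G2.pk.co r i * G2.pk.A i s)]

theorem phR_dg (r : ℕ) (hr : r < 12) (a : Fˣ) : phR r hr (dg a) = (h).hHom (cco r a) := by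
  have e : phR r hr (dg a) = (h).ht r (a : F) := by
    rw [dg_eq]
    simp only [map_mul, (phR_spec r hr).2.1, (phR_spec r hr).2.2]
    rw [Ok.ht, Ok.nt, Ok.nt, inv_neg, inv_one, neg_neg]
  rw [e, (h).ht_eq (rlt hr) a.ne_zero]
  apply Units.ext
  rw [Ok.coe_hHom, Ok.coe_dG]
  congr 1
  funext s
  rw [hchar_cco]

theorem hHom_phR (r : ℕ) (hr : r < 12) (c : Fin G2.pk.rank → Fˣ) (u : Fˣ)
    (hu : (u : F) = hchar G2.pk c r) (x : SL(2, F)) :
    (h).hHom c * phR r hr x * ((h).hHom c)⁻¹ = phR r hr (sg u x) := by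
  have e : (MulAut.conj ((h).hHom c)).toMonoidHom.comp (phR r hr) = (phR r hr).comp (sg u) := by
    refine sl2_hom_ext (fun t => ?_) (fun t => ?_)
    · rw [MonoidHom.comp_apply, MonoidHom.comp_apply, sg_sU, (phR_spec r hr).2.1, (phR_spec r hr).2.1,
        MulEquiv.toMonoidHom_eq_coe, MonoidHom.coe_coe, MulAut.conj_apply, (h).hHom_xG c (rlt hr), hu]
    · rw [MonoidHom.comp_apply, MonoidHom.comp_apply, sg_sL, (phR_spec r hr).2.2, (phR_spec r hr).2.2,
        MulEquiv.toMonoidHom_eq_coe, MonoidHom.coe_coe, MulAut.conj_apply, (h).hHom_xG c (Ok.ng_lt (rlt hr)),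
        ((h).isChar_hchar c).neg r (rlt hr), Units.val_inv_eq_inv_val, hu]
  simpa using DFunLike.congr_fun e x

theorem phR_injective (r : ℕ) (hr : r < 12) (s : ℕ) (hs : s < 12) (hodd : G2.pk.pair r s % 2 = 1)
    (hself : G2.pk.pair r r = 2) : Function.Injective (phR (F := F) r hr) := by
  rw [injective_iff_map_eq_one]
  intro x hx
  have hdet : x.1 0 0 * x.1 1 1 - x.1 0 1 * x.1 1 0 = 1 := by
    rw [← Matrix.det_fin_two]; exact x.2
  by_cases hc : x.1 1 0 = 0
  · have ha : x.1 0 0 ≠ 0 := by intro e; rw [e, hc] at hdet; simp at hdet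
    have hd : x.1 1 1 = (x.1 0 0)⁻¹ := by
      rw [hc, mul_zero, sub_zero] at hdet
      exact eq_inv_of_mul_eq_one_right hdet
    have e : x = sU (x.1 0 1 * x.1 0 0) * dg (Units.mk0 _ ha) := by
      apply Subtype.ext
      ext i j
      fin_cases i <;> fin_cases j <;>
        simp [Matrix.SpecialLinearGroup.coe_mul, coe_sU, coe_dg, Matrix.mul_apply, Fin.sum_univ_two, hc, hd, ha]
    set a := Units.mk0 _ ha with hadef
    set u := x.1 0 1 * x.1 0 0 with hudef
    rw [e, map_mul, phR_dg, (phR_spec r hr).2.1, mul_eq_one_iff_eq_inv'] at hx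
    -- xG r u = hHom ..
    have hx' : (h).hHom (cco r a) = (h).xG r (-u) := by
      rw [hx, (h).xG_inv]
    have hcomm : ∀ t : F, (h).hHom (cco r a) * (h).xG r t * ((h).hHom (cco r a))⁻¹ = (h).xG r t := by
      intro t
      rw [hx', (h).xG_inv, (h).xG_add, (h).xG_add]
      congr 1; ring
    have h2 : (a : F) ^ (2 : ℤ) = 1 := by
      have e2 := hcomm 1
      rw [(h).hHom_xG _ (rlt hr), hchar_cco, hself] at e2
      simpa using (h).xG_inj_param (rlt hr) e2
    have hu0 : u = 0 := by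
      have hmem : (h).xG r (-u) ∈ chevG2.diagonalSubgroup F := by
        rw [← hx']; exact (h).mem_diagonal_iff.2 ⟨_, rfl⟩
      have e3 : (h).xG r (-u) = 1 := by
        cases hp : G2.pk.isPos r
        · have h5 : (h).xG r (-u) ∈ chevG2.borelSubgroup F ⊓ chevG2.negUnipotent F :=
            ⟨Subgroup.mem_sup_right hmem, (h).xG_mem_neg (rlt hr) hp _⟩
          rwa [(h).borel_inf_neg, Subgroup.mem_bot] at h5
        · have h5 : (h).xG r (-u) ∈ chevG2.posUnipotent F ⊓ chevG2.diagonalSubgroup F :=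
            ⟨(h).xG_mem_pos hp _, hmem⟩
          rwa [(h).pos_inf_diagonal, Subgroup.mem_bot] at h5
      exact neg_eq_zero.1 ((h).xG_inj_param (rlt hr) (e3.trans ((h).xG_zero r).symm))
    have h1 : (a : F) = 1 := by
      rw [hu0, neg_zero, (h).xG_zero] at hx'
      have e4 := (h).hHom_xG (cco r a) (rlt hs) (1 : F)
      rw [hx', one_mul, inv_one, mul_one, hchar_cco, mul_one] at e4
      have e5 : (a : F) ^ G2.pk.pair r s = 1 := ((h).xG_inj_param (rlt hs) e4).symm
      obtain ⟨k, hk⟩ : ∃ k, G2.pk.pair r s = 2 * k + 1 := ⟨G2.pk.pair r s / 2, by omega⟩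
      rwa [hk, zpow_add₀ a.ne_zero, zpow_mul, h2, one_zpow, one_mul, zpow_one] at e5
    rw [e, hu0, show a = 1 from Units.ext h1, map_one, mul_one]
    apply Subtype.ext
    simp [coe_sU, Matrix.one_fin_two]
  · exfalso
    have ht : -(x.1 1 0)⁻¹ ≠ 0 := neg_ne_zero.2 (inv_ne_zero hc)
    set t := -(x.1 1 0)⁻¹
    set u := x.1 0 0 / x.1 1 0
    set v := x.1 1 1 / x.1 1 0
    have e : x = sU u * (sN t ht * sU v) := by
      apply Subtype.ext
      ext i j
      fin_cases i <;> fin_cases j <;>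
        simp [Matrix.SpecialLinearGroup.coe_mul, coe_sU, coe_sN, Matrix.mul_apply, Fin.sum_univ_two, t, u, v] <;>
        field_simp <;> linear_combination -hdet
    have eN : phR r hr (sN t ht) = (h).xG r (-u + -v) := by
      rw [e, map_mul, map_mul, (phR_spec r hr).2.1, (phR_spec r hr).2.1] at hx
      calc phR r hr (sN t ht)
          = ((h).xG r u)⁻¹ * ((h).xG r u * (phR r hr (sN t ht) * (h).xG r v)) * ((h).xG r v)⁻¹ := by group
        _ = (h).xG r (-u + -v) := by rw [hx, mul_one, (h).xG_inv, (h).xG_inv, (h).xG_add]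
    have e1 : sN t ht * sU 1 = sL (-(t⁻¹ * t⁻¹)) * sN t ht := by
      apply Subtype.ext
      simp [Matrix.SpecialLinearGroup.coe_mul, coe_sU, coe_sL, coe_sN]
      field_simp
    have e2 := congrArg (phR r hr) e1
    rw [map_mul, map_mul, eN, (phR_spec r hr).2.1, (phR_spec r hr).2.2, (h).xG_add] at e2
    rw [show (-u + -v + 1) = 1 + (-u + -v) by ring, ← (h).xG_add] at e2
    have e3 := mul_right_cancel e2
    have := (h).xG_index_inj (rlt hr) (Ok.ng_lt (rlt hr)) one_ne_zero e3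
    simp only [Pk.ng, show G2.pk.nroots = 12 from rfl] at this
    omega

/-- Parameters of the torus element with prescribed values on the simple roots. -/
def cc : Fˣ × Fˣ →* (Fin G2.pk.rank → Fˣ) where
  toFun p i := if i.val = 0 then p.1 ^ 2 * p.2 else p.1 ^ 3 * p.2 ^ 2
  map_one' := by funext i; by_cases e : i.val = 0 <;> simp [e]
  map_mul' p q := by
    funext i
    by_cases e : i.val = 0 <;> simp [e, mul_pow, mul_mul_mul_comm]

theorem hchar_two (c : Fin G2.pk.rank → Fˣ) (s : ℕ) :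
    hchar G2.pk c s = (c ⟨0, by decide⟩ : F) ^ G2.pk.A 0 s * (c ⟨1, by decide⟩ : F) ^ G2.pk.A 1 s := by
  show ∏ i : Fin 2, (c i : F) ^ G2.pk.A i s = _
  rw [Fin.prod_univ_two]
  rfl

theorem hchar_cc (p : Fˣ × Fˣ) (s : ℕ) : hchar G2.pk (cc p) s =
    ((p.1 ^ 2 * p.2) ^ G2.pk.A 0 s * (p.1 ^ 3 * p.2 ^ 2) ^ G2.pk.A 1 s : Fˣ) := by
  rw [hchar_two, Units.val_mul, Units.val_zpow_eq_zpow_val, Units.val_zpow_eq_zpow_val]
  rfl

/-- The torus element with prescribed values on the simple roots. -/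
noncomputable def T : Fˣ × Fˣ →* GL chevG2.Idx F := ((h).hHom (F := F)).comp cc

theorem T_apply (p : Fˣ × Fˣ) : T p = (h).hHom (cc p) := rfl

/-- The value of a torus element on the highest root. -/
def gm : Fˣ × Fˣ →* Fˣ where
  toFun p := p.1 ^ 3 * p.2 ^ 2
  map_one' := by simp
  map_mul' p q := by simp [mul_pow, mul_mul_mul_comm]

theorem gm_apply (p : Fˣ × Fˣ) : gm p = p.1 ^ 3 * p.2 ^ 2 := rfl

theorem chr_seven (p : Fˣ × Fˣ) : hchar G2.pk (cc p) 7 = (p.1 : F) := by
  rw [hchar_cc, show G2.pk.A 0 7 = 2 from rfl, show G2.pk.A 1 7 = -1 from rfl]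
  simp only [zpow_ofNat, zpow_neg, zpow_one, pow_one, Units.val_mul, Units.val_pow_eq_pow_val,
    Units.val_inv_eq_inv_val]
  field_simp

theorem chr_six (p : Fˣ × Fˣ) : hchar G2.pk (cc p) 6 = (p.2 : F) := by
  rw [hchar_cc, show G2.pk.A 0 6 = -3 from rfl, show G2.pk.A 1 6 = 2 from rfl]
  simp only [zpow_ofNat, zpow_neg, Units.val_mul, Units.val_pow_eq_pow_val, Units.val_inv_eq_inv_val]
  field_simp

theorem chr_eleven (p : Fˣ × Fˣ) : hchar G2.pk (cc p) 11 = (gm p : F) := by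
  rw [hchar_cc, show G2.pk.A 0 11 = 0 from rfl, show G2.pk.A 1 11 = 1 from rfl]
  simp [gm_apply]

theorem chr_eight (p : Fˣ × Fˣ) : hchar G2.pk (cc p) 8 = ((p.1 * p.2 : Fˣ) : F) := by
  rw [hchar_cc, show G2.pk.A 0 8 = -1 from rfl, show G2.pk.A 1 8 = 1 from rfl]
  simp only [zpow_ofNat, zpow_neg, zpow_one, pow_one, Units.val_mul, Units.val_pow_eq_pow_val,
    Units.val_inv_eq_inv_val]
  field_simp

theorem cc_surjective : Function.Surjective (cc (F := F)) := by
  intro c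
  refine ⟨(c ⟨0, by decide⟩ ^ 2 * (c ⟨1, by decide⟩)⁻¹, (c ⟨0, by decide⟩ ^ 3)⁻¹ * c ⟨1, by decide⟩ ^ 2), ?_⟩
  funext i
  obtain ⟨i, hi⟩ := i
  have hi2 : i < 2 := hi
  interval_cases i <;>
    apply Units.ext <;> simp [cc] <;> field_simp

theorem T_range : (T (F := F)).range = chevG2.diagonalSubgroup F := by
  rw [(h).diagonal_eq, T, MonoidHom.range_comp, MonoidHom.range_eq_top.2 cc_surjective,
    ← MonoidHom.range_eq_map]

theorem T_mem (p : Fˣ × Fˣ) : T p ∈ chevG2.group F :=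
  (h).diagonal_le_group (T_range (F := F) ▸ ⟨p, rfl⟩)

theorem T_xG (p : Fˣ × Fˣ) {r : ℕ} (hr : r < 12) (t : F) :
    T p * (h).xG r t * (T p)⁻¹ = (h).xG r (hchar G2.pk (cc p) r * t) :=
  (h).hHom_xG (cc p) (rlt hr) t

theorem T_injective : Function.Injective (T (F := F)) := by
  intro p q e
  have key : ∀ r, r < 12 → hchar G2.pk (cc p) r = hchar G2.pk (cc q) r := by
    intro r hr
    have e1 := T_xG p hr (1 : F)
    rw [e, T_xG q hr] at e1
    simpa using ((h).xG_inj_param (rlt hr) e1).symm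
  exact Prod.ext (Units.ext (by rw [← chr_seven, ← chr_seven, key 7 (by omega)]))
    (Units.ext (by rw [← chr_six, ← chr_six, key 6 (by omega)]))

/-- The SL₂ of the short root a. -/
noncomputable def phA : SL(2, F) →* GL chevG2.Idx F := phR 7 (by omega)

/-- The SL₂ of the highest root, orthogonal to a. -/
noncomputable def phC : SL(2, F) →* GL chevG2.Idx F := phR 11 (by omega)

theorem phA_sU (t : F) : phA (sU t) = (h).xG 7 t := (phR_spec 7 _).2.1 t
theorem phA_sL (t : F) : phA (sL t) = (h).xG 4 t := (phR_spec 7 _).2.2 t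
theorem phC_sU (t : F) : phC (sU t) = (h).xG 11 t := (phR_spec 11 _).2.1 t
theorem phC_sL (t : F) : phC (sL t) = (h).xG 0 t := (phR_spec 11 _).2.2 t
theorem phA_sW : phA (F := F) sW = (h).nt 7 1 := phR_sW 7 _
theorem phC_sW : phC (F := F) sW = (h).nt 11 1 := phR_sW 11 _
theorem phA_mem (x : SL(2, F)) : phA x ∈ chevG2.group F := phR_mem 7 _ x
theorem phC_mem (x : SL(2, F)) : phC x ∈ chevG2.group F := phR_mem 11 _ x

theorem phA_injective : Function.Injective (phA (F := F)) :=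
  phR_injective 7 _ 6 (by omega) (by decide +kernel) (by decide +kernel)

theorem phC_injective : Function.Injective (phC (F := F)) :=
  phR_injective 11 _ 6 (by omega) (by decide +kernel) (by decide +kernel)

theorem phA_dg (a : Fˣ) : phA (dg a) = T (a ^ 2, (a ^ 3)⁻¹) := by
  rw [phA, phR_dg, T_apply]
  congr 1
  funext i
  obtain ⟨i, hi⟩ := i
  have hi2 : i < 2 := hi
  interval_cases i <;> apply Units.ext <;>
    simp [cco, cc, show G2.pk.co 7 0 = 1 from rfl, show G2.pk.co 7 1 = 0 from rfl] <;> field_simp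

theorem phC_dg (a : Fˣ) : phC (dg a) = T (1, a) := by
  rw [phC, phR_dg, T_apply]
  congr 1
  funext i
  obtain ⟨i, hi⟩ := i
  have hi2 : i < 2 := hi
  interval_cases i <;> apply Units.ext <;>
    simp [cco, cc, show G2.pk.co 11 0 = 1 from rfl, show G2.pk.co 11 1 = 2 from rfl]

theorem T_phA (p : Fˣ × Fˣ) (x : SL(2, F)) : T p * phA x * (T p)⁻¹ = phA (sg p.1 x) :=
  hHom_phR 7 _ (cc p) p.1 (chr_seven p).symm x

theorem T_phC (p : Fˣ × Fˣ) (x : SL(2, F)) : T p * phC x * (T p)⁻¹ = phC (sg (gm p) x) :=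
  hHom_phR 11 _ (cc p) (gm p) (chr_eleven p).symm x

theorem phA_T (p : Fˣ × Fˣ) (x : SL(2, F)) : phA x * T p = T p * phA (sg p.1⁻¹ x) := by
  have e := T_phA p⁻¹ x
  rw [map_inv, inv_inv, Prod.fst_inv] at e
  rw [← e]; group

theorem phC_T (p : Fˣ × Fˣ) (x : SL(2, F)) : phC x * T p = T p * phC (sg (gm p)⁻¹ x) := by
  have e := T_phC p⁻¹ x
  rw [map_inv, inv_inv, map_inv] at e
  rw [← e]; group

theorem commute_AC (x y : SL(2, F)) : phA x * phC y = phC y * phA x := by
  have gen : ∀ r < 12, ∀ s < 12, s ≠ r → s ≠ G2.pk.ng r → G2.pk.cword r s = [] → ∀ t u : F,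
      (h).xG r t * (h).xG s u = (h).xG s u * (h).xG r t := by
    intro r hr s hs h1 h2 hw t u
    rw [(h).comm_xG ckComm_G2 (rlt hr) (rlt hs) h1 h2 t u, hw, List.map_nil, List.prod_nil, mul_one]
  have g1 := gen 7 (by omega) 11 (by omega) (by omega) (by decide +kernel) (by decide +kernel)
  have g2 := gen 4 (by omega) 11 (by omega) (by omega) (by decide +kernel) (by decide +kernel)
  have g3 := gen 7 (by omega) 0 (by omega) (by omega) (by decide +kernel) (by decide +kernel)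
  have g4 := gen 4 (by omega) 0 (by omega) (by omega) (by decide +kernel) (by decide +kernel)
  have step : ∀ g : GL chevG2.Idx F, (∀ t, g * (h).xG 11 t = (h).xG 11 t * g) →
      (∀ t, g * (h).xG 0 t = (h).xG 0 t * g) → ∀ y, g * phC y = phC y * g := by
    intro g k1 k2 y
    have e : (MulAut.conj g).toMonoidHom.comp phC = phC := by
      refine sl2_hom_ext (fun t => ?_) (fun t => ?_)
      · rw [MonoidHom.comp_apply, MulEquiv.toMonoidHom_eq_coe, MonoidHom.coe_coe, MulAut.conj_apply, phC_sU,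
          k1, mul_inv_cancel_right]
      · rw [MonoidHom.comp_apply, MulEquiv.toMonoidHom_eq_coe, MonoidHom.coe_coe, MulAut.conj_apply, phC_sL,
          k2, mul_inv_cancel_right]
    exact mul_inv_eq_iff_eq_mul.1 (DFunLike.congr_fun e y)
  have k7 := fun t => step ((h).xG 7 t) (g1 t) (g3 t) y
  have k4 := fun t => step ((h).xG 4 t) (g2 t) (g4 t) y
  have e : (MulAut.conj (phC y)).toMonoidHom.comp phA = phA := by
    refine sl2_hom_ext (fun t => ?_) (fun t => ?_)
    · rw [MonoidHom.comp_apply, MulEquiv.toMonoidHom_eq_coe, MonoidHom.coe_coe, MulAut.conj_apply, phA_sU,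
        ← k7, mul_inv_cancel_right]
    · rw [MonoidHom.comp_apply, MulEquiv.toMonoidHom_eq_coe, MonoidHom.coe_coe, MulAut.conj_apply, phA_sL,
        ← k4, mul_inv_cancel_right]
  exact (mul_inv_eq_iff_eq_mul.1 (DFunLike.congr_fun e x)).symm

/-- The involution t₀. -/
noncomputable def t0 : GL chevG2.Idx F := T (1, -1)

theorem phA_neg_one : phA (F := F) (-1) = t0 := by
  rw [← dg_neg_one, phA_dg, t0]
  congr 1
  ext <;> simp [pow_succ]

theorem phC_neg_one : phC (F := F) (-1) = t0 := by rw [← dg_neg_one, phC_dg, t0]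

end Cfsg.Agent.FGS.G2I
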