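/-
G₂(F), q odd: the centralizer of the involution t₀ and its order.
-/
import Cfsg.Agent.Lib.FGS.G2Torus
import Cfsg.Agent.Lib.InvChar.TwoSL2
import Cfsg.Agent.Lib.InvChar.SL2Pair

set_option autoImplicit false

namespace Cfsg.Agent.FGS.G2I

open Cfsg.Lie Cfsg.Agent.Chev
open scoped MatrixGroups

variable {F : Type*} [Field F]

local notation "h" => Chev.G2.ok

/-- A general element of the centralizer of t₀. -/
noncomputable def el (p : Fˣ × Fˣ) (x y : SL(2, F)) : GL chevG2.Idx F := T p * phA x * phC y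

theorem el_mul (p p' : Fˣ × Fˣ) (x x' y y' : SL(2, F)) :
    el p x y * el p' x' y' = el (p * p') (sg p'.1⁻¹ x * x') (sg (gm p')⁻¹ y * y') := by
  simp only [el, map_mul]
  calc T p * phA x * phC y * (T p' * phA x' * phC y')
      = T p * phA x * (phC y * T p') * phA x' * phC y' := by group
    _ = T p * (phA x * T p') * phC (sg (gm p')⁻¹ y) * phA x' * phC y' := by rw [phC_T]; group
    _ = T p * T p' * phA (sg p'.1⁻¹ x) * (phC (sg (gm p')⁻¹ y) * phA x') * phC y' := by rw [phA_T]; group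
    _ = _ := by rw [← commute_AC]; group

theorem el_one : el (F := F) 1 1 1 = 1 := by simp [el]

theorem T_el (p : Fˣ × Fˣ) : T p = el p 1 1 := by simp [el]
theorem phA_el (x : SL(2, F)) : phA x = el 1 x 1 := by simp [el]
theorem phC_el (y : SL(2, F)) : phC y = el 1 1 y := by simp [el]

/-- The subgroup `H · L₁L₂`. -/
noncomputable def K : Subgroup (GL chevG2.Idx F) where
  carrier := {g | ∃ p x y, g = el p x y}
  one_mem' := ⟨1, 1, 1, el_one.symm⟩
  mul_mem' := by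
    rintro _ _ ⟨p, x, y, rfl⟩ ⟨p', x', y', rfl⟩
    exact ⟨_, _, _, el_mul p p' x x' y y'⟩
  inv_mem' := by
    rintro _ ⟨p, x, y, rfl⟩
    refine ⟨p⁻¹, sg p.1 x⁻¹, sg (gm p) y⁻¹, inv_eq_of_mul_eq_one_right ?_⟩
    rw [el_mul, mul_inv_cancel, Prod.fst_inv, inv_inv, map_inv (gm (F := F)), inv_inv, ← map_mul, ← map_mul,
      mul_inv_cancel, mul_inv_cancel, map_one, map_one, el_one]

theorem el_mem_K (p : Fˣ × Fˣ) (x y : SL(2, F)) : el p x y ∈ K (F := F) := ⟨p, x, y, rfl⟩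

theorem el_mem (p : Fˣ × Fˣ) (x y : SL(2, F)) : el p x y ∈ chevG2.group F :=
  mul_mem (mul_mem (T_mem p) (phA_mem x)) (phC_mem y)

theorem K_le_group : K (F := F) ≤ chevG2.group F := by rintro _ ⟨p, x, y, rfl⟩; exact el_mem p x y

theorem T_mem_K (p : Fˣ × Fˣ) : T p ∈ K (F := F) := T_el p ▸ el_mem_K p 1 1
theorem phA_mem_K (x : SL(2, F)) : phA x ∈ K (F := F) := phA_el x ▸ el_mem_K 1 x 1
theorem phC_mem_K (y : SL(2, F)) : phC y ∈ K (F := F) := phC_el y ▸ el_mem_K 1 1 y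

theorem t0_comm {g : GL chevG2.Idx F} (hg : g ∈ K (F := F)) : t0 * g = g * t0 := by
  obtain ⟨p, x, y, rfl⟩ := hg
  rw [t0, T_el, el_mul, el_mul, mul_comm]
  simp [gm_apply, sg_one]

theorem chr_t0 {r : ℕ} (_hr : r < 12) :
    hchar G2.pk (cc ((1, -1) : Fˣ × Fˣ)) r = (-1 : F) ^ G2.pk.A 0 r := by
  rw [hchar_cc]
  simp

theorem chr_t0_parity {r : ℕ} (hr : r < 12) :
    hchar G2.pk (cc ((1, -1) : Fˣ × Fˣ)) r = if G2.pk.A 0 r % 2 = 0 then (1 : F) else -1 := by
  rw [chr_t0 hr]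
  split_ifs with e
  · exact (Int.even_iff.2 e).neg_one_zpow
  · exact (Int.odd_iff.2 (by omega)).neg_one_zpow

theorem hcomm_xG {p : Fˣ × Fˣ} {r : ℕ} (hr : r < 12) (t : F) :
    T p * (h).xG r t = (h).xG r (hchar G2.pk (cc p) r * t) * T p := by
  rw [← T_xG p hr, inv_mul_cancel_right]

theorem posL_G2 : posL G2.pk = [6, 7, 8, 9, 10, 11] := by decide +kernel

/-- An element of U fixed by t₀ lies in K. -/
theorem pos_fixed (h2 : (2 : F) ≠ 0) {u : GL chevG2.Idx F} (hu : u ∈ chevG2.posUnipotent F)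
    (hc : t0 * u = u * t0) : u ∈ K (F := F) := by
  obtain ⟨t, rfl⟩ := (h).pos_normal_form ckComm_G2 hu
  have push : ∀ L : List ℕ, (∀ r ∈ L, r < 12) → t0 * (L.map fun r => (h).xG r (t r)).prod =
      (L.map fun r => (h).xG r (hchar G2.pk (cc ((1, -1) : Fˣ × Fˣ)) r * t r)).prod * t0 := by
    intro L
    induction L with
    | nil => intro _; simp
    | cons r L ih =>
      intro hL
      simp only [List.map_cons, List.prod_cons]
      rw [← mul_assoc, t0, hcomm_xG (hL r List.mem_cons_self), mul_assoc, ← t0,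
        ih fun x hx => hL x (List.mem_cons_of_mem _ hx), mul_assoc]
  have hlt : ∀ r ∈ posL G2.pk, r < 12 := by rw [posL_G2]; decide
  rw [push _ hlt] at hc
  have key := (h).prod_unique _ posL_sorted (fun _ hr => mem_posL.1 hr) _ _ (mul_right_cancel hc)
  have zero : ∀ r ∈ posL G2.pk, G2.pk.A 0 r % 2 ≠ 0 → t r = 0 := by
    intro r hr ho
    have e := key r hr
    rw [chr_t0_parity (hlt r hr), if_neg ho] at e
    exact (mul_eq_zero.1 (show (2 : F) * t r = 0 by linear_combination -e)).resolve_left h2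
  rw [posL_G2] at zero ⊢
  simp only [List.map_cons, List.map_nil, List.prod_cons, List.prod_nil]
  rw [zero 6 (by simp) (by decide +kernel), zero 8 (by simp) (by decide +kernel),
    zero 9 (by simp) (by decide +kernel), zero 10 (by simp) (by decide +kernel)]
  simp only [Ok.xG_zero, one_mul, mul_one, ← phA_sU, ← phC_sU]
  exact mul_mem (phA_mem_K _) (phC_mem_K _)

/-- Representatives of the twelve Weyl group elements. -/
def W12 : List (List ℕ) := [[], [0], [1], [0, 1], [1, 0], [0, 1, 0], [1, 0, 1], [0, 1, 0, 1], [1, 0, 1, 0],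
  [0, 1, 0, 1, 0], [1, 0, 1, 0, 1], [0, 1, 0, 1, 0, 1]]

theorem W12_closed : ∀ i ∈ [0, 1], ∀ w ∈ W12, ∃ w' ∈ W12, ∀ r ∈ List.range 12,
    G2.pk.w i (wl G2.pk w r) = wl G2.pk w' r := by decide +kernel

theorem W12_fixed : ∀ w ∈ W12, (∀ r ∈ List.range 12, G2.pk.A 0 (wl G2.pk w r) % 2 = G2.pk.A 0 r % 2) →
    w ∈ [[], [0], [1, 0, 1, 0, 1], [0, 1, 0, 1, 0, 1]] := by decide +kernel

theorem W12_ok : ∀ w ∈ W12, WordOk G2.pk w := by
  show ∀ w ∈ W12, ∀ i ∈ w, i < 2
  decide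

theorem exists_W12 : ∀ l, WordOk G2.pk l → ∃ w ∈ W12, ∀ r < 12, wl G2.pk l r = wl G2.pk w r
  | [], _ => ⟨[], by simp [W12], fun _ _ => rfl⟩
  | i :: l, hl => by
    obtain ⟨w, hw, e⟩ := exists_W12 l hl.tail
    have hi : i < 2 := hl.head
    obtain ⟨w', hw', e'⟩ := W12_closed i (by interval_cases i <;> simp) w hw
    exact ⟨w', hw', fun r hr => by simp only [wl]; rw [e r hr]; exact e' r (List.mem_range.2 hr)⟩

theorem diag_le_K : chevG2.diagonalSubgroup F ≤ K (F := F) := by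
  rw [← T_range]; rintro _ ⟨p, rfl⟩; exact T_mem_K p

theorem n5_mem : (h).nW (F := F) [1, 0, 1, 0, 1] ∈ K (F := F) := by
  have hok : WordOk G2.pk [1, 0] := by show ∀ i ∈ [1, 0], i < 2; decide
  obtain ⟨e, -, hx⟩ := (h).nW_xG (F := F) [1, 0] hok 6 (rlt (by omega))
  have hg : (h).nW (F := F) [1, 0] * (h).nG 1 * ((h).nW [1, 0])⁻¹ ∈ K (F := F) := by
    have e1 : (h).nG (F := F) 1 = (h).xG 6 1 * (h).xG (G2.pk.ng 6) (-1) * (h).xG 6 1 := by
      rw [Ok.nG, show G2.pk.sim 1 = 6 from rfl, Ok.nt, inv_one]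
    rw [e1, show ∀ g x y z : GL chevG2.Idx F, g * (x * y * z) * g⁻¹ =
      (g * x * g⁻¹) * (g * y * g⁻¹) * (g * z * g⁻¹) by intros; group, (hx _).1, (hx _).2,
      show wl G2.pk [1, 0] 6 = 11 by decide +kernel, show G2.pk.ng 11 = 0 from rfl,
      ← phC_sU, ← phC_sL]
    exact mul_mem (mul_mem (phC_mem_K _) (phC_mem_K _)) (phC_mem_K _)
  have hd : (h).nW (F := F) [1, 0, 0, 1] ∈ K (F := F) := by
    refine diag_le_K ((h).nW_mem_diagonal (by show ∀ i ∈ [1, 0, 0, 1], i < 2; decide) ?_)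
    have : ∀ r ∈ List.range 12, wl G2.pk [1, 0, 0, 1] r = r := by decide +kernel
    exact fun r hr => this r (List.mem_range.2 hr)
  have hinv : (h).nW (F := F) [0, 1] = ((h).nW [1, 0])⁻¹ * (h).nW [1, 0, 0, 1] := by
    rw [show ([1, 0, 0, 1] : List ℕ) = [1, 0] ++ [0, 1] from rfl, Ok.nW_append, inv_mul_cancel_left]
  rw [show ([1, 0, 1, 0, 1] : List ℕ) = [1, 0] ++ ([1] ++ [0, 1]) from rfl, Ok.nW_append, Ok.nW_append, hinv,
    show (h).nW (F := F) [1] = (h).nG 1 by simp [Ok.nW_cons, Ok.nW_nil]]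
  convert mul_mem hg hd using 1
  group

theorem centralizer_le_K (h2 : (2 : F) ≠ 0) {g : GL chevG2.Idx F} (hg : g ∈ chevG2.group F)
    (hc : t0 * g = g * t0) : g ∈ K (F := F) := by
  obtain ⟨b, hb, l, hl, u, hu, rfl⟩ := (h).bruhat_exists ckComm_G2 hg
  have ht0 : (t0 : GL chevG2.Idx F) ∈ chevG2.diagonalSubgroup F := T_range (F := F) ▸ ⟨_, rfl⟩
  set n := (h).nW (F := F) l
  have hn1 : n = n * 1 := (mul_one n).symm
  have hu' : t0 * u * t0⁻¹ ∈ (h).genR (negS G2.pk l) := by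
    have hle : (h).genR (F := F) (negS G2.pk l) ≤
        ((h).genR (F := F) (negS G2.pk l)).comap (MulAut.conj (t0 (F := F))).toMonoidHom := by
      refine (h).genR_le fun r hr t => ?_
      rw [Subgroup.mem_comap, MulEquiv.toMonoidHom_eq_coe, MonoidHom.coe_coe, MulAut.conj_apply, t0,
        T_xG _ (show r < 12 from (G2.pk.isPos_iff.1 hr.1).2)]
      exact (h).xG_mem_genR hr _
    simpa [Subgroup.mem_comap] using hle hu
  set e := t0 * n * t0⁻¹ * n⁻¹ with he_def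
  have he : e ∈ chevG2.diagonalSubgroup F := by
    rw [he_def, show t0 * n * t0⁻¹ * n⁻¹ = t0 * (n * t0⁻¹ * n⁻¹) by group]
    exact mul_mem ht0 ((Subgroup.mem_normalizer_iff.1 ((h).nW_normalizer l hl) _).1 (inv_mem ht0))
  have hb' : t0 * b * t0⁻¹ * e ∈ chevG2.borelSubgroup F :=
    mul_mem (mul_mem (mul_mem (Subgroup.mem_sup_right ht0) hb) (inv_mem (Subgroup.mem_sup_right ht0)))
      (Subgroup.mem_sup_right he)
  obtain ⟨eb, eu⟩ := (h).bruhat_factor hl (one_mem (chevG2.diagonalSubgroup F)) hb hb' hu hu' (by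
    rw [← hn1]
    calc b * n * u = t0 * (b * n * u) * t0⁻¹ := by rw [hc]; group
      _ = _ := by rw [he_def]; group)
  obtain ⟨u1, hu1, d, hd, rfl⟩ := (h).mem_borel hb
  have hu1' : t0 * u1 * t0⁻¹ ∈ chevG2.posUnipotent F :=
    (Subgroup.mem_normalizer_iff.1 ((h).diagonal_normalizes ht0) u1).1 hu1
  have hdd : t0 * d * t0⁻¹ = d := by
    rw [← T_range] at hd; obtain ⟨p, rfl⟩ := hd
    rw [t0, ← map_inv, ← map_mul, ← map_mul, mul_inv_cancel_comm]
  have eb2 : (t0 * u1 * t0⁻¹)⁻¹ * u1 = d * e * d⁻¹ := by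
    have e2 : u1 * d = t0 * u1 * t0⁻¹ * (t0 * d * t0⁻¹) * e := by
      rw [eb]; group
    rw [hdd] at e2
    rw [inv_mul_eq_iff_eq_mul]
    calc u1 = u1 * d * d⁻¹ := by group
      _ = _ := by rw [e2]; group
  have hbot : (t0 * u1 * t0⁻¹)⁻¹ * u1 ∈ chevG2.posUnipotent F ⊓ chevG2.diagonalSubgroup F :=
    Subgroup.mem_inf.2 ⟨mul_mem (inv_mem hu1') hu1, eb2 ▸ mul_mem (mul_mem hd he) (inv_mem hd)⟩
  rw [(h).pos_inf_diagonal, Subgroup.mem_bot] at hbot
  have he1 : e = 1 := by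
    rw [hbot] at eb2
    exact conj_eq_one_iff.1 eb2.symm
  have cu1 : t0 * u1 = u1 * t0 := mul_inv_eq_iff_eq_mul.1 (inv_mul_eq_one.1 hbot)
  have cu : t0 * u = u * t0 := mul_inv_eq_iff_eq_mul.1 eu.symm
  have cn : t0 * n = n * t0 := by
    rw [he_def, mul_inv_eq_one, mul_inv_eq_iff_eq_mul] at he1
    exact he1
  have hpar : ∀ r ∈ List.range 12, G2.pk.A 0 (wl G2.pk l r) % 2 = G2.pk.A 0 r % 2 := by
    intro r hr
    have hr' : r < 12 := List.mem_range.1 hr
    have hw : wl G2.pk l r < 12 := (h).wl_lt l hl r (rlt hr')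
    obtain ⟨ε, hε, hx⟩ := (h).conj_nW (F := F) hl (one_mem (chevG2.diagonalSubgroup F)) (rlt hr')
    rw [← hn1] at hx
    have e1 := hx (hchar G2.pk (cc ((1, -1) : Fˣ × Fˣ)) r)
    rw [show (hchar G2.pk (cc ((1, -1) : Fˣ × Fˣ)) r) = hchar G2.pk (cc ((1, -1) : Fˣ × Fˣ)) r * 1 from
      (mul_one _).symm, ← T_xG _ hr', ← t0,
      show n * (t0 * (h).xG r (1 : F) * t0⁻¹) * n⁻¹ = (n * t0) * (h).xG r 1 * (n * t0)⁻¹ by group, ← cn,
      show t0 * n * (h).xG r (1 : F) * (t0 * n)⁻¹ = t0 * (n * (h).xG r 1 * n⁻¹) * t0⁻¹ by group, hx,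
      t0, T_xG _ hw, mul_one, mul_one, mul_comm] at e1
    have e2 := mul_left_cancel₀ hε ((h).xG_inj_param (rlt hw) e1)
    rw [chr_t0_parity hw, chr_t0_parity hr'] at e2
    by_cases a : G2.pk.A 0 (wl G2.pk l r) % 2 = 0 <;> by_cases b : G2.pk.A 0 r % 2 = 0
    · omega
    · rw [if_pos a, if_neg b] at e2; exact absurd (by linear_combination e2) h2
    · rw [if_neg a, if_pos b] at e2; exact absurd (by linear_combination -e2) h2
    · omega
  obtain ⟨w, hw, hwl⟩ := exists_W12 l hl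
  have hw4 := W12_fixed w hw (fun r hr => by rw [← hwl r (List.mem_range.1 hr)]; exact hpar r hr)
  have hnw : (h).nW (F := F) w ∈ K (F := F) := by
    have h0 : (h).nG (F := F) 0 ∈ K (F := F) := by
      rw [Ok.nG, show G2.pk.sim 0 = 7 from rfl, ← phA_sW]; exact phA_mem_K _
    simp only [List.mem_cons, List.not_mem_nil, or_false] at hw4
    rcases hw4 with rfl | rfl | rfl | rfl
    · exact one_mem _
    · simp only [Ok.nW_cons, Ok.nW_nil, mul_one]; exact h0
    · exact n5_mem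
    · rw [Ok.nW_cons]; exact mul_mem h0 n5_mem
  have hnK : n ∈ K (F := F) := by
    have h1 := diag_le_K ((h).mem_diagonal_of_wl_eq (F := F) (W12_ok w hw) hl
      (fun r hr => (hwl r hr).symm))
    simpa [n] using mul_mem hnw h1
  exact mul_mem (mul_mem (mul_mem (pos_fixed h2 hu1 cu1) (diag_le_K hd)) hnK)
    (pos_fixed h2 ((h).negS_le_pos l hu) cu)

theorem mem_K_iff (h2 : (2 : F) ≠ 0) {g : GL chevG2.Idx F} :
    g ∈ K (F := F) ↔ g ∈ chevG2.group F ∧ t0 * g = g * t0 :=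
  ⟨fun hg => ⟨K_le_group hg, t0_comm hg⟩, fun hg => centralizer_le_K h2 hg.1 hg.2⟩

/-- The central product map. -/
noncomputable def phi : SL(2, F) × SL(2, F) →* GL chevG2.Idx F :=
  (phA (F := F)).noncommCoprod phC fun x y => commute_AC x y

theorem phi_apply (z : SL(2, F) × SL(2, F)) : phi z = phA z.1 * phC z.2 := rfl

theorem phi_el (z : SL(2, F) × SL(2, F)) : phi z = el 1 z.1 z.2 := by simp [phi_apply, el]

theorem phi_range_le : (phi (F := F)).range ≤ K (F := F) := by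
  rintro _ ⟨z, rfl⟩; rw [phi_el]; exact el_mem_K _ _ _

theorem el_eq_T_phi (p : Fˣ × Fˣ) (x y : SL(2, F)) : el p x y = T p * phi (x, y) := by
  rw [el, phi_apply, mul_assoc]

section finite

variable [Fintype F]

theorem two_ne (hF : Odd (Fintype.card F)) : (2 : F) ≠ 0 := InvChar.sl2_two_ne_zero hF

theorem neg_one_ne (hF : Odd (Fintype.card F)) : (-1 : SL(2, F)) ≠ 1 := by
  intro e
  have := congrArg (fun z : SL(2, F) => z.1 0 0) e
  simp at this
  exact two_ne hF (by linear_combination -this)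

theorem t0_ne_one (hF : Odd (Fintype.card F)) : t0 (F := F) ≠ 1 := by
  rw [← phA_neg_one]
  exact fun e => neg_one_ne hF (phA_injective (e.trans (map_one _).symm))

omit [Fintype F] in
theorem t0_sq : t0 (F := F) * t0 = 1 := by
  rw [← phA_neg_one, ← map_mul, neg_one_mul, neg_neg, map_one]

theorem phA_eq_phC (hF : Odd (Fintype.card F)) {x y : SL(2, F)} (e : phA x = phC y) :
    (x = 1 ∧ y = 1) ∨ (x = -1 ∧ y = -1) := by
  have hcom : ∀ z, Commute x z := fun z => phA_injective (by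
    rw [map_mul, map_mul, e, commute_AC])
  rcases InvChar.sl2_sq_one hF x (InvChar.sl2_commute_uv (hcom _) (hcom _)) with rfl | rfl
  · exact Or.inl ⟨rfl, phC_injective (by rw [← e, map_one, map_one])⟩
  · exact Or.inr ⟨rfl, phC_injective (by rw [← e, phA_neg_one, phC_neg_one])⟩

theorem phi_ker (hF : Odd (Fintype.card F)) : Nat.card (phi (F := F)).ker = 2 := by
  rw [Nat.card_eq_two_iff' (1 : (phi (F := F)).ker)]
  have hm : ((-1, -1) : SL(2, F) × SL(2, F)) ∈ (phi (F := F)).ker := by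
    rw [MonoidHom.mem_ker, phi_apply, phA_neg_one, phC_neg_one, t0_sq]
  refine ⟨⟨_, hm⟩, fun e => neg_one_ne hF (congrArg (fun z => z.1.1) e), ?_⟩
  rintro ⟨⟨x, y⟩, hz⟩ hne
  rw [MonoidHom.mem_ker, phi_apply, mul_eq_one_iff_eq_inv, ← map_inv] at hz
  rcases phA_eq_phC hF hz with ⟨rfl, hy⟩ | ⟨rfl, hy⟩
  · have hy1 : y = 1 := inv_eq_one.1 hy
    subst hy1
    exact absurd rfl hne
  · refine Subtype.ext (Prod.ext rfl ?_)
    have hy1 : y⁻¹ = -1 := hy
    show y = -1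
    rw [← inv_inv y, hy1]
    exact inv_eq_of_mul_eq_one_right (by rw [neg_one_mul, neg_neg])

theorem card_phi_range (hF : Odd (Fintype.card F)) :
    Nat.card (phi (F := F)).range * 2 = (Fintype.card F * (Fintype.card F * Fintype.card F - 1)) ^ 2 := by
  have e := Subgroup.card_mul_index (phi (F := F)).ker
  rw [phi_ker hF, Subgroup.index_ker, Nat.card_prod, InvChar.card_sl2] at e
  rw [mul_comm, e, sq]

theorem exists_nonsquare (hF : Odd (Fintype.card F)) : ∃ ν : Fˣ, ¬ IsSquare (ν : F) := by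
  obtain ⟨a, ha⟩ := FiniteField.exists_nonsquare (F := F) (fun hc => by
    have := FiniteField.even_card_of_char_two hc
    rw [Nat.odd_iff] at hF; omega)
  exact ⟨Units.mk0 a (by rintro rfl; exact ha ⟨0, by simp⟩), ha⟩

omit [Fintype F] in
theorem T_square_mem (p : Fˣ × Fˣ) (hp : IsSquare (p.1 : F)) : T p ∈ (phi (F := F)).range := by
  obtain ⟨c, hc⟩ := hp
  have hc0 : c ≠ 0 := by rintro rfl; simp at hc
  set l := Units.mk0 c hc0
  refine ⟨(dg l, dg (p.2 * l ^ 3)), ?_⟩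
  rw [phi_apply, phA_dg, phC_dg, ← map_mul]
  congr 1
  refine Prod.ext (Units.ext ?_) (Units.ext ?_)
  · simp [l, hc, sq]
  · simp [l]

omit [Fintype F] in
theorem T_nonsquare_not_mem {ν : Fˣ} (hν : ¬ IsSquare (ν : F)) : T (ν, 1) ∉ (phi (F := F)).range := by
  rintro ⟨⟨x, y⟩, e⟩
  rw [phi_apply] at e
  have e1 := T_phA (ν, 1) (sU 1)
  rw [← e, show phA x * phC y * phA (sU 1) * (phA x * phC y)⁻¹ =
    phA x * (phC y * phA (sU 1)) * (phC y)⁻¹ * (phA x)⁻¹ by group, ← commute_AC, ← mul_assoc,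
    mul_inv_cancel_right, ← map_mul, ← map_inv, ← map_mul, sg_sU, mul_one] at e1
  have e2 := mul_inv_eq_iff_eq_mul.1 (phA_injective e1)
  have h10 := congrArg (fun z : SL(2, F) => z.1 1 1) e2
  have h00 := congrArg (fun z : SL(2, F) => z.1 0 1) e2
  simp [Matrix.SpecialLinearGroup.coe_mul, coe_sU, Matrix.mul_apply, Fin.sum_univ_two] at h10 h00
  have hdet := x.2
  rw [Matrix.det_fin_two, h10, mul_zero, sub_zero] at hdet
  have hx : x.1 0 0 = ν * x.1 1 1 := by linear_combination h00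
  rw [hx] at hdet
  refine hν ⟨(x.1 1 1)⁻¹, ?_⟩
  have h11 : x.1 1 1 ≠ 0 := right_ne_zero_of_mul_eq_one hdet
  field_simp
  linear_combination hdet

theorem nonsquare_mul {ν : Fˣ} (hν : ¬ IsSquare (ν : F)) {a : Fˣ} (ha : ¬ IsSquare (a : F)) :
    IsSquare ((a * ν : Fˣ) : F) := by
  classical
  have h1 := quadraticChar_neg_one_iff_not_isSquare.2 hν
  have h2 := quadraticChar_neg_one_iff_not_isSquare.2 ha
  refine (quadraticChar_one_iff_isSquare (a * ν).ne_zero).1 ?_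
  rw [Units.val_mul, map_mul, h1, h2]; norm_num

theorem phi_relIndex (hF : Odd (Fintype.card F)) : (phi (F := F)).range.relIndex (K (F := F)) = 2 := by
  obtain ⟨ν, hν⟩ := exists_nonsquare hF
  rw [Subgroup.relIndex, Subgroup.index_eq_two_iff']
  refine ⟨⟨T (ν, 1), T_mem_K _⟩, fun ⟨g, hg⟩ => ?_⟩
  simp only [Subgroup.mem_subgroupOf, Subgroup.coe_mul]
  obtain ⟨p, x, y, rfl⟩ := hg
  rw [el_eq_T_phi, ← mul_assoc, ← map_mul]
  have hr : phi (x, y) ∈ (phi (F := F)).range := ⟨_, rfl⟩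
  rw [Subgroup.mul_mem_cancel_right _ hr, Subgroup.mul_mem_cancel_right _ hr]
  by_cases hp : IsSquare (p.1 : F)
  · refine Or.inr ⟨T_square_mem p hp, fun hm => T_nonsquare_not_mem hν ?_⟩
    rw [map_mul] at hm
    exact (Subgroup.mul_mem_cancel_right _ (T_square_mem p hp)).1 hm
  · refine Or.inl ⟨T_square_mem _ ?_, fun hm => ?_⟩
    · rw [Prod.fst_mul]; exact nonsquare_mul hp hν
    · have h1 : T (p.1, 1) ∈ (phi (F := F)).range := by
        have e : p = (p.1, 1) * (1, p.2) := by ext <;> simp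
        rw [e, map_mul, Subgroup.mul_mem_cancel_right _ (T_square_mem (1, p.2) ⟨1, by simp⟩)] at hm
        exact hm
      exact T_nonsquare_not_mem hp h1

theorem card_K (hF : Odd (Fintype.card F)) :
    Nat.card (K (F := F)) = Fintype.card F ^ 2 * (Fintype.card F ^ 2 - 1) ^ 2 := by
  have e := Subgroup.card_mul_index ((phi (F := F)).range.subgroupOf (K (F := F)))
  rw [Nat.card_congr (Subgroup.subgroupOfEquivOfLe (phi_range_le (F := F))).toEquiv,
    ← Subgroup.relIndex, phi_relIndex hF, card_phi_range hF] at e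
  rw [← e, sq (Fintype.card F), mul_pow, sq (Fintype.card F)]

end finite

end Cfsg.Agent.FGS.G2I
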