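/-
G₂(F), q odd: one class of involutions.
-/
import Cfsg.Agent.Lib.FGS.G2Cent
import Cfsg.Agent.S1059

set_option autoImplicit false

namespace Cfsg.Agent.FGS.G2I

open Cfsg.Lie Cfsg.Agent.Chev
open scoped MatrixGroups

variable {F : Type*} [Field F]

local notation "h" => Chev.G2.ok

/-- Conjugacy inside the Chevalley group. -/
def Rel (a b : GL chevG2.Idx F) : Prop := ∃ g ∈ chevG2.group F, g * a * g⁻¹ = b

theorem Rel.refl (a : GL chevG2.Idx F) : Rel a a := ⟨1, one_mem _, by group⟩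

theorem Rel.symm {a b : GL chevG2.Idx F} (r : Rel a b) : Rel b a := by
  obtain ⟨g, hg, rfl⟩ := r
  exact ⟨g⁻¹, inv_mem hg, by group⟩

theorem Rel.trans {a b c : GL chevG2.Idx F} (r : Rel a b) (r' : Rel b c) : Rel a c := by
  obtain ⟨g, hg, rfl⟩ := r
  obtain ⟨g', hg', rfl⟩ := r'
  exact ⟨g' * g, mul_mem hg' hg, by group⟩

theorem phA_conj (p : Fˣ × Fˣ) (g x y : SL(2, F)) :
    phA g * el p x y * (phA g)⁻¹ = el p (sg p.1⁻¹ g * x * g⁻¹) y := by
  simp only [el, map_mul, map_inv]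
  calc phA g * (T p * phA x * phC y) * (phA g)⁻¹
      = (phA g * T p) * phA x * (phC y * phA g⁻¹) := by rw [map_inv]; group
    _ = _ := by rw [phA_T, ← commute_AC, map_inv]; group

theorem phC_conj (p : Fˣ × Fˣ) (g x y : SL(2, F)) :
    phC g * el p x y * (phC g)⁻¹ = el p x (sg (gm p)⁻¹ g * y * g⁻¹) := by
  simp only [el, map_mul, map_inv]
  calc phC g * (T p * phA x * phC y) * (phC g)⁻¹
      = (phC g * T p) * phA x * phC y * (phC g)⁻¹ := by group
    _ = T p * (phC (sg (gm p)⁻¹ g) * phA x) * phC y * (phC g)⁻¹ := by rw [phC_T]; group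
    _ = _ := by rw [← commute_AC]; group

/-- `diag(α, 1) x` has trace zero. -/
def TZ (a : Fˣ) (x : SL(2, F)) : Prop := (a : F) * x.1 0 0 + x.1 1 1 = 0

theorem tz_sW (a : Fˣ) : TZ a (sW : SL(2, F)) := by simp [TZ, coe_sW]

section finite

variable [Fintype F]

theorem exists_sg_conj (hF : Odd (Fintype.card F)) (al : Fˣ) {x : SL(2, F)} (hx : TZ al x) :
    ∃ g : SL(2, F), sg al⁻¹ g * x * g⁻¹ = sW := by
  have hdet := x.2
  rw [Matrix.det_fin_two] at hdet
  set a := x.1 0 0 with ha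
  set b := x.1 0 1 with hb
  set c := x.1 1 0 with hc
  set d := x.1 1 1 with hd'
  have hd : d = -((al : F) * a) := by unfold TZ at hx; linear_combination hx
  have hdet2 : (al : F) * a ^ 2 + b * c = -1 := by rw [hd] at hdet; linear_combination -hdet
  obtain ⟨p, q, hpq⟩ : ∃ p q : F, b * p ^ 2 - 2 * a * p * q - c / al * q ^ 2 = 1 := by
    by_cases hb0 : b = 0
    · have ha0 : a ≠ 0 := by intro e; rw [e, hb0] at hdet2; simp at hdet2
      refine ⟨-(1 + c / al) / (2 * a), 1, ?_⟩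
      have := two_ne hF
      rw [hb0]; field_simp; ring
    · obtain ⟨u, q, e⟩ := FiniteField.exists_root_sum_quadratic (R := F)
        (f := Polynomial.X ^ 2) (g := Polynomial.C ((al : F))⁻¹ * Polynomial.X ^ 2 - Polynomial.C b)
        (Polynomial.degree_X_pow 2)
        (by
          rw [Polynomial.degree_sub_eq_left_of_degree_lt]
          · rw [Polynomial.degree_C_mul (inv_ne_zero al.ne_zero), Polynomial.degree_X_pow]; rfl
          · rw [Polynomial.degree_C_mul (inv_ne_zero al.ne_zero), Polynomial.degree_X_pow]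
            exact lt_of_le_of_lt Polynomial.degree_C_le (by norm_num))
        (Nat.odd_iff.1 hF)
      simp only [Polynomial.eval_pow, Polynomial.eval_X, Polynomial.eval_sub, Polynomial.eval_mul,
        Polynomial.eval_C] at e
      refine ⟨(u + q * a) / b, q, ?_⟩
      have hal := al.ne_zero
      field_simp at e ⊢
      linear_combination e - q ^ 2 * hdet2
  let r := p * a + q * c / al
  let s := p * b + q * d / al
  have hdg : p * s - q * r = 1 := by
    have hal := al.ne_zero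
    simp only [r, s, hd]; field_simp at hpq ⊢; linear_combination hpq
  let g0 : SL(2, F) := ⟨!![p, q; r, s], by rw [Matrix.det_fin_two_of]; exact hdg⟩
  have cg : g0.1 = !![p, q; r, s] := rfl
  refine ⟨g0, mul_inv_eq_of_eq_mul ?_⟩
  apply Subtype.ext
  have hal := al.ne_zero
  ext i j
  rw [Matrix.SpecialLinearGroup.coe_mul, Matrix.SpecialLinearGroup.coe_mul, coe_sg, coe_sW, cg, Matrix.mul_apply,
    Matrix.mul_apply, Fin.sum_univ_two, Fin.sum_univ_two]
  fin_cases i <;> fin_cases j <;> simp [r, s, ← ha, ← hb, ← hc, ← hd']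
  · field_simp
  · field_simp
  · rw [hd] at *; field_simp; linear_combination (norm := ring_nf) p * hdet2
  · rw [hd] at *; field_simp; linear_combination (norm := ring_nf) q * hdet2

theorem rel_std (hF : Odd (Fintype.card F)) {p : Fˣ × Fˣ} {x y : SL(2, F)} (hx : TZ p.1 x)
    (hy : TZ (gm p) y) : Rel (el p x y) (el p sW sW) := by
  obtain ⟨g, hg⟩ := exists_sg_conj hF p.1 hx
  obtain ⟨k, hk⟩ := exists_sg_conj hF (gm p) hy
  refine Rel.trans ⟨phA g, phA_mem g, ?_⟩ ⟨phC k, phC_mem k, ?_⟩ (b := el p sW y)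
  · rw [phA_conj, hg]
  · rw [phC_conj, hk]

theorem rel_same_class (hF : Odd (Fintype.card F)) (p : Fˣ × Fˣ) (l e : Fˣ) :
    Rel (el (p * (l ^ 2, e)) sW sW) (el p sW sW) := by
  have e1 : ((l ^ 2, e) : Fˣ × Fˣ) = (l ^ 2, (l ^ 3)⁻¹) * (1, l ^ 3 * e) := by ext <;> simp
  have : el (p * (l ^ 2, e)) sW sW = el p (dg l * sW) (dg (l ^ 3 * e) * sW) := by
    rw [el, el, e1, map_mul, map_mul, map_mul, map_mul, ← phA_dg, ← phC_dg]
    calc T p * (phA (dg l) * phC (dg (l ^ 3 * e))) * phA sW * phC sW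
        = T p * phA (dg l) * (phC (dg (l ^ 3 * e)) * phA sW) * phC sW := by group
      _ = _ := by rw [← commute_AC]; group
  rw [this]
  refine rel_std hF ?_ ?_ <;>
    simp [TZ, Matrix.SpecialLinearGroup.coe_mul, coe_dg, coe_sW, Matrix.mul_apply, Fin.sum_univ_two, -map_mul,
      -map_pow]

end finite

theorem nG_T {i : ℕ} (hi : i < 2) (q : Fˣ × Fˣ) : ∃ q' : Fˣ × Fˣ,
    (h).nG i * T q * ((h).nG i)⁻¹ = T q' ∧
    ∀ r < 12, hchar G2.pk (cc q') (G2.pk.w i r) = hchar G2.pk (cc q) r := by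
  have hm : (h).nG i * T q * ((h).nG i)⁻¹ ∈ (T (F := F)).range := by
    rw [T_range]; exact (h).nG_hHom hi (cc q)
  obtain ⟨q', hq⟩ := hm
  refine ⟨q', hq.symm, fun r hr => ?_⟩
  have hw : G2.pk.w i r < 12 := (h).w_lt hi (rlt hr)
  have hη : (G2.pk.eta i r : F) ≠ 0 := by rcases (h).eta_cases i r with e | e <;> simp [e]
  have e1 := T_xG q' hw ((G2.pk.eta i r : F) * 1)
  rw [← (h).nG_xG hi (rlt hr), hq,
    show ∀ n t x : GL chevG2.Idx F, n * t * n⁻¹ * (n * x * n⁻¹) * (n * t * n⁻¹)⁻¹ = n * (t * x * t⁻¹) * n⁻¹ by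
      intros; group,
    T_xG q hr, (h).nG_xG hi (rlt hr), mul_one, mul_one] at e1
  have e2 := (h).xG_inj_param (rlt hw) e1
  exact (mul_right_cancel₀ hη (by rw [← e2, mul_comm]))

/-- The longest word. -/
def l6 : List ℕ := [0, 1, 0, 1, 0, 1]

theorem ok2 {l : List ℕ} (hl : ∀ i ∈ l, i < 2) : WordOk G2.pk l := hl

theorem sW_pair_mem : ((h).nW (F := F) l6)⁻¹ * (phA sW * phC sW) ∈ chevG2.diagonalSubgroup F := by
  have hok : WordOk G2.pk [1, 0] := ok2 (by decide)
  obtain ⟨e, he, hx⟩ := (h).nW_xG (F := F) [1, 0] hok 6 (rlt (by omega))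
  have he0 : e ≠ 0 := left_ne_zero_of_mul_eq_one he
  set g := (h).nW (F := F) [1, 0]
  have hgn : g * (h).nG 1 * g⁻¹ = phC (dg (Units.mk0 e he0)) * phC sW := by
    have e1 : (h).nG (F := F) 1 = (h).xG 6 1 * (h).xG (G2.pk.ng 6) (-1) * (h).xG 6 1 := by
      rw [Ok.nG, show G2.pk.sim 1 = 6 from rfl, Ok.nt, inv_one]
    rw [e1, show ∀ a x y z : GL chevG2.Idx F, a * (x * y * z) * a⁻¹ =
      (a * x * a⁻¹) * (a * y * a⁻¹) * (a * z * a⁻¹) by intros; group, (hx _).1, (hx _).2,
      show wl G2.pk [1, 0] 6 = 11 by decide +kernel, show G2.pk.ng 11 = 0 from rfl,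
      ← phC_sU, ← phC_sL, ← map_mul, ← map_mul, ← map_mul]
    congr 1
    apply Subtype.ext
    simp [Matrix.SpecialLinearGroup.coe_mul, coe_sU, coe_sL, coe_sW, coe_dg, he,
      inv_eq_of_mul_eq_one_right he]
  set m := (h).nW (F := F) [1, 0, 1, 0, 1]
  have hd : ((h).nW (F := F) [1, 0, 0, 1]) ∈ chevG2.diagonalSubgroup F := by
    refine (h).nW_mem_diagonal (ok2 (by decide)) fun r hr => ?_
    have : ∀ r ∈ List.range 12, wl G2.pk [1, 0, 0, 1] r = r := by decide +kernel
    exact this r (List.mem_range.2 hr)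
  have hgi : g * (h).nG 1 * g⁻¹ = m * ((h).nW [1, 0, 0, 1])⁻¹ := by
    rw [show ([1, 0, 0, 1] : List ℕ) = [1, 0] ++ [0, 1] from rfl,
      show m = (h).nW ([1, 0] ++ ([1] ++ [0, 1])) from rfl, Ok.nW_append, Ok.nW_append, Ok.nW_append,
      show (h).nW (F := F) [1] = (h).nG 1 by simp [Ok.nW_cons, Ok.nW_nil]]
    simp only [g]
    group
  set d' := phC (dg (Units.mk0 e he0))
  have hd' : d' ∈ chevG2.diagonalSubgroup F := by
    rw [← T_range]; exact ⟨_, (phC_dg _).symm⟩
  have hC : phC sW = d'⁻¹ * m * ((h).nW [1, 0, 0, 1])⁻¹ := by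
    rw [mul_assoc, ← hgi, hgn, inv_mul_cancel_left]
  rw [hC, phA_sW, show (h).nt 7 (1 : F) = (h).nG 0 from rfl, show l6 = 0 :: [1, 0, 1, 0, 1] from rfl, Ok.nW_cons]
  have hn := (Subgroup.mem_normalizer_iff.1 (inv_mem ((h).nW_normalizer (F := F) [1, 0, 1, 0, 1]
    (ok2 (by decide)))) _).1 (inv_mem hd')
  rw [inv_inv] at hn
  convert mul_mem hn (inv_mem hd) using 1
  simp only [m]
  group

theorem n_s0 : ∃ e : Fˣ × Fˣ,
    (h).nG (F := F) 1 * (phA sW * phC sW) * ((h).nG 1)⁻¹ = T e * (phA sW * phC sW) := by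
  set n := (h).nG (F := F) 1
  set m := (h).nW (F := F) l6
  set s := phA (F := F) sW * phC sW
  have h0 : m⁻¹ * s ∈ chevG2.diagonalSubgroup F := sW_pair_mem
  have hN : ∀ x, x ∈ chevG2.diagonalSubgroup F → n * x * n⁻¹ ∈ chevG2.diagonalSubgroup F :=
    fun x hx => (Subgroup.mem_normalizer_iff.1 ((h).nG_normalizer (i := 1) (by decide)) x).1 hx
  have hM : ∀ x, x ∈ chevG2.diagonalSubgroup F → m * x * m⁻¹ ∈ chevG2.diagonalSubgroup F :=
    fun x hx => (Subgroup.mem_normalizer_iff.1 ((h).nW_normalizer l6 (ok2 (by decide))) x).1 hx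
  have hsw : (m * n)⁻¹ * (n * m) ∈ chevG2.diagonalSubgroup F := by
    have := (h).mem_diagonal_of_wl_eq (F := F) (l := l6 ++ [1]) (l' := [1] ++ l6) (ok2 (by decide))
      (ok2 (by decide)) (fun r hr => by
        have : ∀ r ∈ List.range 12, wl G2.pk (l6 ++ [1]) r = wl G2.pk ([1] ++ l6) r := by decide +kernel
        exact this r (List.mem_range.2 hr))
    rwa [Ok.nW_append, Ok.nW_append, show (h).nW (F := F) [1] = n by simp [n, Ok.nW_cons, Ok.nW_nil]] at this
  have key : n * s * n⁻¹ * s⁻¹ ∈ (T (F := F)).range := by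
    rw [T_range]
    convert hM _ (mul_mem (mul_mem (hN _ hsw) (hN _ h0)) (inv_mem h0)) using 1
    group
  obtain ⟨e, he⟩ := key
  exact ⟨e, by rw [he]; group⟩

section finite

variable [Fintype F]

theorem rel_std_target (hF : Odd (Fintype.card F)) (p : Fˣ × Fˣ) :
    Rel (el p sW sW) (T ((-1, 1) : Fˣ × Fˣ)) := by
  obtain ⟨e, he⟩ := n_s0 (F := F)
  set q : Fˣ × Fˣ := (-1, -(p.1 * e.1⁻¹))
  obtain ⟨q', hq, hchr⟩ := nG_T (F := F) (show 1 < 2 by omega) q
  have hq1 : q'.1 = q.1 * q.2 := by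
    have := hchr 8 (by omega)
    rw [show G2.pk.w 1 8 = 7 by decide +kernel, chr_seven, chr_eight] at this
    exact Units.ext this
  have hfirst : (q' * e).1 = p.1 := by
    rw [Prod.fst_mul, hq1]
    simp [q]
  have r1 : Rel (el q sW sW) (el (q' * e) sW sW) := by
    refine ⟨(h).nG 1, (h).monomial_le_group ((h).nG_mem (by decide)), ?_⟩
    rw [el, el, map_mul, mul_assoc (T q), mul_assoc (T q' * T e), mul_assoc (T q'), ← he, ← hq]
    group
  have r2 : Rel (el (q' * e) sW sW) (el p sW sW) := by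
    have : q' * e = p * ((1 : Fˣ) ^ 2, p.2⁻¹ * (q' * e).2) := by
      refine Prod.ext ?_ ?_
      · rw [Prod.fst_mul p, hfirst]; simp
      · simp
    rw [this]
    exact rel_same_class hF p 1 _
  have r3 : Rel (el q 1 (dg (-(p.1 * e.1⁻¹))⁻¹)) (el q sW sW) := by
    refine rel_std hF ?_ ?_
    · simp [TZ, q]
    · have := (p.1 * e.1⁻¹).ne_zero
      simp [TZ, q, gm_apply, coe_dg]; field_simp; ring
  have r4 : el q 1 (dg (-(p.1 * e.1⁻¹))⁻¹) = T ((-1, 1) : Fˣ × Fˣ) := by
    rw [el, map_one, mul_one, phC_dg, ← map_mul]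
    congr 1
    ext <;> simp [q]
  exact ((r3.trans r1).trans r2).symm.trans (r4 ▸ Rel.refl _)

omit [Fintype F] in
theorem T_sq_comm {p : Fˣ × Fˣ} {x : SL(2, F)} {y : SL(2, F)} (e : el p x y = 1) :
    x.1 0 1 = 0 ∧ x.1 1 0 = 0 ∧ y.1 0 1 = 0 ∧ y.1 1 0 = 0 := by
  have ea : ∀ z, phA (x * z * x⁻¹) = phA (sg p.1⁻¹ z) := by
    intro z
    have hx : phA x * phC y = (T p)⁻¹ := eq_inv_of_mul_eq_one_right (by rw [← mul_assoc]; exact e)
    have e1 := T_phA p⁻¹ z
    rw [map_inv, inv_inv, Prod.fst_inv, ← hx, show T p = (phA x * phC y)⁻¹ by rw [hx, inv_inv],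
      show phA x * phC y * phA z * (phA x * phC y)⁻¹ = phA x * (phC y * phA z) * (phC y)⁻¹ * (phA x)⁻¹ by group,
      ← commute_AC, ← mul_assoc, mul_inv_cancel_right, ← map_mul, ← map_inv, ← map_mul] at e1
    exact e1
  have ec : ∀ z, phC (y * z * y⁻¹) = phC (sg (gm p)⁻¹ z) := by
    intro z
    have hx : phA x * phC y = (T p)⁻¹ := eq_inv_of_mul_eq_one_right (by rw [← mul_assoc]; exact e)
    have e1 := T_phC p⁻¹ z
    rw [map_inv, inv_inv, map_inv, ← hx, show T p = (phA x * phC y)⁻¹ by rw [hx, inv_inv],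
      show phA x * phC y * phC z * (phA x * phC y)⁻¹ = phA x * (phC y * phC z * (phC y)⁻¹) * (phA x)⁻¹ by group,
      ← map_mul, ← map_inv, ← map_mul, commute_AC, mul_inv_cancel_right] at e1
    exact e1
  have off : ∀ (w : SL(2, F)) (c : Fˣ), (∀ z, w * z * w⁻¹ = sg c z) → w.1 0 1 = 0 ∧ w.1 1 0 = 0 := by
    intro w c hw
    have u := congrArg (fun z : SL(2, F) => z.1 1 1) (mul_inv_eq_iff_eq_mul.1 (hw (sU 1)))
    have v := congrArg (fun z : SL(2, F) => z.1 0 0) (mul_inv_eq_iff_eq_mul.1 (hw (sL 1)))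
    rw [sg_sU] at u
    rw [sg_sL] at v
    simp [Matrix.SpecialLinearGroup.coe_mul, coe_sU, coe_sL, Matrix.mul_apply, Fin.sum_univ_two] at u v
    exact ⟨v, u⟩
  obtain ⟨h1, h2⟩ := off x p.1⁻¹ fun z => phA_injective (ea z)
  obtain ⟨h3, h4⟩ := off y (gm p)⁻¹ fun z => phC_injective (ec z)
  exact ⟨h1, h2, h3, h4⟩

omit [Fintype F] in
theorem diag_or_tz {a : Fˣ} {x : SL(2, F)} (e1 : (sg a⁻¹ x * x).1 0 1 = 0) (e2 : (sg a⁻¹ x * x).1 1 0 = 0) :
    (∃ l, x = dg l) ∨ TZ a x := by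
  by_cases ht : TZ a x
  · exact Or.inr ht
  left
  simp [Matrix.SpecialLinearGroup.coe_mul, coe_sg, Matrix.mul_apply, Fin.sum_univ_two] at e1 e2
  have ha := a.ne_zero
  have hb : x.1 0 1 = 0 := by
    have : x.1 0 1 * ((a : F) * x.1 0 0 + x.1 1 1) = 0 := by
      field_simp at e1
      linear_combination e1
    exact (mul_eq_zero.1 this).resolve_right ht
  have hc : x.1 1 0 = 0 := by
    have : x.1 1 0 * ((a : F) * x.1 0 0 + x.1 1 1) = 0 := by linear_combination e2
    exact (mul_eq_zero.1 this).resolve_right ht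
  have hdet := x.2
  rw [Matrix.det_fin_two, hb, zero_mul, sub_zero] at hdet
  refine ⟨Units.mk0 _ (left_ne_zero_of_mul_eq_one hdet), ?_⟩
  apply Subtype.ext
  ext i j
  fin_cases i <;> fin_cases j <;> simp [coe_dg, hb, hc, eq_inv_of_mul_eq_one_right hdet]

omit [Fintype F] in
theorem T_comm_phA {p : Fˣ × Fˣ} {y : SL(2, F)} (e : T p = phC y) : p.1 = 1 := by
  have e1 := T_phA p (sU 1)
  rw [e, ← commute_AC, mul_inv_cancel_right, sg_sU, mul_one] at e1
  have := congrArg (fun z : SL(2, F) => z.1 0 1) (phA_injective e1)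
  simpa [coe_sU] using this.symm

omit [Fintype F] in
theorem T_comm_phC {p : Fˣ × Fˣ} {x : SL(2, F)} (e : T p = phA x) : gm p = 1 := by
  have e1 := T_phC p (sU 1)
  rw [e, commute_AC, mul_inv_cancel_right, sg_sU, mul_one] at e1
  have := congrArg (fun z : SL(2, F) => z.1 0 1) (phC_injective e1)
  simpa [coe_sU] using this.symm

/-- An involution of K is conjugate to an element of H. -/
theorem rel_torus (hF : Odd (Fintype.card F)) {s : GL chevG2.Idx F} (hs : s ∈ K (F := F))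
    (h1 : s * s = 1) : ∃ p, Rel s (T p) := by
  obtain ⟨p, x, y, rfl⟩ := hs
  have hsq := h1
  have hinv := h1
  rw [el_mul] at hsq
  obtain ⟨a1, a2, b1, b2⟩ := T_sq_comm hsq
  have two := fun u : F => two_ne hF
  have std : ∀ {p : Fˣ × Fˣ} {x y : SL(2, F)}, TZ p.1 x → TZ (gm p) y → ∃ q, Rel (el p x y) (T q) :=
    fun hx hy => ⟨_, (rel_std hF hx hy).trans (rel_std_target hF _)⟩
  have pm : ∀ {u : Fˣ}, u ^ 2 = 1 → u = 1 ∨ u = -1 := fun {u} hu => by
    have : (u : F) ^ 2 = 1 := by rw [← Units.val_pow_eq_pow_val, hu, Units.val_one]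
    rcases sq_eq_one_iff.1 this with e | e
    · exact Or.inl (Units.ext e)
    · exact Or.inr (Units.ext (by rw [e]; simp))
  rcases diag_or_tz a1 a2 with ⟨l, rfl⟩ | hx
  · rcases diag_or_tz b1 b2 with ⟨m, rfl⟩ | hy
    · exact ⟨p * (l ^ 2, (l ^ 3)⁻¹) * (1, m), by
        rw [el, phA_dg, phC_dg, map_mul, map_mul]; exact Rel.refl _⟩
    · set p' := p * (l ^ 2, (l ^ 3)⁻¹)
      have e : el p (dg l) y = el p' 1 y := by
        rw [el, el, phA_dg, map_one, mul_one, map_mul]
      have hg : gm p' = gm p := by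
        rw [map_mul, gm_apply ((l ^ 2, (l ^ 3)⁻¹) : Fˣ × Fˣ), inv_pow, ← pow_mul, ← pow_mul, mul_inv_cancel,
          mul_one]
      rw [e] at h1 ⊢
      rw [el_mul] at h1
      simp only [el, map_one, mul_one] at h1
      rw [mul_eq_one_iff_eq_inv, ← map_inv (phC (F := F))] at h1
      have hp := T_comm_phA h1
      rw [Prod.fst_mul, ← sq] at hp
      rcases pm hp with hp | hp
      · have e2 : el p' 1 y = phC (dg p'.2 * y) := by
          rw [el, map_one, mul_one, map_mul (phC (F := F)), phC_dg, ← hp, Prod.mk.eta]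
        have hs2 : phC ((dg p'.2 * y) * (dg p'.2 * y)) = 1 := by
          rw [map_mul, ← e2, ← e]; exact (by assumption : el p (dg l) y * el p (dg l) y = 1)
        rcases InvChar.sl2_sq_one hF _ (phC_injective (hs2.trans (map_one _).symm)) with r | r
        · exact ⟨1, by rw [e2, r, map_one, map_one]; exact Rel.refl _⟩
        · exact ⟨(1, -1), by rw [e2, r, phC_neg_one]; exact Rel.refl _⟩
      · refine std ?_ ?_
        · simp [TZ, hp]
        · rwa [hg]
  · rcases diag_or_tz b1 b2 with ⟨m, rfl⟩ | hy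
    · set p' := p * (1, m)
      have e : el p x (dg m) = el p' x 1 := by
        rw [el, el, phC_dg, map_one, mul_one, map_mul, mul_assoc, ← phC_dg, commute_AC, mul_assoc]
      rw [e] at h1 ⊢
      rw [el_mul] at h1
      simp only [el, map_one, mul_one] at h1
      rw [mul_eq_one_iff_eq_inv, ← map_inv (phA (F := F))] at h1
      have hp := T_comm_phC h1
      rw [map_mul, ← sq] at hp
      rcases pm hp with hp | hp
      · set l := p'.1 ^ 2 * p'.2
        have hp3 : p'.1 ^ 3 * p'.2 ^ 2 = 1 := hp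
        have hl : p' = (l ^ 2, (l ^ 3)⁻¹) := by
          refine Prod.ext ?_ ?_
          · calc p'.1 = p'.1 * (p'.1 ^ 3 * p'.2 ^ 2) := by rw [hp3, mul_one]
              _ = l ^ 2 := by
                apply Units.ext
                simp [l]; ring
          · refine eq_inv_of_mul_eq_one_left ?_
            calc p'.2 * l ^ 3 = (p'.1 ^ 3 * p'.2 ^ 2) ^ 2 := by
                  apply Units.ext
                  simp [l]; ring
              _ = 1 := by rw [hp3, one_pow]
        have e2 : el p' x 1 = phA (dg l * x) := by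
          rw [el, map_one, mul_one, map_mul (phA (F := F)), phA_dg, ← hl]
        have hs2 : phA ((dg l * x) * (dg l * x)) = 1 := by
          rw [map_mul, ← e2, ← e]; exact (by assumption : el p x (dg m) * el p x (dg m) = 1)
        rcases InvChar.sl2_sq_one hF _ (phA_injective (hs2.trans (map_one _).symm)) with r | r
        · exact ⟨1, by rw [e2, r, map_one, map_one]; exact Rel.refl _⟩
        · exact ⟨(1, -1), by rw [e2, r, phA_neg_one]; exact Rel.refl _⟩
      · refine std ?_ ?_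
        · rw [Prod.fst_mul]; simpa [TZ] using hx
        · simp [TZ, hp]
    · exact std hx hy

end finite

section final

variable [Fintype F]

/-- A non-trivial involution of the torus is conjugate to t₀. -/
theorem torus_rel (hF : Odd (Fintype.card F)) {p : Fˣ × Fˣ} (hp : p * p = 1) (hne : p ≠ 1) :
    Rel (T p) (t0 (F := F)) := by
  have pm : ∀ {u : Fˣ}, u * u = 1 → u = 1 ∨ u = -1 := fun {u} hu => by
    have e0 : (u : F) * u = 1 := by rw [← Units.val_mul, hu, Units.val_one]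
    rcases mul_self_eq_one_iff.1 e0 with e | e
    · exact Or.inl (Units.ext e)
    · exact Or.inr (Units.ext (by rw [e]; simp))
  have n1 : Rel (T ((1, -1) : Fˣ × Fˣ)) (T ((-1, -1) : Fˣ × Fˣ)) := by
    obtain ⟨q', hq, hchr⟩ := nG_T (F := F) (show 1 < 2 by omega) (1, -1)
    refine ⟨(h).nG 1, (h).monomial_le_group ((h).nG_mem (by decide)), hq.trans ?_⟩
    have a := hchr 8 (by omega)
    have b := hchr 5 (by omega)
    rw [show G2.pk.w 1 8 = 7 by decide +kernel, chr_seven, chr_eight] at a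
    rw [show G2.pk.w 1 5 = 6 by decide +kernel, chr_six, hchar_cc,
      show G2.pk.A 0 5 = 3 from rfl, show G2.pk.A 1 5 = -2 from rfl] at b
    congr 1
    refine Prod.ext (Units.ext ?_) (Units.ext ?_)
    · simpa using a
    · rw [b]; simp [zpow_ofNat]; norm_num
  have n0 : Rel (T ((-1, -1) : Fˣ × Fˣ)) (T ((-1, 1) : Fˣ × Fˣ)) := by
    obtain ⟨q', hq, hchr⟩ := nG_T (F := F) (show 0 < 2 by omega) (-1, -1)
    refine ⟨(h).nG 0, (h).monomial_le_group ((h).nG_mem (by decide)), hq.trans ?_⟩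
    have a := hchr 4 (by omega)
    have b := hchr 10 (by omega)
    rw [show G2.pk.w 0 4 = 7 by decide +kernel, chr_seven, hchar_cc,
      show G2.pk.A 0 4 = -2 from rfl, show G2.pk.A 1 4 = 1 from rfl] at a
    rw [show G2.pk.w 0 10 = 6 by decide +kernel, chr_six, hchar_cc,
      show G2.pk.A 0 10 = 3 from rfl, show G2.pk.A 1 10 = -1 from rfl] at b
    congr 1
    refine Prod.ext (Units.ext ?_) (Units.ext ?_)
    · rw [a]; simp [zpow_ofNat]; norm_num
    · rw [b]; simp [zpow_ofNat]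
  obtain ⟨a, b⟩ := p
  rcases pm (congrArg Prod.fst hp : a * a = 1) with rfl | rfl <;>
    rcases pm (congrArg Prod.snd hp : b * b = 1) with rfl | rfl
  · exact absurd rfl hne
  · exact Rel.refl _
  · exact (n1.trans n0).symm
  · exact n1.symm

theorem K_involution (hF : Odd (Fintype.card F)) {s : GL chevG2.Idx F} (hs : s ∈ K (F := F))
    (h1 : s * s = 1) (hne : s ≠ 1) : Rel s (t0 (F := F)) := by
  obtain ⟨p, hp⟩ := rel_torus hF hs h1
  obtain ⟨g, hg, e⟩ := id hp
  refine hp.trans (torus_rel hF (T_injective ?_) fun e1 => hne ?_)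
  · rw [map_mul, ← e, map_one, show g * s * g⁻¹ * (g * s * g⁻¹) = g * (s * s) * g⁻¹ by group, h1]
    group
  · rw [e1, map_one] at e
    exact conj_eq_one_iff.1 e

/-- The involution t₀ in the group. -/
noncomputable def tt : chevG2.group F := ⟨t0, T_mem _⟩

theorem centralizer_tt (hF : Odd (Fintype.card F)) :
    Subgroup.centralizer ({tt} : Set (chevG2.group F)) = (K (F := F)).subgroupOf (chevG2.group F) := by
  ext g
  rw [Subgroup.mem_centralizer_iff, Subgroup.mem_subgroupOf, mem_K_iff (two_ne hF)]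
  simp only [Set.mem_singleton_iff, forall_eq]
  rw [Subtype.ext_iff]
  simp only [Subgroup.coe_mul]
  exact ⟨fun e => ⟨g.2, e⟩, fun e => e.2⟩

theorem card_centralizer_tt (hF : Odd (Fintype.card F)) :
    Nat.card (Subgroup.centralizer ({tt} : Set (chevG2.group F))) =
      Fintype.card F ^ 2 * (Fintype.card F ^ 2 - 1) ^ 2 := by
  rw [centralizer_tt hF, Nat.card_congr (Subgroup.subgroupOfEquivOfLe (K_le_group (F := F))).toEquiv,
    card_K hF]

theorem index_centralizer_odd (hF : Odd (Fintype.card F)) :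
    Odd (Subgroup.centralizer ({tt} : Set (chevG2.group F))).index := by
  have e := Subgroup.card_mul_index (Subgroup.centralizer ({tt} : Set (chevG2.group F)))
  rw [card_centralizer_tt hF, S1059.result rfl] at e
  set q := Fintype.card F with hq
  have hq1 : 1 < q := Fintype.one_lt_card
  have h2 : 1 ≤ q ^ 2 := Nat.one_le_pow _ _ (by omega)
  have h6 : 1 ≤ q ^ 6 := Nat.one_le_pow _ _ (by omega)
  obtain ⟨c, hc⟩ : ∃ c, q ^ 2 = c + 1 := ⟨q ^ 2 - 1, by omega⟩
  have hc0 : 0 < c := by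
    have : 1 < q ^ 2 := Nat.one_lt_pow (by norm_num) hq1
    omega
  have h66 : q ^ 6 - 1 = c * (q ^ 4 + q ^ 2 + 1) := by
    have e6 : q ^ 6 = c * (q ^ 4 + q ^ 2 + 1) + 1 := by
      rw [show q ^ 6 = (q ^ 2) ^ 3 by ring, show q ^ 4 = (q ^ 2) ^ 2 by ring, hc]; ring
    omega
  rw [h66, show q ^ 2 - 1 = c by omega] at e
  have e' : (Subgroup.centralizer ({tt} : Set (chevG2.group F))).index = q ^ 4 * (q ^ 4 + q ^ 2 + 1) := by
    refine Nat.eq_of_mul_eq_mul_left (show 0 < q ^ 2 * c ^ 2 by positivity) ?_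
    rw [e]; ring
  rw [e']
  exact hF.pow.mul (((hF.pow).add_odd hF.pow).add_one)

theorem isConj_tt (hF : Odd (Fintype.card F)) (s : chevG2.group F) (hs : orderOf s = 2) : IsConj s tt := by
  have hne : s ≠ 1 := fun e => by rw [e, orderOf_one] at hs; omega
  have hsq : s * s = 1 := by rw [← sq, ← hs]; exact pow_orderOf_eq_one s
  set C := Subgroup.centralizer ({tt} : Set (chevG2.group F))
  have hpg : IsPGroup 2 (Subgroup.zpowers s) := IsPGroup.of_card (n := 1) (by rw [Nat.card_zpowers, hs, pow_one])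
  have hfix := hpg.nonempty_fixed_point_of_prime_not_dvd_card (chevG2.group F ⧸ C) (by
    rw [← Subgroup.index_eq_card]
    exact fun hd => (Nat.not_even_iff_odd.2 (index_centralizer_odd hF)) (even_iff_two_dvd.2 hd))
  obtain ⟨x, hx⟩ := hfix
  obtain ⟨g, rfl⟩ := QuotientGroup.mk_surjective x
  have e := hx ⟨s, Subgroup.mem_zpowers s⟩
  change (QuotientGroup.mk (s * g) : chevG2.group F ⧸ C) = QuotientGroup.mk g at e
  have hmem : g⁻¹ * s * g ∈ C := by
    rw [mul_assoc]
    exact QuotientGroup.eq.1 e.symm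
  simp only [C, centralizer_tt hF, Subgroup.mem_subgroupOf] at hmem
  set u := g⁻¹ * s * g
  have hu1 : u * u = 1 := by
    rw [show u * u = g⁻¹ * (s * s) * g by simp only [u]; group, hsq]; group
  obtain ⟨k, hk, ek⟩ := K_involution hF hmem (by rw [← Subgroup.coe_mul, hu1]; rfl) (fun e' => by
    have e2 : u = 1 := Subtype.ext e'
    exact hne (by rw [show s = g * u * g⁻¹ by simp only [u]; group, e2]; group))
  refine isConj_iff.2 ⟨⟨k, hk⟩ * g⁻¹, ?_⟩
  rw [show (⟨k, hk⟩ * g⁻¹) * s * (⟨k, hk⟩ * g⁻¹)⁻¹ = ⟨k, hk⟩ * u * ⟨k, hk⟩⁻¹ by simp only [u]; group]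
  exact Subtype.ext ek

theorem tt_order (hF : Odd (Fintype.card F)) : orderOf (tt : chevG2.group F) = 2 :=
  orderOf_eq_prime (by rw [sq]; exact Subtype.ext t0_sq) fun e => t0_ne_one hF (congrArg Subtype.val e)

/-- The first SL₂ inside the group. -/
noncomputable def mA : SL(2, F) →* chevG2.group F := (phA (F := F)).codRestrict _ phA_mem

/-- The second SL₂ inside the group. -/
noncomputable def mC : SL(2, F) →* chevG2.group F := (phC (F := F)).codRestrict _ phC_mem

theorem mA_mC_facts (hF : Odd (Fintype.card F)) :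
    (∀ a ∈ (mA (F := F)).range, ∀ b ∈ (mC (F := F)).range, a * b = b * a) ∧
    (mA (F := F)).range ⊓ (mC (F := F)).range = Subgroup.zpowers tt ∧
    (mA (F := F)).range ⊔ (mC (F := F)).range ≤ Subgroup.centralizer ({tt} : Set (chevG2.group F)) ∧
    ((mA (F := F)).range ⊔ (mC (F := F)).range).relIndex (Subgroup.centralizer ({tt} : Set (chevG2.group F))) = 2 := by
  have hle : (mA (F := F)).range ⊔ (mC (F := F)).range = ((phi (F := F)).range).subgroupOf (chevG2.group F) := by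
    refine le_antisymm (sup_le ?_ ?_) ?_
    · rintro _ ⟨x, rfl⟩; exact ⟨(x, 1), by simp [phi_apply, mA]⟩
    · rintro _ ⟨y, rfl⟩; exact ⟨(1, y), by simp [phi_apply, mC]⟩
    · rintro g ⟨⟨x, y⟩, e⟩
      have : g = mA x * mC y := Subtype.ext e.symm
      rw [this]
      exact mul_mem (Subgroup.mem_sup_left ⟨x, rfl⟩) (Subgroup.mem_sup_right ⟨y, rfl⟩)
  refine ⟨?_, ?_, ?_, ?_⟩
  · rintro _ ⟨x, rfl⟩ _ ⟨y, rfl⟩; exact Subtype.ext (commute_AC x y)
  · refine le_antisymm ?_ ?_
    · rintro g ⟨⟨x, hx⟩, ⟨y, hy⟩⟩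
      rcases phA_eq_phC hF (congrArg Subtype.val (hx.trans hy.symm)) with ⟨r, -⟩ | ⟨r, -⟩
      · rw [← hx, r, map_one]; exact one_mem _
      · rw [← hx, r, show mA (-1) = (tt : chevG2.group F) from Subtype.ext phA_neg_one]
        exact Subgroup.mem_zpowers _
    · rw [Subgroup.zpowers_le]
      exact ⟨⟨-1, Subtype.ext phA_neg_one⟩, ⟨-1, Subtype.ext phC_neg_one⟩⟩
  · rw [hle, centralizer_tt hF]
    exact fun g hg => phi_range_le hg
  · rw [hle, centralizer_tt hF, Subgroup.relIndex_subgroupOf (K_le_group (F := F)), phi_relIndex hF]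

end final

end Cfsg.Agent.FGS.G2I
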