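import Mathlib

/-!
Gaschütz's complement theorem for abelian normal subgroups, by crossed homomorphisms.
-/

set_option autoImplicit false
set_option linter.all false

open Subgroup
open scoped Pointwise IsMulCommutative

namespace Cfsg.Agent.FGS.Gaschutz

variable {G : Type*} [Group G] (K : Subgroup G) [K.Normal] [IsMulCommutative K]

/-- A crossed homomorphism into an abelian normal subgroup. -/
def IsCross (f : G → K) : Prop := ∀ g h, f (g * h) = f g * MulAut.conjNormal g (f h)

/-- The integers `n` such that some crossed homomorphism is the `n`-th power on `K`. -/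
def exps : AddSubgroup ℤ where
  carrier := {n | ∃ f : G → K, IsCross K f ∧ ∀ k : K, f (k : G) = k ^ n}
  zero_mem' := ⟨fun _ => 1, fun g h => by simp, fun k => by simp⟩
  add_mem' := by
    rintro a b ⟨f, hf, hfa⟩ ⟨f', hf', hfb⟩
    refine ⟨fun g => f g * f' g, fun g h => ?_, fun k => show f k * f' k = _ by rw [hfa, hfb, zpow_add]⟩
    show f (g * h) * f' (g * h) = f g * f' g * MulAut.conjNormal g (f h * f' h)
    rw [hf, hf', map_mul, mul_mul_mul_comm]
  neg_mem' := by
    rintro a ⟨f, hf, hfa⟩
    refine ⟨fun g => (f g)⁻¹, fun g h => ?_, fun k => show (f k)⁻¹ = _ by rw [hfa, zpow_neg]⟩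
    show (f (g * h))⁻¹ = (f g)⁻¹ * MulAut.conjNormal g (f h)⁻¹
    rw [hf, map_inv, mul_inv]

theorem conjNormal_self (x k : K) : MulAut.conjNormal (x : G) k = k := by
  refine Subtype.ext ?_
  rw [MulAut.conjNormal_apply]
  have := congrArg Subtype.val (mul_comm x k)
  simp only [Subgroup.coe_mul] at this
  rw [this, mul_inv_cancel_right]

variable [Finite G]

/-- The index of a partially complemented overgroup is an exponent. -/
theorem index_mem_exps {U A : Subgroup G} (hKU : K ≤ U) (hAU : A ≤ U) (hAK : A ⊓ K = ⊥)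
    (hKA : K ⊔ A = U) : (U.index : ℤ) ∈ exps K := by
  classical
  haveI := Fintype.ofFinite (G ⧸ U)
  have hdec : ∀ u ∈ U, ∃ k : K, (k : G)⁻¹ * u ∈ A := by
    intro u hu
    rw [← hKA, ← SetLike.mem_coe, normal_mul, Set.mem_mul] at hu
    obtain ⟨k, hk, a, ha, rfl⟩ := hu
    exact ⟨⟨k, hk⟩, by simpa using ha⟩
  have huniq : ∀ u : G, ∀ k k' : K, (k : G)⁻¹ * u ∈ A → (k' : G)⁻¹ * u ∈ A → k = k' := by
    intro u k k' h h'
    have h1 : (k : G)⁻¹ * k' ∈ A ⊓ K := mem_inf.2 ⟨by
      have := mul_mem h (inv_mem h')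
      simpa [mul_assoc] using this, mul_mem (inv_mem k.2) k'.2⟩
    rw [hAK, mem_bot, inv_mul_eq_one] at h1
    exact Subtype.ext h1
  have hmem : ∀ (g : G) (c : G ⧸ U), (g • c).out⁻¹ * g * c.out ∈ U := by
    intro g c
    rw [mul_assoc, ← QuotientGroup.eq, QuotientGroup.out_eq']
    conv_lhs => rw [← QuotientGroup.out_eq' c]
    rfl
  let κ : G → K := fun u => if h : u ∈ U then (hdec u h).choose else 1
  have hκ : ∀ u ∈ U, (κ u : G)⁻¹ * u ∈ A := fun u hu => by
    simp only [κ, dif_pos hu]; exact (hdec u hu).choose_spec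
  have hκmul : ∀ u ∈ U, ∀ v ∈ U, κ (u * v) = κ u * MulAut.conjNormal u (κ v) := by
    intro u hu v hv
    refine huniq (u * v) _ _ (hκ _ (mul_mem hu hv)) ?_
    have e : MulAut.conjNormal u (κ v) = MulAut.conjNormal ((κ u : G)⁻¹ * u) (κ v) := by
      rw [map_mul, MulAut.mul_apply, ← Subgroup.coe_inv, conjNormal_self]
    rw [e]
    have := mul_mem (hκ u hu) (hκ v hv)
    convert this using 1
    simp only [Subgroup.coe_mul, MulAut.conjNormal_apply]
    group
  have hκk : ∀ k : K, κ (k : G) = k := fun k =>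
    huniq _ _ _ (hκ _ (hKU k.2)) (by simp)
  let f : G → K := fun g => ∏ c : G ⧸ U,
    MulAut.conjNormal (g • c).out (κ ((g • c).out⁻¹ * g * c.out))
  refine ⟨f, fun g h => ?_, fun k => ?_⟩
  · have step : ∀ c : G ⧸ U,
        MulAut.conjNormal ((g * h) • c).out (κ (((g * h) • c).out⁻¹ * (g * h) * c.out)) =
          MulAut.conjNormal (g • h • c).out (κ ((g • h • c).out⁻¹ * g * (h • c).out)) *
          MulAut.conjNormal g
            (MulAut.conjNormal (h • c).out (κ ((h • c).out⁻¹ * h * c.out))) := by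
      intro c
      rw [mul_smul, show (g • h • c).out⁻¹ * (g * h) * c.out =
        (g • h • c).out⁻¹ * g * (h • c).out * ((h • c).out⁻¹ * h * c.out) by group,
        hκmul _ (hmem g (h • c)) _ (hmem h c), map_mul]
      congr 1
      rw [← MulAut.mul_apply, ← map_mul, ← MulAut.mul_apply, ← map_mul]
      congr 2
      group
    show ∏ c : G ⧸ U, _ = _
    rw [Finset.prod_congr rfl fun c _ => step c, Finset.prod_mul_distrib, ← map_prod]
    congr 1
    exact Equiv.prod_comp (MulAction.toPerm h)
      (fun c : G ⧸ U => MulAut.conjNormal (g • c).out (κ ((g • c).out⁻¹ * g * c.out)))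
  · have step : ∀ c : G ⧸ U,
        MulAut.conjNormal ((k : G) • c).out (κ (((k : G) • c).out⁻¹ * k * c.out)) = k := by
      intro c
      have hfix : (k : G) • c = c := by
        induction c using QuotientGroup.induction_on with
        | _ t =>
          show (((k : G) * t : G) : G ⧸ U) = t
          rw [QuotientGroup.eq]
          refine hKU ?_
          have := (inferInstance : K.Normal).conj_mem _ (inv_mem k.2) t⁻¹
          convert this using 1
          group
      rw [hfix]
      have e : c.out⁻¹ * (k : G) * c.out = (MulAut.conjNormal c.out⁻¹ k : K) := by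
        rw [MulAut.conjNormal_apply, inv_inv]
      rw [e, hκk, ← MulAut.mul_apply, ← map_mul, mul_inv_cancel, map_one, MulAut.one_apply]
    show ∏ c : G ⧸ U, _ = _
    rw [Finset.prod_congr rfl fun c _ => step c, Finset.prod_const, Finset.card_univ,
      ← Nat.card_eq_fintype_card, ← index_eq_card, zpow_natCast]

/-- An exponent coprime to the order gives a complement. -/
theorem exists_complement_of_mem {n : ℕ} (hn : (n : ℤ) ∈ exps K) (hcop : (Nat.card K).Coprime n) :
    ∃ H : Subgroup G, IsComplement' K H := by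
  obtain ⟨f, hf, hfk⟩ := hn
  have hf1 : f 1 = 1 := by
    have := hfk 1
    simpa using this
  let H : Subgroup G :=
    { carrier := {g | f g = 1}
      one_mem' := hf1
      mul_mem' := fun {a b} ha hb => by
        show f (a * b) = 1
        rw [hf, (show f a = 1 from ha), (show f b = 1 from hb), map_one, one_mul]
      inv_mem' := fun {a} ha => by
        show f a⁻¹ = 1
        have h := hf a⁻¹ a
        rw [inv_mul_cancel, hf1, (show f a = 1 from ha), map_one, mul_one] at h
        exact h.symm }
  have hbij : Function.Bijective fun k : K => k ^ n := (powCoprime hcop).bijective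
  refine ⟨H, isComplement'_of_disjoint_and_mul_eq_univ ?_ (Set.eq_univ_of_forall fun g => ?_)⟩
  · rw [disjoint_iff, eq_bot_iff]
    rintro x ⟨hxK, hxH⟩
    have h1 : f x = 1 := hxH
    rw [hfk ⟨x, hxK⟩, zpow_natCast] at h1
    have h2 : (⟨x, hxK⟩ : K) = 1 := hbij.1 (h1.trans (one_pow n).symm)
    exact mem_bot.2 (congrArg Subtype.val h2)
  · obtain ⟨k, hk⟩ := hbij.2 (f g)⁻¹
    refine Set.mem_mul.2 ⟨(k⁻¹ : K), (k⁻¹).2, k * g, ?_, by simp⟩
    show f ((k : G) * g) = 1
    rw [hf, hfk, conjNormal_self, zpow_natCast, show k ^ n = (f g)⁻¹ from hk, inv_mul_cancel]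

end Cfsg.Agent.FGS.Gaschutz
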