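import Cfsg.Agent.Lib.Transfer.Tate

/-!
Tate's theorem relative to a normal subgroup of a Sylow subgroup.
-/

set_option autoImplicit false
set_option linter.all false

namespace Cfsg.Agent.FGS.TateRel

open Subgroup Cfsg Cfsg.Agent.Transfer
open scoped commutatorElement Pointwise

variable {p : ℕ} {G : Type*} [Group G]

/-- **Tate's theorem**, relative to a normal subgroup of the Sylow subgroup. -/
theorem le_of_le_sup_frattini [Finite G] [hp : Fact p.Prime] (P : Sylow p G)
    (M : Subgroup G) [M.Normal] (hM : pResidual p M = ⊤) (R : Subgroup P) [hR : R.Normal]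
    (hRQ : R ≤ M.subgroupOf (P : Subgroup G))
    (h : M.subgroupOf (P : Subgroup G) ≤ R ⊔ frattini P) :
    M.subgroupOf (P : Subgroup G) ≤ R := by
  by_contra hd
  let Q : Subgroup P := M.subgroupOf (P : Subgroup G)
  haveI : Q.Normal := normal_subgroupOf
  let U : Subgroup P := R ⊔ ⁅Q, (⊤ : Subgroup P)⁆
  haveI : U.Normal := inferInstance
  have hQU : ¬ Q ≤ U := by
    intro hle
    haveI : Group.IsNilpotent ↥(⊤ : Subgroup P) :=
      (Group.isNilpotent_top).mpr P.2.isNilpotent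
    exact hd (le_of_le_sup_commutator (S := (⊤ : Subgroup P)) le_top
      (le_of_le_of_eq le_rfl (normalizer_eq_top_iff.mpr hR).symm) hle)
  let Pb := P ⧸ U
  let mk : P →* Pb := QuotientGroup.mk' U
  let Z0 : Subgroup Pb := Q.map mk
  have hZ0 : Z0 ≤ center Pb := by
    rintro _ ⟨q, hq, rfl⟩
    refine mem_center_iff.mpr fun b => ?_
    obtain ⟨b, rfl⟩ := QuotientGroup.mk'_surjective U b
    rw [← map_mul, ← map_mul]
    apply QuotientGroup.eq.mpr
    refine mem_sup_right ?_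
    have := commutator_mem_commutator (H₁ := Q) (H₂ := (⊤ : Subgroup P)) (inv_mem hq)
      (mem_top b⁻¹)
    simpa [commutatorElement_def, mul_assoc] using this
  haveI : IsMulCommutative Z0 :=
    ⟨⟨fun a b => Subtype.ext (mem_center_iff.mp (hZ0 b.2) a)⟩⟩
  open scoped IsMulCommutative in
  have main : ∀ (A : Type _) (_ : CommGroup A) (hA : IsPGroup p A) (φ : P →* Pb) (ψ : Z0 →* A),
      φ = mk → ∃ χ : P →* A, ∀ q : P, ∀ hq : q ∈ Q, χ q = ψ ⟨mk q, q, hq, rfl⟩ := by
    intro A _ hA φ ψ _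
    let δ : P →* G × Pb := (P : Subgroup G).subtype.prod mk
    let ι : M →* G × Pb := M.subtype.prod 1
    let X : Subgroup (G × Pb) := ι.range ⊔ δ.range
    have hnorm : δ.range ≤ normalizer ((ι.range : Subgroup (G × Pb)) : Set (G × Pb)) := by
      rintro _ ⟨y, rfl⟩
      refine mem_normalizer_iff.mpr fun z => ⟨?_, ?_⟩
      · rintro ⟨m, rfl⟩
        exact ⟨⟨_, Subgroup.Normal.conj_mem inferInstance _ m.2 (y : G)⟩,
          by simp [ι, δ, Prod.ext_iff]⟩
      · rintro ⟨m, hm⟩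
        refine ⟨⟨_, Subgroup.Normal.conj_mem inferInstance _ m.2 (y : G)⁻¹⟩, ?_⟩
        have : z = (δ y)⁻¹ * ι m * δ y := by
          rw [hm, mul_assoc, inv_mul_cancel_right]
          exact (inv_mul_cancel_left (δ y) z).symm
        rw [this]
        simp [ι, δ, Prod.ext_iff, mul_assoc]
    let S : Subgroup X := ((P : Subgroup G).comap (MonoidHom.fst G Pb)).subgroupOf X
    have hSmem : ∀ s : S, ∃ hs : (s : X).1.1 ∈ (P : Subgroup G),
        (s : X).1.2 * (mk ⟨_, hs⟩)⁻¹ ∈ Z0 := by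
      intro s
      have hs : (s : X).1.1 ∈ (P : Subgroup G) := s.2
      refine ⟨hs, ?_⟩
      have hsX : (s : X).1 ∈ ((ι.range : Set (G × Pb)) * (δ.range : Set (G × Pb))) := by
        rw [← coe_mul_of_right_le_normalizer_left _ _ hnorm]
        exact (s : X).2
      obtain ⟨_, ⟨m, rfl⟩, _, ⟨y, rfl⟩, he⟩ := Set.mem_mul.mp hsX
      have e1 : (m : G) * (y : G) = (s : X).1.1 := congrArg Prod.fst he
      have e2 : mk y = (s : X).1.2 := by simpa [ι, δ] using congrArg Prod.snd he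
      have hm : (m : G) ∈ (P : Subgroup G) := by
        have := mul_mem hs (inv_mem y.2)
        rwa [← e1, mul_inv_cancel_right] at this
      refine ⟨y * (⟨_, hs⟩ : P)⁻¹, ?_, by rw [map_mul, map_inv, e2]⟩
      show (y : G) * ((s : X).1.1)⁻¹ ∈ M
      rw [← e1, mul_inv_rev, mul_inv_cancel_left]
      exact inv_mem m.2
    let π : S →* Z0 :=
      { toFun := fun s => ⟨(s : X).1.2 * (mk ⟨_, (hSmem s).1⟩)⁻¹, (hSmem s).2⟩
        map_one' := Subtype.ext (by
          show (1 : Pb) * (mk ⟨_, _⟩)⁻¹ = 1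
          rw [one_mul, inv_eq_one]
          exact map_one mk)
        map_mul' := fun a b => Subtype.ext (by
          show (a : X).1.2 * (b : X).1.2 * (mk ⟨_, _⟩)⁻¹ =
            (a : X).1.2 * (mk ⟨_, (hSmem a).1⟩)⁻¹ * ((b : X).1.2 * (mk ⟨_, (hSmem b).1⟩)⁻¹)
          have hc := mem_center_iff.mp (hZ0 (hSmem b).2) (mk ⟨_, (hSmem a).1⟩)⁻¹
          rw [mul_assoc (a : X).1.2 _ (_ * _), hc, ← mul_assoc, ← mul_assoc,
            mul_assoc ((a : X).1.2 * (b : X).1.2)]
          congr 1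
          rw [← mul_inv_rev, ← map_mul]; rfl) }
    let Z : Subgroup X := ((⊥ : Subgroup G).prod Z0).subgroupOf X
    have hZS : Z ≤ S := fun z hz => by
      show (z.1).1 ∈ (P : Subgroup G)
      rw [(mem_bot.mp hz.1 : z.1.1 = 1)]; exact one_mem _
    have hZc : Z ≤ center X := fun z hz => mem_center_iff.mpr fun b => Subtype.ext (Prod.ext
      (by simp [(mem_bot.mp hz.1 : z.1.1 = 1)]) (mem_center_iff.mp (hZ0 hz.2) b.1.2))
    have hZp : IsPGroup p Z := by
      refine IsPGroup.of_injective ((P.2.to_quotient U).to_subgroup Z0)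
        { toFun := fun z : Z => (⟨(z : X).1.2, z.2.2⟩ : Z0)
          map_one' := rfl
          map_mul' := fun _ _ => rfl } ?_
      intro a b hab
      exact Subtype.ext (Subtype.ext (Prod.ext
        ((mem_bot.mp a.2.1).trans (mem_bot.mp b.2.1).symm) (congrArg Subtype.val hab)))
    have hidx : ¬ p ∣ S.index := by
      intro hdvd
      apply P.not_dvd_index
      refine hdvd.trans ?_
      show ((P : Subgroup G).comap (MonoidHom.fst G Pb)).relIndex X ∣ _
      rw [relIndex_comap]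
      refine relIndex_dvd_index_of_le fun y hy => ?_
      exact ⟨δ ⟨y, hy⟩, mem_sup_right ⟨_, rfl⟩, rfl⟩
    obtain ⟨τ, hτ⟩ := exists_retraction_of_central Z S hZc hZp hZS hidx hA (ψ.comp π)
    let ιX : M →* X := ι.codRestrict X (fun m => mem_sup_left ⟨m, rfl⟩)
    let δX : P →* X := δ.codRestrict X (fun y => mem_sup_right ⟨y, rfl⟩)
    refine ⟨τ.comp δX, fun q hq => ?_⟩
    have hqX : ((1 : G), mk q) ∈ X := by
      have : ((1 : G), mk q) = (ι ⟨(q : G), hq⟩)⁻¹ * δ q := by
        simp [ι, δ, Prod.ext_iff]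
      rw [this]
      exact mul_mem (inv_mem (mem_sup_left ⟨_, rfl⟩)) (mem_sup_right ⟨_, rfl⟩)
    let z : Z := ⟨⟨_, hqX⟩, mem_bot.mpr rfl, ⟨q, hq, rfl⟩⟩
    have h1 : δX q = ιX ⟨(q : G), hq⟩ * (z : X) := by
      apply Subtype.ext
      simp [δX, ιX, ι, δ, z, Prod.ext_iff]
    have h2 : τ (ιX ⟨(q : G), hq⟩) = 1 :=
      pResidual_le_ker (τ.comp ιX) hA (by rw [hM]; trivial)
    rw [MonoidHom.comp_apply, h1, map_mul, h2, one_mul, hτ]
    refine congrArg ψ (Subtype.ext ?_)
    show mk q * (mk ⟨1, _⟩)⁻¹ = mk q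
    rw [mul_eq_left, inv_eq_one]
    exact map_one mk
  obtain ⟨χ, hχ⟩ := main Z0 inferInstance ((P.2.to_quotient U).to_subgroup Z0) mk
    (MonoidHom.id Z0) rfl
  have hsurj : Function.Surjective χ := by
    rintro ⟨_, q, hq, rfl⟩
    exact ⟨q, hχ q hq⟩
  rcases subsingleton_or_nontrivial Z0 with hs | hs
  · refine hQU fun q hq => (QuotientGroup.eq_one_iff q).mp ?_
    exact congrArg Subtype.val (Subsingleton.elim (⟨mk q, q, hq, rfl⟩ : Z0) 1)
  · obtain ⟨K, hK⟩ : ∃ K : Subgroup Z0, IsCoatom K :=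
      (IsCoatomic.eq_top_or_exists_le_coatom (⊥ : Subgroup Z0)).resolve_left
        bot_ne_top |>.imp fun _ h => h.1
    apply hK.1
    refine top_le_iff.mp ?_
    rintro ⟨_, q, hq, rfl⟩ -
    rw [show (⟨mk q, q, hq, rfl⟩ : Z0) = χ q from (hχ q hq).symm]
    obtain ⟨r, hr, f, hf, rfl⟩ : ∃ r ∈ R, ∃ f ∈ frattini P, r * f = q := by
      have h2 := h hq
      rw [← SetLike.mem_coe, normal_mul, Set.mem_mul] at h2
      exact h2
    have hr1 : χ r = 1 := by
      rw [hχ r (hRQ hr)]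
      exact Subtype.ext ((QuotientGroup.eq_one_iff r).mpr (mem_sup_left hr))
    rw [map_mul, hr1, one_mul]
    exact frattini_le_coatom hK (frattini_le_comap_frattini_of_surjective hsurj hf)

end Cfsg.Agent.FGS.TateRel
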