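import Mathlib.Algebra.Group.ForwardDiff
import Mathlib.Data.ZMod.Basic
import Mathlib.Data.Nat.Choose.Dvd
import Cfsg.Agent.Lib.FGS.TateRel
import Cfsg.Agent.Lib.Basics.Frattini
import Cfsg.Prelude.Def_BaumannBlocks

/-!
The transfer argument of Hall and Wielandt.
-/

set_option autoImplicit false
set_option linter.all false

open Subgroup
open scoped Pointwise commutatorElement

namespace Cfsg.Agent.FGS.HallWielandt

variable {G : Type*} [Group G]

theorem out_conj_mem {H : Subgroup G} {y : G} {c : G ⧸ H} (h : y • c = c) :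
    c.out⁻¹ * y * c.out ∈ H := by
  rw [mul_assoc, ← QuotientGroup.eq, QuotientGroup.out_eq']
  conv_lhs => rw [← h, ← QuotientGroup.out_eq' c]
  rfl

theorem mk_fixed {H : Subgroup G} {y r : G} (h : r⁻¹ * y * r ∈ H) :
    y • (r : G ⧸ H) = r :=
  (show ((y * r : G) : G ⧸ H) = r from (QuotientGroup.eq.2 (by rwa [← mul_assoc])).symm)

open Classical in
/-- The contribution of a fixed coset. -/
noncomputable def val {H : Subgroup G} {A : Type*} [CommGroup A] (ψ : H →* A) (y : G) (c : G ⧸ H) :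
    A :=
  if h : y • c = c then ψ ⟨_, out_conj_mem h⟩ else 1

theorem val_eq {H : Subgroup G} {A : Type*} [CommGroup A] (ψ : H →* A) {y r : G} {c : G ⧸ H}
    (hr : (r : G ⧸ H) = c) (hm : r⁻¹ * y * r ∈ H) : val ψ y c = ψ ⟨_, hm⟩ := by
  have hfix : y • c = c := hr ▸ mk_fixed hm
  rw [val, dif_pos hfix]
  have hh : r⁻¹ * c.out ∈ H := QuotientGroup.eq.1 (by rw [hr, QuotientGroup.out_eq'])
  rw [show (⟨_, out_conj_mem hfix⟩ : H) = (⟨_, hh⟩ : H)⁻¹ * ⟨_, hm⟩ * ⟨_, hh⟩ from
    Subtype.ext (by simp [mul_assoc]), map_mul, map_mul, map_inv, mul_comm (ψ _)⁻¹,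
    inv_mul_cancel_right]

theorem val_of_not_fixed {H : Subgroup G} {A : Type*} [CommGroup A] (ψ : H →* A) {y : G}
    {c : G ⧸ H} (h : y • c ≠ c) : val ψ y c = 1 := dif_neg h

theorem val_conj {H : Subgroup G} {A : Type*} [CommGroup A] (ψ : H →* A) (g y : G) (c : G ⧸ H) :
    val ψ (g * y * g⁻¹) (g • c) = val ψ y c := by
  by_cases h : y • c = c
  · have hm := out_conj_mem h
    rw [val_eq ψ (c := c) (QuotientGroup.out_eq' c) hm]
    have hm' : (g * c.out)⁻¹ * (g * y * g⁻¹) * (g * c.out) ∈ H := by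
      convert hm using 1; group
    rw [val_eq ψ (c := g • c) (r := g * c.out) ?_ hm']
    · congr 1; exact Subtype.ext (by group)
    · conv_rhs => rw [← QuotientGroup.out_eq' c]
      rfl
  · rw [val_of_not_fixed ψ h, val_of_not_fixed ψ]
    intro h'
    apply h
    rw [mul_smul, mul_smul, inv_smul_smul] at h'
    exact (MulAction.injective g) h'

/-- The transfer as a product over fixed cosets, when the longer orbits contribute trivially. -/
theorem transfer_eq_prod_val {H : Subgroup G} [H.FiniteIndex] [Fintype (G ⧸ H)] {A : Type*}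
    [CommGroup A] (ψ : H →* A) (x : G)
    (h : ∀ c : G ⧸ H, x • c ≠ c → ∀ hm : c.out⁻¹ * x ^ Function.minimalPeriod (x • ·) c * c.out ∈ H,
      ψ ⟨_, hm⟩ = 1) :
    MonoidHom.transfer ψ x = ∏ c : G ⧸ H, val ψ x c := by
  classical
  haveI := Fintype.ofFinite (Quotient (MulAction.orbitRel (zpowers x) (G ⧸ H)))
  rw [MonoidHom.transfer_eq_prod_quotient_orbitRel_zpowers_quot ψ x]
  let F := (Finset.univ : Finset (Quotient (MulAction.orbitRel (zpowers x) (G ⧸ H)))).filter
    fun q => x • q.out = q.out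
  rw [← Finset.prod_subset (Finset.subset_univ F) (fun q _ hq => h q.out (by simpa [F] using hq) _),
    ← Finset.prod_subset (Finset.subset_univ
      ((Finset.univ : Finset (G ⧸ H)).filter fun c => x • c = c))
      (fun c _ hc => val_of_not_fixed ψ (by simpa using hc))]
  refine Finset.prod_bij (fun q _ => q.out) (fun q hq => by simpa [F] using hq)
    (fun a _ b _ hab => by rw [← Quotient.out_eq' a, hab, Quotient.out_eq'])
    (fun c hc => ?_) (fun q hq => ?_)
  · have hc' : x • c = c := by simpa using hc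
    refine ⟨Quotient.mk'' c, ?_, ?_⟩ <;>
    · have hout : (Quotient.mk'' c : Quotient (MulAction.orbitRel (zpowers x) (G ⧸ H))).out = c := by
        have h1 := Quotient.out_eq' (Quotient.mk'' c : Quotient (MulAction.orbitRel (zpowers x) (G ⧸ H)))
        rw [Quotient.eq'', MulAction.orbitRel_apply, MulAction.mem_orbit_iff] at h1
        obtain ⟨⟨w, hw⟩, hwc⟩ := h1
        rw [← hwc]
        exact zpowers_le.2 (MulAction.mem_stabilizer_iff.2 hc') hw
      first | exact hout | simp [F, hout, hc']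
  · have hq' : x • q.out = q.out := by simpa [F] using hq
    have hone : Function.minimalPeriod (x • ·) q.out = 1 :=
      Function.minimalPeriod_eq_one_iff_isFixedPt.2 hq'
    have hm := out_conj_mem hq'
    rw [val_eq ψ (QuotientGroup.out_eq' q.out) hm]
    congr 1
    refine Subtype.ext ?_
    show q.out.out⁻¹ * x ^ _ * q.out.out = q.out.out⁻¹ * x * q.out.out
    rw [hone, pow_one]

theorem choose_pred_prime {p : ℕ} [hp : Fact p.Prime] :
    ∀ k, k ≤ p - 1 → ((p - 1).choose k : ZMod p) = (-1) ^ k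
  | 0, _ => by simp
  | k + 1, hk => by
    have h0 : ((p.choose (k + 1) : ℕ) : ZMod p) = 0 :=
      (ZMod.natCast_eq_zero_iff _ _).2 (Nat.Prime.dvd_choose_self hp.out (Nat.succ_ne_zero k) (by omega))
    have h1 : p.choose (k + 1) = (p - 1).choose k + (p - 1).choose (k + 1) := by
      conv_lhs => rw [show p = p - 1 + 1 by have := hp.out.pos; omega]
      exact Nat.choose_succ_succ' _ _
    rw [h1, Nat.cast_add, choose_pred_prime k (by omega)] at h0
    rw [pow_succ]
    linear_combination h0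

/-- In an abelian group of exponent `p` the `(p - 1)`-st difference is the sum of `p` values. -/
theorem fwdDiff_pred_prime {p : ℕ} [hp : Fact p.Prime] {A : Type*} [AddCommGroup A]
    (hA : ∀ a : A, p • a = 0) (f : ℕ → A) :
    (fwdDiff 1)^[p - 1] f 0 = ∑ j ∈ Finset.range p, f j := by
  rw [fwdDiff_iter_eq_sum_shift, show p - 1 + 1 = p by have := hp.out.pos; omega]
  refine Finset.sum_congr rfl fun k hk => ?_
  have hk' : k ≤ p - 1 := by have := Finset.mem_range.1 hk; omega
  have hc : (((-1 : ℤ) ^ (p - 1 - k) * (p - 1).choose k : ℤ) : ZMod p) = 1 := by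
    push_cast
    rw [choose_pred_prime k hk', ← pow_add, Nat.sub_add_cancel hk']
    exact ZMod.pow_card_sub_one_eq_one (neg_ne_zero.2 one_ne_zero)
  obtain ⟨m, hm⟩ : (p : ℤ) ∣ (-1 : ℤ) ^ (p - 1 - k) * (p - 1).choose k - 1 :=
    (ZMod.intCast_zmod_eq_zero_iff_dvd _ p).1 (by push_cast at hc ⊢; rw [hc, sub_self])
  have e : (-1 : ℤ) ^ (p - 1 - k) * (p - 1).choose k = 1 + m * p := by linarith [hm]
  rw [e, add_smul, one_smul, mul_smul, natCast_zsmul, hA, smul_zero, add_zero]
  simp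

theorem prod_eq_one_of_iter {p : ℕ} [hp : Fact p.Prime] {A : Type*} [CommGroup A]
    (hA : ∀ a : A, a ^ p = 1) (f : ℕ → A) (D : ℕ → ℕ → A) (h0 : ∀ j, D 0 j = f j)
    (hs : ∀ k j, D (k + 1) j = (D k j)⁻¹ * D k (j + 1)) (hz : D (p - 1) 0 = 1) :
    ∏ j ∈ Finset.range p, f j = 1 := by
  let g : ℕ → Additive A := fun j => Additive.ofMul (f j)
  have key : ∀ k j, (fwdDiff 1)^[k] g j = Additive.ofMul (D k j) := by
    intro k
    induction k with
    | zero => intro j; simp [g, h0]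
    | succ k ih =>
      intro j
      rw [Function.iterate_succ_apply', fwdDiff, ih, ih, hs, ofMul_mul, ofMul_inv]
      abel
  have h1 := fwdDiff_pred_prime (p := p) (A := Additive A) (fun a => congrArg Additive.ofMul (hA a.toMul)) g
  rw [key, hz] at h1
  exact (congrArg Additive.toMul h1.symm).trans rfl |> fun h => by simpa [g, ← ofMul_prod] using h

theorem commutator_closed {K : Subgroup G} {u z : G} (hu : u ∈ K) (hz : z⁻¹ * u * z ∈ K) :
    u⁻¹ * z⁻¹ * u * z ∈ K := by
  have := mul_mem (inv_mem hu) hz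
  convert this using 1; group

/-- The key step: one orbit of a weakly closed subgroup contributes trivially. -/
theorem block_eq_one [Finite G] {p : ℕ} [hp : Fact p.Prime] {H : Subgroup G} {A : Type*}
    [CommGroup A] (hA : ∀ a : A, a ^ p = 1) (ψ : H →* A) (S Q : Subgroup G) (hS : IsPGroup p S)
    (hQS : Q ≤ S) (hSQ : S ≤ normalizer (Q : Set G))
    (hzz : ∀ u ∈ S, ∀ z ∈ Q, (fun y : G => y⁻¹ * z⁻¹ * y * z)^[p - 1] u = 1)
    {x : G} (hx : x ∈ S) (hxp : ∀ s g, p ∣ s → ∀ hm : g⁻¹ * x ^ s * g ∈ H, ψ ⟨_, hm⟩ = 1)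
    {c : G ⧸ H} (hc : x • c = c) (hQc : ∃ z ∈ Q, z • c ≠ c) [Fintype (MulAction.orbit Q c)] :
    ∏ d : MulAction.orbit Q c, val ψ x (d : G ⧸ H) = 1 := by
  classical
  haveI := Fintype.ofFinite (G ⧸ H)
  set K := S ⊓ MulAction.stabilizer G c with hK
  set J := Q ⊔ K with hJ
  have hJS : J ≤ S := sup_le hQS inf_le_left
  have hKJ : K ≤ J := le_sup_right
  have hxK : x ∈ K := mem_inf.2 ⟨hx, hc⟩
  have hne : K.subgroupOf J ≠ ⊤ := by
    intro h
    obtain ⟨z, hz, hzc⟩ := hQc
    exact hzc (mem_inf.1 (subgroupOf_eq_top.1 h (mem_sup_left hz))).2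
  obtain ⟨M', hM', hKM'⟩ := (eq_top_or_exists_le_coatom (K.subgroupOf J)).resolve_left hne
  haveI : Group.IsNilpotent J := (hS.to_le hJS).isNilpotent
  obtain ⟨hMn, hMp⟩ := Basics.coatom_normal_prime hM'
  haveI := hMn
  have hMi : M'.index = p := by
    haveI := Fact.mk hMp
    obtain ⟨n, hn⟩ := (hS.to_le hJS).index M'
    rw [hn] at hMp ⊢
    have hn1 := hMp.eq_one_of_pow
    rw [hn1, pow_one]
  set M := M'.map J.subtype with hM
  have hMJ : M ≤ J := map_subtype_le M'
  have hMmem : ∀ g, ∀ hg : g ∈ J, g ∈ M ↔ (⟨g, hg⟩ : J) ∈ M' := fun g hg => by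
    constructor
    · rintro ⟨y, hy, rfl⟩; exact hy
    · exact fun hy => ⟨_, hy, rfl⟩
  have hKM : K ≤ M := fun g hg => (hMmem g (hKJ hg)).2 (hKM' hg)
  obtain ⟨z, hzQ, hzM⟩ : ∃ z ∈ Q, z ∉ M := by
    by_contra hcon
    push Not at hcon
    refine hM'.1 (eq_top_iff.2 fun g _ => ?_)
    exact (hMmem g g.2).1 ((sup_le hcon hKM : J ≤ M) g.2)
  have hzJ : z ∈ J := mem_sup_left hzQ
  have hMconj : ∀ g ∈ J, ∀ m ∈ M, g * m * g⁻¹ ∈ M := fun g hg m hm =>
    (hMmem _ (mul_mem (mul_mem hg (hMJ hm)) (inv_mem hg))).2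
      (hMn.conj_mem _ ((hMmem m (hMJ hm)).1 hm) ⟨g, hg⟩)
  have hxM : x ∈ M := hKM hxK
  -- the transfer from `K` to `M`
  let St := MulAction.stabilizer M c
  have hStmem : ∀ m : St, c.out⁻¹ * ((m : M) : G) * c.out ∈ H := fun m => out_conj_mem m.2
  let χ : St →* A :=
    { toFun := fun m => ψ ⟨_, hStmem m⟩
      map_one' := by
        rw [← map_one ψ]; exact congrArg ψ (Subtype.ext (by simp))
      map_mul' := fun a b => by
        rw [← map_mul]; exact congrArg ψ (Subtype.ext (by simp [mul_assoc])) }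
  haveI := Fintype.ofFinite (M ⧸ St)
  haveI := Fintype.ofFinite (MulAction.orbit M c)
  have hF : ∀ g ∈ J, ∀ hy : g⁻¹ * x * g ∈ M,
      MonoidHom.transfer χ ⟨_, hy⟩ = ∏ d : MulAction.orbit M c, val ψ (g⁻¹ * x * g) (d : G ⧸ H) := by
    intro g hg hy
    rw [transfer_eq_prod_val χ ⟨_, hy⟩ ?_]
    · refine Fintype.prod_equiv (MulAction.orbitEquivQuotientStabilizer M c).symm _ _ fun e => ?_
      induction e using QuotientGroup.induction_on with
      | _ m =>
        rw [MulAction.orbitEquivQuotientStabilizer_symm_apply]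
        show val χ ⟨_, hy⟩ (m : M ⧸ St) = val ψ (g⁻¹ * x * g) ((m : G) • c)
        by_cases hfix : (⟨_, hy⟩ : M) • (m : M ⧸ St) = (m : M ⧸ St)
        · have hm1 : m⁻¹ * ⟨_, hy⟩ * m ∈ St := by
            have h2 : (((⟨_, hy⟩ : M) * m : M) : M ⧸ St) = m := hfix
            rw [mul_assoc]
            exact QuotientGroup.eq.1 h2.symm
          have hm2 : ((m : G) * c.out)⁻¹ * (g⁻¹ * x * g) * ((m : G) * c.out) ∈ H := by
            have := hStmem ⟨_, hm1⟩
            convert this using 1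
            simp [mul_assoc]
          rw [val_eq χ rfl hm1, val_eq ψ (c := (m : G) • c) (r := (m : G) * c.out) ?_ hm2]
          · exact congrArg ψ (Subtype.ext (by simp [mul_assoc]))
          · conv_rhs => rw [← QuotientGroup.out_eq' c]
            rfl
        · rw [val_of_not_fixed χ hfix, val_of_not_fixed ψ]
          intro h
          apply hfix
          refine mk_fixed (show ((m⁻¹ * ⟨_, hy⟩ * m : M) : G) • c = c from ?_)
          have hco : ((m⁻¹ * ⟨_, hy⟩ * m : M) : G) = (m : G)⁻¹ * (g⁻¹ * x * g) * (m : G) := by simp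
          rw [hco, mul_smul, mul_smul, h, inv_smul_smul]
    · intro e hne' hm
      set s := Function.minimalPeriod ((⟨_, hy⟩ : M) • ·) e with hs
      have hps : p ∣ s := by
        have h1 : Function.IsPeriodicPt ((⟨_, hy⟩ : M) • ·) (orderOf (⟨_, hy⟩ : M)) e := by
          rw [Function.IsPeriodicPt, Function.IsFixedPt, smul_iterate, pow_orderOf_eq_one]
          exact one_smul M _
        obtain ⟨n, hn⟩ := IsPGroup.iff_orderOf.1 (hS.to_le (hMJ.trans hJS)) ⟨_, hy⟩
        have h2 := h1.minimalPeriod_dvd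
        rw [hn] at h2
        obtain ⟨i, -, hi⟩ := (Nat.dvd_prime_pow hp.out).1 h2
        rcases i with _ | i
        · exfalso
          apply hne'
          rw [pow_zero] at hi
          exact Function.minimalPeriod_eq_one_iff_isFixedPt.1 hi
        · rw [hs, hi]; exact dvd_pow_self p (Nat.succ_ne_zero i)
      have e1 : c.out⁻¹ * ((e.out⁻¹ * (⟨_, hy⟩ : M) ^ s * e.out : M) : G) * c.out =
          (g * (e.out : G) * c.out)⁻¹ * x ^ s * (g * (e.out : G) * c.out) := by
        simp only [coe_mul, coe_inv, SubmonoidClass.coe_pow]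
        have : (g⁻¹ * x * g) ^ s = g⁻¹ * x ^ s * g := by
          have := conj_pow (a := g⁻¹) (b := x) (i := s)
          rwa [inv_inv] at this
        rw [this]; group
      have hm3 : (g * (e.out : G) * c.out)⁻¹ * x ^ s * (g * (e.out : G) * c.out) ∈ H := by
        rw [← e1]; exact hStmem ⟨_, hm⟩
      show ψ _ = 1
      rw [← hxp s _ hps hm3]
      exact congrArg ψ (Subtype.ext e1)
  -- the iterated commutators
  have hzk : ∀ k, (fun y : G => y⁻¹ * z⁻¹ * y * z)^[k] x ∈ M := by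
    intro k
    induction k with
    | zero => exact hxM
    | succ k ih =>
      rw [Function.iterate_succ_apply']
      refine commutator_closed ih ?_
      simpa using hMconj z⁻¹ (inv_mem hzJ) _ ih
  have hzj : ∀ (j : ℕ) m, m ∈ M → (z ^ j)⁻¹ * m * z ^ j ∈ M := fun j m hm => by
    simpa using hMconj (z ^ j)⁻¹ (inv_mem (pow_mem hzJ j)) m hm
  let T : M →* A := MonoidHom.transfer χ
  have hprod : ∏ j ∈ Finset.range p,
      ∏ d : MulAction.orbit M c, val ψ ((z ^ j)⁻¹ * x * z ^ j) (d : G ⧸ H) = 1 := by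
    refine prod_eq_one_of_iter hA _
      (fun k j => T ⟨_, hzj j _ (hzk k)⟩) (fun j => ?_) (fun k j => ?_) ?_
    · exact hF (z ^ j) (pow_mem hzJ j) _
    · show T _ = (T _)⁻¹ * T _
      rw [← map_inv, ← map_mul]
      refine congrArg T (Subtype.ext ?_)
      simp only [coe_mul, coe_inv, Function.iterate_succ_apply', pow_succ]
      group
    · show T _ = 1
      rw [← map_one T]
      refine congrArg T (Subtype.ext ?_)
      show (z ^ 0)⁻¹ * _ * z ^ 0 = 1
      rw [hzz x hx z hzQ]; simp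
  -- cut the orbit into `p` translates
  have horb : ∀ q : J, (q : G) • c ∈ MulAction.orbit Q c := by
    intro q
    have hq : (q : G) ∈ (Q : Set G) * (K : Set G) := by
      rw [← coe_mul_of_right_le_normalizer_left Q K (inf_le_left.trans hSQ)]
      exact q.2
    obtain ⟨a, ha, b, hb, hab⟩ := Set.mem_mul.1 hq
    rw [← hab, mul_smul, show b • c = c from (mem_inf.1 hb).2]
    exact MulAction.mem_orbit c (⟨a, ha⟩ : Q)
  have hpow : ∀ q ∈ J, ∃ j < p, ∃ m ∈ M, z ^ j * m = q := by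
    intro q hq
    haveI : Fact p.Prime := hp
    set zb : J ⧸ M' := QuotientGroup.mk' M' ⟨z, hzJ⟩ with hzb
    have hne : zb ≠ 1 := fun h => hzM ((hMmem z hzJ).2 ((QuotientGroup.eq_one_iff _).1 h))
    have hmem := mem_powers_of_prime_card (p := p) (by rw [← index_eq_card, hMi]) hne
      (g' := QuotientGroup.mk' M' ⟨q, hq⟩)
    obtain ⟨i, hi⟩ := Submonoid.mem_powers_iff _ _ |>.1 hmem
    have hzp : zb ^ p = 1 := by
      rw [← hMi, index_eq_card]; exact pow_card_eq_one'
    refine ⟨i % p, Nat.mod_lt _ hp.out.pos, (z ^ (i % p))⁻¹ * q, ?_, by group⟩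
    have h2 : ((⟨z, hzJ⟩ : J) ^ (i % p))⁻¹ * ⟨q, hq⟩ ∈ M' := by
      refine QuotientGroup.eq.1 ?_
      rw [QuotientGroup.mk_pow]
      show zb ^ (i % p) = _
      rw [← pow_eq_pow_mod i hzp]
      exact hi
    refine (hMmem _ (mul_mem (inv_mem (pow_mem hzJ (i % p))) hq)).2 ?_
    convert h2 using 1
    exact Subtype.ext (by simp)
  rw [← hprod]
  rw [Finset.prod_range, ← Fintype.prod_prod_type'
    (f := fun (j : Fin p) (d : MulAction.orbit M c) => val ψ ((z ^ (j : ℕ))⁻¹ * x * z ^ (j : ℕ)) (d : G ⧸ H))]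
  symm
  refine Fintype.prod_bijective (fun a : Fin p × MulAction.orbit M c =>
    (⟨z ^ (a.1 : ℕ) • (a.2 : G ⧸ H), by
      obtain ⟨⟨m, hm⟩, hm'⟩ := a.2.2
      rw [← hm']
      show z ^ (a.1 : ℕ) • m • c ∈ _
      rw [← mul_smul]
      exact horb ⟨_, mul_mem (pow_mem hzJ _) (hMJ hm)⟩⟩ : MulAction.orbit Q c)) ⟨?_, ?_⟩ _ _ fun a => ?_
  · rintro ⟨i, d, ⟨⟨m, hm⟩, rfl⟩⟩ ⟨j, e, ⟨⟨n, hn⟩, rfl⟩⟩ h
    have h' : z ^ (i : ℕ) • m • c = z ^ (j : ℕ) • n • c := congrArg Subtype.val h
    have hlt : ∀ i j : ℕ, i ≤ j → j < p → ∀ m n, m ∈ M → n ∈ M →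
        z ^ i • m • c = z ^ j • n • c → i = j := by
      intro i j hij hjp m n hm hn h'
      by_contra hne
      obtain ⟨d, rfl⟩ : ∃ d, j = i + d := ⟨j - i, by omega⟩
      rw [pow_add, mul_smul (z ^ i)] at h'
      have h1 := MulAction.injective (z ^ i) h'
      have h2 : m⁻¹ * (z ^ d * n) ∈ K := mem_inf.2 ⟨hJS (mul_mem (inv_mem (hMJ hm))
        (mul_mem (pow_mem hzJ d) (hMJ hn))), by
          rw [MulAction.mem_stabilizer_iff, mul_smul, mul_smul, ← h1, inv_smul_smul]⟩
      have h3 := mul_mem (mul_mem hm (hKM h2)) (inv_mem hn)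
      rw [show m * (m⁻¹ * (z ^ d * n)) * n⁻¹ = z ^ d by group] at h3
      have hd : d.Coprime p := ((hp.out.coprime_iff_not_dvd).2 fun hdvd => by
        have := Nat.le_of_dvd (by omega) hdvd; omega).symm
      set zb : J ⧸ M' := QuotientGroup.mk' M' ⟨z, hzJ⟩
      have hz1 : zb ^ d = 1 := by
        rw [← map_pow]
        exact (QuotientGroup.eq_one_iff _).2 ((hMmem _ (pow_mem hzJ d)).1 h3)
      have hzp : zb ^ p = 1 := by
        rw [← hMi, index_eq_card]; exact pow_card_eq_one'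
      have h4 := pow_gcd_eq_one.2 ⟨hz1, hzp⟩
      rw [Nat.coprime_iff_gcd_eq_one.1 hd, pow_one] at h4
      exact hzM ((hMmem z hzJ).2 ((QuotientGroup.eq_one_iff _).1 h4))
    have hij : i = j := Fin.ext (by
      rcases le_total (i : ℕ) (j : ℕ) with hle | hle
      · exact hlt _ _ hle j.2 m n hm hn h'
      · exact (hlt _ _ hle i.2 n m hn hm h'.symm).symm)
    subst hij
    exact Prod.ext rfl (Subtype.ext (MulAction.injective _ h'))
  · rintro ⟨d, ⟨⟨q, hq⟩, rfl⟩⟩
    obtain ⟨j, hj, m, hm, hjm⟩ := hpow q (mem_sup_left hq)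
    refine ⟨(⟨j, hj⟩, ⟨m • c, MulAction.mem_orbit c (⟨m, hm⟩ : M)⟩), Subtype.ext ?_⟩
    show z ^ j • m • c = q • c
    rw [← mul_smul, hjm]
  · show _ = val ψ x (z ^ (a.1 : ℕ) • (a.2 : G ⧸ H))
    rw [← val_conj ψ (z ^ (a.1 : ℕ)) ((z ^ (a.1 : ℕ))⁻¹ * x * z ^ (a.1 : ℕ))]
    congr 1; group

/-- The transfer to the normaliser of a weakly closed subgroup is the restriction. -/
theorem transfer_eq [Finite G] {p : ℕ} [hp : Fact p.Prime] (P : Sylow p G) (Q : Subgroup G)
    (hQP : Q ≤ (P : Subgroup G)) (hPQ : (P : Subgroup G) ≤ normalizer (Q : Set G))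
    (H : Subgroup G) (hPH : (P : Subgroup G) ≤ H)
    (hfix : ∀ g : G, (∀ z ∈ Q, g⁻¹ * z * g ∈ H) → g ∈ H)
    (hzz : ∀ u ∈ (P : Subgroup G), ∀ z ∈ Q, (fun y : G => y⁻¹ * z⁻¹ * y * z)^[p - 1] u = 1)
    {A : Type*} [CommGroup A] (hA : ∀ a : A, a ^ p = 1) (ψ : H →* A) :
    ∀ N, ∀ x : G, ∀ hx : x ∈ (P : Subgroup G), orderOf x ≤ N →
      MonoidHom.transfer ψ x = ψ ⟨x, hPH hx⟩ := by
  intro N
  induction N with
  | zero => intro x _ h; exact absurd h (by have := orderOf_pos x; omega)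
  | succ N ih =>
    intro x hx hN
    classical
    haveI := Fintype.ofFinite (G ⧸ H)
    set T := MonoidHom.transfer ψ with hT
    rcases eq_or_ne x 1 with rfl | hx1
    · rw [map_one]
      exact (map_one ψ).symm
    obtain ⟨n, hn⟩ := IsPGroup.iff_orderOf.1 P.2 ⟨x, hx⟩
    rw [← Subgroup.orderOf_coe] at hn
    change orderOf x = p ^ n at hn
    have hxp : ∀ s g, p ∣ s → ∀ hm : g⁻¹ * x ^ s * g ∈ H, ψ ⟨_, hm⟩ = 1 := by
      intro s g hs hm
      have hlt : orderOf (x ^ s) ≤ N := by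
        have hn0 : n ≠ 0 := fun h => hx1 (orderOf_eq_one_iff.1 (by rw [hn, h, pow_zero]))
        have h1 : p ∣ (orderOf x).gcd s := Nat.dvd_gcd (hn ▸ dvd_pow_self p hn0) hs
        have h0 : 0 < (orderOf x).gcd s := Nat.gcd_pos_of_pos_left _ (orderOf_pos x)
        have h2 := Nat.div_lt_self (orderOf_pos x)
          (lt_of_lt_of_le hp.out.one_lt (Nat.le_of_dvd h0 h1))
        rw [orderOf_pow]
        omega
      let PH : Sylow p H := P.subtype hPH
      have hyp : IsPGroup p (zpowers (⟨_, hm⟩ : H)) := by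
        refine IsPGroup.of_card (n := (Nat.log p (orderOf (⟨_, hm⟩ : H)))) ?_
        have hd : orderOf (⟨_, hm⟩ : H) ∣ p ^ n := by
          rw [← Subgroup.orderOf_coe]
          refine orderOf_dvd_of_pow_eq_one ?_
          show (g⁻¹ * x ^ s * g) ^ p ^ n = 1
          have h4 := conj_pow (a := g⁻¹) (b := x ^ s) (i := p ^ n)
          rw [inv_inv] at h4
          rw [h4, ← pow_mul, mul_comm, pow_mul, ← hn, pow_orderOf_eq_one]
          simp
        obtain ⟨i, -, hi⟩ := (Nat.dvd_prime_pow hp.out).1 hd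
        rw [Nat.card_zpowers, hi, Nat.log_pow hp.out.one_lt]
      obtain ⟨R, hR⟩ := hyp.exists_le_sylow
      obtain ⟨h, hh⟩ := MulAction.exists_smul_eq H R PH
      have hmem : (h : G) * (g⁻¹ * x ^ s * g) * (h : G)⁻¹ ∈ (P : Subgroup G) := by
        have h1 : h * (⟨_, hm⟩ : H) * h⁻¹ ∈ (PH : Subgroup H) := by
          rw [← hh]
          exact ⟨_, hR (mem_zpowers _), rfl⟩
        exact h1
      have hlt' : orderOf ((h : G) * (g⁻¹ * x ^ s * g) * (h : G)⁻¹) ≤ N := by
        rw [show (h : G) * (g⁻¹ * x ^ s * g) * (h : G)⁻¹ =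
          MulAut.conj ((h : G) * g⁻¹) (x ^ s) by simp [mul_assoc]]
        rwa [MulEquiv.orderOf_eq]
      have h1 := ih _ hmem hlt'
      have h2 := ih (x ^ s) (pow_mem hx s) hlt
      have h3 : ψ (⟨_, hPH hmem⟩ : H) = ψ ⟨_, hm⟩ := by
        rw [show (⟨_, hPH hmem⟩ : H) = h * ⟨_, hm⟩ * h⁻¹ from Subtype.ext rfl, map_mul, map_mul,
          map_inv, mul_comm (ψ h), mul_inv_cancel_right]
      have h4 : T ((h : G) * (g⁻¹ * x ^ s * g) * (h : G)⁻¹) = T (x ^ s) := by
        simp only [map_mul, map_inv]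
        rw [mul_comm (T (h : G)), mul_inv_cancel_right, mul_comm (T g)⁻¹, inv_mul_cancel_right]
      rw [h1, h2, h3] at h4
      rw [h4, show (⟨x ^ s, hPH (pow_mem hx s)⟩ : H) = ⟨x, hPH hx⟩ ^ s from Subtype.ext rfl, map_pow]
      obtain ⟨w, rfl⟩ := hs
      rw [pow_mul, hA, one_pow]
    rw [hT, transfer_eq_prod_val ψ x ?_]
    swap
    · intro c hc hm
      refine hxp _ _ ?_ hm
      set s := Function.minimalPeriod (x • ·) c with hs
      have h1 : Function.IsPeriodicPt (x • ·) (orderOf x) c := by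
        rw [Function.IsPeriodicPt, Function.IsFixedPt, smul_iterate, pow_orderOf_eq_one]
        exact one_smul G _
      have h2 := h1.minimalPeriod_dvd
      rw [hn] at h2
      obtain ⟨i, -, hi⟩ := (Nat.dvd_prime_pow hp.out).1 h2
      rcases i with _ | i
      · exfalso
        apply hc
        rw [pow_zero] at hi
        exact Function.minimalPeriod_eq_one_iff_isFixedPt.1 hi
      · rw [hs, hi]; exact dvd_pow_self p (Nat.succ_ne_zero i)
    haveI := Fintype.ofFinite (Quotient (MulAction.orbitRel Q (G ⧸ H)))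
    have hone : (x : G)⁻¹ * x * x ∈ H := mul_mem (mul_mem (inv_mem (hPH hx)) (hPH hx)) (hPH hx)
    rw [← Finset.prod_fiberwise Finset.univ
      (fun c : G ⧸ H => (Quotient.mk'' c : Quotient (MulAction.orbitRel Q (G ⧸ H))))]
    rw [Finset.prod_eq_single (Quotient.mk'' ((1 : G) : G ⧸ H))]
    · rw [Finset.prod_eq_single ((1 : G) : G ⧸ H)]
      · rw [val_eq ψ rfl (show (1 : G)⁻¹ * x * 1 ∈ H by simpa using hPH hx)]
        exact congrArg ψ (Subtype.ext (by simp))
      · intro c hc hne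
        exfalso
        apply hne
        simp only [Finset.mem_filter, Finset.mem_univ, true_and, Quotient.eq'',
          MulAction.orbitRel_apply, MulAction.mem_orbit_iff] at hc
        obtain ⟨⟨z, hz⟩, rfl⟩ := hc
        show ((z * 1 : G) : G ⧸ H) = ((1 : G) : G ⧸ H)
        rw [QuotientGroup.eq]
        simpa using inv_mem (hPH (hQP hz))
      · simp
    · intro j _ hj
      by_cases hex : ∃ c, Quotient.mk'' c = j ∧ x • c = c
      · obtain ⟨c, rfl, hc⟩ := hex
        haveI := Fintype.ofFinite (MulAction.orbit Q c)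
        have hQc : ∃ z ∈ Q, z • c ≠ c := by
          by_contra hcon
          push Not at hcon
          apply hj
          have hg : c.out ∈ H := hfix _ fun z hz => out_conj_mem (hcon z hz)
          rw [← QuotientGroup.out_eq' c]
          congr 1
          exact (QuotientGroup.eq.2 (by simpa using inv_mem hg))
        rw [← block_eq_one hA ψ (P : Subgroup G) Q P.2 hQP hPQ hzz hx hxp hc hQc,
          ← Finset.prod_coe_sort]
        refine Fintype.prod_equiv (Equiv.subtypeEquivRight fun d => ?_) _ _ fun d => rfl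
        simp only [Finset.mem_filter, Finset.mem_univ, true_and, Quotient.eq'',
          MulAction.orbitRel_apply]
      · push Not at hex
        exact Finset.prod_eq_one fun c hc => val_of_not_fixed ψ (hex c (Finset.mem_filter.1 hc).2)
    · simp

end Cfsg.Agent.FGS.HallWielandt

namespace Cfsg.Agent.FGS.HallWielandt

open Subgroup Cfsg Cfsg.Agent.Transfer

/-- The Hall–Wielandt theorem. -/
theorem main {G : Type*} [Group G] [Finite G] {p : ℕ} [hp : Fact p.Prime] (P : Sylow p G)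
    (Q : Subgroup G) (hQ : Cfsg.IsWeaklyClosed Q (P : Subgroup G))
    (h : ∀ u ∈ (P : Subgroup G), ∀ z ∈ Q, (fun y : G => y⁻¹ * z⁻¹ * y * z)^[p - 1] u = 1) :
    Cfsg.pResidualOf p (normalizer (Q : Set G)) = Cfsg.pResidual p G ⊓ normalizer (Q : Set G) := by
  classical
  set H := normalizer (Q : Set G) with hH
  obtain ⟨hQP, hwc⟩ := hQ
  have hwc' : ∀ g : G, (∀ z ∈ Q, g * z * g⁻¹ ∈ (P : Subgroup G)) → g ∈ H := by
    intro g hg
    have he := hwc g (by rintro _ ⟨z, hz, rfl⟩; exact hg z hz)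
    refine mem_normalizer_iff.2 fun n => ⟨fun hn => ?_, fun hn => ?_⟩
    · exact he.le ⟨n, hn, rfl⟩
    · obtain ⟨m, hm, hmn⟩ := he.ge hn
      have : m = n := (MulAut.conj g).injective hmn
      exact this ▸ hm
  have hPH : (P : Subgroup G) ≤ H := fun g hg =>
    hwc' g fun z hz => mul_mem (mul_mem hg (hQP hz)) (inv_mem hg)
  let PH : Sylow p H := P.subtype hPH
  have hfix : ∀ g : G, (∀ z ∈ Q, g⁻¹ * z * g ∈ H) → g ∈ H := by
    intro g hg
    let L : Subgroup H := (Q.map (MulAut.conj g⁻¹).toMonoidHom).subgroupOf H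
    have hL : IsPGroup p L := ((P.2.to_le hQP).map _).comap_of_injective H.subtype H.subtype_injective
    obtain ⟨R, hR⟩ := hL.exists_le_sylow
    obtain ⟨k, hk⟩ := MulAction.exists_smul_eq H R PH
    have h1 : (k : G) * g⁻¹ ∈ H := hwc' _ fun z hz => by
      have hz' : g⁻¹ * z * g ∈ H := hg z hz
      have h2 : (⟨_, hz'⟩ : H) ∈ L := by
        show g⁻¹ * z * g ∈ Q.map (MulAut.conj g⁻¹).toMonoidHom
        exact ⟨z, hz, by simp⟩
      have h3 : k * (⟨_, hz'⟩ : H) * k⁻¹ ∈ (PH : Subgroup H) := by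
        rw [← hk]; exact ⟨_, hR h2, rfl⟩
      have h4 : (k : G) * (g⁻¹ * z * g) * (k : G)⁻¹ ∈ (P : Subgroup G) := h3
      convert h4 using 1
      group
    have h2 := mul_mem (inv_mem k.2) h1
    rw [inv_mul_cancel_left] at h2
    simpa using inv_mem h2
  set O := pResidual p H with hO
  haveI : O.Characteristic := pResidual_characteristic H p
  set R : Subgroup (P : Subgroup G) := (Cfsg.pResidualOf p H).subgroupOf (P : Subgroup G) with hR
  have hRmem : ∀ g : G, ∀ hg : g ∈ H, g ∈ Cfsg.pResidualOf p H ↔ (⟨g, hg⟩ : H) ∈ O := fun g hg =>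
    ⟨fun ⟨y, hy, e⟩ => (show y = ⟨g, hg⟩ from Subtype.ext e) ▸ hy, fun h => ⟨_, h, rfl⟩⟩
  haveI : R.Normal := ⟨fun r hr a => by
    have hr' := (hRmem _ (hPH r.2)).1 hr
    exact (hRmem _ (hPH (a * r * a⁻¹).2)).2
      ((inferInstance : O.Normal).conj_mem _ hr' ⟨_, hPH a.2⟩)⟩
  have hsup : O ⊔ (PH : Subgroup H) = ⊤ := pResidual_sup_sylow PH
  let π : (P : Subgroup G) →* H ⧸ O := (QuotientGroup.mk' O).comp (Subgroup.inclusion hPH)
  have hπ : Function.Surjective π := by
    intro q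
    obtain ⟨y, rfl⟩ := QuotientGroup.mk'_surjective O q
    have hy : y ∈ O ⊔ (PH : Subgroup H) := hsup ▸ mem_top y
    rw [← SetLike.mem_coe, normal_mul, Set.mem_mul] at hy
    obtain ⟨o, ho, y', hy', rfl⟩ := hy
    refine ⟨⟨(y' : G), hy'⟩, ?_⟩
    rw [map_mul, (QuotientGroup.eq_one_iff o).2 ho |> fun e => (show QuotientGroup.mk' O o = 1 from e),
      one_mul]
    rfl
  let W : Subgroup (H ⧸ O) := (frattini (P : Subgroup G)).map π
  haveI : W.Normal := (inferInstance : (frattini (P : Subgroup G)).Normal).map π hπ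
  haveI : Group.IsNilpotent (P : Subgroup G) := P.2.isNilpotent
  have hcomm : ∀ a b : (H ⧸ O) ⧸ W, a * b = b * a := by
    intro a b
    obtain ⟨a, rfl⟩ := QuotientGroup.mk'_surjective W a
    obtain ⟨b, rfl⟩ := QuotientGroup.mk'_surjective W b
    obtain ⟨u, rfl⟩ := hπ a
    obtain ⟨v, rfl⟩ := hπ b
    refine commutatorElement_eq_one_iff_mul_comm.1 ?_
    rw [← map_commutatorElement, ← map_commutatorElement]
    exact (QuotientGroup.eq_one_iff _).2 ⟨_, Basics.commutator_le_frattini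
      (commutator_mem_commutator (mem_top u) (mem_top v)), rfl⟩
  letI : CommGroup ((H ⧸ O) ⧸ W) :=
    { (inferInstance : Group ((H ⧸ O) ⧸ W)) with mul_comm := hcomm }
  have hA : ∀ a : (H ⧸ O) ⧸ W, a ^ p = 1 := by
    intro a
    obtain ⟨a, rfl⟩ := QuotientGroup.mk'_surjective W a
    obtain ⟨u, rfl⟩ := hπ a
    rw [← map_pow, ← map_pow]
    exact (QuotientGroup.eq_one_iff _).2 ⟨_, Basics.pow_mem_frattini P.2 u, rfl⟩
  let ψ : H →* (H ⧸ O) ⧸ W := (QuotientGroup.mk' W).comp (QuotientGroup.mk' O)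
  set M := pResidual p G with hM
  haveI : M.Characteristic := pResidual_characteristic G p
  have hres : pResidual p ↥M = ⊤ := pResidual_pResidual
  have hOM : ∀ g, g ∈ Cfsg.pResidualOf p H → g ∈ M := fun g hg => map_subtype_pResidual_le H hg
  have hkey : M.subgroupOf (P : Subgroup G) ≤ R := by
    refine TateRel.le_of_le_sup_frattini P M hres R (fun r hr => hOM _ hr) ?_
    intro x hx
    have h1 : MonoidHom.transfer ψ (x : G) = 1 :=
      pResidual_le_ker (MonoidHom.transfer ψ)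
        (fun a => ⟨1, by rw [pow_one]; exact hA a⟩) hx
    rw [transfer_eq P Q hQP hPH H hPH hfix h hA ψ _ (x : G) x.2 le_rfl] at h1
    have h2 : π x ∈ W := (QuotientGroup.eq_one_iff _).1 h1
    obtain ⟨f, hf, hfx⟩ := h2
    have h3 : π (f⁻¹ * x) = 1 := by rw [map_mul, map_inv, hfx, inv_mul_cancel]
    have h4 : f⁻¹ * x ∈ R :=
      (hRmem _ (hPH (f⁻¹ * x).2)).2 ((QuotientGroup.eq_one_iff _).1 h3)
    rw [show x = f * (f⁻¹ * x) by group]
    exact mul_mem (mem_sup_right hf) (mem_sup_left h4)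
  refine le_antisymm (le_inf (fun g hg => hOM g hg) (map_subtype_le _)) ?_
  intro g hg
  obtain ⟨hgM, hgH⟩ := mem_inf.1 hg
  have hy : (⟨g, hgH⟩ : H) ∈ O ⊔ (PH : Subgroup H) := hsup ▸ mem_top _
  rw [← SetLike.mem_coe, normal_mul, Set.mem_mul] at hy
  obtain ⟨o, ho, y, hy', he⟩ := hy
  have ho' : (o : G) ∈ Cfsg.pResidualOf p H := ⟨o, ho, rfl⟩
  have he' : (o : G) * (y : G) = g := congrArg Subtype.val he
  have hyM : (y : G) ∈ M := by
    have h1 := mul_mem (inv_mem (hOM _ ho')) hgM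
    rwa [← he', inv_mul_cancel_left] at h1
  rw [← he']
  have hyR : (⟨(y : G), hy'⟩ : (P : Subgroup G)) ∈ R := hkey hyM
  exact mul_mem ho' hyR

end Cfsg.Agent.FGS.HallWielandt
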