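/-
The norm identities behind the Hughes–Thompson theorem.
-/
import Mathlib

set_option autoImplicit false
set_option linter.all false

namespace Cfsg.Agent.FGS

open Subgroup
open scoped Pointwise IsMulCommutative

section Norm

variable {T A : Type*} [Group T] [CommGroup A] (ρ : T →* MulAut A) {p : ℕ}

lemma pow_eq_pow_of_modEq {g : T} {a b : ℕ} (hg : g ^ p = 1) (h : a ≡ b [MOD p]) :
    g ^ a = g ^ b := by
  rw [← pow_mod_orderOf g a, ← pow_mod_orderOf g b]
  exact congrArg _ ((h.of_dvd (orderOf_dvd_of_pow_eq_one hg)))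

lemma prod_pow_mul_range {g : T} (hp : p.Prime) (hg : g ^ p = 1) {j : ℕ} (hj0 : ¬ p ∣ j)
    (F : T → A) :
    ∏ i ∈ Finset.range p, F (g ^ (i * j)) = ∏ i ∈ Finset.range p, F (g ^ i) := by
  haveI := Fact.mk hp
  have hj : (j : ZMod p) ≠ 0 := fun h => hj0 ((ZMod.natCast_eq_zero_iff _ _).1 h)
  refine Finset.prod_nbij' (fun i => (i * j) % p) (fun i => ((i : ZMod p) * (j : ZMod p)⁻¹).val)
    ?_ ?_ ?_ ?_ ?_
  · intro i _; exact Finset.mem_range.2 (Nat.mod_lt _ hp.pos)
  · intro i _; exact Finset.mem_range.2 (ZMod.val_lt _)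
  · intro i hi
    rw [ZMod.natCast_mod, Nat.cast_mul, mul_assoc, mul_inv_cancel₀ hj, mul_one,
      ZMod.val_natCast, Nat.mod_eq_of_lt (Finset.mem_range.1 hi)]
  · intro i hi
    rw [← ZMod.val_natCast p, Nat.cast_mul, ZMod.natCast_zmod_val, mul_assoc,
      inv_mul_cancel₀ hj, mul_one, ZMod.val_natCast, Nat.mod_eq_of_lt (Finset.mem_range.1 hi)]
  · intro i _
    rw [← pow_eq_pow_mod _ hg]

/-- If every element of the coset `K x` has order dividing `p` and vanishing norm on `A`, then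
`a ^ |K|` is the product of the `K`-translates of `a`. -/
lemma pow_card_eq_prod (K : Subgroup T) [Fintype K] (x : T) (hp : p.Prime)
    (hxK : ∀ k ∈ K, x * k * x⁻¹ ∈ K)
    (hord : ∀ k ∈ K, (k * x) ^ p = 1)
    (hnorm : ∀ k ∈ K, ∀ a, ∏ j ∈ Finset.range p, ρ ((k * x) ^ j) a = 1) (a : A) :
    a ^ Fintype.card K = ∏ k : K, ρ (k : T) a := by
  have hconj : ∀ (n : ℕ), ∀ k ∈ K, (k * x) ^ n * (x ^ n)⁻¹ ∈ K := by
    intro n
    induction n with
    | zero => intro k hk; simp [one_mem]
    | succ n ih =>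
      intro k hk
      have : (k * x) ^ (n + 1) * (x ^ (n + 1))⁻¹ =
          k * (x * ((k * x) ^ n * (x ^ n)⁻¹) * x⁻¹) := by
        rw [pow_succ', pow_succ']; group
      rw [this]
      exact mul_mem hk (hxK _ (ih k hk))
  have hshift : ∀ j, 0 < j → j < p →
      ∏ k : K, ρ (((k : T) * x) ^ j) a = ∏ k : K, ρ (k : T) (ρ (x ^ j) a) := by
    intro j hj hjp
    let e : K → K := fun k => ⟨((k : T) * x) ^ j * (x ^ j)⁻¹, hconj j k k.2⟩
    have he : Function.Injective e := by
      intro k l hkl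
      have h1 : ((k : T) * x) ^ j = ((l : T) * x) ^ j :=
        mul_right_cancel (congrArg Subtype.val hkl)
      obtain ⟨i, hi⟩ : ∃ i, j * i ≡ 1 [MOD p] := by
        obtain ⟨i, -, hi⟩ := Nat.exists_mul_mod_eq_one_of_coprime
          ((hp.coprime_iff_not_dvd.2 fun hd => absurd (Nat.le_of_dvd hj hd) (not_le.2 hjp)).symm)
          hp.one_lt
        exact ⟨i, by rw [Nat.ModEq, hi, Nat.mod_eq_of_lt hp.one_lt]⟩
      have h2 := congrArg (fun t => t ^ i) h1
      simp only [← pow_mul] at h2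
      rw [pow_eq_pow_of_modEq (hord k k.2) hi, pow_eq_pow_of_modEq (hord l l.2) hi,
        pow_one, pow_one] at h2
      exact Subtype.ext (mul_right_cancel h2)
    have h2 := (Fintype.prod_equiv (Equiv.ofBijective e (Finite.injective_iff_bijective.1 he))
      (fun k => ρ (((k : T) * x) ^ j) a) (fun k => ρ (k : T) (ρ (x ^ j) a)) (fun k => by
        show ρ (((k : T) * x) ^ j) a = ρ (((k : T) * x) ^ j * (x ^ j)⁻¹) (ρ (x ^ j) a)
        rw [← MulAut.mul_apply, ← map_mul, inv_mul_cancel_right]))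
    exact h2
  have h0 : ∏ j ∈ Finset.range p, ∏ k : K, ρ (((k : T) * x) ^ j) a = 1 := by
    rw [Finset.prod_comm]
    exact Finset.prod_eq_one fun k _ => hnorm k k.2 a
  have h1 : ∏ j ∈ Finset.range p, ∏ k : K, ρ (k : T) (ρ (x ^ j) a) = 1 := by
    rw [Finset.prod_comm]
    refine Finset.prod_eq_one fun k _ => ?_
    have := hnorm 1 (one_mem K) a
    simp only [one_mul] at this
    rw [← map_prod, this, map_one]
  obtain ⟨q, rfl⟩ : ∃ q, p = q + 1 := ⟨p - 1, by have := hp.pos; omega⟩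
  rw [Finset.prod_range_succ'] at h0 h1
  simp only [pow_zero, map_one, MulAut.one_apply, Finset.prod_const, Finset.card_univ] at h0 h1
  rw [Finset.prod_congr rfl fun j hj => hshift (j + 1) (Nat.succ_pos j)
    (Nat.succ_lt_succ (Finset.mem_range.1 hj))] at h0
  exact mul_left_cancel (h0.trans h1.symm)

/-- Two commuting operators spanning a noncyclic group with vanishing norms on all the lines
`x z^i` and `z` force exponent `p`. -/
lemma pow_prime_eq_one {x z : T} (hp : p.Prime) (hcomm : Commute (ρ x) (ρ z))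
    (hz : z ^ p = 1)
    (hnormz : ∀ a, ∏ i ∈ Finset.range p, ρ (z ^ i) a = 1)
    (hnorm : ∀ i, ∀ a, ∏ j ∈ Finset.range p, ρ ((x * z ^ i) ^ j) a = 1) (a : A) :
    a ^ p = 1 := by
  have h0 : ∏ j ∈ Finset.range p, ∏ i ∈ Finset.range p, ρ ((x * z ^ i) ^ j) a = 1 := by
    rw [Finset.prod_comm]
    exact Finset.prod_eq_one fun i _ => hnorm i a
  obtain ⟨q, rfl⟩ : ∃ q, p = q + 1 := ⟨p - 1, by have := hp.pos; omega⟩
  rw [Finset.prod_range_succ'] at h0
  simp only [pow_zero, map_one, MulAut.one_apply, Finset.prod_const, Finset.card_range] at h0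
  rwa [Finset.prod_eq_one, one_mul] at h0
  intro j hj
  have hjp : ¬ (q + 1) ∣ (j + 1) := fun h => by
    have := Nat.le_of_dvd (Nat.succ_pos j) h
    have := Finset.mem_range.1 hj
    omega
  have : ∀ i, ρ ((x * z ^ i) ^ (j + 1)) a = ρ (x ^ (j + 1)) (ρ (z ^ (i * (j + 1))) a) := by
    intro i
    rw [map_pow, map_mul, map_pow, (hcomm.pow_right i).mul_pow, ← pow_mul, ← map_pow, ← map_pow,
      MulAut.mul_apply]
  rw [Finset.prod_congr rfl fun i _ => this i, ← map_prod,
    prod_pow_mul_range hp hz hjp (fun t => ρ t a), hnormz, map_one]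

end Norm

/-- `(v y) ^ n` in terms of the conjugates of `v`. -/
lemma mul_pow_eq_prod {G : Type*} [Group G] (V : Subgroup G) [IsMulCommutative V]
    (y : normalizer (V : Set G)) (v : V) (n : ℕ) :
    ((v : G) * (y : G)) ^ n =
      ((∏ j ∈ Finset.range n, V.normalizerMonoidHom (y ^ j) v : V) : G) * (y : G) ^ n := by
  induction n with
  | zero => simp
  | succ n ih =>
    rw [pow_succ, ih, Finset.prod_range_succ, Subgroup.coe_mul, pow_succ]
    have : ((V.normalizerMonoidHom (y ^ n) v : V) : G) = (y : G) ^ n * v * ((y : G) ^ n)⁻¹ := rfl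
    rw [this]
    group

/-- Vanishing of the norm from the orders of `y` and of `v y`. -/
lemma norm_eq_one {G : Type*} [Group G] (V : Subgroup G) [IsMulCommutative V]
    {H : Subgroup G} (hV : V ≤ H) {p : ℕ} (hexp : ∀ g, g ∉ H → g ^ p = 1)
    (y : normalizer (V : Set G)) (hy : (y : G) ∉ H) (v : V) :
    ∏ j ∈ Finset.range p, V.normalizerMonoidHom (y ^ j) v = 1 := by
  have h1 := mul_pow_eq_prod V y v p
  rw [hexp _ hy, hexp _ (fun h => hy (by simpa using mul_mem (inv_mem (hV v.2)) h)), mul_one] at h1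
  exact Subtype.ext h1.symm

end Cfsg.Agent.FGS
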