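import Cfsg.Agent.Lib.PermGp.JordanCycle

/-!
# Multiply transitive groups of degree `k p + r`
-/

set_option autoImplicit false
set_option linter.unusedSectionVars false

namespace Cfsg.Agent.KpPlusR

open MulAction Equiv

section normal

variable {β : Type*} [Fintype β] [DecidableEq β]

theorem double_sq {a b c d : β} (hac : a ≠ c) (had : a ≠ d) (hbc : b ≠ c) (hbd : b ≠ d) :
    (swap a b * swap c d) ^ 2 = 1 := by
  ext x
  simp only [pow_two, Perm.mul_apply, Perm.coe_one, id_eq, swap_apply_def]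
  split_ifs <;> simp_all

/-- A product of two transpositions inside the normal closure of a non-trivial permutation. -/
theorem exists_pair (hβ : 3 ≤ Fintype.card β) {σ : Perm β} (hσ : σ ≠ 1) :
    ∃ s : Perm β, (∃ a b c, a ≠ b ∧ a ≠ c ∧ b ≠ c ∧ σ * s * σ⁻¹ * s⁻¹ = swap a b * swap a c) ∨
      ∃ a b c d, a ≠ b ∧ a ≠ c ∧ a ≠ d ∧ b ≠ c ∧ b ≠ d ∧ c ≠ d ∧
        σ * s * σ⁻¹ * s⁻¹ = swap a b * swap c d := by
  obtain ⟨a, ha⟩ : ∃ a, σ a ≠ a := by
    by_contra! h
    exact hσ (Equiv.ext h)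
  have key : ∀ x y, σ * swap x y * σ⁻¹ * (swap x y)⁻¹ = swap (σ x) (σ y) * swap x y := fun x y => by
    rw [swap_inv, ← swap_apply_apply]
  by_cases h2 : σ (σ a) = a
  · obtain ⟨c, -, hc⟩ := Finset.exists_mem_notMem_of_card_lt_card (s := {a, σ a})
      (t := (Finset.univ : Finset β)) (by
        rw [Finset.card_univ]; have := Finset.card_le_two (a := a) (b := σ a); omega)
    simp only [Finset.mem_insert, Finset.mem_singleton, not_or] at hc
    refine ⟨swap a c, ?_⟩
    rw [key]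
    by_cases hcc : σ c = c
    · refine Or.inl ⟨c, σ a, a, hc.2, hc.1, ha, ?_⟩
      rw [hcc, swap_comm (σ a) c, swap_comm a c]
    · refine Or.inr ⟨σ a, σ c, a, c, fun e => hc.1 (σ.injective e.symm), ha, fun e => hc.2 e.symm,
        fun e => hc.2 (σ.injective (e.trans h2.symm)), hcc, fun e => hc.1 e.symm, rfl⟩
  · refine ⟨swap a (σ a), Or.inl ⟨σ a, σ (σ a), a, fun e => ha (σ.injective e.symm), ha, h2, ?_⟩⟩
    rw [key, swap_comm a (σ a)]

theorem exists_double (h4 : 4 ≤ Fintype.card β) {H : Subgroup (Perm β)} [hn : H.Normal]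
    (hH : H ≠ ⊥) : ∃ a b c d, a ≠ b ∧ a ≠ c ∧ a ≠ d ∧ b ≠ c ∧ b ≠ d ∧ c ≠ d ∧
      swap a b * swap c d ∈ H := by
  obtain ⟨⟨σ, hσH⟩, hσ⟩ := Subgroup.ne_bot_iff_exists_ne_one.1 hH
  obtain ⟨s, hs⟩ := exists_pair (by omega) (σ := σ) fun e => hσ (Subtype.ext e)
  have hmem : σ * s * σ⁻¹ * s⁻¹ ∈ H := by
    rw [show σ * s * σ⁻¹ * s⁻¹ = σ * (s * σ⁻¹ * s⁻¹) by group]
    exact mul_mem hσH (hn.conj_mem _ (inv_mem hσH) s)
  rcases hs with ⟨a, b, c, hab, hac, hbc, e⟩ | ⟨a, b, c, d, h1, h2, h3, h4', h5, h6, e⟩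
  · obtain ⟨d, -, hd⟩ := Finset.exists_mem_notMem_of_card_lt_card (s := {a, b, c})
      (t := (Finset.univ : Finset β)) (by
        rw [Finset.card_univ]; have := Finset.card_le_three (a := a) (b := b) (c := c); omega)
    simp only [Finset.mem_insert, Finset.mem_singleton, not_or] at hd
    rw [e] at hmem
    have h' := mul_mem hmem (hn.conj_mem _ hmem (swap c d))
    refine ⟨b, c, a, d, hbc, hab.symm, fun e => hd.2.1 e.symm, hac.symm, fun e => hd.2.2 e.symm,
      fun e => hd.1 e.symm, ?_⟩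
    have e' : swap c d * (swap a b * swap a c) * (swap c d)⁻¹ = swap a b * swap a d := by
      rw [show swap c d * (swap a b * swap a c) * (swap c d)⁻¹ =
        (swap c d * swap a b * (swap c d)⁻¹) * (swap c d * swap a c * (swap c d)⁻¹) by group,
        ← swap_apply_apply, ← swap_apply_apply, swap_apply_of_ne_of_ne hac (fun e => hd.1 e.symm),
        swap_apply_of_ne_of_ne hbc (fun e => hd.2.1 e.symm), swap_apply_left]
    rw [e', ← mul_assoc] at h'
    have e'' : swap a b * swap a c * swap a b = swap b c := by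
      conv_lhs => arg 2; rw [← swap_inv a b]
      rw [← swap_apply_apply, swap_apply_left, swap_apply_of_ne_of_ne hac.symm hbc.symm]
    rwa [e''] at h'
  · exact ⟨a, b, c, d, h1, h2, h3, h4', h5, h6, e ▸ hmem⟩

theorem exists_pow_ne {p : ℕ} (hp : p.Prime) (hp2 : p ≠ 2) (hβ : 3 ≤ Fintype.card β)
    (h : p ≠ 3 ∨ 4 ≤ Fintype.card β) {H : Subgroup (Perm β)} [hn : H.Normal] (hH : H ≠ ⊥) :
    ∃ τ ∈ H, τ ^ p ≠ 1 := by
  by_cases h4 : 4 ≤ Fintype.card β
  · obtain ⟨a, b, c, d, hab, hac, had, hbc, hbd, -, hmem⟩ := exists_double h4 hH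
    refine ⟨_, hmem, fun e => hab ?_⟩
    have h1 : swap a b * swap c d = 1 := orderOf_eq_one_iff.1 (Nat.eq_one_of_dvd_coprimes
      ((Nat.coprime_primes hp Nat.prime_two).2 hp2) (orderOf_dvd_of_pow_eq_one e)
      (orderOf_dvd_of_pow_eq_one (double_sq hac had hbc hbd)))
    have := congrArg (fun f : Perm β => f a) h1
    simpa [Perm.mul_apply, swap_apply_of_ne_of_ne hac had] using this.symm
  · obtain ⟨⟨σ, hσH⟩, hσ⟩ := Subgroup.ne_bot_iff_exists_ne_one.1 hH
    obtain ⟨s, hs⟩ := exists_pair hβ (σ := σ) fun e => hσ (Subtype.ext e)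
    have hmem : σ * s * σ⁻¹ * s⁻¹ ∈ H := by
      rw [show σ * s * σ⁻¹ * s⁻¹ = σ * (s * σ⁻¹ * s⁻¹) by group]
      exact mul_mem hσH (hn.conj_mem _ (inv_mem hσH) s)
    rcases hs with ⟨a, b, c, hab, hac, hbc, e⟩ | ⟨a, b, c, d, h1, h2, h3, h4', h5, h6, e⟩
    · refine ⟨_, hmem, fun e' => ?_⟩
      have h3 := (Perm.isThreeCycle_swap_mul_swap_same hab hac hbc).orderOf
      rw [← e] at h3
      have := orderOf_dvd_of_pow_eq_one e'
      rw [h3] at this
      exact (h.resolve_right h4) ((Nat.prime_dvd_prime_iff_eq Nat.prime_three hp).1 this).symm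
    · have : ({a, b, c, d} : Finset β).card = 4 := by
        simp [h1, h2, h3, h4', h5, h6]
      exact absurd (this ▸ Finset.card_le_univ _) h4

end normal

variable {α : Type*} [Fintype α] [DecidableEq α]

/-- An element moving at most `r` points in an `(r+1)`-transitive group. -/
theorem small {G : Subgroup (Perm α)} {t : ℕ} (ht : 3 ≤ t) (htn : t ≤ Fintype.card α)
    (hG : IsMultiplyPretransitive G α t) {g : Perm α} (hg : g ∈ G) (hg1 : g ≠ 1)
    (hsupp : g.support.card < 2 * t - 2) : alternatingGroup α ≤ G := by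
  obtain ⟨c, hc, hc1, hc3⟩ := PermGp.exists_support_le_three ht htn hG hg hg1 hsupp
  have h2 : IsMultiplyPretransitive G α 2 :=
    isMultiplyPretransitive_of_le (n := t) (by omega) (by rw [Nat.card_eq_fintype_card]; exact htn)
  exact PermGp.alternating_le_of_small_support (isPreprimitive_of_is_two_pretransitive h2) hc hc1 hc3

/-- A `p`-group with prescribed fixed points all of whose other orbits have length `p`, together
with Witt's extension of the symmetric group on the fixed points. -/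
structure Data (G : Subgroup (Perm α)) (p : ℕ) (F : Finset α) (P : Subgroup (Perm α)) : Prop where
  le : P ≤ G
  pgroup : IsPGroup p P
  fix : ∀ x ∈ F, ∀ u ∈ P, u x = x
  orb : ∀ x ∉ F, Nat.card (orbit P x) = p
  witt : ∀ σ : Perm {x // x ∈ F}, ∃ n ∈ G, n ∈ Subgroup.normalizer (P : Set (Perm α)) ∧
    ∀ x : {x // x ∈ F}, n x = σ x

theorem exists_data {G : Subgroup (Perm α)} {p k r : ℕ} [hp : Fact p.Prime]
    (hG : IsMultiplyPretransitive G α (r + 1)) (hn : Fintype.card α = k * p + r) (hk : 1 ≤ k)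
    (hkp : k < p) {F : Finset α} (hF : F.card = r) : ∃ P, Data G p F P := by
  classical
  have hrn : r + 1 ≤ Fintype.card α := by
    have := Nat.mul_le_mul hk hp.out.one_le; omega
  set K : Subgroup (Perm α) := G ⊓ fixingSubgroup (Perm α) (F : Set α) with hK
  have hmem : ∀ {v : Perm α}, v ∈ K ↔ v ∈ G ∧ ∀ x ∈ F, v x = x := fun {v} => by
    simp [hK, mem_fixingSubgroup_iff, Perm.smul_def]
  obtain ⟨Q⟩ : Nonempty (Sylow p K) := inferInstance
  have hfix : ∀ x ∈ F, ∀ u ∈ (Q : Subgroup K).map K.subtype, u x = x := fun x hx u hu =>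
    (hmem.1 (Subgroup.map_subtype_le _ hu)).2 x hx
  refine ⟨(Q : Subgroup K).map K.subtype, fun u hu => (hmem.1 (Subgroup.map_subtype_le _ hu)).1,
    Q.isPGroup'.map _, hfix, fun x hx => ?_, fun σ => ?_⟩
  · set P := (Q : Subgroup K).map K.subtype with hP
    have hPp : IsPGroup p P := Q.isPGroup'.map _
    have hkp0 : 0 < k * p := Nat.mul_pos hk hp.out.pos
    have horbK : Nat.card (orbit K x) = k * p := by
      have e : orbit K x = (↑(Fᶜ) : Set α) := by
        ext y
        simp only [Finset.coe_compl, Set.mem_compl_iff, Finset.mem_coe]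
        constructor
        · rintro ⟨u, rfl⟩ hy
          have := (hmem.1 u.2).2 _ hy
          exact hx ((u : Perm α).injective this ▸ hy)
        · intro hy
          obtain ⟨g, hg, hgx⟩ := PermGp.exists_fix_move hG hrn hx hy (by omega)
          exact ⟨⟨g, hmem.2 ⟨g.2, hg⟩⟩, hgx⟩
      rw [e, Nat.card_coe_set_eq, Set.ncard_coe_finset, Finset.card_compl, hF, hn]; omega
    have hle : Nat.card (orbit P x) ≤ k * p := by
      rw [← horbK]
      refine Nat.card_mono (Set.toFinite _) ?_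
      rintro y ⟨u, rfl⟩
      exact ⟨⟨u, Subgroup.map_subtype_le _ u.2⟩, rfl⟩
    obtain ⟨j, hj⟩ := hPp.card_orbit x
    match j, hj with
    | 0, hj =>
      exfalso
      rw [pow_zero] at hj
      have hfix' : P ≤ stabilizer (Perm α) x := fun u hu => by
        have hs : Subsingleton (orbit P x) := (Nat.card_eq_one_iff_unique.1 hj).1
        exact congrArg Subtype.val (Subsingleton.elim
          (⟨_, ⟨⟨u, hu⟩, rfl⟩⟩ : orbit P x) ⟨x, mem_orbit_self x⟩)
      have hQ : (Q : Subgroup K) ≤ stabilizer K x := fun u hu =>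
        hfix' ⟨u, hu, rfl⟩
      have h1 : p ∣ (stabilizer K x).index := by
        rw [MulAction.index_stabilizer, ← Nat.card_coe_set_eq, horbK]
        exact dvd_mul_left _ _
      exact Q.not_dvd_index (h1.trans (Subgroup.index_dvd_of_le hQ))
    | 1, hj => rw [hj, pow_one]
    | i + 2, hj =>
      exfalso
      have h2 : p * p ≤ p ^ (i + 2) := by
        rw [← pow_two]; exact Nat.pow_le_pow_right hp.out.pos (by omega)
      have h3 : k * p < p * p := Nat.mul_lt_mul_of_pos_right hkp hp.out.pos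
      omega
  · let u : Fin r ↪ α := (F.equivFinOfCardEq hF).symm.toEmbedding.trans (Function.Embedding.subtype _)
    let v : Fin r ↪ α :=
      ((F.equivFinOfCardEq hF).symm.trans σ).toEmbedding.trans (Function.Embedding.subtype _)
    have hG' : IsMultiplyPretransitive G α r :=
      isMultiplyPretransitive_of_le (n := r + 1) (by omega) (by rw [Nat.card_eq_fintype_card]; exact hrn)
    obtain ⟨⟨h, hh⟩, hhu⟩ := hG'.exists_smul_eq u v
    have hh' : ∀ x : {x // x ∈ F}, h x = σ x := fun x => by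
      have := DFunLike.congr_fun hhu (F.equivFinOfCardEq hF x)
      simpa [u, v, Function.Embedding.smul_apply, Subgroup.smul_def] using this
    have hconj : ∀ z, z ∈ K → h * z * h⁻¹ ∈ K := fun z hz => by
      refine hmem.2 ⟨mul_mem (mul_mem hh (hmem.1 hz).1) (inv_mem hh), fun x hx => ?_⟩
      obtain ⟨y, hy⟩ := σ.surjective ⟨x, hx⟩
      have hyx : h (y : α) = x := by rw [hh', hy]
      rw [Perm.mul_apply, Perm.mul_apply, ← hyx, show h⁻¹ (h (y : α)) = y from h.symm_apply_apply _,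
        (hmem.1 hz).2 _ y.2]
    let c : K →* K :=
      { toFun := fun z => ⟨h * z * h⁻¹, hconj z z.2⟩
        map_one' := by simp
        map_mul' := fun a b => Subtype.ext (by simp [mul_assoc]) }
    obtain ⟨R, hR⟩ := (Q.isPGroup'.map c).exists_le_sylow
    obtain ⟨w, hw⟩ := MulAction.exists_smul_eq K R Q
    refine ⟨(w : Perm α) * h, mul_mem (hmem.1 w.2).1 hh, ?_, fun x => ?_⟩
    · have hfwd : ∀ z ∈ (Q : Subgroup K).map K.subtype,
          (w : Perm α) * h * z * ((w : Perm α) * h)⁻¹ ∈ (Q : Subgroup K).map K.subtype := by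
        rintro z ⟨z', hz', rfl⟩
        refine ⟨w * c z' * w⁻¹, ?_, by simp [c, mul_assoc]⟩
        rw [← hw]
        show w * c z' * w⁻¹ ∈ ((w • R : Sylow p K) : Subgroup K)
        rw [Sylow.coe_subgroup_smul, Subgroup.mem_pointwise_smul_iff_inv_smul_mem]
        simpa [MulAut.smul_def, mul_assoc] using hR ⟨z', hz', rfl⟩
      have := ((Q : Subgroup K).map K.subtype : Set (Perm α)).toFinite
      exact Subgroup.mem_normalizer_iff.2 fun z => ⟨hfwd z, fun hz => by
        have hsurj : Set.SurjOn (fun z => (w : Perm α) * h * z * ((w : Perm α) * h)⁻¹)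
            ((Q : Subgroup K).map K.subtype : Set (Perm α)) ((Q : Subgroup K).map K.subtype : Set (Perm α)) :=
          this.injOn_iff_bijOn_of_mapsTo hfwd |>.1 (fun a _ b _ e => by simpa using e) |>.surjOn
        obtain ⟨y, hy, e⟩ := hsurj hz
        have : y = z := by simpa using e
        exact this ▸ hy⟩
    · rw [Perm.mul_apply, hh', (hmem.1 w.2).2 _ (σ x).2]

variable {G : Subgroup (Perm α)} {p : ℕ} {F : Finset α} {P : Subgroup (Perm α)}

theorem Data.stab_normal [Fact p.Prime] (hD : Data G p F P) {x : α} (hx : x ∉ F) :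
    (stabilizer P x).index = p ∧ (stabilizer P x).Normal := by
  have hi : (stabilizer P x).index = p := by
    rw [MulAction.index_stabilizer, ← Nat.card_coe_set_eq, hD.orb x hx]
  refine ⟨hi, Subgroup.normal_of_index_eq_minFac_card ?_⟩
  obtain ⟨e, he⟩ := IsPGroup.iff_card.1 hD.pgroup
  have he0 : e ≠ 0 := by
    rintro rfl
    have := (stabilizer P x).index_dvd_card
    rw [he, hi, pow_zero, Nat.dvd_one] at this
    exact (Fact.out : p.Prime).one_lt.ne' this
  rw [hi, he, (Fact.out : p.Prime).pow_minFac he0]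

theorem Data.agree [Fact p.Prime] (hD : Data G p F P) {x : α} (hx : x ∉ F) {u v w : Perm α}
    (hu : u ∈ P) (hv : v ∈ P) (hw : w ∈ P) (h : u x = v x) : u (w x) = v (w x) := by
  obtain ⟨-, hn⟩ := hD.stab_normal hx
  have h1 : (⟨v, hv⟩⁻¹ * ⟨u, hu⟩ : P) ∈ stabilizer P x := by
    show v⁻¹ (u x) = x
    rw [h]; exact v.symm_apply_apply x
  have h2 : w⁻¹ (v⁻¹ (u (w x))) = x := by
    have h2' := hn.conj_mem _ h1 ⟨w, hw⟩⁻¹
    rw [inv_inv] at h2'
    exact h2'
  exact (Perm.inv_eq_iff_eq.1 ((Perm.inv_eq_iff_eq.1 h2))).trans rfl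

theorem Data.gen [Fact p.Prime] (hD : Data G p F P) {x : α} (hx : x ∉ F) {u : Perm α}
    (hu : u ∈ P) (hux : u x ≠ x) {v : Perm α} (hv : v ∈ P) : ∃ j : ℕ, v x = (u ^ j) x := by
  obtain ⟨hi, hn⟩ := hD.stab_normal hx
  have hne : ((⟨u, hu⟩ : P) : P ⧸ stabilizer P x) ≠ 1 := fun e =>
    hux ((QuotientGroup.eq_one_iff _).1 e)
  obtain ⟨j, hj⟩ : ∃ j : ℕ, ((⟨u, hu⟩ : P) : P ⧸ stabilizer P x) ^ j = ((⟨v, hv⟩ : P) : P ⧸ stabilizer P x) :=
    (mem_powers_iff_mem_zpowers.2 (by
      rw [zpowers_eq_top_of_prime_card (by rw [← Subgroup.index_eq_card, hi]) hne]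
      exact Subgroup.mem_top _) : _ ∈ Submonoid.powers _)
  refine ⟨j, ?_⟩
  have hj' : ((⟨u, hu⟩ ^ j)⁻¹ * ⟨v, hv⟩ : P) ∈ stabilizer P x := QuotientGroup.eq.1 hj
  have h2 : (u ^ j)⁻¹ (v x) = x := hj'
  exact Perm.inv_eq_iff_eq.1 h2

theorem Data.exists_moved [Fact p.Prime] (hD : Data G p F P) {x : α} (hx : x ∉ F) :
    ∃ u ∈ P, u x ≠ x := by
  by_contra! h
  have := hD.orb x hx
  rw [show orbit P x = {x} from Set.eq_singleton_iff_unique_mem.2 ⟨mem_orbit_self x, by
    rintro y ⟨u, rfl⟩; exact h u u.2⟩] at this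
  exact (Fact.out : p.Prime).one_lt.ne' (by simpa using this.symm)

theorem Data.comm [Fact p.Prime] (hD : Data G p F P) {u v : Perm α} (hu : u ∈ P) (hv : v ∈ P) :
    Commute u v := by
  refine Equiv.ext fun x => ?_
  simp only [Perm.mul_apply]
  by_cases hx : x ∈ F
  · rw [hD.fix x hx v hv, hD.fix x hx u hu, hD.fix x hx v hv]
  by_cases hux : u x = x
  · rw [hD.agree hx hu (one_mem _) hv (by simpa using hux), hux]; rfl
  obtain ⟨j, hj⟩ := hD.gen hx hu hux hv
  rw [hj, hD.agree hx hv (pow_mem hu j) hu hj, ← Perm.mul_apply, ← pow_succ', pow_succ, Perm.mul_apply]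

theorem Data.pow_p [Fact p.Prime] (hD : Data G p F P) {u : Perm α} (hu : u ∈ P) : u ^ p = 1 := by
  refine Equiv.ext fun x => ?_
  by_cases hx : x ∈ F
  · exact hD.fix x hx _ (pow_mem hu p)
  obtain ⟨hi, hn⟩ := hD.stab_normal hx
  have h := Subgroup.pow_index_mem (stabilizer P x) (⟨u, hu⟩ : P)
  rw [hi] at h
  exact h

theorem Data.pow_agree [Fact p.Prime] (hD : Data G p F P) {x : α} (hx : x ∉ F) {u v : Perm α}
    (hu : u ∈ P) (hv : v ∈ P) (h : u x = v x) (j : ℕ) : (u ^ j) x = (v ^ j) x := by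
  induction j with
  | zero => rfl
  | succ j ih =>
    rw [pow_succ', pow_succ', Perm.mul_apply, Perm.mul_apply, ih,
      hD.agree hx hu hv (pow_mem hv j) h]

theorem Data.mem_F [Fact p.Prime] (hD : Data G p F P) {n : Perm α}
    (hn : n ∈ Subgroup.normalizer (P : Set (Perm α))) (x : α) : x ∈ F ↔ n x ∈ F := by
  have key : ∀ m ∈ Subgroup.normalizer (P : Set (Perm α)), ∀ y ∈ F, m y ∈ F := fun m hm y hy => by
    by_contra hmy
    obtain ⟨u, hu, huy⟩ := hD.exists_moved hmy
    have := (Subgroup.mem_normalizer_iff.1 (inv_mem hm) u).1 hu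
    have h := hD.fix y hy _ this
    rw [inv_inv, Perm.mul_apply, Perm.mul_apply, Perm.inv_eq_iff_eq] at h
    exact huy h
  refine ⟨key n hn x, fun h => ?_⟩
  have := key n⁻¹ (inv_mem hn) _ h
  rwa [show n⁻¹ (n x) = x from n.symm_apply_apply x] at this

theorem Data.exponent [Fact p.Prime] (hD : Data G p F P) {a : Perm α}
    (ha : a ∈ Subgroup.normalizer (P : Set (Perm α))) (haE : ∀ x ∉ F, ∃ u ∈ P, a x = u x)
    {x : α} (hx : x ∉ F) : ∃ s : ℕ, ∀ y ∈ P, (a * y * a⁻¹) x = (y ^ s) x := by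
  obtain ⟨c, hc, hcx⟩ := hD.exists_moved hx
  have hac := (Subgroup.mem_normalizer_iff.1 ha c).1 hc
  obtain ⟨s, hs⟩ := hD.gen hx hc hcx hac
  refine ⟨s, fun y hy => ?_⟩
  obtain ⟨j, hj⟩ := hD.gen hx hc hcx hy
  have hax : ∃ w ∈ P, a⁻¹ x = w x := by
    obtain ⟨w, hw, hwx⟩ := haE x hx
    refine ⟨a⁻¹ * w⁻¹ * a⁻¹⁻¹, (Subgroup.mem_normalizer_iff.1 (inv_mem ha) _).1 (inv_mem hw), ?_⟩
    rw [Perm.mul_apply, Perm.mul_apply, inv_inv, hwx, show w⁻¹ (w x) = x from w.symm_apply_apply x]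
  obtain ⟨w, hw, hwx⟩ := hax
  have e1 : (a * y * a⁻¹) x = ((a * c * a⁻¹) ^ j) x := by
    rw [conj_pow, Perm.mul_apply, Perm.mul_apply, Perm.mul_apply, Perm.mul_apply, hwx,
      hD.agree hx hy (pow_mem hc j) hw hj]
  rw [e1, hD.pow_agree hx hac (pow_mem hc s) hs, ← pow_mul, mul_comm, pow_mul,
    hD.pow_agree hx (pow_mem hc j) hy hj.symm]

/-- The decisive criterion. -/
theorem Data.criterion [Fact p.Prime] (hD : Data G p F P) {r : ℕ} (hr : 3 ≤ r + 1)
    (hrn : r + 1 ≤ Fintype.card α) (hF : F.card = r)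
    (hG : IsMultiplyPretransitive G α (r + 1))
    {m : Perm α} (hm : m ∈ G) (hcomm : ∀ u ∈ P, Commute m u) (hE : ∀ x ∉ F, ∃ u ∈ P, m x = u x)
    {z : α} (hz : (m ^ p) z ≠ z) : alternatingGroup α ≤ G := by
  refine small hr hrn hG (pow_mem hm p) (fun e => hz (by rw [e]; rfl)) ?_
  refine lt_of_le_of_lt (Finset.card_le_card (t := F) fun x hxs => ?_) (by omega)
  by_contra hx
  obtain ⟨u, hu, hux⟩ := hE x hx
  have hstep : ∀ j : ℕ, (m ^ j) x = (u ^ j) x := by
    intro j
    induction j with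
    | zero => rfl
    | succ j ih =>
      rw [pow_succ', Perm.mul_apply, ih, ← Perm.mul_apply, (hcomm _ (pow_mem hu j)).eq, Perm.mul_apply,
        hux, ← Perm.mul_apply, ← pow_succ]
  exact Perm.mem_support.1 hxs (by rw [hstep p, hD.pow_p hu]; rfl)

theorem Data.scalar [Fact p.Prime] (hD : Data G p F P) {k : ℕ} (hk3 : k ≤ 3)
    (hn : Fintype.card α = k * p + F.card)
    (hnc : ∀ d ∈ P, ∀ x ∉ F, (∀ z, d z ≠ z → z ∈ orbit P x) → d = 1)
    {a : Perm α} (ha : a ∈ Subgroup.normalizer (P : Set (Perm α)))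
    (haE : ∀ x ∉ F, ∃ u ∈ P, a x = u x) :
    ∀ x ∉ F, ∃ s : ℕ, ∀ y ∈ P, a * y * a⁻¹ = y ^ s := by
  classical
  intro x hx
  obtain ⟨s, hs⟩ := hD.exponent ha haE hx
  refine ⟨s, fun y hy => ?_⟩
  have hconj : ∀ y ∈ P, a * y * a⁻¹ ∈ P := fun y hy => (Subgroup.mem_normalizer_iff.1 ha y).1 hy
  refine Equiv.ext fun x' => ?_
  by_cases hx' : x' ∈ F
  · rw [hD.fix x' hx' _ (hconj y hy), hD.fix x' hx' _ (pow_mem hy s)]
  by_cases hsame : x' ∈ orbit P x
  · obtain ⟨⟨w, hw⟩, rfl⟩ := hsame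
    exact hD.agree hx (hconj y hy) (pow_mem hy s) hw (hs y hy)
  obtain ⟨s', hs'⟩ := hD.exponent ha haE hx'
  obtain ⟨x'', hx'', hcover⟩ : ∃ x'', x'' ∉ F ∧
      ∀ z, z ∉ F → z ∈ orbit P x ∨ z ∈ orbit P x' ∨ z ∈ orbit P x'' := by
    by_cases hall : ∀ z, z ∉ F → z ∈ orbit P x ∨ z ∈ orbit P x'
    · exact ⟨x, hx, fun z hz => (hall z hz).elim Or.inl (fun h => Or.inr (Or.inl h))⟩
    push Not at hall
    obtain ⟨x'', hx'', h1, h2⟩ := hall
    refine ⟨x'', hx'', fun z hz => ?_⟩
    by_contra hcon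
    push Not at hcon
    obtain ⟨g1, g2, g3⟩ := hcon
    have hdis : ∀ u v : α, u ∉ orbit P v → Disjoint (orbit P u).toFinset (orbit P v).toFinset := by
      intro u v huv
      rw [Finset.disjoint_left]
      intro t ht ht'
      rw [Set.mem_toFinset] at ht ht'
      exact huv (orbit_eq_iff.1 ((orbit_eq_iff.2 ht).symm.trans (orbit_eq_iff.2 ht')))
    have hc : ∀ v ∉ F, (orbit P v).toFinset.card = p := fun v hv => by
      rw [← hD.orb v hv, Nat.card_eq_fintype_card, Set.toFinset_card]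
    have hsub : ∀ v ∉ F, (orbit P v).toFinset ⊆ Fᶜ := fun v hv t ht => by
      rw [Set.mem_toFinset] at ht
      obtain ⟨⟨w, hw⟩, rfl⟩ := ht
      rw [Finset.mem_compl]
      intro h
      have h' := hD.fix _ h w⁻¹ (inv_mem hw)
      change w⁻¹ (w v) = w v at h'
      rw [show w⁻¹ (w v) = v from w.symm_apply_apply v] at h'
      exact hv (h'.symm ▸ h)
    have h4 := Finset.card_le_card (t := Fᶜ) (s := ((orbit P z).toFinset ∪ (orbit P x'').toFinset) ∪
      ((orbit P x').toFinset ∪ (orbit P x).toFinset))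
      (Finset.union_subset (Finset.union_subset (hsub z hz) (hsub x'' hx''))
        (Finset.union_subset (hsub x' hx') (hsub x hx)))
    rw [Finset.card_union_of_disjoint (Finset.disjoint_union_left.2
        ⟨Finset.disjoint_union_right.2 ⟨hdis _ _ g2, hdis _ _ g1⟩,
          Finset.disjoint_union_right.2 ⟨hdis _ _ h2, hdis _ _ h1⟩⟩),
      Finset.card_union_of_disjoint (hdis _ _ g3),
      Finset.card_union_of_disjoint (hdis _ _ hsame),
      hc _ hz, hc _ hx'', hc _ hx', hc _ hx, Finset.card_compl, hn] at h4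
    have := Nat.mul_le_mul_right p hk3
    have := (Fact.out : p.Prime).pos
    omega
  by_cases hinj : ∃ w, w ∉ F ∧ ∀ d ∈ P, d w = w → d = 1
  · obtain ⟨w, hw, hinj⟩ := hinj
    obtain ⟨t, ht⟩ := hD.exponent ha haE hw
    have hall : ∀ y ∈ P, a * y * a⁻¹ = y ^ t := fun y hy => by
      have h := hinj ((y ^ t)⁻¹ * (a * y * a⁻¹)) (mul_mem (inv_mem (pow_mem hy t)) (hconj y hy))
        (by rw [Perm.mul_apply, ht y hy]; exact (y ^ t).symm_apply_apply w)
      exact (inv_mul_eq_one.1 h).symm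
    obtain ⟨c, hc, hcx⟩ := hD.exists_moved hx
    obtain ⟨j, hj⟩ := hD.gen hx hc hcx hy
    have hts : ∀ y ∈ P, (y ^ t) x = (y ^ s) x := fun y hy => by rw [← hall y hy]; exact hs y hy
    have htsP : ∀ y ∈ P, y ^ t = y ^ s := fun y hy => by
      refine (inv_mul_eq_one.1 (hinj ((y ^ t)⁻¹ * y ^ s) (mul_mem (inv_mem (pow_mem hy t)) (pow_mem hy s)) ?_))
      obtain ⟨u, hu, huw⟩ := hD.exists_moved hw
      have hu1 : u ≠ 1 := fun e => huw (by rw [e]; rfl)
      have hord : orderOf c = p := orderOf_eq_prime (hD.pow_p hc) fun e => hcx (by rw [e]; rfl)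
      have hdiv : (p : ℤ) ∣ (t : ℤ) - s := by
        have h' : (c ^ ((t : ℤ) - s)) x = x := by
          rw [zpow_sub, zpow_natCast, zpow_natCast, ← ((Commute.pow_pow_self c t s).inv_right).symm.eq,
            Perm.mul_apply, hts c hc]
          exact (c ^ s).symm_apply_apply x
        by_contra hnd
        obtain ⟨i, hi⟩ : ∃ i : ℤ, (c ^ ((t : ℤ) - s)) ^ i = c := by
          obtain ⟨A, B, hAB⟩ := Int.isCoprime_iff_gcd_eq_one.2 (show Int.gcd ((t : ℤ) - s) p = 1 from by
            rw [Int.gcd, Int.natAbs_natCast]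
            exact Nat.Coprime.symm (((Fact.out : p.Prime).coprime_iff_not_dvd).2 fun hh => hnd (Int.natCast_dvd.2 hh)))
          refine ⟨A, ?_⟩
          rw [← zpow_mul, show ((t : ℤ) - s) * A = 1 + p * -B by linear_combination hAB, zpow_add,
            zpow_one, zpow_mul, zpow_natCast, hD.pow_p hc, one_zpow, mul_one]
        exact hcx (by rw [← hi]; exact Perm.zpow_apply_eq_self_of_apply_eq_self h' i)
      obtain ⟨q, hq⟩ := hdiv
      have e : y ^ t = y ^ s := by
        rw [← zpow_natCast y t, show (t : ℤ) = s + p * q by linarith, zpow_add, zpow_mul, zpow_natCast,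
          zpow_natCast, hD.pow_p hy, one_zpow, mul_one]
      rw [e, inv_mul_cancel]; rfl
    rw [hall y hy, htsP y hy]
  push Not at hinj
  obtain ⟨z, hzP, hzx, hz1⟩ := hinj x'' hx''
  have hfixorb : ∀ {d : Perm α} {v : α}, d ∈ P → v ∉ F → d v = v → ∀ t ∈ orbit P v, d t = t := by
    rintro d v hd hv hdv t ⟨⟨w, hw⟩, rfl⟩
    exact (hD.agree hv hd (one_mem _) hw (by simpa using hdv))
  have single : ∀ {d : Perm α}, d ∈ P → ∀ v ∈ ({x, x'} : Set α), d v = v → d x'' = x'' → d = 1 := by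
    intro d hd v hv hdv hd''
    rcases hv with rfl | rfl
    · refine hnc d hd x' hx' fun t ht => ?_
      rcases hcover t (fun h => ht (hD.fix t h d hd)) with h | h | h
      · exact absurd (hfixorb hd hx hdv t h) ht
      · exact h
      · exact absurd (hfixorb hd hx'' hd'' t h) ht
    · refine hnc d hd x hx fun t ht => ?_
      rcases hcover t (fun h => ht (hD.fix t h d hd)) with h | h | h
      · exact h
      · exact absurd (hfixorb hd hx' hdv t h) ht
      · exact absurd (hfixorb hd hx'' hd'' t h) ht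
  have hzx' : z x' ≠ x' := fun e => hz1 (single hzP x' (Or.inr rfl) e hzx)
  have hz'' : (a * z * a⁻¹) x'' = x'' := by
    obtain ⟨t, ht⟩ := hD.exponent ha haE hx''
    rw [ht z hzP]
    exact Perm.pow_apply_eq_self_of_apply_eq_self hzx t
  have hzs : a * z * a⁻¹ = z ^ s := by
    refine (inv_mul_eq_one.1 (single (mul_mem (inv_mem (pow_mem hzP s)) (hconj z hzP)) x (Or.inl rfl) ?_ ?_)).symm
    · rw [Perm.mul_apply, hs z hzP]; exact (z ^ s).symm_apply_apply x
    · rw [Perm.mul_apply, hz'', Perm.inv_eq_iff_eq]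
      exact (Perm.pow_apply_eq_self_of_apply_eq_self hzx s).symm
  obtain ⟨j, hj⟩ := hD.gen hx' hzP hzx' hy
  rw [hs' y hy, hD.pow_agree hx' hy (pow_mem hzP j) hj s', hD.pow_agree hx' hy (pow_mem hzP j) hj s,
    ← pow_mul, ← pow_mul, mul_comm j s', mul_comm j s, pow_mul, pow_mul]
  refine hD.pow_agree hx' (pow_mem hzP s') (pow_mem hzP s) ?_ j
  rw [← hs' z hzP, hzs]

/-- The subgroup of the normaliser fixing every orbit. -/
def orbFix (G : Subgroup (Perm α)) (F : Finset α) (P : Subgroup (Perm α)) (p : ℕ) [Fact p.Prime]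
    (hD : Data G p F P) : Subgroup (G ⊓ Subgroup.normalizer (P : Set (Perm α)) : Subgroup (Perm α)) where
  carrier := {a | ∀ x ∉ F, ∃ u ∈ P, (a : Perm α) x = u x}
  one_mem' := fun x _ => ⟨1, one_mem _, rfl⟩
  mul_mem' := fun {a b} ha hb x hx => by
    obtain ⟨u, hu, hux⟩ := hb x hx
    obtain ⟨v, hv, hvx⟩ := ha x hx
    refine ⟨(a : Perm α) * u * (a : Perm α)⁻¹ * v,
      mul_mem ((Subgroup.mem_normalizer_iff.1 a.2.2 u).1 hu) hv, ?_⟩
    show (a : Perm α) ((b : Perm α) x) = _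
    rw [hux, Perm.mul_apply, Perm.mul_apply, Perm.mul_apply, ← hvx,
      show (a : Perm α)⁻¹ ((a : Perm α) x) = x from (a : Perm α).symm_apply_apply x]
  inv_mem' := fun {a} ha x hx => by
    obtain ⟨u, hu, hux⟩ := ha x hx
    refine ⟨(a : Perm α)⁻¹ * u⁻¹ * (a : Perm α)⁻¹⁻¹,
      (Subgroup.mem_normalizer_iff.1 (inv_mem a.2.2) _).1 (inv_mem hu), ?_⟩
    show (a : Perm α)⁻¹ x = _
    rw [Perm.mul_apply, Perm.mul_apply, inv_inv, hux, show u⁻¹ (u x) = x from u.symm_apply_apply x]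

theorem Data.alternating [hp : Fact p.Prime] (hD : Data G p F P) {k r : ℕ} (hk : k < r) (hr : 3 ≤ r)
    (hp2 : p ≠ 2) (hpr : p ≠ 3 ∨ 4 ≤ r) (hn : Fintype.card α = k * p + r) (hF : F.card = r)
    (hk1 : 1 ≤ k) (hG : IsMultiplyPretransitive G α (r + 1)) : alternatingGroup α ≤ G := by
  classical
  by_contra hgoal
  have hrn : r + 1 ≤ Fintype.card α := by
    have := Nat.mul_le_mul hk1 hp.out.one_le; omega
  have hprim : IsPreprimitive G α := isPreprimitive_of_is_two_pretransitive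
    (isMultiplyPretransitive_of_le (n := r + 1) (by omega) (by rw [Nat.card_eq_fintype_card]; exact hrn))
  have hnc : ∀ d ∈ P, ∀ x ∉ F, (∀ z, d z ≠ z → z ∈ orbit P x) → d = 1 := by
    intro d hd x hx h
    by_contra hd1
    have ho : orderOf d = p := orderOf_eq_prime (hD.pow_p hd) hd1
    have hcard : d.support.card ≤ p := by
      rw [← hD.orb x hx, Nat.card_eq_fintype_card, ← Set.toFinset_card]
      exact Finset.card_le_card fun z hz => Set.mem_toFinset.2 (h z (Perm.mem_support.1 hz))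
    have hcyc : d.IsCycle := Perm.isCycle_of_prime_order (ho ▸ hp.out) (by rw [ho]; have := hp.out.pos; omega)
    refine hgoal (PermGp.alternating_le_of_prime_cycle hprim hp.out ?_ hcyc ?_ (hD.le hd))
    · have := Nat.le_mul_of_pos_left p hk1; omega
    · rw [← hcyc.orderOf, ho]
  let N : Subgroup (Perm α) := G ⊓ Subgroup.normalizer (P : Set (Perm α))
  let ψ : N →* Perm {x // x ∈ F} :=
    { toFun := fun n => Equiv.Perm.subtypePerm (n : Perm α) fun x => (hD.mem_F n.2.2 x).symm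
      map_one' := rfl
      map_mul' := fun _ _ => rfl }
  have hψ : Function.Surjective ψ := fun σ => by
    obtain ⟨n, hnG, hnN, hnσ⟩ := hD.witt σ
    exact ⟨⟨n, hnG, hnN⟩, Equiv.ext fun x => Subtype.ext (hnσ x)⟩
  let E : Subgroup N := orbFix G F P p hD
  let M : Subgroup N := E ⊓ (Subgroup.centralizer (P : Set (Perm α))).comap N.subtype
  have hEn : E.Normal := ⟨fun a ha n x hx => by
    obtain ⟨u, hu, hux⟩ := ha ((n : Perm α)⁻¹ x) fun h => hx (by
      have := (hD.mem_F n.2.2 _).1 h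
      rwa [show (n : Perm α) ((n : Perm α)⁻¹ x) = x from (n : Perm α).apply_symm_apply x] at this)
    refine ⟨(n : Perm α) * u * (n : Perm α)⁻¹, (Subgroup.mem_normalizer_iff.1 n.2.2 u).1 hu, ?_⟩
    show (n : Perm α) ((a : Perm α) ((n : Perm α)⁻¹ x)) = _
    rw [hux]; rfl⟩
  have hMn : M.Normal := ⟨fun a ha n => ⟨hEn.conj_mem a ha.1 n, by
    show ((n * a * n⁻¹ : N) : Perm α) ∈ Subgroup.centralizer (P : Set (Perm α))
    rw [Subgroup.mem_centralizer_iff]
    intro u hu
    have hu' := (Subgroup.mem_normalizer_iff.1 (inv_mem n.2.2) u).1 hu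
    have h := Subgroup.mem_centralizer_iff.1 (show (a : Perm α) ∈ Subgroup.centralizer (P : Set (Perm α)) from ha.2) _ hu'
    rw [inv_inv] at h
    simp only [Subgroup.coe_mul, InvMemClass.coe_inv]
    calc u * ((n : Perm α) * a * (n : Perm α)⁻¹)
        = (n : Perm α) * ((n : Perm α)⁻¹ * u * n * a) * (n : Perm α)⁻¹ := by group
      _ = (n : Perm α) * (a * ((n : Perm α)⁻¹ * u * n)) * (n : Perm α)⁻¹ := by rw [h]
      _ = (n : Perm α) * a * (n : Perm α)⁻¹ * u := by group⟩⟩
  have hcardF : Fintype.card {x // x ∈ F} = r := by rw [Fintype.card_coe, hF]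
  have hMnorm : (M.map ψ).Normal := hMn.map ψ hψ
  have hEnorm : (E.map ψ).Normal := hEn.map ψ hψ
  have hMbot : M.map ψ = ⊥ := by
    by_contra hne
    obtain ⟨τ, ⟨m, hm, rfl⟩, hτp⟩ := exists_pow_ne (H := M.map ψ) hp.out hp2 (by omega) (hcardF.symm ▸ hpr) hne
    obtain ⟨z, hz⟩ : ∃ z, (ψ m ^ p) z ≠ z := by
      by_contra! h
      exact hτp (Equiv.ext h)
    refine hgoal (hD.criterion (m := (m : Perm α)) (z := (z : α)) (by omega) hrn hF hG m.2.1
      (fun u hu => (Subgroup.mem_centralizer_iff.1 hm.2 u hu).symm) hm.1 fun e => hz (Subtype.ext ?_))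
    rw [← map_pow]
    exact e
  have hEcard : E.map ψ ≠ ⊥ := by
    intro hbot
    let O : Type _ := {x : α // x ∉ F}
    let S : Setoid O :=
      { r := fun x y => (x : α) ∈ orbit P (y : α)
        iseqv := ⟨fun x => mem_orbit_self _, fun {x y} h => mem_orbit_symm.1 h,
          fun {x y z} h h' => orbit_eq_iff.2 h' ▸ h⟩ }
    let Ω := Quotient S
    have hcardΩ : Nat.card Ω = k := by
      have h1 : Nat.card O = ∑ ω : Ω, Nat.card {x : O // Quotient.mk S x = ω} := by
        rw [← Nat.card_sigma]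
        exact Nat.card_congr (Equiv.sigmaFiberEquiv (Quotient.mk S)).symm
      have h2 : ∀ ω : Ω, Nat.card {x : O // Quotient.mk S x = ω} = p := by
        intro ω
        induction ω using Quotient.inductionOn with | _ y => ?_
        rw [← hD.orb y y.2]
        refine Nat.card_congr
          { toFun := fun x => ⟨(x.1 : α), Quotient.exact x.2⟩
            invFun := fun t => ⟨⟨t.1, fun ht => y.2 ?_⟩, Quotient.sound t.2⟩
            left_inv := fun x => rfl
            right_inv := fun t => rfl }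
        obtain ⟨⟨w, hw⟩, hwy⟩ := t.2
        change w (y : α) = (t : α) at hwy
        have := hD.fix _ ht w⁻¹ (inv_mem hw)
        rw [← hwy, show w⁻¹ (w (y : α)) = y from w.symm_apply_apply _] at this
        exact this.symm ▸ hwy.symm ▸ ht
      simp only [h2, Finset.sum_const, smul_eq_mul, Finset.card_univ] at h1
      have hO : Nat.card O = k * p := by
        rw [Nat.card_eq_fintype_card, Fintype.card_subtype_compl, Fintype.card_coe, hF, hn]; omega
      rw [hO] at h1
      rw [Nat.card_eq_fintype_card]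
      exact (Nat.eq_of_mul_eq_mul_right hp.out.pos h1).symm
    have hO' : ∀ (n : N) (x : O), (n : Perm α) (x : α) ∉ F := fun n x h => x.2 ((hD.mem_F n.2.2 _).2 h)
    have hresp : ∀ (n : N) (x y : O), (x : α) ∈ orbit P (y : α) →
        (n : Perm α) x ∈ orbit P ((n : Perm α) y) := by
      rintro n x y ⟨⟨u, hu⟩, hux⟩
      refine ⟨⟨(n : Perm α) * u * (n : Perm α)⁻¹, (Subgroup.mem_normalizer_iff.1 n.2.2 u).1 hu⟩, ?_⟩
      show (n : Perm α) (u ((n : Perm α)⁻¹ ((n : Perm α) y))) = _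
      rw [show (n : Perm α)⁻¹ ((n : Perm α) y) = y from (n : Perm α).symm_apply_apply _]
      exact congrArg _ hux
    let act : N → Ω → Ω := fun n => Quotient.map (fun x : O => ⟨(n : Perm α) x, hO' n x⟩)
      (fun x y h => hresp n x y h)
    have hact : ∀ n m : N, ∀ ω, act n (act m ω) = act (n * m) ω := fun n m ω =>
      Quotient.inductionOn ω fun x => rfl
    have hone : ∀ ω, act 1 ω = ω := fun ω => Quotient.inductionOn ω fun x => rfl
    let φ : N → Perm Ω := fun n =>
      ⟨act n, act n⁻¹, fun ω => by rw [hact, inv_mul_cancel, hone],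
        fun ω => by rw [hact, mul_inv_cancel, hone]⟩
    let lift : Perm {x // x ∈ F} → Perm Ω := fun σ => φ (Function.surjInv hψ σ)
    have hinj : Function.Injective lift := by
      intro σ τ h
      set a := Function.surjInv hψ σ with ha
      set b := Function.surjInv hψ τ with hb
      have hmem : b⁻¹ * a ∈ E := by
        intro x hx
        have h1 : act a (Quotient.mk S ⟨x, hx⟩) = act b (Quotient.mk S ⟨x, hx⟩) :=
          congrArg (fun e : Perm Ω => e (Quotient.mk S ⟨x, hx⟩)) h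
        have h2 := congrArg (act b⁻¹) h1
        rw [hact, hact, inv_mul_cancel, hone] at h2
        obtain ⟨⟨u, hu⟩, hux⟩ := Quotient.exact h2
        exact ⟨u, hu, hux.symm⟩
      have h3 : ψ (b⁻¹ * a) ∈ E.map ψ := ⟨_, hmem, rfl⟩
      rw [hbot, Subgroup.mem_bot, map_mul, map_inv, inv_mul_eq_one, ha, hb,
        Function.surjInv_eq hψ, Function.surjInv_eq hψ] at h3
      exact h3.symm
    have := Nat.card_le_card_of_injective lift hinj
    rw [Nat.card_perm, Nat.card_perm, hcardΩ, Nat.card_eq_fintype_card, hcardF] at this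
    exact absurd this (not_le.2 (by
      calc k.factorial < (k + 1).factorial := (Nat.factorial_lt hk1).2 (Nat.lt_succ_self k)
        _ ≤ r.factorial := Nat.factorial_le hk))
  by_cases hr5 : 5 ≤ r
  · obtain ⟨a, b, c, d, hab, hac, had, hbc, hbd, hcd, hmem⟩ :=
      exists_double (by omega) hEcard (hn := hEnorm)
    obtain ⟨e, -, he⟩ := Finset.exists_mem_notMem_of_card_lt_card (s := {a, b, c, d})
      (t := (Finset.univ : Finset {x // x ∈ F})) (by
        rw [Finset.card_univ, hcardF]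
        have := Finset.card_le_four (a := a) (b := b) (c := c) (d := d); omega)
    simp only [Finset.mem_insert, Finset.mem_singleton, not_or] at he
    have hmem' := hEnorm.conj_mem _ hmem (swap d e)
    have e' : swap d e * (swap a b * swap c d) * (swap d e)⁻¹ = swap a b * swap c e := by
      rw [show swap d e * (swap a b * swap c d) * (swap d e)⁻¹ =
        (swap d e * swap a b * (swap d e)⁻¹) * (swap d e * swap c d * (swap d e)⁻¹) by group,
        ← swap_apply_apply, ← swap_apply_apply, swap_apply_of_ne_of_ne had (fun h => he.1 h.symm),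
        swap_apply_of_ne_of_ne hbd (fun h => he.2.1 h.symm),
        swap_apply_of_ne_of_ne hcd (fun h => he.2.2.1 h.symm), swap_apply_left]
    rw [e'] at hmem'
    obtain ⟨m₁, hm₁, hm₁e⟩ := hmem
    obtain ⟨m₂, hm₂, hm₂e⟩ := hmem'
    have hconjM : m₁ * m₂ * m₁⁻¹ * m₂⁻¹ ∈ M := by
      refine ⟨E.mul_mem (E.mul_mem (E.mul_mem hm₁ hm₂) (E.inv_mem hm₁)) (E.inv_mem hm₂), ?_⟩
      show ((m₁ * m₂ * m₁⁻¹ * m₂⁻¹ : N) : Perm α) ∈ Subgroup.centralizer (P : Set (Perm α))
      rw [Subgroup.mem_centralizer_iff]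
      intro u hu
      have key : ∀ u ∈ P, ((m₁ : Perm α) * (m₂ : Perm α)) * u * ((m₁ : Perm α) * (m₂ : Perm α))⁻¹ =
          ((m₂ : Perm α) * (m₁ : Perm α)) * u * ((m₂ : Perm α) * (m₁ : Perm α))⁻¹ := by
        intro u hu
        refine Equiv.ext fun x => ?_
        have h12 := (Subgroup.mem_normalizer_iff.1 (mul_mem m₁.2.2 m₂.2.2) u).1 hu
        have h21 := (Subgroup.mem_normalizer_iff.1 (mul_mem m₂.2.2 m₁.2.2) u).1 hu
        by_cases hx : x ∈ F
        · rw [hD.fix x hx _ h12, hD.fix x hx _ h21]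
        obtain ⟨s, hs⟩ := hD.exponent m₁.2.2 hm₁ hx
        obtain ⟨t, ht⟩ := hD.exponent m₂.2.2 hm₂ hx
        have h1 := (Subgroup.mem_normalizer_iff.1 m₁.2.2 u).1 hu
        have h2 := (Subgroup.mem_normalizer_iff.1 m₂.2.2 u).1 hu
        rw [show (m₁ : Perm α) * (m₂ : Perm α) * u * ((m₁ : Perm α) * (m₂ : Perm α))⁻¹ =
            (m₁ : Perm α) * ((m₂ : Perm α) * u * (m₂ : Perm α)⁻¹) * (m₁ : Perm α)⁻¹ by group,
          show (m₂ : Perm α) * (m₁ : Perm α) * u * ((m₂ : Perm α) * (m₁ : Perm α))⁻¹ =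
            (m₂ : Perm α) * ((m₁ : Perm α) * u * (m₁ : Perm α)⁻¹) * (m₂ : Perm α)⁻¹ by group,
          hs _ h2, ht _ h1, hD.pow_agree hx h2 (pow_mem hu t) (ht u hu),
          hD.pow_agree hx h1 (pow_mem hu s) (hs u hu), ← pow_mul, ← pow_mul, mul_comm]
      have hu' := (Subgroup.mem_normalizer_iff.1 (inv_mem (mul_mem m₂.2.2 m₁.2.2)) u).1 hu
      have h := key _ hu'
      simp only [Subgroup.coe_mul, InvMemClass.coe_inv] at h ⊢
      rw [inv_inv] at h
      have e2 : (m₂ : Perm α) * m₁ * (((m₂ : Perm α) * m₁)⁻¹ * u * ((m₂ : Perm α) * m₁)) *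
          ((m₂ : Perm α) * m₁)⁻¹ = u := by group
      rw [e2] at h
      nth_rewrite 1 [← h]
      group
    have h0 : ψ (m₁ * m₂ * m₁⁻¹ * m₂⁻¹) = 1 := by
      rw [← Subgroup.mem_bot, ← hMbot]; exact ⟨_, hconjM, rfl⟩
    rw [map_mul, map_mul, map_mul, map_inv, map_inv, hm₁e, hm₂e, mul_inv_eq_one, mul_inv_eq_iff_eq_mul] at h0
    have h1 := congrArg (fun f : Perm {x // x ∈ F} => f c) h0
    simp only [Perm.mul_apply] at h1
    simp only [swap_apply_left,
      swap_apply_of_ne_of_ne he.2.2.1 he.2.2.2, swap_apply_of_ne_of_ne he.1 he.2.1,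
      swap_apply_of_ne_of_ne (Ne.symm hcd) (fun h => he.2.2.2 h.symm),
      swap_apply_of_ne_of_ne had.symm hbd.symm] at h1
    exact he.2.2.2 h1
  · obtain ⟨⟨σ, hσE⟩, hσ⟩ := Subgroup.ne_bot_iff_exists_ne_one.1 hEcard
    obtain ⟨a, ha, rfl⟩ := hσE
    obtain ⟨s, hs⟩ := exists_pair (by omega) (σ := ψ a) fun e => hσ (Subtype.ext e)
    obtain ⟨b, rfl⟩ := hψ s
    obtain ⟨x₀, hx₀⟩ : ∃ x₀, x₀ ∉ F := by
      by_contra! h
      rw [Finset.eq_univ_of_forall h, Finset.card_univ] at hF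
      omega
    obtain ⟨t, ht⟩ := hD.scalar (k := k) (by omega) (by rw [hF]; exact hn) hnc a.2.2 ha x₀ hx₀
    have hconjM : a * b * a⁻¹ * b⁻¹ ∈ M := by
      refine ⟨?_, ?_⟩
      · rw [show a * b * a⁻¹ * b⁻¹ = a * (b * a⁻¹ * b⁻¹) by group]
        exact mul_mem ha (hEn.conj_mem _ (inv_mem ha) b)
      show ((a * b * a⁻¹ * b⁻¹ : N) : Perm α) ∈ Subgroup.centralizer (P : Set (Perm α))
      rw [Subgroup.mem_centralizer_iff]
      intro u hu
      have key : ∀ u ∈ P, ((a : Perm α) * (b : Perm α)) * u * ((a : Perm α) * (b : Perm α))⁻¹ =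
          ((b : Perm α) * (a : Perm α)) * u * ((b : Perm α) * (a : Perm α))⁻¹ := fun u hu => by
        rw [show (a : Perm α) * (b : Perm α) * u * ((a : Perm α) * (b : Perm α))⁻¹ =
            (a : Perm α) * ((b : Perm α) * u * (b : Perm α)⁻¹) * (a : Perm α)⁻¹ by group,
          show (b : Perm α) * (a : Perm α) * u * ((b : Perm α) * (a : Perm α))⁻¹ =
            (b : Perm α) * ((a : Perm α) * u * (a : Perm α)⁻¹) * (b : Perm α)⁻¹ by group,
          ht _ ((Subgroup.mem_normalizer_iff.1 b.2.2 u).1 hu), ht u hu, conj_pow]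
      have hu' := (Subgroup.mem_normalizer_iff.1 (inv_mem (mul_mem b.2.2 a.2.2)) u).1 hu
      have h := key _ hu'
      simp only [Subgroup.coe_mul, InvMemClass.coe_inv] at h ⊢
      rw [inv_inv] at h
      have e2 : (b : Perm α) * a * (((b : Perm α) * a)⁻¹ * u * ((b : Perm α) * a)) *
          ((b : Perm α) * a)⁻¹ = u := by group
      rw [e2] at h
      nth_rewrite 1 [← h]
      group
    have h0 : ψ (a * b * a⁻¹ * b⁻¹) = 1 := by
      rw [← Subgroup.mem_bot, ← hMbot]; exact ⟨_, hconjM, rfl⟩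
    rw [map_mul, map_mul, map_mul, map_inv, map_inv] at h0
    rcases hs with ⟨x, y, z, hxy, hxz, hyz, e⟩ | ⟨x, y, z, w, hxy, hxz, hxw, hyz, hyw, hzw, e⟩
    · rw [e] at h0
      exact (Perm.isThreeCycle_swap_mul_swap_same hxy hxz hyz).ne_one h0
    · rw [e] at h0
      have h1 := congrArg (fun f : Perm {x // x ∈ F} => f x) h0
      simp only [Perm.mul_apply, Perm.coe_one, id_eq, swap_apply_of_ne_of_ne hxz hxw, swap_apply_left] at h1
      exact hxy h1.symm

theorem nine {G : Subgroup (Perm α)} (hn : Fintype.card α = 9)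
    (hG : IsMultiplyPretransitive G α 4) : alternatingGroup α ≤ G := by
  classical
  by_contra hgoal
  have hfree : ∀ g ∈ G, 4 ≤ g.supportᶜ.card → g = 1 := by
    intro g hg h4
    by_contra hg1
    refine hgoal (small (by norm_num) (by omega) hG hg hg1 ?_)
    rw [Finset.card_compl] at h4
    omega
  obtain ⟨a, b, hab⟩ := Fintype.exists_pair_of_one_lt_card (α := α) (by omega)
  set K : Subgroup (Perm α) := G ⊓ fixingSubgroup (Perm α) ({a, b} : Set α) with hK
  have hmem : ∀ {v : Perm α}, v ∈ K ↔ v ∈ G ∧ v a = a ∧ v b = b := fun {v} => by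
    simp [hK, mem_fixingSubgroup_iff, Perm.smul_def]
  obtain ⟨c₀, -, hc₀⟩ := Finset.exists_mem_notMem_of_card_lt_card (s := {a, b})
    (t := (Finset.univ : Finset α)) (by rw [Finset.card_univ, hn, Finset.card_pair hab]; norm_num)
  simp only [Finset.mem_insert, Finset.mem_singleton, not_or] at hc₀
  obtain ⟨d₀, -, hd₀⟩ := Finset.exists_mem_notMem_of_card_lt_card (s := {a, b, c₀})
    (t := (Finset.univ : Finset α)) (by
      rw [Finset.card_univ, hn]
      have := Finset.card_le_three (a := a) (b := b) (c := c₀); omega)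
  simp only [Finset.mem_insert, Finset.mem_singleton, not_or] at hd₀
  let Pairs := {v : α × α // v.1 ∉ ({a, b} : Finset α) ∧ v.2 ∉ ({a, b, v.1} : Finset α)}
  let f : K → Pairs := fun u => ⟨((u : Perm α) c₀, (u : Perm α) d₀), by
    obtain ⟨-, hua, hub⟩ := hmem.1 u.2
    simp only [Finset.mem_insert, Finset.mem_singleton, not_or]
    exact ⟨⟨fun e => hc₀.1 ((u : Perm α).injective (e.trans hua.symm)),
      fun e => hc₀.2 ((u : Perm α).injective (e.trans hub.symm))⟩,
      fun e => hd₀.1 ((u : Perm α).injective (e.trans hua.symm)),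
      fun e => hd₀.2.1 ((u : Perm α).injective (e.trans hub.symm)),
      fun e => hd₀.2.2 ((u : Perm α).injective e)⟩⟩
  have hfbij : Function.Bijective f := by
    constructor
    · intro u v h
      have h1 : (u : Perm α) c₀ = (v : Perm α) c₀ := congrArg (fun w : Pairs => w.1.1) h
      have h2 : (u : Perm α) d₀ = (v : Perm α) d₀ := congrArg (fun w : Pairs => w.1.2) h
      refine Subtype.ext (inv_mul_eq_one.1 (hfree ((u : Perm α)⁻¹ * v)
        (mul_mem (inv_mem (hmem.1 u.2).1) (hmem.1 v.2).1) ?_))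
      have hsub : ({a, b, c₀, d₀} : Finset α) ⊆ ((u : Perm α)⁻¹ * (v : Perm α)).supportᶜ := by
        intro x hx
        rw [Finset.mem_compl, Perm.notMem_support, Perm.mul_apply, Perm.inv_eq_iff_eq]
        simp only [Finset.mem_insert, Finset.mem_singleton] at hx
        rcases hx with rfl | rfl | rfl | rfl
        · rw [(hmem.1 u.2).2.1, (hmem.1 v.2).2.1]
        · rw [(hmem.1 u.2).2.2, (hmem.1 v.2).2.2]
        · exact h1.symm
        · exact h2.symm
      refine le_trans (le_of_eq ?_) (Finset.card_le_card hsub)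
      simp [hab, Ne.symm hc₀.1, Ne.symm hc₀.2, Ne.symm hd₀.1, Ne.symm hd₀.2.1, Ne.symm hd₀.2.2]
    · rintro ⟨⟨x, y⟩, hx, hy⟩
      simp only [Finset.mem_insert, Finset.mem_singleton, not_or] at hx hy
      let s4 : Fin 4 ↪ α := ⟨![a, b, c₀, d₀], by
        intro i j; fin_cases i <;> fin_cases j <;>
          simp [hab, hab.symm, hc₀.1, Ne.symm hc₀.1, hc₀.2, Ne.symm hc₀.2, hd₀.1, Ne.symm hd₀.1,
            hd₀.2.1, Ne.symm hd₀.2.1, hd₀.2.2, Ne.symm hd₀.2.2]⟩
      let t4 : Fin 4 ↪ α := ⟨![a, b, x, y], by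
        intro i j; fin_cases i <;> fin_cases j <;>
          simp [hab, hab.symm, hx.1, Ne.symm hx.1, hx.2, Ne.symm hx.2, hy.1, Ne.symm hy.1,
            hy.2.1, Ne.symm hy.2.1, hy.2.2, Ne.symm hy.2.2]⟩
      obtain ⟨⟨g, hg⟩, hgst⟩ := hG.exists_smul_eq s4 t4
      have e := fun i => DFunLike.congr_fun hgst i
      refine ⟨⟨g, hmem.2 ⟨hg, e 0, e 1⟩⟩, Subtype.ext (Prod.ext (e 2) (e 3))⟩
  have hcardK : Nat.card K = 42 := by
    have e : Pairs ≃ Σ x : {x : α // x ∈ ({a, b} : Finset α)ᶜ}, {y : α // y ∈ ({a, b, x.1} : Finset α)ᶜ} :=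
      { toFun := fun v => ⟨⟨v.1.1, Finset.mem_compl.2 v.2.1⟩, ⟨v.1.2, Finset.mem_compl.2 v.2.2⟩⟩
        invFun := fun w => ⟨(w.1.1, w.2.1), Finset.mem_compl.1 w.1.2, Finset.mem_compl.1 w.2.2⟩
        left_inv := fun v => rfl
        right_inv := fun w => rfl }
    have h6 : ∀ x : {x : α // x ∈ ({a, b} : Finset α)ᶜ},
        Nat.card {y : α // y ∈ ({a, b, x.1} : Finset α)ᶜ} = 6 := fun x => by
      have := x.2
      simp only [Finset.mem_compl, Finset.mem_insert, Finset.mem_singleton, not_or] at this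
      rw [Nat.card_eq_fintype_card, Fintype.card_coe, Finset.card_compl, hn]
      simp [hab, Ne.symm this.1, Ne.symm this.2]
    rw [Nat.card_congr (Equiv.ofBijective f hfbij), Nat.card_congr e, Nat.card_sigma]
    simp only [h6, Finset.sum_const, Finset.card_univ, Fintype.card_coe, smul_eq_mul]
    rw [Finset.card_compl, hn, Finset.card_pair hab]
  have : Fact (Nat.Prime 7) := ⟨by norm_num⟩
  obtain ⟨c, hc⟩ := exists_prime_orderOf_dvd_card' 7 (show 7 ∣ Nat.card K by rw [hcardK]; norm_num)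
  have hc7 : orderOf (c : Perm α) = 7 := by rw [Subgroup.orderOf_coe, hc]
  have hsub : (c : Perm α).support ⊆ ({a, b} : Finset α)ᶜ := fun x hx => by
    rw [Finset.mem_compl, Finset.mem_insert, Finset.mem_singleton, not_or]
    exact ⟨fun e => Perm.mem_support.1 hx (e ▸ (hmem.1 c.2).2.1),
      fun e => Perm.mem_support.1 hx (e ▸ (hmem.1 c.2).2.2)⟩
  have hs7 : (c : Perm α).support.card ≤ 7 := by
    refine (Finset.card_le_card hsub).trans ?_
    rw [Finset.card_compl, hn, Finset.card_pair hab]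
  have hcyc : (c : Perm α).IsCycle := Perm.isCycle_of_prime_order (by rw [hc7]; norm_num) (by rw [hc7]; omega)
  have hsupp : (c : Perm α).support = ({a, b} : Finset α)ᶜ :=
    Finset.eq_of_subset_of_card_le hsub (by
      rw [Finset.card_compl, hn, Finset.card_pair hab, ← hcyc.orderOf, hc7])
  let C := Subgroup.zpowers c
  have hCcard : Nat.card C = 7 := by rw [Nat.card_zpowers, hc]
  obtain ⟨Q⟩ : Nonempty (Sylow 7 K) := inferInstance
  have hn7 : Nat.card (Sylow 7 K) = 1 := by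
    have h1 := card_sylow_modEq_one 7 K
    have h2 : Nat.card (Sylow 7 K) ∣ 42 := hcardK ▸ (Q.card_eq_index_normalizer ▸ Subgroup.index_dvd_card _)
    have h3 : Nat.card (Sylow 7 K) ∈ Nat.divisors 42 := Nat.mem_divisors.2 ⟨h2, by norm_num⟩
    revert h1
    generalize Nat.card (Sylow 7 K) = n at h3
    fin_cases h3 <;> decide
  have : Subsingleton (Sylow 7 K) := (Nat.card_eq_one_iff_unique.1 hn7).1
  have hQ7 : Nat.card Q = 7 := by
    rw [Q.card_eq_multiplicity, hcardK, show 42 = 7 * 6 from rfl, Nat.factorization_mul (by norm_num) (by norm_num)]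
    simp [Nat.Prime.factorization_self (show Nat.Prime 7 by norm_num),
      Nat.factorization_eq_zero_of_not_dvd (show ¬ 7 ∣ 6 by norm_num)]
  have hall : ∀ v : K, v ^ 7 = 1 → v ∈ C := by
    intro v hv
    have hP : ∀ v : K, v ^ 7 = 1 → v ∈ (Q : Subgroup K) := fun v hv => by
      have hv' : IsPGroup 7 (Subgroup.zpowers v) := by
        rintro ⟨y, hy⟩
        obtain ⟨i, rfl⟩ := Subgroup.mem_zpowers_iff.1 hy
        exact ⟨1, Subtype.ext (by
          simp only [SubmonoidClass.coe_pow, OneMemClass.coe_one, pow_one]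
          rw [← zpow_natCast, ← zpow_mul, mul_comm, zpow_mul, zpow_natCast, hv, one_zpow])⟩
      obtain ⟨R, hR⟩ := hv'.exists_le_sylow
      rw [Subsingleton.elim Q R]
      exact hR (Subgroup.mem_zpowers v)
    have hC : C = (Q : Subgroup K) := Subgroup.eq_of_le_of_card_ge
      (Subgroup.zpowers_le.2 (hP c (hc ▸ pow_orderOf_eq_one c))) (by rw [hCcard, hQ7])
    rw [hC]; exact hP v hv
  have hconj : ∀ h ∈ G, (h a = a ∧ h b = b ∨ h a = b ∧ h b = a) →
      h * c * h⁻¹ ∈ Subgroup.zpowers (c : Perm α) := by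
    intro h hh hab'
    have hK' : h * c * h⁻¹ ∈ K := by
      obtain ⟨hcG, hca, hcb⟩ := hmem.1 c.2
      refine hmem.2 ⟨mul_mem (mul_mem hh hcG) (inv_mem hh), ?_, ?_⟩
      · rcases hab' with ⟨h1, h2⟩ | ⟨h1, h2⟩
        · rw [Perm.mul_apply, Perm.mul_apply, show h⁻¹ a = a from Perm.inv_eq_iff_eq.2 h1.symm, hca, h1]
        · rw [Perm.mul_apply, Perm.mul_apply, show h⁻¹ a = b from Perm.inv_eq_iff_eq.2 h2.symm, hcb, h2]
      · rcases hab' with ⟨h1, h2⟩ | ⟨h1, h2⟩
        · rw [Perm.mul_apply, Perm.mul_apply, show h⁻¹ b = b from Perm.inv_eq_iff_eq.2 h2.symm, hcb, h2]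
        · rw [Perm.mul_apply, Perm.mul_apply, show h⁻¹ b = a from Perm.inv_eq_iff_eq.2 h1.symm, hca, h1]
    obtain ⟨i, hi⟩ := Subgroup.mem_zpowers_iff.1 (hall ⟨_, hK'⟩ (Subtype.ext (by
      show (h * (c : Perm α) * h⁻¹) ^ 7 = 1
      rw [conj_pow, ← hc7, pow_orderOf_eq_one, mul_one, mul_inv_cancel])))
    exact ⟨i, by simpa using congrArg Subtype.val hi⟩
  obtain ⟨x₀, hx₀⟩ : ∃ x₀, x₀ ∈ (c : Perm α).support := Finset.card_pos.1 (by
    rw [← hcyc.orderOf, hc7]; norm_num)
  have hcentral : ∀ g : Perm α, Commute g (c : Perm α) → ∀ x ∈ (c : Perm α).support, (g ^ 7) x = x := by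
    intro g hg x hx
    have hgx : g x ∈ (c : Perm α).support := Perm.mem_support.2 fun e => Perm.mem_support.1 hx
      (g.injective (by rw [← Perm.mul_apply, hg.eq, Perm.mul_apply, e]))
    obtain ⟨i, hi⟩ := hcyc.sameCycle (Perm.mem_support.1 hx) (Perm.mem_support.1 hgx)
    have hstep : ∀ j : ℕ, (g ^ j) x = ((c : Perm α) ^ (i * j)) x := by
      intro j
      induction j with
      | zero => simp
      | succ j ih =>
        rw [pow_succ', Perm.mul_apply, ih, ← Perm.mul_apply, (hg.zpow_right _).eq, Perm.mul_apply, ← hi,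
          ← Perm.mul_apply, ← zpow_add]
        push_cast; ring_nf
    rw [hstep, mul_comm, zpow_mul, zpow_natCast, ← hc7, pow_orderOf_eq_one, one_zpow]; rfl
  let φ : K → (Subgroup.zpowers (c : Perm α) : Set (Perm α)) := fun u =>
    ⟨(u : Perm α) * c * (u : Perm α)⁻¹, hconj u (hmem.1 u.2).1 (Or.inl (hmem.1 u.2).2)⟩
  have hfib : ∀ u v : K, φ u = φ v → u⁻¹ * v ∈ C := by
    intro u v h
    have h1 : (u : Perm α) * c * (u : Perm α)⁻¹ = (v : Perm α) * c * (v : Perm α)⁻¹ := congrArg Subtype.val h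
    have hcomm : Commute ((u⁻¹ * v : K) : Perm α) c := by
      show (u : Perm α)⁻¹ * v * c = c * ((u : Perm α)⁻¹ * v)
      calc (u : Perm α)⁻¹ * v * c = (u : Perm α)⁻¹ * ((v : Perm α) * c * (v : Perm α)⁻¹) * v := by group
        _ = (u : Perm α)⁻¹ * ((u : Perm α) * c * (u : Perm α)⁻¹) * v := by rw [h1]
        _ = c * ((u : Perm α)⁻¹ * v) := by group
    refine hall _ (Subtype.ext (Equiv.ext fun x => ?_))
    show (((u⁻¹ * v : K) : Perm α) ^ 7) x = x
    by_cases hx : x ∈ (c : Perm α).support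
    · exact hcentral _ hcomm x hx
    · rw [hsupp, Finset.mem_compl, not_not, Finset.mem_insert, Finset.mem_singleton] at hx
      refine Perm.pow_apply_eq_self_of_apply_eq_self ?_ 7
      rcases hx with rfl | rfl
      exacts [(hmem.1 (u⁻¹ * v).2).2.1, (hmem.1 (u⁻¹ * v).2).2.2]
  obtain ⟨h₀, hh₀a, hh₀b⟩ : ∃ h₀ : G, (h₀ : Perm α) a = b ∧ (h₀ : Perm α) b = a := by
    have h2 : IsMultiplyPretransitive G α 2 :=
      isMultiplyPretransitive_of_le (n := 4) (by norm_num) (by rw [Nat.card_eq_fintype_card, hn]; norm_num)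
    obtain ⟨g, hg⟩ := (is_two_pretransitive_iff.1 h2) hab hab.symm
    exact ⟨g, hg⟩
  have hh₀mem := hconj h₀ h₀.2 (Or.inr ⟨hh₀a, hh₀b⟩)
  have hne1 : ∀ g : Perm α, g * (c : Perm α) * g⁻¹ ≠ 1 := fun g e => by
    have : (c : Perm α) = 1 := by rwa [mul_inv_eq_one, mul_eq_left] at e
    rw [this, orderOf_one] at hc7
    norm_num at hc7
  set Z : Set (Perm α) := (Subgroup.zpowers (c : Perm α) : Set (Perm α)) \ {1} with hZ
  have hZcard : Z.ncard = 6 := by
    rw [hZ, Set.ncard_sdiff_singleton_of_mem (Subgroup.one_mem _), ← Nat.card_coe_set_eq]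
    show Nat.card (Subgroup.zpowers (c : Perm α)) - 1 = 6
    rw [Nat.card_zpowers, hc7]
  set R : Set (Perm α) := Set.range fun u : K => (φ u : Perm α) with hR
  have hRZ : R ⊆ Z := by
    rintro t ⟨u, rfl⟩
    exact ⟨(φ u).2, hne1 _⟩
  have hR6 : 42 ≤ R.ncard * 7 := by
    rw [← hcardK, ← hCcard, ← Nat.card_coe_set_eq, ← Nat.card_prod]
    let rep : R → K := fun t => t.2.choose
    have hrep : ∀ t : R, φ (rep t) = (t : Perm α) := fun t => t.2.choose_spec
    refine Nat.card_le_card_of_injective (fun u : K => ((⟨_, u, rfl⟩ : R), (⟨(rep ⟨_, u, rfl⟩)⁻¹ * u,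
      hfib _ _ (Subtype.ext (hrep ⟨_, u, rfl⟩))⟩ : C))) fun u v h => ?_
    have h1 := congrArg Prod.fst h
    have h2 := congrArg (fun w : R × C => ((w.2 : C) : K)) h
    simp only at h1 h2
    rw [h1] at h2
    exact mul_left_cancel h2
  have hRZ' : R = Z := Set.eq_of_subset_of_ncard_le hRZ (by omega)
  obtain ⟨u, hu⟩ : (h₀ : Perm α) * c * (h₀ : Perm α)⁻¹ ∈ R := hRZ' ▸ ⟨hh₀mem, hne1 _⟩
  set g : Perm α := (u : Perm α)⁻¹ * h₀ with hg
  have hcomm : Commute g (c : Perm α) := by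
    show g * c = c * g
    have hu' : (u : Perm α) * c * (u : Perm α)⁻¹ = (h₀ : Perm α) * c * (h₀ : Perm α)⁻¹ := hu
    calc g * c = (u : Perm α)⁻¹ * ((h₀ : Perm α) * c * (h₀ : Perm α)⁻¹) * h₀ := by rw [hg]; group
      _ = (u : Perm α)⁻¹ * ((u : Perm α) * c * (u : Perm α)⁻¹) * h₀ := by rw [hu']
      _ = c * g := by rw [hg]; group
  have hgG : g ∈ G := mul_mem (inv_mem (hmem.1 u.2).1) h₀.2
  have hga : g a = b := by
    rw [hg, Perm.mul_apply, hh₀a]; exact Perm.inv_eq_iff_eq.2 (hmem.1 u.2).2.2.symm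
  have hgb : g b = a := by
    rw [hg, Perm.mul_apply, hh₀b]; exact Perm.inv_eq_iff_eq.2 (hmem.1 u.2).2.1.symm
  refine hgoal (small (g := g ^ 7) (by norm_num) (by omega) hG (pow_mem hgG 7) (fun e => hab ?_) ?_)
  · have h2 : g (g a) = a := by rw [hga, hgb]
    have h1 : (g ^ 7) a = b := by
      simp [pow_succ', Perm.mul_apply, hga, hgb]
    rw [e] at h1
    exact h1
  · refine lt_of_le_of_lt (Finset.card_le_card (t := {a, b}) fun x hx => ?_)
      (by rw [Finset.card_pair hab]; norm_num)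
    by_contra hxab
    exact Perm.mem_support.1 hx (hcentral g hcomm x (by rw [hsupp, Finset.mem_compl]; exact hxab))

end Cfsg.Agent.KpPlusR
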