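import Mathlib
import Cfsg.Agent.Lib.InvChar.OneSubgroup
import Cfsg.Agent.Lib.Basics.CoprimeAction
import Cfsg.Agent.Lib.Basics.Frattini

/-!
# `2`-groups without noncyclic abelian subgroups of order eight
-/

set_option autoImplicit false
set_option linter.all false

namespace Cfsg.Agent.NoAbelianEight

open scoped Pointwise commutatorElement

variable {G : Type*} [Group G]

/-- `Y` contains a noncyclic abelian subgroup of order eight. -/
def HasA (Y : Subgroup G) : Prop :=
  ∃ A : Subgroup G, A ≤ Y ∧ IsMulCommutative ↥A ∧ ¬ IsCyclic ↥A ∧ Nat.card ↥A = 8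

theorem HasA.mono {Y Y' : Subgroup G} (h : Y ≤ Y') : HasA Y → HasA Y'
  | ⟨A, hA, h1, h2, h3⟩ => ⟨A, hA.trans h, h1, h2, h3⟩

theorem HasA.map {H : Type*} [Group H] {Y : Subgroup G} (f : G →* H) (hf : Function.Injective f) :
    HasA Y → HasA (Y.map f) := by
  rintro ⟨A, hA, h1, h2, h3⟩
  let e : A ≃* A.map f := A.equivMapOfInjective f hf
  refine ⟨A.map f, Subgroup.map_mono hA, ⟨⟨fun a b => e.symm.injective ?_⟩⟩,
    fun h => h2 (e.isCyclic.2 h), ?_⟩
  · rw [map_mul, map_mul]; exact h1.is_comm.comm _ _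
  · rw [← Nat.card_congr e.toEquiv, h3]

variable [Finite G]

theorem gen_two {P : Type*} [Group P] [Finite P] {H : Subgroup P} (hH : Nat.card H = 2) :
    ∃ a : P, a ≠ 1 ∧ a * a = 1 ∧ H = Subgroup.zpowers a := by
  have : Nontrivial H := Finite.one_lt_card_iff_nontrivial.1 (by omega)
  obtain ⟨a, ha1⟩ := exists_ne (1 : H)
  have ha2 : (a : P) ^ 2 = 1 := by
    have := congrArg Subtype.val (pow_card_eq_one' (x := a))
    rwa [hH, SubmonoidClass.coe_pow] at this
  have ha0 : (a : P) ≠ 1 := fun h => ha1 (Subtype.ext h)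
  exact ⟨a, ha0, by rwa [← pow_two], (Subgroup.eq_of_le_of_card_ge (Subgroup.zpowers_le.2 a.2) (by
    rw [hH, Nat.card_zpowers, orderOf_eq_prime (hp := ⟨Nat.prime_two⟩) ha2 ha0])).symm⟩

theorem hasA_card_ge {Y : Subgroup G} : HasA Y → 8 ≤ Nat.card Y
  | ⟨A, hA, _, _, h3⟩ => h3 ▸ Subgroup.card_le_of_le hA

/-- Criterion: two commuting involutions and a further element commuting with both. -/
theorem hasA_of_comm {Y : Subgroup G} (hY : IsPGroup 2 Y) {z t b : G} (hz : z ∈ Y) (ht : t ∈ Y) (hb : b ∈ Y)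
    (hz2 : z * z = 1) (hz1 : z ≠ 1) (ht2 : t * t = 1) (ht1 : t ≠ 1) (htz : t ≠ z)
    (hzt : z * t = t * z) (hzb : z * b = b * z) (htb : t * b = b * t)
    (hb0 : b ≠ 1) (hbz : b ≠ z) (hbt : b ≠ t) (hbzt : b ≠ z * t) : HasA Y := by
  classical
  have := Fact.mk Nat.prime_two
  set B : Subgroup G := Subgroup.closure ({z, t, b} : Set G) with hB
  have hcomm : ∀ u ∈ ({z, t, b} : Set G), ∀ v ∈ ({z, t, b} : Set G), u * v = v * u := by
    rintro u (rfl | rfl | rfl) v (rfl | rfl | rfl) <;> first | rfl | assumption | (symm; assumption)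
  have hBc : IsMulCommutative ↥B := Subgroup.isMulCommutative_closure hcomm
  have hBY : B ≤ Y := by
    rw [hB, Subgroup.closure_le]
    rintro u (rfl | rfl | rfl) <;> assumption
  have hzB : z ∈ B := Subgroup.subset_closure (by simp)
  have htB : t ∈ B := Subgroup.subset_closure (by simp)
  have hbB : b ∈ B := Subgroup.subset_closure (by simp)
  have e1 : t * z = z * t := hzt.symm
  have e2 : z * (z * t) = t := by rw [← mul_assoc, hz2, one_mul]
  have e3 : z * t * t = z := by rw [mul_assoc, ht2, mul_one]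
  have e4 : t * (z * t) = z := by rw [← mul_assoc, ← hzt, e3]
  have e5 : z * t * z = t := by rw [mul_assoc, ← hzt, e2]
  have e6 : z * t * (z * t) = 1 := by rw [mul_assoc, e4, hz2]
  let V : Subgroup G :=
    { carrier := {x | x = 1 ∨ x = z ∨ x = t ∨ x = z * t}
      one_mem' := Or.inl rfl
      mul_mem' := by
        rintro x y (hx | hx | hx | hx) (hy | hy | hy | hy) <;>
          simp [hx, hy, hz2, ht2, e1, e2, e3, e4, e5, e6]
      inv_mem' := by
        rintro x (rfl | rfl | rfl | rfl)
        · simp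
        · exact Or.inr (Or.inl (inv_eq_of_mul_eq_one_right hz2))
        · exact Or.inr (Or.inr (Or.inl (inv_eq_of_mul_eq_one_right ht2)))
        · exact Or.inr (Or.inr (Or.inr (inv_eq_of_mul_eq_one_right e6))) }
  have hzt1 : z * t ≠ 1 := fun h => htz (mul_left_cancel (h.trans hz2.symm))
  have hV4 : Nat.card V = 4 := by
    have : (V : Set G) = ↑({1, z, t, z * t} : Finset G) := by
      ext x; simp [V]
    rw [show Nat.card V = (V : Set G).ncard from rfl, this, Set.ncard_coe_finset]
    have h1 : z ≠ z * t := fun h => ht1 (left_eq_mul.1 h)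
    have h2 : t ≠ z * t := fun h => hz1 (right_eq_mul.1 h)
    rw [Finset.card_insert_of_notMem (by simp [Ne.symm hz1, Ne.symm ht1, Ne.symm hzt1]),
      Finset.card_insert_of_notMem (by simp [Ne.symm htz, h1]),
      Finset.card_insert_of_notMem (by simp [h2]), Finset.card_singleton]
  have hVB : V ≤ B := by
    rintro x (rfl | rfl | rfl | rfl)
    exacts [one_mem _, hzB, htB, mul_mem hzB htB]
  have hlt : Nat.card V < Nat.card B := by
    refine lt_of_le_of_ne (Subgroup.card_le_of_le hVB) fun h => ?_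
    have := Subgroup.eq_of_le_of_card_ge hVB h.ge
    have hbV : b ∈ V := this.symm ▸ hbB
    rcases hbV with h | h | h | h
    exacts [hb0 h, hbz h, hbt h, hbzt h]
  obtain ⟨n, hn⟩ := IsPGroup.iff_card.1 (hY.to_le hBY)
  have hn3 : 3 ≤ n := by
    rw [hV4, hn, show 4 = 2 ^ 2 from rfl] at hlt
    exact (Nat.pow_lt_pow_iff_right (by norm_num)).1 hlt
  have hV' : Nat.card (V.subgroupOf B) = 2 ^ 2 := by
    rw [Nat.card_congr (Subgroup.subgroupOfEquivOfLe hVB).toEquiv, hV4]; rfl
  obtain ⟨A, hA, hVA⟩ := Sylow.exists_subgroup_card_pow_prime_le 2 (n := 2) (m := 3)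
    (by rw [hn]; exact pow_dvd_pow 2 hn3) (V.subgroupOf B) hV' (by norm_num)
  have hA8 : Nat.card (A.map B.subtype) = 8 := by
    rw [Subgroup.card_map_of_injective B.subtype_injective, hA]; rfl
  refine ⟨A.map B.subtype, (Subgroup.map_subtype_le A).trans hBY, ⟨⟨?_⟩⟩, ?_, hA8⟩
  · intro u v
    exact Subtype.ext (congrArg Subtype.val (hBc.is_comm.comm ⟨(u : G), Subgroup.map_subtype_le A u.2⟩
      ⟨(v : G), Subgroup.map_subtype_le A v.2⟩) :)
  intro hcyc
  have hmem : ∀ x ∈ V, x ∈ A.map B.subtype := fun x hx => ⟨⟨x, hVB hx⟩, hVA hx, rfl⟩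
  have := Fintype.ofFinite ↥(A.map B.subtype)
  have h3 := hcyc.card_pow_eq_one_le (α := ↥(A.map B.subtype)) (n := 2) (by norm_num)
  let s : Finset ↥(A.map B.subtype) :=
    {1, ⟨z, hmem z (Or.inr (Or.inl rfl))⟩, ⟨t, hmem t (Or.inr (Or.inr (Or.inl rfl)))⟩}
  have hs : s ⊆ Finset.univ.filter (fun a => a ^ 2 = 1) := by
    intro a ha
    simp only [s, Finset.mem_insert, Finset.mem_singleton] at ha
    simp only [Finset.mem_filter, Finset.mem_univ, true_and, pow_two]
    rcases ha with rfl | rfl | rfl <;> exact Subtype.ext (by simp [hz2, ht2])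
  have hs3 : s.card = 3 := by
    simp only [s]
    rw [Finset.card_insert_of_notMem (by simp [Subtype.ext_iff, Ne.symm hz1, Ne.symm ht1]),
      Finset.card_insert_of_notMem (by simp [Subtype.ext_iff, Ne.symm htz]), Finset.card_singleton]
  have := Finset.card_le_card hs
  omega

/-- An abelian `2`-subgroup of order at least eight without the configuration is cyclic. -/
theorem isCyclic_of_comm {Y B : Subgroup G} (hY : IsPGroup 2 Y) (hn : ¬ HasA Y) (hBY : B ≤ Y)
    (hB : ∀ a ∈ B, ∀ b ∈ B, a * b = b * a) (h4 : 4 < Nat.card B) : IsCyclic B := by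
  classical
  have := Fact.mk Nat.prime_two
  rcases InvChar.cyclic_or_quaternion (hY.to_le hBY) (p := 2) (by
    intro H K hH hK
    by_contra hne
    obtain ⟨a, ha1, ha2, eH⟩ := gen_two hH
    obtain ⟨c, hc1, hc2, eK⟩ := gen_two hK
    have hac : c ≠ a := fun h => hne (by rw [eH, eK, h])
    obtain ⟨d, hd⟩ : ∃ d : B, d ≠ 1 ∧ d ≠ a ∧ d ≠ c ∧ d ≠ a * c := by
      by_contra hcon
      push Not at hcon
      have hle : (Set.univ : Set B) ⊆ ↑({1, a, c, a * c} : Finset B) := by
        intro d _
        simp only [Finset.coe_insert, Finset.coe_singleton, Set.mem_insert_iff, Set.mem_singleton_iff]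
        by_contra h
        push Not at h
        exact h.2.2.2 (hcon d h.1 h.2.1 h.2.2.1)
      have h := Set.ncard_le_ncard hle (Set.toFinite _)
      rw [Set.ncard_univ, Set.ncard_coe_finset] at h
      have := Finset.card_insert_le (1 : B) {a, c, a * c}
      have := Finset.card_insert_le a {c, a * c}
      have := Finset.card_insert_le c {a * c}
      have := Finset.card_singleton (a * c)
      omega
    exact hn (hasA_of_comm hY (hBY a.2) (hBY c.2) (hBY d.2)
      (congrArg Subtype.val ha2) (fun h => ha1 (Subtype.ext h))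
      (congrArg Subtype.val hc2) (fun h => hc1 (Subtype.ext h))
      (fun h => hac (Subtype.ext h)) (hB _ a.2 _ c.2) (hB _ a.2 _ d.2) (hB _ c.2 _ d.2)
      (fun h => hd.1 (Subtype.ext h)) (fun h => hd.2.1 (Subtype.ext h)) (fun h => hd.2.2.1 (Subtype.ext h))
      (fun h => hd.2.2.2 (Subtype.ext h)))) with h | ⟨-, n, ⟨e⟩⟩
  · exact h
  · cases n with
    | zero => exact e.isCyclic.2 QuaternionGroup.quaternionGroup_one_isCyclic
    | succ n =>
      exfalso
      have h := e.symm.injective
      have hc := congrArg e (Subtype.ext (hB _ (e.symm (QuaternionGroup.a 1)).2 _ (e.symm (QuaternionGroup.xa 0)).2) :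
        e.symm (QuaternionGroup.a 1) * e.symm (QuaternionGroup.xa 0) =
          e.symm (QuaternionGroup.xa 0) * e.symm (QuaternionGroup.a 1))
      simp only [map_mul, MulEquiv.apply_symm_apply, QuaternionGroup.a_mul_xa, QuaternionGroup.xa_mul_a,
        QuaternionGroup.xa.injEq, zero_add, zero_sub] at hc
      have h2 : ((2 : ℕ) : ZMod (2 * 2 ^ (n + 1))) = 0 := by
        push_cast
        linear_combination -hc
      rw [ZMod.natCast_eq_zero_iff] at h2
      have := Nat.le_of_dvd (by norm_num) h2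
      have : 2 ≤ 2 ^ (n + 1) := le_self_pow₀ (by norm_num) (by omega)
      omega

/-- A subgroup whose centre has an element of order four is cyclic. -/
theorem isCyclic_of_center_four {Y : Subgroup G} (hY : IsPGroup 2 Y) (hn : ¬ HasA Y) {z : G} (hzY : z ∈ Y)
    (hz : orderOf z = 4) (hzc : ∀ y ∈ Y, z * y = y * z) : IsCyclic Y := by
  classical
  have := Fact.mk Nat.prime_two
  rcases InvChar.cyclic_or_quaternion hY (p := 2) (by
    have hz2 : z ^ 2 ≠ 1 := fun h => by
      have := Nat.le_of_dvd (by norm_num) (hz ▸ orderOf_dvd_of_pow_eq_one h)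
      omega
    have hz4 : z ^ 2 * z ^ 2 = 1 := by
      rw [← pow_add, show 2 + 2 = orderOf z from hz.symm]; exact pow_orderOf_eq_one z
    have key : ∀ H : Subgroup Y, Nat.card H = 2 → H = Subgroup.zpowers (⟨z, hzY⟩ ^ 2) := by
      intro H hH
      obtain ⟨a, ha1, ha2, eH⟩ := gen_two hH
      have hcm : ∀ m : ℕ, z ^ m * (a : G) = (a : G) * z ^ m := fun m =>
        (Commute.pow_left (hzc _ a.2) m).eq
      have e : (a : G) = z ^ 2 := by
        by_contra hne
        refine hn (hasA_of_comm hY (pow_mem hzY 2) a.2 hzY hz4 hz2 (congrArg Subtype.val ha2)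
          (fun h => ha1 (Subtype.ext h)) hne (hcm 2) ((Commute.refl z).pow_left 2).eq
          (by simpa using (hcm 1).symm) ?_ ?_ ?_ ?_)
        · intro h; rw [h, orderOf_one] at hz; omega
        · intro h
          refine hz2 ?_
          have h' : z * 1 = z * z := by rw [mul_one, ← pow_two]; exact h
          rw [← mul_left_cancel h', one_pow]
        · intro h
          refine hz2 ?_
          rw [pow_two, h]
          exact congrArg Subtype.val ha2
        · intro h
          refine hz2 ?_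
          have h' : (a : G) = z⁻¹ := by
            rw [eq_inv_iff_mul_eq_one]
            rw [pow_two, mul_assoc] at h
            have := (mul_eq_left (a := z)).1 h.symm
            rw [← this, show z * (a : G) = (a : G) * z by simpa using hcm 1]
          have := congrArg Subtype.val ha2
          rw [Subgroup.coe_mul, h', Subgroup.coe_one, ← mul_inv_rev, inv_eq_one] at this
          rw [pow_two, this]
      rw [eH]
      exact congrArg Subgroup.zpowers (Subtype.ext (by simpa using e))
    intro H K hH hK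
    rw [key H hH, key K hK]) with h | ⟨-, n, ⟨e⟩⟩
  · exact h
  · cases n with
    | zero => exact e.isCyclic.2 QuaternionGroup.quaternionGroup_one_isCyclic
    | succ n =>
      exfalso
      set m := 2 ^ (n + 1)
      have h2m : ¬ ((2 : ℕ) : ZMod (2 * m)) = 0 := fun h2 => by
        rw [ZMod.natCast_eq_zero_iff] at h2
        have := Nat.le_of_dvd (by norm_num) h2
        have : 2 ≤ m := le_self_pow₀ (by norm_num) (by omega)
        omega
      have hord : orderOf (e ⟨z, hzY⟩) = 4 := by
        rw [MulEquiv.orderOf_eq, Subgroup.orderOf_mk, hz]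
      have hc : ∀ q, e ⟨z, hzY⟩ * q = q * e ⟨z, hzY⟩ := by
        intro q
        rw [← e.apply_symm_apply q, ← map_mul, ← map_mul]
        exact congrArg e (Subtype.ext (hzc _ (e.symm q).2))
      rcases hw : e ⟨z, hzY⟩ with i | i
      · have h := hc (QuaternionGroup.xa 0)
        rw [hw, QuaternionGroup.a_mul_xa, QuaternionGroup.xa_mul_a, QuaternionGroup.xa.injEq, zero_sub,
          zero_add] at h
        rw [hw] at hord
        have h' : (QuaternionGroup.a i : QuaternionGroup m) ^ 2 = 1 := by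
          rw [pow_two, QuaternionGroup.a_mul_a, QuaternionGroup.one_def]
          congr 1
          nth_rewrite 1 [← h]
          simp
        have := Nat.le_of_dvd (by norm_num) (hord ▸ orderOf_dvd_of_pow_eq_one h')
        omega
      · have h := hc (QuaternionGroup.a 1)
        rw [hw, QuaternionGroup.a_mul_xa, QuaternionGroup.xa_mul_a, QuaternionGroup.xa.injEq] at h
        refine h2m ?_
        push_cast
        linear_combination h

theorem exists_cyclic_index_two {P : Type*} [Group P] [Finite P] (hP : IsPGroup 2 P)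
    (hn : ¬ HasA (⊤ : Subgroup P)) (hna : ¬ IsMulCommutative P) :
    (∃ a : P, 2 * orderOf a = Nat.card P) ∧ (∀ c : P, c ∈ Subgroup.center P → orderOf c ≠ 4) ∧
      ∀ z t : P, z ∈ Subgroup.center P → t ∈ Subgroup.center P → z * z = 1 → z ≠ 1 → t * t = 1 → t ≠ 1 → t = z := by
  classical
  have := Fact.mk Nat.prime_two
  have htop : IsPGroup 2 (⊤ : Subgroup P) := hP.to_subgroup ⊤
  have hc4 : ∀ c : P, c ∈ Subgroup.center P → orderOf c ≠ 4 := by
    intro c hc h4
    have h := isCyclic_of_center_four htop hn (Subgroup.mem_top c) h4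
      fun y _ => (Subgroup.mem_center_iff.1 hc y).symm
    have : IsCyclic P := (Subgroup.topEquiv (G := P)).isCyclic.1 h
    exact hna IsCyclic.isMulCommutative
  have hz1 : ∀ z t : P, z ∈ Subgroup.center P → t ∈ Subgroup.center P → z * z = 1 → z ≠ 1 → t * t = 1 →
      t ≠ 1 → t = z := by
    intro z t hz ht hz2 hz1 ht2 ht1
    by_contra htz
    obtain ⟨b, hb⟩ : ∃ b : P, b ∉ Subgroup.center P := by
      by_contra hcon
      push Not at hcon
      exact hna ⟨⟨fun x y => (Subgroup.mem_center_iff.1 (hcon x) y).symm⟩⟩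
    exact hn (hasA_of_comm htop (Subgroup.mem_top z) (Subgroup.mem_top t) (Subgroup.mem_top b) hz2 hz1 ht2 ht1
      htz (Subgroup.mem_center_iff.1 hz t).symm (Subgroup.mem_center_iff.1 hz b).symm
      (Subgroup.mem_center_iff.1 ht b).symm (fun h => hb (h ▸ one_mem _)) (fun h => hb (h ▸ hz))
      (fun h => hb (h ▸ ht)) (fun h => hb (h ▸ mul_mem hz ht)))
  refine ⟨?_, hc4, hz1⟩
  have hZ2 : ∀ c ∈ Subgroup.center P, c * c = 1 := by
    intro c hc
    obtain ⟨k, hk⟩ := hP.exists_orderOf_eq_pow c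
    by_contra hne
    have hk2 : 2 ≤ k := by
      by_contra hlt
      apply hne
      rw [← pow_two]
      refine orderOf_dvd_iff_pow_eq_one.1 ?_
      rw [hk]
      exact (pow_dvd_pow 2 (by omega : k ≤ 1)).trans (dvd_of_eq (pow_one 2))
    refine hc4 (c ^ 2 ^ (k - 2)) (pow_mem hc _) ?_
    rw [orderOf_pow' _ (pow_ne_zero _ two_ne_zero), hk, Nat.gcd_eq_right (pow_dvd_pow 2 (by omega)),
      Nat.pow_div (by omega) two_pos, show k - (k - 2) = 2 by omega]
    norm_num
  have : Nontrivial (P ⧸ Subgroup.center P) := by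
    refine QuotientGroup.nontrivial_iff.2 fun h => hna ⟨⟨fun x y => ?_⟩⟩
    exact (Subgroup.mem_center_iff.1 (h ▸ Subgroup.mem_top x) y).symm
  have hQ : IsPGroup 2 (P ⧸ Subgroup.center P) := hP.to_quotient _
  have := hQ.center_nontrivial
  obtain ⟨u, hu1⟩ := exists_ne (1 : Subgroup.center (P ⧸ Subgroup.center P))
  obtain ⟨k, hk⟩ := (hQ.to_subgroup (Subgroup.center (P ⧸ Subgroup.center P))).exists_orderOf_eq_pow u
  have hk0 : k ≠ 0 := by rintro rfl; exact hu1 (orderOf_eq_one_iff.1 (by rw [hk, pow_zero]))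
  set v := u ^ 2 ^ (k - 1) with hv
  have hvo : orderOf v = 2 := by
    rw [hv, orderOf_pow' _ (pow_ne_zero _ two_ne_zero), hk, Nat.gcd_eq_right (pow_dvd_pow 2 (by omega)),
      Nat.pow_div (by omega) two_pos, show k - (k - 1) = 1 by omega, pow_one]
  obtain ⟨w, hw⟩ := QuotientGroup.mk'_surjective (Subgroup.center P) (v : P ⧸ Subgroup.center P)
  have hwZ : w ∉ Subgroup.center P := by
    intro h
    have h1 : (v : P ⧸ Subgroup.center P) = 1 := by rw [← hw]; exact (QuotientGroup.eq_one_iff w).2 h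
    have : v = 1 := Subtype.ext h1
    rw [this, orderOf_one] at hvo
    omega
  have hw2 : w ^ 2 ∈ Subgroup.center P := by
    rw [← QuotientGroup.eq_one_iff]
    show QuotientGroup.mk' (Subgroup.center P) (w ^ 2) = 1
    rw [map_pow, hw, ← SubmonoidClass.coe_pow, ← hvo, pow_orderOf_eq_one]; rfl
  have hwc : ∀ g, g * w * g⁻¹ * w⁻¹ ∈ Subgroup.center P := by
    intro g
    rw [← QuotientGroup.eq_one_iff]
    show QuotientGroup.mk' (Subgroup.center P) (g * w * g⁻¹ * w⁻¹) = 1
    simp only [map_mul, map_inv, hw]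
    rw [Subgroup.mem_center_iff.1 v.2 (QuotientGroup.mk' _ g), mul_inv_cancel_right, mul_inv_cancel]
  set C := Subgroup.centralizer ({w} : Set P) with hC
  have hCi : C.index = 2 := by
    obtain ⟨a, ha⟩ : ∃ a : P, a ∉ C := by
      by_contra hcon
      push Not at hcon
      exact hwZ (Subgroup.mem_center_iff.2 fun g => (Subgroup.mem_centralizer_singleton_iff.1 (hcon g)))
    rw [Subgroup.index_eq_two_iff]
    refine ⟨a, fun b => ?_⟩
    have key : ∀ g ∉ C, ∀ g' ∉ C, g * w * g⁻¹ * w⁻¹ = g' * w * g'⁻¹ * w⁻¹ := by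
      intro g hg g' hg'
      have hne : ∀ g ∉ C, g * w * g⁻¹ * w⁻¹ ≠ 1 := fun g hg h => hg (by
        rw [hC, Subgroup.mem_centralizer_singleton_iff]
        rw [mul_inv_eq_one] at h
        exact mul_inv_eq_iff_eq_mul.1 h)
      exact hz1 _ _ (hwc g') (hwc g) (hZ2 _ (hwc g')) (hne g' hg') (hZ2 _ (hwc g)) (hne g hg)
    by_cases hb : b ∈ C
    · exact Or.inr ⟨hb, fun h => ha ((Subgroup.mul_mem_cancel_left C hb).1 h)⟩
    · refine Or.inl ⟨?_, hb⟩
      have h := key a ha b⁻¹ (fun h => hb (by simpa using inv_mem h))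
      have h' : a * w * a⁻¹ = b⁻¹ * w * b := by simpa using h
      rw [hC, Subgroup.mem_centralizer_singleton_iff]
      have h'' := congrArg (fun x => b * x * a) h'
      simp only [mul_assoc, inv_mul_cancel, mul_one, mul_inv_cancel_left] at h''
      rw [mul_assoc]; exact h''
  have hCcard : 2 * Nat.card C = Nat.card P := by rw [← hCi, mul_comm, Subgroup.card_mul_index]
  have hcard8 : 8 ≤ Nat.card P := by
    obtain ⟨m, hm⟩ := IsPGroup.iff_card.1 hP
    by_contra hlt
    refine hna ?_
    have : m ≤ 2 := by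
      by_contra h
      exact hlt (hm ▸ (le_trans (by norm_num) (Nat.pow_le_pow_right two_pos (by omega : 3 ≤ m))))
    interval_cases m
    · have : Subsingleton P := (Nat.card_eq_one_iff_unique.1 (by rw [hm]; rfl)).1
      exact ⟨⟨fun x y => Subsingleton.elim _ _⟩⟩
    · have : IsCyclic P := isCyclic_of_prime_card (p := 2) (by rw [hm]; rfl)
      exact IsCyclic.isMulCommutative
    · exact ⟨⟨(IsPGroup.isMulCommutative_of_card_eq_prime_sq (p := 2) hm).is_comm.comm⟩⟩
  have hwC : w ∈ C := Subgroup.mem_centralizer_singleton_iff.2 rfl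
  by_cases hww : w * w = 1
  · -- `C` is a four-group and `P` has order eight
    obtain ⟨z, hzC, hz⟩ : ∃ z ∈ Subgroup.center P, z ≠ 1 := by
      have : Nontrivial P := Finite.one_lt_card_iff_nontrivial.1 (by omega)
      have := hP.center_nontrivial
      obtain ⟨z, hz⟩ := exists_ne (1 : Subgroup.center P)
      exact ⟨z, z.2, fun h => hz (Subtype.ext h)⟩
    have hC4 : Nat.card C ≤ 4 := by
      by_contra hlt
      obtain ⟨b, hbC, hb⟩ : ∃ b ∈ C, b ≠ 1 ∧ b ≠ z ∧ b ≠ w ∧ b ≠ z * w := by
        by_contra hcon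
        push Not at hcon
        have hle : (C : Set P) ⊆ ↑({1, z, w, z * w} : Finset P) := by
          intro b hb
          simp only [Finset.coe_insert, Finset.coe_singleton, Set.mem_insert_iff, Set.mem_singleton_iff]
          by_contra h
          push Not at h
          exact h.2.2.2 (hcon b hb h.1 h.2.1 h.2.2.1)
        have h := Set.ncard_le_ncard hle (Set.toFinite _)
        rw [Set.ncard_coe_finset, show (C : Set P).ncard = Nat.card C from rfl] at h
        have := Finset.card_insert_le (1 : P) {z, w, z * w}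
        have := Finset.card_insert_le z ({w, z * w} : Finset P)
        have := Finset.card_insert_le w ({z * w} : Finset P)
        have := Finset.card_singleton (z * w)
        omega
      exact hn (hasA_of_comm htop (Subgroup.mem_top z) (Subgroup.mem_top w) (Subgroup.mem_top b) (hZ2 z hzC) hz
        hww (fun h => hwZ (h ▸ one_mem _)) (fun h => hwZ (h ▸ hzC)) (Subgroup.mem_center_iff.1 hzC w).symm
        (Subgroup.mem_center_iff.1 hzC b).symm (Subgroup.mem_centralizer_singleton_iff.1 hbC).symm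
        hb.1 hb.2.1 hb.2.2.1 hb.2.2.2)
    have h8 : Nat.card P = 8 := by omega
    by_contra hcon
    push Not at hcon
    refine hna ⟨⟨fun x y => ?_⟩⟩
    have hsq : ∀ x : P, x * x = 1 := by
      intro x
      obtain ⟨k, hk⟩ := hP.exists_orderOf_eq_pow x
      have hk3 : k ≤ 3 := by
        have := orderOf_dvd_natCard x
        rw [h8, hk, show 8 = 2 ^ 3 from rfl] at this
        exact (Nat.pow_dvd_pow_iff_le_right (by norm_num)).1 this
      rw [← pow_two]
      refine orderOf_dvd_iff_pow_eq_one.1 ?_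
      rw [hk]
      have hk2 : k ≠ 3 := by
        rintro rfl
        refine hna ?_
        have : IsCyclic P := isCyclic_of_orderOf_eq_card x (by rw [hk, h8]; norm_num)
        exact IsCyclic.isMulCommutative
      have := hcon x
      rw [hk, h8] at this
      have hk1 : k ≤ 1 := by
        by_contra hgt
        have : k = 2 := by omega
        subst this
        simp_all
      exact (pow_dvd_pow 2 hk1).trans (dvd_of_eq (pow_one 2))
    have h := hsq (x * y)
    rw [mul_eq_one_iff_eq_inv, mul_inv_rev] at h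
    rw [h, inv_eq_of_mul_eq_one_right (hsq x), inv_eq_of_mul_eq_one_right (hsq y)]
  · -- `C` is cyclic
    have ho : orderOf w = 4 := by
      have := Fact.mk Nat.prime_two
      refine orderOf_eq_prime_pow (p := 2) (n := 1) (by rwa [pow_one, pow_two]) ?_
      have := hZ2 _ hw2
      rw [pow_succ, pow_one, pow_mul]
      rwa [← pow_two] at this
    have hcyc := isCyclic_of_center_four (hP.to_subgroup C) (fun h => hn (h.mono le_top)) hwC ho
      fun y hy => (Subgroup.mem_centralizer_singleton_iff.1 hy).symm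
    obtain ⟨g, hg⟩ := hcyc.exists_generator
    refine ⟨g, ?_⟩
    rw [← hCcard, Subgroup.orderOf_coe, orderOf_eq_card_of_forall_mem_zpowers hg]

/-- An odd group normalising a cyclic `2`-group centralises it. -/
theorem centralizes_of_cyclic {Y K : Subgroup G} (hY : IsPGroup 2 Y) (hcyc : IsCyclic Y)
    (hK : K ≤ Subgroup.normalizer (Y : Set G)) (hodd : Odd (Nat.card K)) :
    K ≤ Subgroup.centralizer (Y : Set G) := by
  classical
  intro k hk
  let φ : K →* MulAut Y :=
    { toFun := fun k =>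
        { toFun := fun y => ⟨k * y * (k : G)⁻¹, (Subgroup.mem_normalizer_iff.1 (hK k.2) y).1 y.2⟩
          invFun := fun y => ⟨(k : G)⁻¹ * y * k, by
            have := (Subgroup.mem_normalizer_iff.1 (inv_mem (hK k.2)) y).1 y.2
            simpa using this⟩
          left_inv := fun y => Subtype.ext (by simp [mul_assoc])
          right_inv := fun y => Subtype.ext (by simp [mul_assoc])
          map_mul' := fun y y' => Subtype.ext (by simp [mul_assoc]) }
      map_one' := by ext y; simp
      map_mul' := fun a b => by ext y; simp [mul_assoc] }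
  have h1 : orderOf (φ ⟨k, hk⟩) ∣ Nat.card K := (orderOf_map_dvd φ _).trans (orderOf_dvd_natCard _)
  have h2 : orderOf (φ ⟨k, hk⟩) ∣ Nat.card (MulAut Y) := orderOf_dvd_natCard _
  obtain ⟨n, hn⟩ := IsPGroup.iff_card.1 hY
  rw [hcyc.card_mulAut, hn] at h2
  have hcop : (Nat.card K).Coprime (Nat.totient (2 ^ n)) := by
    rcases Nat.eq_zero_or_pos n with rfl | hn0
    · simp
    · rw [Nat.totient_prime_pow Nat.prime_two hn0]
      simp only [Nat.add_one_sub_one, mul_one]
      exact (Nat.coprime_two_right.2 hodd).pow_right _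
  have h3 : φ ⟨k, hk⟩ = 1 := orderOf_eq_one_iff.1 (Nat.eq_one_of_dvd_coprimes hcop h1 h2)
  rw [Subgroup.mem_centralizer_iff]
  intro y hy
  have h4 := congrArg (fun f : MulAut Y => ((f ⟨y, hy⟩ : Y) : G)) h3
  exact (mul_inv_eq_iff_eq_mul.1 h4).symm

/-- Stabilising a chain `Y ≥ V ≥ 1` with both factors centralised. -/
theorem centralizes_of_chain {Y V K : Subgroup G} (hY : IsPGroup 2 Y) (hK : K ≤ Subgroup.normalizer (Y : Set G))
    (hodd : Odd (Nat.card K)) (h1 : K ≤ Subgroup.centralizer (V : Set G))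
    (h2 : ∀ k ∈ K, ∀ y ∈ Y, k * y * k⁻¹ * y⁻¹ ∈ V) : K ≤ Subgroup.centralizer (Y : Set G) := by
  have := Fact.mk Nat.prime_two
  refine Basics.le_centralizer_of_commutator_commutator_eq_bot K Y hK ?_ (Or.inr (by haveI := hY.isNilpotent; infer_instance)) ?_
  · obtain ⟨n, hn⟩ := IsPGroup.iff_card.1 hY
    rw [hn]
    exact (Nat.coprime_two_right.2 hodd).pow_right _
  · refine eq_bot_iff.2 (le_trans (Subgroup.commutator_mono (show ⁅Y, K⁆ ≤ V from ?_) le_rfl) ?_)
    · rw [Subgroup.commutator_le]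
      intro y hy k hk
      rw [← commutatorElement_inv]
      exact inv_mem (h2 k hk y hy)
    · rw [← eq_bot_iff, Subgroup.commutator_comm, Subgroup.commutator_eq_bot_iff_le_centralizer]
      exact h1

/-- The structure of a `2`-group without the configuration that has a nontrivial odd automorphism. -/
theorem odd_aut {Y K : Subgroup G} (hY : IsPGroup 2 Y) (hn : ¬ HasA Y) (hK : K ≤ Subgroup.normalizer (Y : Set G))
    (hodd : Odd (Nat.card K)) (hnc : ¬ K ≤ Subgroup.centralizer (Y : Set G)) :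
    ((∀ a ∈ Y, ∀ b ∈ Y, a * b = b * a) ∧ Nat.card Y = 4 ∧ ∀ a ∈ Y, a * a = 1) ∨
      (¬ (∀ a ∈ Y, ∀ b ∈ Y, a * b = b * a) ∧ Nat.card Y = 8 ∧
        ∀ a ∈ Y, ∀ b ∈ Y, a * a = 1 → a ≠ 1 → b * b = 1 → b ≠ 1 → a = b) := by
  classical
  have := Fact.mk Nat.prime_two
  obtain ⟨n, hcard⟩ := IsPGroup.iff_card.1 hY
  by_cases hab : ∀ a ∈ Y, ∀ b ∈ Y, a * b = b * a
  · left
    have hncyc : ¬ IsCyclic Y := fun h => hnc (centralizes_of_cyclic hY h hK hodd)
    have h4 : Nat.card Y ≤ 4 := not_lt.1 fun h => hncyc (isCyclic_of_comm hY hn le_rfl hab h)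
    have hn2 : n = 2 := by
      have : n ≤ 2 := by
        rw [hcard, show 4 = 2 ^ 2 from rfl] at h4
        exact (Nat.pow_le_pow_iff_right (by norm_num)).1 h4
      interval_cases n
      · have : Subsingleton Y := (Nat.card_eq_one_iff_unique.1 (by rw [hcard]; rfl)).1
        exact absurd (isCyclic_of_subsingleton (α := Y)) hncyc
      · exact absurd (isCyclic_of_prime_card (p := 2) (by rw [hcard]; rfl)) hncyc
      · rfl
    subst hn2
    refine ⟨hab, hcard, fun a ha => ?_⟩
    have hd : orderOf (⟨a, ha⟩ : Y) ∣ 2 ^ 2 := hcard ▸ orderOf_dvd_natCard _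
    obtain ⟨k, hk, hk'⟩ := (Nat.dvd_prime_pow Nat.prime_two).1 hd
    have hk1 : k ≤ 1 := by
      by_contra h
      exact hncyc (isCyclic_of_orderOf_eq_card _ (by rw [hk', hcard, show k = 2 by omega]))
    have h := orderOf_dvd_iff_pow_eq_one.1 (show orderOf (⟨a, ha⟩ : Y) ∣ 2 by
      rw [hk']; exact (pow_dvd_pow 2 hk1).trans (dvd_of_eq (pow_one 2)))
    simpa [pow_two] using congrArg Subtype.val h
  right
  have hna : ¬ IsMulCommutative Y := fun h => hab fun a ha b hb =>
    congrArg Subtype.val (h.is_comm.comm ⟨a, ha⟩ ⟨b, hb⟩)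
  have hnY : ¬ HasA (⊤ : Subgroup Y) := fun h => hn (by
    have := h.map Y.subtype Y.subtype_injective
    rwa [← MonoidHom.range_eq_map, Subgroup.range_subtype] at this)
  obtain ⟨⟨a, ha⟩, hc4, -⟩ := exists_cyclic_index_two (P := Y) hY hnY hna
  have hiY : ∀ c : Y, 2 * orderOf c = Nat.card Y → (Subgroup.zpowers c).index = 2 := fun c hc => by
    have h1 := (Subgroup.zpowers c).card_mul_index
    rw [Nat.card_zpowers, ← hc, mul_comm 2] at h1
    exact Nat.eq_of_mul_eq_mul_left (orderOf_pos _) h1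
  obtain ⟨c, hc, hca⟩ : ∃ c : Y, 2 * orderOf c = Nat.card Y ∧ Subgroup.zpowers c ≠ Subgroup.zpowers a := by
    by_contra hcon
    push Not at hcon
    apply hnc
    set V := Subgroup.zpowers (a : G) with hV
    have hVY : V ≤ Y := Subgroup.zpowers_le.2 a.2
    have hKV : K ≤ Subgroup.normalizer (V : Set G) := by
      refine fun k hk => Subgroup.mem_normalizer_iff.2 ?_
      have key : ∀ k ∈ K, ∀ v ∈ V, k * v * k⁻¹ ∈ V := by
        intro k hk v hv
        have hm := (Subgroup.mem_normalizer_iff.1 (hK hk) a).1 a.2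
        have he : orderOf (⟨k * a * k⁻¹, hm⟩ : Y) = orderOf a := by
          rw [Subgroup.orderOf_mk, ← Subgroup.orderOf_coe a]
          exact MulEquiv.orderOf_eq (MulAut.conj k) (a : G)
        have hz := hcon ⟨k * a * k⁻¹, hm⟩ (by rw [he]; exact ha)
        have : (⟨k * a * k⁻¹, hm⟩ : Y) ∈ Subgroup.zpowers a := hz ▸ Subgroup.mem_zpowers _
        obtain ⟨j, hj⟩ := this
        obtain ⟨i, rfl⟩ := hv
        have hj' : (a : G) ^ j = k * a * k⁻¹ := by simpa using congrArg Subtype.val hj
        refine ⟨j * i, ?_⟩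
        show (a : G) ^ (j * i) = k * (a : G) ^ i * k⁻¹
        rw [zpow_mul, hj', conj_zpow]
      intro v
      refine ⟨key k hk v, fun h => ?_⟩
      have := key k⁻¹ (inv_mem hk) _ h
      simpa [mul_assoc] using this
    have hKC := centralizes_of_cyclic (hY.to_le hVY) (Subgroup.isCyclic_zpowers _) hKV hodd
    refine centralizes_of_chain hY hK hodd hKC fun k hk y hy => ?_
    by_cases hyV : y ∈ V
    · rw [← Subgroup.mem_centralizer_iff.1 (hKC hk) y hyV, mul_inv_cancel_right, mul_inv_cancel]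
      exact one_mem _
    · have hm := (Subgroup.mem_normalizer_iff.1 (hK hk) y).1 hy
      have hni : k * y * k⁻¹ ∉ V := fun h => hyV ((Subgroup.mem_normalizer_iff.1 (hKV hk) y).2 h)
      have hmem : ∀ u : Y, (u : G) ∈ V ↔ u ∈ Subgroup.zpowers a := by
        intro u
        constructor
        · rintro ⟨i, hi⟩; exact ⟨i, Subtype.ext (by simpa using hi)⟩
        · rintro ⟨i, rfl⟩; exact ⟨i, by simp⟩
      have h2 := Subgroup.mul_mem_iff_of_index_two (hiY a ha) (a := (⟨k * y * k⁻¹, hm⟩ : Y))
        (b := (⟨y, hy⟩ : Y)⁻¹)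
      rw [← hmem, ← hmem, ← hmem] at h2
      exact h2.2 ⟨fun h => absurd h hni, fun h => absurd (by simpa using inv_mem h) hyV⟩
  have hn8 : Nat.card Y = 8 := by
    set I := Subgroup.zpowers a ⊓ Subgroup.zpowers c
    have hI : I ≤ Subgroup.center Y := by
      intro u hu
      rw [Subgroup.mem_center_iff]
      intro g
      obtain ⟨i, hi⟩ := hu.1
      obtain ⟨j, hj⟩ := hu.2
      have hg : g ∈ Subgroup.centralizer ({u} : Set Y) := by
        have hle : Subgroup.zpowers a ⊔ Subgroup.zpowers c ≤ Subgroup.centralizer ({u} : Set Y) := by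
          rw [sup_le_iff, Subgroup.zpowers_le, Subgroup.zpowers_le, Subgroup.mem_centralizer_singleton_iff,
            Subgroup.mem_centralizer_singleton_iff]
          refine ⟨?_, ?_⟩
          · rw [← hi]; exact ((Commute.refl a).zpow_right i).eq
          · rw [← hj]; exact ((Commute.refl c).zpow_right j).eq
        refine hle ?_
        have hlt : Subgroup.zpowers a < Subgroup.zpowers a ⊔ Subgroup.zpowers c :=
          lt_of_le_of_ne le_sup_left fun e => hca (Subgroup.eq_of_le_of_card_ge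
            (sup_eq_left.1 e.symm) (by rw [Nat.card_zpowers, Nat.card_zpowers]; omega))
        have hdvd := Subgroup.index_dvd_of_le hlt.le
        rw [hiY a ha] at hdvd
        rcases (Nat.dvd_prime Nat.prime_two).1 hdvd with h | h
        · rw [Subgroup.index_eq_one.1 h]; trivial
        · refine absurd (Subgroup.eq_of_le_of_card_ge hlt.le ?_) hlt.ne
          have h3 := (Subgroup.zpowers a ⊔ Subgroup.zpowers c).card_mul_index
          rw [h, ← ha, Nat.card_zpowers] at *
          omega
      exact Subgroup.mem_centralizer_singleton_iff.1 hg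
    have hIi : I.index ≤ 4 := by
      refine Subgroup.index_inf_le.trans ?_
      rw [hiY a ha, hiY c hc]
    by_contra hne
    have hIcyc : IsCyclic I := Subgroup.isCyclic_of_le (inf_le_left : I ≤ Subgroup.zpowers a)
    obtain ⟨u, hu⟩ := hIcyc.exists_generator
    have hIc : Nat.card Y ≤ Nat.card I * 4 := by
      rw [← I.card_mul_index]; exact Nat.mul_le_mul_left _ hIi
    obtain ⟨m, hm⟩ := IsPGroup.iff_card.1 (hY.to_subgroup I)
    have hn3 : 4 ≤ n := by
      have h8 : 8 ≤ Nat.card Y := by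
        by_contra hlt
        refine hna ?_
        have : n ≤ 2 := by
          by_contra h
          exact hlt (hcard ▸ (le_trans (by norm_num) (Nat.pow_le_pow_right two_pos (by omega : 3 ≤ n))))
        interval_cases n
        · have : Subsingleton Y := (Nat.card_eq_one_iff_unique.1 (by rw [hcard]; rfl)).1
          exact ⟨⟨fun x y => Subsingleton.elim _ _⟩⟩
        · have : IsCyclic Y := isCyclic_of_prime_card (p := 2) (by rw [hcard]; rfl)
          exact IsCyclic.isMulCommutative
        · exact ⟨⟨(IsPGroup.isMulCommutative_of_card_eq_prime_sq (p := 2) hcard).is_comm.comm⟩⟩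
      rw [hcard] at h8 hne
      by_contra h
      interval_cases n <;> simp_all
    have hm2 : 2 ≤ m := by
      rw [hm, hcard, show (4 : ℕ) = 2 ^ 2 from rfl, ← pow_add, Nat.pow_le_pow_iff_right (by norm_num)] at hIc
      omega
    refine hc4 ((u : Y) ^ 2 ^ (m - 2)) (pow_mem (hI u.2) _) ?_
    rw [orderOf_pow' _ (pow_ne_zero _ two_ne_zero), Subgroup.orderOf_coe,
      orderOf_eq_card_of_forall_mem_zpowers hu, hm, Nat.gcd_eq_right (pow_dvd_pow 2 (by omega)),
      Nat.pow_div (by omega) two_pos, show m - (m - 2) = 2 by omega]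
    norm_num
  refine ⟨hab, hn8, ?_⟩
  have hoa : orderOf a = 4 := by omega
  have hoc : orderOf c = 4 := by omega
  -- every involution is central
  have hinv : ∀ u : Y, u * u = 1 → u ≠ 1 → u = a ^ 2 := by
    have hsq : ∀ x : Y, x ∉ Subgroup.zpowers a → orderOf x = 4 → x * x = a ^ 2 := by
      intro x hx h4
      have hmem : x * x ∈ Subgroup.zpowers a := (Subgroup.mul_mem_iff_of_index_two (hiY a ha)).2 Iff.rfl
      obtain ⟨j, hj⟩ := Subgroup.mem_zpowers_iff.1 hmem
      have hj4 : a ^ (j % 4) = x * x := by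
        rw [← hj, show (4 : ℤ) = (orderOf a : ℤ) by rw [hoa]; rfl, zpow_mod_orderOf]
      have h4' : x * x * (x * x) = 1 := by
        rw [← pow_two x, ← pow_add, show 2 + 2 = orderOf x from h4.symm, pow_orderOf_eq_one]
      have hx2 : x * x ≠ 1 := fun h => by
        have := Nat.le_of_dvd (by norm_num) (h4 ▸ orderOf_dvd_of_pow_eq_one ((pow_two x).trans h))
        omega
      have h1 := Int.emod_lt_of_pos j (by norm_num : (0 : ℤ) < 4)
      have h0 := Int.emod_nonneg j (by norm_num : (4 : ℤ) ≠ 0)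
      have hcases : j % 4 = 0 ∨ j % 4 = 1 ∨ j % 4 = 2 ∨ j % 4 = 3 := by omega
      rcases hcases with e | e | e | e <;> rw [e] at hj4
      · exact absurd hj4.symm (by simpa using hx2)
      · exfalso
        rw [zpow_one] at hj4
        have h := orderOf_dvd_of_pow_eq_one (show a ^ 2 = 1 by rw [pow_two, hj4, h4'])
        have := Nat.le_of_dvd (by norm_num) (hoa ▸ h)
        omega
      · rw [← hj4, zpow_ofNat]
      · exfalso
        rw [zpow_ofNat] at hj4
        have h := orderOf_dvd_of_pow_eq_one (show a ^ 6 = 1 by rw [show 6 = 3 + 3 from rfl, pow_add, hj4, h4'])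
        rw [hoa] at h
        omega
    have hc' : c ∉ Subgroup.zpowers a := fun h => hca (Subgroup.eq_of_le_of_card_ge
      (Subgroup.zpowers_le.2 h) (by rw [Nat.card_zpowers, Nat.card_zpowers, hoa, hoc]))
    have hcc := hsq c hc' hoc
    have hcac : c * a * c⁻¹ = a⁻¹ := by
      have hne : c * a * c⁻¹ ≠ a := by
        intro h
        rw [mul_inv_eq_iff_eq_mul] at h
        refine hna ⟨⟨fun x y => ?_⟩⟩
        have hgen : ∀ x : Y, x ∈ Subgroup.centralizer ({a, c} : Set Y) := by
          intro x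
          have hac' : ({a, c} : Set Y) ⊆ Subgroup.centralizer ({a, c} : Set Y) := by
            rintro u (rfl | rfl) <;> rw [SetLike.mem_coe, Subgroup.mem_centralizer_iff] <;>
              rintro v (rfl | rfl) <;> first | rfl | exact h | exact h.symm
          by_cases hx : x ∈ Subgroup.zpowers a
          · exact Subgroup.zpowers_le.2 (hac' (Set.mem_insert _ _)) hx
          · have := (Subgroup.mul_mem_iff_of_index_two (hiY a ha) (a := x) (b := c)).2
              (iff_of_false hx hc')
            have h2 := Subgroup.zpowers_le.2 (hac' (Set.mem_insert _ _)) this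
            exact (Subgroup.mul_mem_cancel_right _ (hac' (Set.mem_insert_of_mem _ rfl))).1 h2
        by_cases hy : y ∈ Subgroup.zpowers a
        · obtain ⟨i, rfl⟩ := hy
          exact ((show Commute a x from Subgroup.mem_centralizer_iff.1 (hgen x) a (Set.mem_insert _ _)).zpow_left i).symm.eq
        · obtain ⟨i, hi⟩ := Subgroup.mem_zpowers_iff.1
            ((Subgroup.mul_mem_iff_of_index_two (hiY a ha) (a := y) (b := c)).2 (iff_of_false hy hc'))
          have hy' : y = a ^ i * c⁻¹ := eq_mul_inv_of_mul_eq hi.symm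
          rw [hy']
          exact (((show Commute a x from Subgroup.mem_centralizer_iff.1 (hgen x) a (Set.mem_insert _ _)).zpow_left i).mul_left
            (show Commute c x from Subgroup.mem_centralizer_iff.1 (hgen x) c (Set.mem_insert_of_mem _ rfl)).inv_left).symm.eq
      have hm : c * a * c⁻¹ ∈ Subgroup.zpowers a :=
        (Subgroup.normal_of_index_eq_two (hiY a ha)).conj_mem a (Subgroup.mem_zpowers a) c
      obtain ⟨j, hj⟩ := Subgroup.mem_zpowers_iff.1 hm
      have hj4 : a ^ (j % 4) = c * a * c⁻¹ := by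
        rw [← hj, show (4 : ℤ) = (orderOf a : ℤ) by rw [hoa]; rfl, zpow_mod_orderOf]
      have ho : orderOf (c * a * c⁻¹) = 4 := by
        rw [← hoa]; exact MulEquiv.orderOf_eq (MulAut.conj c) a
      have h1 := Int.emod_lt_of_pos j (by norm_num : (0 : ℤ) < 4)
      have h0 := Int.emod_nonneg j (by norm_num : (4 : ℤ) ≠ 0)
      have hcases : j % 4 = 0 ∨ j % 4 = 1 ∨ j % 4 = 2 ∨ j % 4 = 3 := by omega
      rcases hcases with e | e | e | e <;> rw [e] at hj4
      · rw [← hj4, zpow_zero, orderOf_one] at ho; omega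
      · exact absurd (by rw [← hj4, zpow_one]) hne
      · rw [← hj4, zpow_ofNat, orderOf_pow' _ two_ne_zero, hoa] at ho; norm_num at ho
      · rw [← hj4, eq_inv_iff_mul_eq_one, zpow_ofNat, ← pow_succ, show 3 + 1 = orderOf a from hoa.symm,
          pow_orderOf_eq_one]
    intro u hu2 hu1
    by_cases hu : u ∈ Subgroup.zpowers a
    · obtain ⟨j, rfl⟩ := hu
      simp only at hu2 hu1 ⊢
      rw [← zpow_add, ← orderOf_dvd_iff_zpow_eq_one, hoa] at hu2
      rw [Ne, ← orderOf_dvd_iff_zpow_eq_one, hoa] at hu1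
      rw [← zpow_mod_orderOf, hoa, show j % ((4 : ℕ) : ℤ) = 2 by push_cast; omega, zpow_ofNat]
    · exfalso
      obtain ⟨i, hi⟩ := Subgroup.mem_zpowers_iff.1
        ((Subgroup.mul_mem_iff_of_index_two (hiY a ha) (a := u) (b := c⁻¹)).2
          (iff_of_false hu (fun h => hc' (by simpa using inv_mem h))))
      have hu' : u = a ^ i * c := by rw [hi, inv_mul_cancel_right]
      have hca2 : c * a ^ i = a ^ (-i) * c := by
        rw [← mul_inv_eq_iff_eq_mul, ← conj_zpow, hcac, inv_zpow, zpow_neg]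
      rw [hu', show a ^ i * c * (a ^ i * c) = a ^ i * (c * a ^ i) * c by group, hca2, ← mul_assoc, ← zpow_add,
        add_neg_cancel, zpow_zero, one_mul, hcc] at hu2
      have := Nat.le_of_dvd (by norm_num) (hoa ▸ orderOf_dvd_of_pow_eq_one hu2)
      omega
  intro u hu v hv hu2 hu1 hv2 hv1
  have h1 := hinv ⟨u, hu⟩ (Subtype.ext hu2) (fun h => hu1 (congrArg Subtype.val h))
  have h2 := hinv ⟨v, hv⟩ (Subtype.ext hv2) (fun h => hv1 (congrArg Subtype.val h))
  exact congrArg Subtype.val (h1.trans h2.symm)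

/-- Conjugate subgroup. -/
def cj (g : G) (C : Subgroup G) : Subgroup G := C.map (MulAut.conj g).toMonoidHom

theorem mem_cj {g : G} {C : Subgroup G} {x : G} : x ∈ cj g C ↔ g⁻¹ * x * g ∈ C := by
  constructor
  · rintro ⟨c, hc, rfl⟩
    simpa [mul_assoc] using hc
  · intro h
    exact ⟨_, h, by simp [mul_assoc]⟩

theorem cj_one (C : Subgroup G) : cj 1 C = C := by ext x; simp [mem_cj]

theorem cj_mul (g h : G) (C : Subgroup G) : cj (g * h) C = cj g (cj h C) := by
  ext x; simp [mem_cj, mul_assoc]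

theorem cj_card (g : G) (C : Subgroup G) : Nat.card (cj g C) = Nat.card C :=
  Subgroup.card_map_of_injective (MulAut.conj g).injective

open scoped Classical in
/-- The cyclic subgroups of order four. -/
noncomputable def cyc4 (Y : Subgroup G) : Finset (Subgroup G) :=
  haveI := Fintype.ofFinite (Subgroup G)
  Finset.univ.filter fun C => C ≤ Y ∧ IsCyclic C ∧ Nat.card C = 4

theorem mem_cyc4 {Y C : Subgroup G} : C ∈ cyc4 Y ↔ C ≤ Y ∧ IsCyclic C ∧ Nat.card C = 4 := by
  simp [cyc4]

theorem cj_mem_cyc4 {Y C : Subgroup G} {g : G} (hg : g ∈ Subgroup.normalizer (Y : Set G)) (h : C ∈ cyc4 Y) :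
    cj g C ∈ cyc4 Y := by
  obtain ⟨h1, h2, h3⟩ := mem_cyc4.1 h
  refine mem_cyc4.2 ⟨?_, (C.equivMapOfInjective _ (MulAut.conj g).injective).isCyclic.1 h2, by rw [cj_card, h3]⟩
  rintro _ ⟨c, hc, rfl⟩
  exact (Subgroup.mem_normalizer_iff.1 hg c).1 (h1 hc)

/-- Facts on the quaternion group of order eight as a subgroup. -/
theorem quat_facts {Y : Subgroup G} (hna : ¬ ∀ a ∈ Y, ∀ b ∈ Y, a * b = b * a) (h8 : Nat.card Y = 8)
    (hu : ∀ a ∈ Y, ∀ b ∈ Y, a * a = 1 → a ≠ 1 → b * b = 1 → b ≠ 1 → a = b) :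
    (cyc4 Y).card = 3 ∧ (∀ y ∈ Y, y * y ≠ 1 → Subgroup.zpowers y ∈ cyc4 Y) ∧
      (∀ g ∈ Subgroup.normalizer (Y : Set G), (∀ C ∈ cyc4 Y, cj g C = C) →
        g ∈ Y ⊔ Subgroup.centralizer (Y : Set G)) := by
  classical
  have := Fact.mk Nat.prime_two
  obtain ⟨z', hz'⟩ := exists_prime_orderOf_dvd_card' (G := Y) 2 (by rw [h8]; norm_num)
  set z : G := (z' : G)
  have hzo : orderOf z = 2 := by rw [Subgroup.orderOf_coe]; exact hz'
  have hzY : z ∈ Y := z'.2
  have hz2 : z * z = 1 := by rw [← pow_two, ← hzo, pow_orderOf_eq_one]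
  have hz1 : z ≠ 1 := fun h => by rw [h, orderOf_one] at hzo; omega
  have h4 : ∀ y ∈ Y, y * y ≠ 1 → orderOf y = 4 := by
    intro y hy hne
    have hd : orderOf (⟨y, hy⟩ : Y) ∣ 2 ^ 3 := by rw [show 2 ^ 3 = Nat.card Y from h8.symm]; exact orderOf_dvd_natCard _
    rw [Subgroup.orderOf_mk] at hd
    obtain ⟨k, hk, hk'⟩ := (Nat.dvd_prime_pow Nat.prime_two).1 hd
    have hk3 : k ≠ 3 := by
      rintro rfl
      have : IsCyclic Y := isCyclic_of_orderOf_eq_card (⟨y, hy⟩ : Y) (by rw [Subgroup.orderOf_mk, hk', h8]; rfl)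
      have := (IsCyclic.isMulCommutative (α := Y))
      exact hna fun a ha b hb => congrArg Subtype.val (this.is_comm.comm ⟨a, ha⟩ ⟨b, hb⟩)
    have hk2 : 2 ≤ k := by
      by_contra hlt
      refine hne ?_
      rw [← pow_two]
      refine orderOf_dvd_iff_pow_eq_one.1 ?_
      rw [hk']
      exact (pow_dvd_pow 2 (by omega : k ≤ 1)).trans (dvd_of_eq (pow_one 2))
    rw [hk', show k = 2 by omega]; rfl
  have hzp : ∀ y ∈ Y, y * y ≠ 1 → Subgroup.zpowers y ∈ cyc4 Y := fun y hy hne =>
    mem_cyc4.2 ⟨Subgroup.zpowers_le.2 hy, Subgroup.isCyclic_zpowers y, by rw [Nat.card_zpowers, h4 y hy hne]⟩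
  have hfour : ∀ C ∈ cyc4 Y, ∃ y, y ∈ Y ∧ orderOf y = 4 ∧ C = Subgroup.zpowers y := by
    intro C hC
    obtain ⟨h1, h2, h3⟩ := mem_cyc4.1 hC
    obtain ⟨g, hg⟩ := h2.exists_generator
    have hgo : orderOf (g : G) = 4 := by rw [Subgroup.orderOf_coe, orderOf_eq_card_of_forall_mem_zpowers hg, h3]
    exact ⟨g, h1 g.2, hgo, (Subgroup.eq_of_le_of_card_ge (Subgroup.zpowers_le.2 g.2)
      (by rw [Nat.card_zpowers, hgo, h3])).symm⟩
  have hsmall : ∀ y : G, orderOf y = 4 → ∀ u ∈ Subgroup.zpowers y, u = 1 ∨ u = y ∨ u = y ^ 2 ∨ u = y⁻¹ := by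
    intro y hy u hu'
    obtain ⟨j, rfl⟩ := hu'
    simp only
    rw [← zpow_mod_orderOf, hy]
    have h1 := Int.emod_lt_of_pos j (by norm_num : (0 : ℤ) < ((4 : ℕ) : ℤ))
    have h0 := Int.emod_nonneg j (by norm_num : ((4 : ℕ) : ℤ) ≠ 0)
    have hcases : j % ((4 : ℕ) : ℤ) = 0 ∨ j % ((4 : ℕ) : ℤ) = 1 ∨ j % ((4 : ℕ) : ℤ) = 2 ∨
        j % ((4 : ℕ) : ℤ) = 3 := by omega
    rcases hcases with e | e | e | e <;> rw [e]
    · exact Or.inl (zpow_zero y)
    · exact Or.inr (Or.inl (zpow_one y))
    · exact Or.inr (Or.inr (Or.inl (zpow_ofNat y 2)))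
    · refine Or.inr (Or.inr (Or.inr ?_))
      rw [zpow_ofNat, eq_inv_iff_mul_eq_one, ← pow_succ, show 3 + 1 = orderOf y from hy.symm, pow_orderOf_eq_one]
  have hord : ∀ y : G, orderOf y = 4 → y * y ≠ 1 ∧ y ≠ y⁻¹ := fun y hy => by
    have h : y * y ≠ 1 := fun h => by
      have := Nat.le_of_dvd (by norm_num) (hy ▸ orderOf_dvd_of_pow_eq_one ((pow_two y).trans h))
      omega
    exact ⟨h, fun e => h (by nth_rewrite 2 [e]; exact mul_inv_cancel y)⟩
  refine ⟨?_, hzp, ?_⟩
  · have := Fintype.ofFinite G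
    let D : Finset G := Finset.univ.filter fun y => y ∈ Y ∧ y * y ≠ 1
    have hD : D.card = 6 := by
      have hU : (Finset.univ.filter fun y : G => y ∈ Y) = D ∪ {1, z} := by
        ext y
        simp only [D, Finset.mem_filter, Finset.mem_univ, true_and, Finset.mem_union, Finset.mem_insert,
          Finset.mem_singleton]
        constructor
        · intro hy
          by_cases h : y * y = 1
          · by_cases h1 : y = 1
            · exact Or.inr (Or.inl h1)
            · exact Or.inr (Or.inr (hu y hy z hzY h h1 hz2 hz1))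
          · exact Or.inl ⟨hy, h⟩
        · rintro (h | rfl | rfl)
          exacts [h.1, one_mem _, hzY]
      have hd : Disjoint D {1, z} := by
        simp [D, Finset.disjoint_right, hz2]
      have h := congrArg Finset.card hU
      rw [Finset.card_union_of_disjoint hd, Finset.card_pair (Ne.symm hz1)] at h
      have h' : (Finset.univ.filter fun y : G => y ∈ Y).card = 8 := by
        rw [← h8, Nat.card_eq_fintype_card, Fintype.card_subtype]
      omega
    have h := Finset.card_eq_sum_card_fiberwise (s := D) (t := cyc4 Y) (f := fun y => Subgroup.zpowers y)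
      (fun y hy => by
        simp only [D, Finset.coe_filter, Finset.mem_univ, true_and, Set.mem_setOf_eq] at hy
        exact hzp y hy.1 hy.2)
    rw [hD, Finset.sum_const_nat (m := 2) ?_] at h
    · omega
    intro C hC
    obtain ⟨y, hyY, hy4, rfl⟩ := hfour C hC
    rw [Finset.card_eq_two]
    refine ⟨y, y⁻¹, (hord y hy4).2, ?_⟩
    ext u
    simp only [D, Finset.mem_filter, Finset.mem_univ, true_and, Finset.mem_insert, Finset.mem_singleton]
    constructor
    · rintro ⟨⟨-, hu2⟩, e⟩
      rcases hsmall y hy4 u (e ▸ Subgroup.mem_zpowers u) with h | h | h | h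
      · exact absurd (by rw [h, mul_one]) hu2
      · exact Or.inl h
      · exact absurd (by rw [h, ← pow_add, show 2 + 2 = orderOf y from hy4.symm, pow_orderOf_eq_one]) hu2
      · exact Or.inr h
    · rintro (rfl | rfl)
      · exact ⟨⟨hyY, (hord _ hy4).1⟩, rfl⟩
      · exact ⟨⟨inv_mem hyY, (hord _ (by rw [orderOf_inv, hy4])).1⟩, Subgroup.zpowers_inv⟩
  intro g hg hfix
  obtain ⟨i, hiY, hi2⟩ : ∃ i ∈ Y, i * i ≠ 1 := by
    by_contra hcon
    push Not at hcon
    refine hna fun a ha b hb => ?_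
    have h := hcon _ (mul_mem ha hb)
    rw [mul_eq_one_iff_eq_inv, mul_inv_rev] at h
    rw [h, inv_eq_of_mul_eq_one_right (hcon a ha), inv_eq_of_mul_eq_one_right (hcon b hb)]
  have hi4 := h4 i hiY hi2
  obtain ⟨j, hjY, hji⟩ : ∃ j ∈ Y, j * i ≠ i * j := by
    by_contra hcon
    push Not at hcon
    -- then `i` is central and the quotient by its powers has order two
    have hA : (Subgroup.zpowers (⟨i, hiY⟩ : Y)).index = 2 := by
      have h1 := (Subgroup.zpowers (⟨i, hiY⟩ : Y)).card_mul_index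
      rw [Nat.card_zpowers, Subgroup.orderOf_mk, hi4, h8] at h1
      omega
    refine hna fun a ha b hb => ?_
    by_cases haA : (⟨a, ha⟩ : Y) ∈ Subgroup.zpowers (⟨i, hiY⟩ : Y)
    · obtain ⟨m, hm⟩ := haA
      rw [show a = i ^ m by simpa using (congrArg Subtype.val hm).symm]
      exact ((show Commute i b from (hcon b hb).symm).zpow_left m).eq
    by_cases hbA : (⟨b, hb⟩ : Y) ∈ Subgroup.zpowers (⟨i, hiY⟩ : Y)
    · obtain ⟨m, hm⟩ := hbA
      rw [show b = i ^ m by simpa using (congrArg Subtype.val hm).symm]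
      exact ((show Commute i a from (hcon a ha).symm).zpow_left m).eq.symm
    obtain ⟨m, hm⟩ := (Subgroup.mul_mem_iff_of_index_two hA (a := (⟨a, ha⟩ : Y)⁻¹) (b := ⟨b, hb⟩)).2
      (iff_of_false (fun h => haA (by simpa using inv_mem h)) hbA)
    have hb' : b = a * i ^ m := by
      have := congrArg Subtype.val hm
      simp only [SubgroupClass.coe_zpow, Subgroup.coe_mul, InvMemClass.coe_inv] at this
      rw [this, mul_inv_cancel_left]
    rw [hb']
    exact ((Commute.refl a).mul_right ((show Commute a i from hcon a ha).zpow_right m)).eq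
  have hj2 : j * j ≠ 1 := by
    intro hj2
    have hj1 : j ≠ 1 := fun h => hji (by rw [h, one_mul, mul_one])
    have hi4' : i ^ 2 * i ^ 2 = 1 := by rw [← pow_add, show 2 + 2 = orderOf i from hi4.symm, pow_orderOf_eq_one]
    have e := hu j hjY (i ^ 2) (pow_mem hiY 2) hj2 hj1 hi4' (by rwa [pow_two])
    exact hji (by rw [e]; exact ((Commute.refl i).pow_left 2).eq)
  have hj4 := h4 j hjY hj2
  have conjCase : ∀ h ∈ Subgroup.normalizer (Y : Set G), ∀ y : G, orderOf y = 4 →
      cj h (Subgroup.zpowers y) = Subgroup.zpowers y → h * y * h⁻¹ = y ∨ h * y * h⁻¹ = y⁻¹ := by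
    intro h _ y hy hfx
    have hm : h * y * h⁻¹ ∈ Subgroup.zpowers y := by
      rw [← hfx]; exact ⟨y, Subgroup.mem_zpowers y, by simp⟩
    have ho : orderOf (h * y * h⁻¹) = 4 := by rw [← hy]; exact MulEquiv.orderOf_eq (MulAut.conj h) y
    rcases hsmall y hy _ hm with e | e | e | e
    · rw [e, orderOf_one] at ho; omega
    · exact Or.inl e
    · rw [e, orderOf_pow' _ two_ne_zero, hy] at ho; norm_num at ho
    · exact Or.inr e
  have conjY : ∀ x ∈ Y, ∀ y ∈ Y, orderOf y = 4 → x * y * x⁻¹ = y ∨ x * y * x⁻¹ = y⁻¹ := by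
    intro x hx y hy hy4
    refine conjCase x (Subgroup.le_normalizer hx) y hy4 ?_
    have hA : (Subgroup.zpowers (⟨y, hy⟩ : Y)).index = 2 := by
      have h1 := (Subgroup.zpowers (⟨y, hy⟩ : Y)).card_mul_index
      rw [Nat.card_zpowers, Subgroup.orderOf_mk, hy4, h8] at h1
      omega
    obtain ⟨m, hm⟩ := (Subgroup.normal_of_index_eq_two hA).conj_mem _ (Subgroup.mem_zpowers _) (⟨x, hx⟩ : Y)
    have hm' : y ^ m = x * y * x⁻¹ := by simpa using congrArg Subtype.val hm
    refine Subgroup.eq_of_le_of_card_ge ?_ (by rw [cj_card])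
    rw [cj, MonoidHom.map_zpowers]
    exact Subgroup.zpowers_le.2 ⟨m, by simpa using hm'⟩
  have hjij : j * i * j⁻¹ = i⁻¹ := (conjY j hjY i hiY hi4).resolve_left fun h => hji (mul_inv_eq_iff_eq_mul.1 h)
  have hiji : i * j * i⁻¹ = j⁻¹ := (conjY i hiY j hjY hj4).resolve_left fun h => hji (mul_inv_eq_iff_eq_mul.1 h).symm
  have hgen : ∀ c : G, c * i = i * c → c * j = j * c → c ∈ Subgroup.centralizer (Y : Set G) := by
    intro c hci hcj
    set A := Subgroup.closure ({i, j} : Set G) with hA
    have hAY : A ≤ Y := by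
      rw [hA, Subgroup.closure_le]; rintro u (rfl | rfl) <;> assumption
    have hlt : Subgroup.zpowers i < A := by
      refine lt_of_le_of_ne (Subgroup.zpowers_le.2 (Subgroup.subset_closure (Set.mem_insert i _))) fun e => hji ?_
      have hjm : j ∈ Subgroup.zpowers i := e ▸ Subgroup.subset_closure (Set.mem_insert_of_mem i rfl)
      obtain ⟨m, rfl⟩ := hjm
      exact ((Commute.refl i).zpow_left m).eq
    have h8A : A = Y := by
      refine Subgroup.eq_of_le_of_card_ge hAY ?_
      have hd := Subgroup.card_dvd_of_le hAY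
      rw [h8, show 8 = 2 ^ 3 from rfl] at hd
      obtain ⟨k, hk, hk'⟩ := (Nat.dvd_prime_pow Nat.prime_two).1 hd
      have h1 : 4 < Nat.card A := by
        have h1 : Nat.card (Subgroup.zpowers i) = 4 := by rw [Nat.card_zpowers, hi4]
        have := Subgroup.card_le_of_le hlt.le
        refine lt_of_le_of_ne (h1 ▸ this) fun e => hlt.ne (Subgroup.eq_of_le_of_card_ge hlt.le (by omega))
      rw [hk', show 4 = 2 ^ 2 from rfl, Nat.pow_lt_pow_iff_right (by norm_num)] at h1
      rw [h8, hk', show k = 3 by omega]; rfl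
    rw [← h8A, hA, Subgroup.centralizer_closure, Subgroup.mem_centralizer_iff]
    rintro u (rfl | rfl)
    exacts [hci.symm, hcj.symm]
  have fin : ∀ q ∈ Y, g * i * g⁻¹ = q * i * q⁻¹ → g * j * g⁻¹ = q * j * q⁻¹ →
      g ∈ Y ⊔ Subgroup.centralizer (Y : Set G) := by
    intro q hq e1 e2
    have hc : ∀ u, g * u * g⁻¹ = q * u * q⁻¹ → (q⁻¹ * g) * u = u * (q⁻¹ * g) := by
      intro u e
      rw [mul_inv_eq_iff_eq_mul] at e
      rw [mul_assoc, e]; group
    have h := mul_mem (Subgroup.mem_sup_left (T := Subgroup.centralizer (Y : Set G)) hq)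
      (Subgroup.mem_sup_right (hgen _ (hc i e1) (hc j e2)))
    rwa [mul_inv_cancel_left] at h
  rcases conjCase g hg i hi4 (hfix _ (hzp i hiY hi2)) with e1 | e1 <;>
    rcases conjCase g hg j hj4 (hfix _ (hzp j hjY hj2)) with e2 | e2
  · exact fin 1 (one_mem _) (by simpa using e1) (by simpa using e2)
  · exact fin i hiY (by rw [e1, mul_inv_cancel_right]) (by rw [e2, hiji])
  · exact fin j hjY (by rw [e1, hjij]) (by rw [e2, mul_inv_cancel_right])
  · refine fin (i * j) (mul_mem hiY hjY) ?_ ?_
    · rw [e1, show i * j * i * (i * j)⁻¹ = i * (j * i * j⁻¹) * i⁻¹ by group, hjij]; group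
    · rw [e2, show i * j * j * (i * j)⁻¹ = i * j * i⁻¹ by group, hiji]

end Cfsg.Agent.NoAbelianEight
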