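import Mathlib

/-!
# Groups of order dividing `175560`
-/

set_option autoImplicit false
set_option linter.all false

namespace Cfsg.Agent.Order175560

open scoped Pointwise

/-! ## The arithmetic case analysis -/

def d120 : List ℕ := [1, 2, 3, 4, 5, 6, 8, 10, 12, 15, 20, 24, 30, 40, 60, 120]
def d1463 : List ℕ := [1, 7, 11, 19, 77, 133, 209, 1463]
def dd385 : List ℕ := [1, 5, 7, 11, 35, 55, 77, 385]
def d24 : List ℕ := [1, 2, 3, 4, 6, 8, 12, 24]

def allDiv : List ℕ := d120.flatMap fun a => d1463.map fun b => a * b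

def okTriple (g p n e k : ℕ) : Bool :=
  n * (p * (e * k)) == g && n % p == 1 && decide (2 ≤ n) && decide (2 ≤ e) && (p - 1) % e == 0 &&
    (!(p == 19 && n == 20) || (k == 1 && e % 2 == 1)) && (!(p == 19 && n == 77) || 24 % k == 0)

def cand (g p : ℕ) : List (ℕ × ℕ) :=
  if g % p == 0 then
    allDiv.flatMap fun n => (List.range p).filterMap fun e =>
      let k := g / (n * (p * e))
      if okTriple g p n e k then some (n, k) else none
  else [(0, 1)]

def sym (p q : ℕ) (a b : ℕ × ℕ) : Bool := (a.2 % q == 0) == (b.2 % p == 0)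

def wt (earlier : List ℕ) (p : ℕ) (a : ℕ × ℕ) : ℕ :=
  a.1 * ((p - 1) * if earlier.all (fun q => a.2 % q != 0) then a.2 else 1)

def tot1 (a b c d e : ℕ × ℕ) : ℕ :=
  wt [] 19 a + wt [19] 7 b + wt [19, 7] 11 c + wt [19, 7, 11] 5 d + wt [19, 7, 11, 5] 3 e

def tot2 (a b c d e : ℕ × ℕ) : ℕ :=
  wt [] 19 a + wt [19] 7 b + wt [19, 7] 11 c + wt [19, 7, 11] 3 e + wt [19, 7, 11, 3] 5 d

def okOrder (g : ℕ) : Bool :=
  (cand g 19).all fun a =>
    (cand g 7).all fun b => !sym 19 7 a b ||
      (cand g 11).all fun c => !(sym 19 11 a c && sym 7 11 b c) ||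
        (cand g 5).all fun d => !(sym 19 5 a d && sym 7 5 b d && sym 11 5 c d) ||
          (cand g 3).all fun e => !(sym 19 3 a e && sym 7 3 b e && sym 11 3 c e && sym 5 3 d e) ||
            (decide (g ≤ tot1 a b c d e) || decide (g ≤ tot2 a b c d e))

def okAll : Bool :=
  d24.all fun u => dd385.all fun v => u * v == 9240 || okOrder (19 * (u * v))

theorem okAll_eq : okAll = true := by decide +kernel

theorem exists_split {a b n : ℕ} (h : n ∣ a * b) : ∃ u v, u ∣ a ∧ v ∣ b ∧ n = u * v := by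
  obtain ⟨u, v, hu, hv, e⟩ := exists_dvd_and_dvd_of_dvd_mul h
  exact ⟨u, v, hu, hv, e⟩

theorem mem_of_dvd : (∀ u, u ∣ 120 → u ∈ d120) ∧ (∀ u, u ∣ 1463 → u ∈ d1463) ∧
    (∀ u, u ∣ 385 → u ∈ dd385) ∧ (∀ u, u ∣ 24 → u ∈ d24) := by
  have h1 : ∀ x ∈ Nat.divisors 120, x ∈ d120 := by decide +kernel
  have h2 : ∀ x ∈ Nat.divisors 1463, x ∈ d1463 := by decide +kernel
  have h3 : ∀ x ∈ Nat.divisors 385, x ∈ dd385 := by decide +kernel
  have h4 : ∀ x ∈ Nat.divisors 24, x ∈ d24 := by decide +kernel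
  exact ⟨fun u h => h1 u (Nat.mem_divisors.2 ⟨h, by norm_num⟩),
    fun u h => h2 u (Nat.mem_divisors.2 ⟨h, by norm_num⟩),
    fun u h => h3 u (Nat.mem_divisors.2 ⟨h, by norm_num⟩),
    fun u h => h4 u (Nat.mem_divisors.2 ⟨h, by norm_num⟩)⟩

theorem okOrder_of_dvd {d : ℕ} (hd : d ∣ 9240) (hne : d ≠ 9240) : okOrder (19 * d) = true := by
  obtain ⟨u, v, hu, hv, rfl⟩ := exists_split (a := 24) (b := 385) hd
  have h := okAll_eq
  rw [okAll, List.all_eq_true] at h
  have h' := List.all_eq_true.1 (h u (mem_of_dvd.2.2.2 u hu)) v (mem_of_dvd.2.2.1 v hv)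
  rw [Bool.or_eq_true, beq_iff_eq] at h'
  exact h'.resolve_left hne

theorem mem_cand {g p n e k : ℕ} (hg : g ∣ 175560) (hp : 0 < p) (hpg : p ∣ g) (he : e < p)
    (hmul : n * (p * (e * k)) = g) (hmod : n % p = 1) (hn : 2 ≤ n) (he2 : 2 ≤ e) (hdiv : e ∣ p - 1)
    (h20 : p = 19 → n = 20 → k = 1 ∧ e % 2 = 1) (h77 : p = 19 → n = 77 → k ∣ 24) :
    (n, k) ∈ cand g p := by
  have hk : g / (n * (p * e)) = k := by
    rw [← hmul, show n * (p * (e * k)) = k * (n * (p * e)) by ring]
    exact Nat.mul_div_cancel _ (Nat.mul_pos (by omega) (Nat.mul_pos hp (by omega)))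
  rw [cand, if_pos (by simpa using Nat.mod_eq_zero_of_dvd hpg), List.mem_flatMap]
  have hdvd : n ∣ 120 * 1463 := (show n ∣ g from ⟨_, hmul.symm⟩).trans hg
  obtain ⟨u, v, hu, hv, huv⟩ := exists_split hdvd
  refine ⟨n, List.mem_flatMap.2 ⟨u, mem_of_dvd.1 u hu, List.mem_map.2 ⟨v, mem_of_dvd.2.1 v hv, huv.symm⟩⟩,
    List.mem_filterMap.2 ⟨e, List.mem_range.2 he, ?_⟩⟩
  dsimp only
  rw [hk, if_pos]
  simp only [okTriple, Bool.and_eq_true, Bool.or_eq_true, beq_iff_eq, decide_eq_true_eq,
    Bool.not_eq_true', Bool.and_eq_false_iff, beq_eq_false_iff_ne]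
  refine ⟨⟨⟨⟨⟨⟨hmul, hmod⟩, hn⟩, he2⟩, Nat.mod_eq_zero_of_dvd hdiv⟩, ?_⟩, ?_⟩
  · by_cases h : p = 19 ∧ n = 20
    · exact Or.inr (h20 h.1 h.2)
    · exact Or.inl (not_and_or.1 h)
  · by_cases h : p = 19 ∧ n = 77
    · exact Or.inr (Nat.mod_eq_zero_of_dvd (h77 h.1 h.2))
    · exact Or.inl (not_and_or.1 h)

theorem mem_cand_absent {g p : ℕ} (hpg : ¬ p ∣ g) : (0, 1) ∈ cand g p := by
  rw [cand, if_neg (by simpa [Nat.dvd_iff_mod_eq_zero] using hpg)]
  exact List.mem_singleton.2 rfl

/-! ## The group theory -/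

section
variable {G : Type*} [Group G] [Finite G] {p : ℕ} [hp : Fact p.Prime]

theorem p_mul_eq (hp2 : ¬ p ^ 2 ∣ Nat.card G) {x : G} (hx : orderOf x = p) :
    ¬ p ∣ (Subgroup.zpowers x).index := by
  intro h
  have hm := (Subgroup.zpowers x).card_mul_index
  rw [Nat.card_zpowers, hx] at hm
  exact hp2 (by rw [← hm, pow_two]; exact Nat.mul_dvd_mul_left p h)

/-- The Sylow subgroup generated by an element of order `p`. -/
noncomputable def syl (hp2 : ¬ p ^ 2 ∣ Nat.card G) {x : G} (hx : orderOf x = p) : Sylow p G :=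
  (IsPGroup.of_card (p := p) (n := 1)
    (show Nat.card (Subgroup.zpowers x) = p ^ 1 by rw [Nat.card_zpowers, hx, pow_one])).toSylow
    (p_mul_eq hp2 hx)

theorem coe_syl (hp2 : ¬ p ^ 2 ∣ Nat.card G) {x : G} (hx : orderOf x = p) :
    ((syl hp2 hx : Sylow p G) : Subgroup G) = Subgroup.zpowers x := rfl

theorem card_syl (hp2 : ¬ p ^ 2 ∣ Nat.card G) (hpg : p ∣ Nat.card G) (R : Sylow p G) :
    Nat.card (R : Subgroup G) = p := by
  obtain ⟨x, hx⟩ := exists_prime_orderOf_dvd_card' p hpg
  rw [R.card_eq_multiplicity, ← (syl hp2 hx).card_eq_multiplicity, coe_syl, Nat.card_zpowers, hx]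

theorem exists_conj (hp2 : ¬ p ^ 2 ∣ Nat.card G) {x y : G} (hx : orderOf x = p) (hy : orderOf y = p) :
    ∃ (g : G) (i : ℤ), g * x * g⁻¹ = y ^ i := by
  obtain ⟨g, hg⟩ := MulAction.exists_smul_eq G (syl hp2 hx) (syl hp2 hy)
  refine ⟨g, ?_⟩
  have hm : g * x * g⁻¹ ∈ ((g • syl hp2 hx : Sylow p G) : Subgroup G) := by
    rw [Sylow.coe_subgroup_smul, Subgroup.mem_pointwise_smul_iff_inv_smul_mem, coe_syl]
    simp [MulAut.smul_def, mul_assoc]
  rw [hg, coe_syl] at hm
  obtain ⟨i, hi⟩ := Subgroup.mem_zpowers_iff.1 hm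
  exact ⟨i, hi.symm⟩

theorem card_sylow_mul (hp2 : ¬ p ^ 2 ∣ Nat.card G) {x : G} (hx : orderOf x = p) :
    ∃ e, e ∣ p - 1 ∧ e < p ∧
      Nat.card (Subgroup.normalizer (Subgroup.zpowers x : Set G)) =
        e * Nat.card (Subgroup.centralizer ({x} : Set G)) ∧
      Nat.card (Sylow p G) * Nat.card (Subgroup.normalizer (Subgroup.zpowers x : Set G)) = Nat.card G := by
  set C := Subgroup.centralizer ({x} : Set G) with hC
  set N := Subgroup.normalizer (Subgroup.zpowers x : Set G) with hN
  let f : N →* MulAut (Subgroup.zpowers x) := (Subgroup.zpowers x).normalizerMonoidHom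
  have hker : f.ker.map N.subtype = C := by
    rw [Subgroup.normalizerMonoidHom_ker]
    ext g
    constructor
    · rintro ⟨g, hg, rfl⟩
      exact Subgroup.mem_centralizer_iff.2 fun a ha => by
        rw [Set.mem_singleton_iff.1 ha]
        exact Subgroup.mem_centralizer_iff.1 (Subgroup.mem_subgroupOf.1 hg) x (Subgroup.mem_zpowers x)
    · intro hg
      have hc : ∀ a ∈ Subgroup.zpowers x, a * g = g * a := fun a ha => by
        obtain ⟨i, rfl⟩ := Subgroup.mem_zpowers_iff.1 ha
        exact ((show Commute x g from Subgroup.mem_centralizer_iff.1 hg x rfl).zpow_left i).eq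
      have hgN : g ∈ N := Subgroup.mem_normalizer_iff.2 fun a => by
        constructor
        · intro ha; rw [← hc a ha, mul_inv_cancel_right]; exact ha
        · intro ha
          have h := hc _ ha
          rw [inv_mul_cancel_right] at h
          have e : g * a * g⁻¹ = a := by
            have h' : g * (g * a * g⁻¹) = g * a := h.symm
            exact mul_left_cancel h'
          exact e ▸ ha
      exact ⟨⟨g, hgN⟩, Subgroup.mem_subgroupOf.2 (Subgroup.mem_centralizer_iff.2 hc), rfl⟩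
  have hd : f.ker.index ∣ p - 1 := by
    rw [Subgroup.index_ker]
    refine (Subgroup.card_subgroup_dvd_card _).trans ?_
    haveI : IsCyclic (Subgroup.zpowers x) := Subgroup.isCyclic_zpowers x
    rw [IsCyclic.card_mulAut, Nat.card_zpowers, hx, Nat.totient_prime hp.out]
  refine ⟨f.ker.index, hd, ?_, ?_, ?_⟩
  · have := hp.out.two_le
    have := Nat.le_of_dvd (by omega) hd
    omega
  · rw [← hker, Subgroup.card_subtype, mul_comm, Subgroup.card_mul_index]
  · have h := (syl hp2 hx).card_eq_index_normalizer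
    rw [h]
    show (Subgroup.normalizer ((syl hp2 hx : Subgroup G) : Set G)).index * _ = _
    rw [coe_syl, ← hN, mul_comm, Subgroup.card_mul_index]

theorem e_ne_one [IsSimpleGroup G] (hp2 : ¬ p ^ 2 ∣ Nat.card G) {x : G} (hx : orderOf x = p)
    (hne : Nat.card G ≠ p)
    (h : Nat.card (Subgroup.normalizer (Subgroup.zpowers x : Set G)) =
      1 * Nat.card (Subgroup.centralizer ({x} : Set G))) : False := by
  have hle : Subgroup.centralizer ({x} : Set G) ≤ Subgroup.normalizer (Subgroup.zpowers x : Set G) := by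
    intro g hg
    refine Subgroup.mem_normalizer_iff.2 fun a => ?_
    have hc : ∀ a ∈ Subgroup.zpowers x, a * g = g * a := fun a ha => by
      obtain ⟨i, rfl⟩ := Subgroup.mem_zpowers_iff.1 ha
      exact ((show Commute x g from Subgroup.mem_centralizer_iff.1 hg x rfl).zpow_left i).eq
    constructor
    · intro ha; rw [← hc a ha, mul_inv_cancel_right]; exact ha
    · intro ha
      have h := hc _ ha
      rw [inv_mul_cancel_right] at h
      exact (mul_left_cancel (a := g) (show g * (g * a * g⁻¹) = g * a from h.symm)) ▸ ha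
  have heq := Subgroup.eq_of_le_of_card_ge hle (by rw [h, one_mul])
  have hP : Subgroup.normalizer ((syl hp2 hx : Subgroup G) : Set G) ≤
      Subgroup.centralizer ((syl hp2 hx : Subgroup G) : Set G) := by
    rw [coe_syl, ← heq]
    intro g hg
    refine Subgroup.mem_centralizer_iff.2 fun a ha => ?_
    obtain ⟨i, rfl⟩ := Subgroup.mem_zpowers_iff.1 ha
    exact ((show Commute x g from Subgroup.mem_centralizer_iff.1 hg x rfl).zpow_left i).eq
  have hmul := (MonoidHom.ker_transferSylow_isComplement' (syl hp2 hx) hP).card_mul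
  have hcardP : Nat.card (syl hp2 hx : Subgroup G) = p := by rw [coe_syl, Nat.card_zpowers, hx]
  rw [hcardP] at hmul
  rcases IsSimpleGroup.eq_bot_or_eq_top_of_normal (MonoidHom.transferSylow (syl hp2 hx) hP).ker
    inferInstance with e | e <;> rw [e] at hmul
  · rw [Subgroup.card_bot, one_mul] at hmul; exact hne hmul.symm
  · rw [Subgroup.card_top] at hmul
    have := Nat.card_pos (α := G)
    have h2 := hp.out.two_le
    nlinarith

theorem swap_dvd (hp2 : ¬ p ^ 2 ∣ Nat.card G) {q : ℕ} [hq : Fact q.Prime] (hq2 : ¬ q ^ 2 ∣ Nat.card G)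
    (hpq : p ≠ q) {x y : G} (hx : orderOf x = p) (hy : orderOf y = q) {k l : ℕ}
    (hk : Nat.card (Subgroup.centralizer ({x} : Set G)) = p * k)
    (hl : Nat.card (Subgroup.centralizer ({y} : Set G)) = q * l) (h : q ∣ k) : p ∣ l := by
  obtain ⟨z, hz⟩ := exists_prime_orderOf_dvd_card' (G := Subgroup.centralizer ({x} : Set G)) q
    (hk ▸ dvd_mul_of_dvd_right h p)
  have hzo : orderOf (z : G) = q := by rw [Subgroup.orderOf_coe, hz]
  obtain ⟨g, i, hi⟩ := exists_conj hq2 hy hzo
  have hxz : Commute x (z : G) := Subgroup.mem_centralizer_iff.1 z.2 x rfl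
  have hmem : g⁻¹ * x * g ∈ Subgroup.centralizer ({y} : Set G) := by
    refine Subgroup.mem_centralizer_iff.2 fun a ha => ?_
    rw [Set.mem_singleton_iff.1 ha]
    have hc : Commute x (g * y * g⁻¹) := hi ▸ hxz.zpow_right i
    calc y * (g⁻¹ * x * g) = g⁻¹ * (g * y * g⁻¹ * x) * g := by group
      _ = g⁻¹ * (x * (g * y * g⁻¹)) * g := by rw [hc.eq]
      _ = g⁻¹ * x * g * y := by group
  have hd : p ∣ q * l := by
    rw [← hl, ← hx]
    have := Subgroup.orderOf_dvd_natCard _ hmem
    rwa [show g⁻¹ * x * g = MulAut.conj g⁻¹ x by simp, MulEquiv.orderOf_eq] at this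
  exact (hp.out.dvd_mul.1 hd).resolve_left fun e => hpq ((Nat.prime_dvd_prime_iff_eq hp.out hq.out).1 e)

theorem card_not_dvd_le (hp2 : ¬ p ^ 2 ∣ Nat.card G) {x : G} (hx : orderOf x = p) {k : ℕ}
    (hk : Nat.card (Subgroup.centralizer ({x} : Set G)) = p * k) :
    Nat.card {u : Subgroup.centralizer ({x} : Set G) // ¬ p ∣ orderOf u} ≤ k := by
  set C := Subgroup.centralizer ({x} : Set G) with hC
  have hxC : x ∈ C := Subgroup.mem_centralizer_iff.2 fun a ha => by rw [Set.mem_singleton_iff.1 ha]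
  set P : Subgroup C := Subgroup.zpowers ⟨x, hxC⟩ with hP
  have hPk : Nat.card (C ⧸ P) = k := by
    have h := P.card_mul_index
    rw [Nat.card_zpowers, Subgroup.orderOf_mk, hx, hk, Subgroup.index_eq_card] at h
    exact Nat.eq_of_mul_eq_mul_left hp.out.pos h
  rw [← hPk]
  refine Nat.card_le_card_of_injective (fun u => (QuotientGroup.mk u.1 : C ⧸ P)) fun u v h => ?_
  obtain ⟨i, hi⟩ := Subgroup.mem_zpowers_iff.1 (QuotientGroup.eq.1 h)
  set r : C := (⟨x, hxC⟩ : C) ^ i with hr
  have hru : Commute u.1 r := by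
    refine Commute.zpow_right (Subtype.ext ?_) i
    exact (Subgroup.mem_centralizer_iff.1 u.1.2 x rfl).symm
  have hv : v.1 = u.1 * r := by rw [hi, mul_inv_cancel_left]
  have hm : r ^ (orderOf u.1 * orderOf v.1) = 1 := by
    have e : v.1 ^ (orderOf u.1 * orderOf v.1) = 1 := by
      rw [mul_comm, pow_mul, pow_orderOf_eq_one, one_pow]
    rw [hv, hru.mul_pow, ← hv, pow_mul, pow_orderOf_eq_one, one_pow, one_mul] at e
    exact e
  have hrp : r ^ p = 1 := by
    rw [hr, ← zpow_natCast, ← zpow_mul, mul_comm, zpow_mul, zpow_natCast]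
    have : (⟨x, hxC⟩ : C) ^ p = 1 := Subtype.ext (by
      simpa using (hx ▸ pow_orderOf_eq_one x : x ^ p = 1))
    rw [this, one_zpow]
  have hcop : Nat.Coprime (orderOf u.1 * orderOf v.1) p :=
    (((hp.out.coprime_iff_not_dvd).2 u.2).mul_right ((hp.out.coprime_iff_not_dvd).2 v.2)).symm
  have h1 : r = 1 := orderOf_eq_one_iff.1 (Nat.eq_one_of_dvd_coprimes hcop
    (orderOf_dvd_of_pow_eq_one hm) (orderOf_dvd_of_pow_eq_one hrp))
  exact Subtype.ext (by rw [hv, h1, mul_one])

/-- Elements whose order is divisible by `p` and by no prime of `S`. -/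
def el (p : ℕ) (S : List ℕ) : Set G := {u | p ∣ orderOf u ∧ ∀ q ∈ S, ¬ q ∣ orderOf u}

theorem card_el (hp2 : ¬ p ^ 2 ∣ Nat.card G) {x : G} (hx : orderOf x = p) {k : ℕ}
    (hk : Nat.card (Subgroup.centralizer ({x} : Set G)) = p * k) (S : List ℕ)
    (hS : ∀ q ∈ S, q.Prime ∧ q ≠ p) :
    Nat.card (Sylow p G) * ((p - 1) * if S.all (fun q => k % q != 0) then k else 1) ≤
      Nat.card (el (G := G) p S) := by
  classical
  have := Fintype.ofFinite G
  set A : Sylow p G → Finset G := fun R =>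
    Finset.univ.filter fun u => p ∣ orderOf u ∧ (∀ q ∈ S, ¬ q ∣ orderOf u) ∧
      ∀ r ∈ (R : Subgroup G), r * u = u * r with hA
  have hdis : ∀ R R' : Sylow p G, R ≠ R' → Disjoint (A R) (A R') := by
    intro R R' hne
    rw [Finset.disjoint_left]
    intro u hu hu'
    simp only [hA, Finset.mem_filter, Finset.mem_univ, true_and] at hu hu'
    set v := u ^ (orderOf u / p) with hv
    have hvo : orderOf v = p := by
      rw [hv, orderOf_pow_of_dvd (Nat.div_pos (Nat.le_of_dvd (orderOf_pos u) hu.1) hp.out.pos).ne'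
        (Nat.div_dvd_of_dvd hu.1), Nat.div_div_self hu.1 (orderOf_pos u).ne']
    have key : ∀ Q : Sylow p G, (∀ r ∈ (Q : Subgroup G), r * u = u * r) → Q = syl hp2 hvo := by
      intro Q hQ
      have hn : (Q : Subgroup G) ≤ Subgroup.normalizer ((syl hp2 hvo : Subgroup G) : Set G) := by
        intro r hr
        rw [coe_syl]
        have hc : Commute r v := (show Commute r u from hQ r hr).pow_right _
        refine Subgroup.mem_normalizer_iff.2 fun a => ?_
        constructor
        · intro ha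
          obtain ⟨i, rfl⟩ := Subgroup.mem_zpowers_iff.1 ha
          rw [(hc.zpow_right i).eq, mul_inv_cancel_right]
          exact Subgroup.zpow_mem_zpowers _ _
        · intro ha
          obtain ⟨i, hi⟩ := Subgroup.mem_zpowers_iff.1 ha
          have : a = v ^ i := mul_left_cancel (a := r) (by
            rw [(hc.zpow_right i).eq, hi, inv_mul_cancel_right])
          exact this ▸ Subgroup.zpow_mem_zpowers _ _
      have e : (Q : Subgroup G) ⊔ (syl hp2 hvo : Subgroup G) = Q :=
        Q.is_maximal' (IsPGroup.to_sup_of_normal_right' Q.isPGroup' (syl hp2 hvo).isPGroup' hn) le_sup_left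
      exact Sylow.ext ((syl hp2 hvo).is_maximal' Q.isPGroup' (sup_eq_left.1 e))
    exact hne ((key R hu.2.2).trans (key R' hu'.2.2).symm)
  have hone : ∀ R : Sylow p G,
      ((p - 1) * if S.all (fun q => k % q != 0) then k else 1) ≤ (A R).card := by
    intro R
    obtain ⟨g, hg⟩ := MulAction.exists_smul_eq G R (syl hp2 hx)
    -- elements of the centralizer of `x`
    let T : Finset G := Finset.univ.filter fun u =>
      p ∣ orderOf u ∧ (∀ q ∈ S, ¬ q ∣ orderOf u) ∧ x * u = u * x
    have hT : ((p - 1) * if S.all (fun q => k % q != 0) then k else 1) ≤ T.card := by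
      by_cases hall : S.all (fun q => k % q != 0) = true
      · rw [if_pos hall]
        let C := Subgroup.centralizer ({x} : Set G)
        have h1 : Nat.card {u : C // ¬ p ∣ orderOf u} ≤ k := card_not_dvd_le hp2 hx hk
        have h2 : Nat.card C = Nat.card {u : C // p ∣ orderOf u} + Nat.card {u : C // ¬ p ∣ orderOf u} := by
          rw [← Nat.card_sum]
          exact (Nat.card_congr (Equiv.sumCompl fun u : C => p ∣ orderOf u)).symm
        have h3 : Nat.card {u : C // p ∣ orderOf u} ≤ T.card := by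
          rw [← Nat.card_eq_finsetCard]
          refine Nat.card_le_card_of_injective (fun u => (⟨(u.1 : G), ?_⟩ : T)) fun u v h => ?_
          · simp only [T, Finset.mem_filter, Finset.mem_univ, true_and]
            refine ⟨by rw [Subgroup.orderOf_coe]; exact u.2, fun q hq hd => ?_,
              Subgroup.mem_centralizer_iff.1 u.1.2 x rfl⟩
            have hd' : q ∣ p * k := hk ▸ hd.trans (by
              rw [Subgroup.orderOf_coe]; exact orderOf_dvd_natCard u.1)
            have hqk : ¬ q ∣ k := fun hh => by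
              have := List.all_eq_true.1 hall q hq
              simp [Nat.mod_eq_zero_of_dvd hh] at this
            rcases (hS q hq).1.dvd_mul.1 hd' with hh | hh
            · exact (hS q hq).2 ((Nat.prime_dvd_prime_iff_eq (hS q hq).1 hp.out).1 hh)
            · exact hqk hh
          · exact Subtype.ext (Subtype.ext (congrArg (fun w : T => (w : G)) h))
        rw [show Nat.card C = p * k from hk] at h2
        rw [Nat.sub_mul, one_mul]
        omega
      · rw [if_neg hall, mul_one]
        have hsub : (Finset.univ.filter fun u : G => u ∈ Subgroup.zpowers x ∧ u ≠ 1) ⊆ T := by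
          intro u hu
          simp only [Finset.mem_filter, Finset.mem_univ, true_and] at hu
          have ho : orderOf u = p := by
            have := Subgroup.orderOf_dvd_natCard _ hu.1
            rw [Nat.card_zpowers, hx] at this
            exact ((Nat.dvd_prime hp.out).1 this).resolve_left fun e => hu.2 (orderOf_eq_one_iff.1 e)
          simp only [T, Finset.mem_filter, Finset.mem_univ, true_and, ho]
          obtain ⟨i, rfl⟩ := Subgroup.mem_zpowers_iff.1 hu.1
          exact ⟨dvd_rfl, fun q hq hd => (hS q hq).2 ((Nat.prime_dvd_prime_iff_eq (hS q hq).1 hp.out).1 hd),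
            ((Commute.refl x).zpow_right i).eq⟩
        refine le_trans (le_of_eq ?_) (Finset.card_le_card hsub)
        rw [show (Finset.univ.filter fun u : G => u ∈ Subgroup.zpowers x ∧ u ≠ 1) =
          (Finset.univ.filter fun u : G => u ∈ Subgroup.zpowers x).erase 1 by ext; simp [and_comm],
          Finset.card_erase_of_mem (by simp [one_mem]), ← Fintype.card_subtype, ← Nat.card_eq_fintype_card,
          show Nat.card {u : G // u ∈ Subgroup.zpowers x} = p from (Nat.card_zpowers x).trans hx]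
    refine hT.trans (Finset.card_le_card_of_injOn (fun u => g⁻¹ * u * g) (fun u hu => ?_)
      (fun u _ v _ h => by simpa using h))
    have hu' : u ∈ T := hu
    simp only [T, Finset.mem_filter, Finset.mem_univ, true_and] at hu'
    simp only [hA, Finset.coe_filter, Finset.mem_univ, true_and, Set.mem_ofPred_eq, Set.mem_setOf_eq]
    have ho : orderOf (g⁻¹ * u * g) = orderOf u := by
      rw [show g⁻¹ * u * g = MulAut.conj g⁻¹ u by simp, MulEquiv.orderOf_eq]
    rw [ho]
    refine ⟨hu'.1, hu'.2.1, fun r hr => ?_⟩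
    have hm : g * r * g⁻¹ ∈ ((g • R : Sylow p G) : Subgroup G) := by
      rw [Sylow.coe_subgroup_smul, Subgroup.mem_pointwise_smul_iff_inv_smul_mem]
      simpa [MulAut.smul_def, mul_assoc] using hr
    rw [hg, coe_syl] at hm
    obtain ⟨i, hi⟩ := Subgroup.mem_zpowers_iff.1 hm
    have hc : Commute (g * r * g⁻¹) u := hi ▸ (show Commute x u from hu'.2.2).zpow_left i
    calc r * (g⁻¹ * u * g) = g⁻¹ * (g * r * g⁻¹ * u) * g := by group
      _ = g⁻¹ * (u * (g * r * g⁻¹)) * g := by rw [hc.eq]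
      _ = g⁻¹ * u * g * r := by group
  have := Fintype.ofFinite (Sylow p G)
  have hb : (Finset.univ.biUnion A).card = ∑ R, (A R).card :=
    Finset.card_biUnion fun R _ R' _ h => hdis R R' h
  have hsum : Nat.card (Sylow p G) * ((p - 1) * if S.all (fun q => k % q != 0) then k else 1) ≤
      ∑ R, (A R).card := by
    rw [Nat.card_eq_fintype_card, ← Finset.card_univ, ← smul_eq_mul]
    exact Finset.card_nsmul_le_sum _ _ _ fun R _ => hone R
  refine hsum.trans (hb ▸ ?_)
  rw [Nat.card_coe_set_eq, ← Set.ncard_coe_finset]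
  refine Set.ncard_le_ncard (fun u hu => ?_) (Set.toFinite _)
  simp only [Finset.coe_biUnion, Finset.coe_univ, Set.mem_univ, Set.iUnion_true, Set.mem_iUnion,
    Finset.mem_coe, hA, Finset.mem_filter, Finset.mem_univ, true_and] at hu
  obtain ⟨R, h1, h2, -⟩ := hu
  exact ⟨h1, h2⟩

end

/-! ## Sylow `19`-subgroups in simple groups -/

section
variable {G : Type*} [Group G] [Finite G]

theorem perm_facts [IsSimpleGroup G] [Fact (Nat.Prime 19)] (hp2 : ¬ 19 ^ 2 ∣ Nat.card G) {x : G}
    (hx : orderOf x = 19) (hn : Nat.card (Sylow 19 G) ≠ 1) :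
    Function.Injective (MulAction.toPermHom G (Sylow 19 G)) ∧
      ∀ Q : Sylow 19 G, x • Q = Q → Q = syl hp2 hx := by
  refine ⟨?_, fun Q hQ => ?_⟩
  · rcases IsSimpleGroup.eq_bot_or_eq_top_of_normal (MulAction.toPermHom G (Sylow 19 G)).ker
      inferInstance with e | e
    · exact (MonoidHom.ker_eq_bot_iff _).1 e
    · exfalso
      refine hn (Nat.card_eq_one_iff_unique.2 ⟨⟨fun P Q => ?_⟩, inferInstance⟩)
      obtain ⟨g, rfl⟩ := MulAction.exists_smul_eq G P Q
      have hg : g ∈ (MulAction.toPermHom G (Sylow 19 G)).ker := e ▸ Subgroup.mem_top g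
      exact (congrArg (fun σ : Equiv.Perm (Sylow 19 G) => σ P) hg).symm
  · have hxN := Sylow.smul_eq_iff_mem_normalizer.1 hQ
    have hzp : IsPGroup 19 (Subgroup.zpowers x) := (syl hp2 hx).isPGroup'
    have hle : Subgroup.zpowers x ≤ (Q : Subgroup G) := by
      have h := hzp.inf_normalizer_sylow Q
      intro y hy
      have hy' : y ∈ Subgroup.zpowers x ⊓ Subgroup.normalizer ((Q : Subgroup G) : Set G) :=
        ⟨hy, (Subgroup.zpowers_le.2 hxN) hy⟩
      exact ((h ▸ hy' : y ∈ Subgroup.zpowers x ⊓ (Q : Subgroup G))).2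
    exact Sylow.ext ((syl hp2 hx).is_maximal' Q.isPGroup' hle)

theorem prime_in_centralizer [IsSimpleGroup G] [Fact (Nat.Prime 19)] (hp2 : ¬ 19 ^ 2 ∣ Nat.card G)
    {x y : G} (hx : orderOf x = 19) {q : ℕ} [Fact q.Prime] (hq19 : q ≠ 19) (hy : orderOf y = q)
    (hxy : Commute x y) (hn : Nat.card (Sylow 19 G) ≠ 1) :
    ∃ j, 1 ≤ j ∧ 19 * j < Nat.card (Sylow 19 G) ∧ q ∣ j := by
  classical
  have := Fintype.ofFinite (Sylow 19 G)
  obtain ⟨hinj, huniq⟩ := perm_facts hp2 hx hn
  set f := MulAction.toPermHom G (Sylow 19 G)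
  set F := (f y).supportᶜ with hF
  have hFmem : ∀ Q, Q ∈ F ↔ y • Q = Q := fun Q => by
    rw [hF, Finset.mem_compl, Equiv.Perm.notMem_support]; rfl
  have hinv : ∀ Q, x • Q ∈ F ↔ Q ∈ F := fun Q => by
    rw [hFmem, hFmem, smul_smul, ← hxy.eq, ← smul_smul, smul_left_cancel_iff]
  let τ : Equiv.Perm {Q // Q ∈ F} := (f x).subtypePerm fun Q => hinv Q
  have hy1 : f y ≠ 1 := fun e => by
    have : y = 1 := hinj (e.trans (map_one f).symm)
    rw [this, orderOf_one] at hy
    exact (Fact.out : q.Prime).one_lt.ne hy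
  have hFlt : F.card < Nat.card (Sylow 19 G) := by
    rw [hF, Finset.card_compl, Nat.card_eq_fintype_card]
    have := Equiv.Perm.one_lt_card_support_of_ne_one hy1
    have := (f y).support.card_le_univ
    omega
  have h1 : F.card ≡ Fintype.card (Sylow 19 G) [MOD q] := by
    refine Equiv.Perm.card_compl_support_modEq (n := 1) ?_
    rw [pow_one, ← map_pow, ← hy, pow_orderOf_eq_one, map_one]
  have hP : syl hp2 hx ∈ F := by
    rw [hFmem, Sylow.smul_eq_iff_mem_normalizer]
    show y ∈ Subgroup.normalizer (Subgroup.zpowers x : Set G)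
    refine Subgroup.mem_normalizer_iff.2 fun a => ?_
    constructor
    · intro ha
      obtain ⟨i, rfl⟩ := Subgroup.mem_zpowers_iff.1 ha
      rw [((hxy.zpow_left i).symm).eq, mul_inv_cancel_right]
      exact Subgroup.zpow_mem_zpowers _ _
    · intro ha
      obtain ⟨i, hi⟩ := Subgroup.mem_zpowers_iff.1 ha
      have : a = x ^ i := mul_left_cancel (a := y) (by
        rw [((hxy.zpow_left i).symm).eq, hi, inv_mul_cancel_right])
      exact this ▸ Subgroup.zpow_mem_zpowers _ _
  have h2 : τ.supportᶜ.card = 1 := by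
    rw [Finset.card_eq_one]
    refine ⟨⟨syl hp2 hx, hP⟩, ?_⟩
    ext ⟨Q, hQ⟩
    rw [Finset.mem_compl, Equiv.Perm.notMem_support, Finset.mem_singleton]
    constructor
    · intro h
      exact Subtype.ext (huniq Q (congrArg Subtype.val h))
    · intro h
      rw [h]
      refine Subtype.ext ?_
      show x • syl hp2 hx = syl hp2 hx
      rw [Sylow.smul_eq_iff_mem_normalizer]
      exact Subgroup.le_normalizer (Subgroup.mem_zpowers x)
  have h3 : 1 ≡ F.card [MOD 19] := by
    rw [← h2, ← Fintype.card_coe F]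
    refine Equiv.Perm.card_compl_support_modEq (n := 1) ?_
    refine Equiv.ext fun Q => Subtype.ext ?_
    have hpow : ∀ m : ℕ, ((τ ^ m) Q).1 = (f x ^ m) Q.1 := by
      intro m
      induction m with
      | zero => rfl
      | succ m ih =>
        rw [pow_succ', pow_succ', Equiv.Perm.mul_apply, Equiv.Perm.mul_apply, ← ih]
        rfl
    rw [pow_one, hpow]
    show (f x ^ 19) Q.1 = Q.1
    rw [← map_pow, orderOf_dvd_iff_pow_eq_one.1 (dvd_of_eq hx), map_one]; rfl
  have h4 : Fintype.card (Sylow 19 G) ≡ 1 [MOD 19] := Nat.card_eq_fintype_card (α := Sylow 19 G) ▸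
    card_sylow_modEq_one 19 G
  rw [Nat.card_eq_fintype_card] at hFlt ⊢
  obtain ⟨j, hj⟩ := (Nat.modEq_iff_dvd' hFlt.le).1 (h3.symm.trans h4.symm)
  have hqj : q ∣ 19 * j := hj ▸ (Nat.modEq_iff_dvd' hFlt.le).1 h1
  have hFpos : 0 < F.card := Finset.card_pos.2 ⟨_, hP⟩
  refine ⟨j, ?_, by omega, ?_⟩
  · by_contra h0
    obtain rfl : j = 0 := by omega
    omega
  · exact ((Fact.out : q.Prime).dvd_mul.1 hqj).resolve_left fun e =>
      hq19 ((Nat.prime_dvd_prime_iff_eq Fact.out (by norm_num)).1 e)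

theorem no_inverting [IsSimpleGroup G] [Fact (Nat.Prime 19)] (hp2 : ¬ 19 ^ 2 ∣ Nat.card G) {x t : G}
    (hx : orderOf x = 19) (ht : orderOf t = 2) (hinv : t * x * t⁻¹ = x⁻¹)
    (hn : Nat.card (Sylow 19 G) = 20) : False := by
  classical
  have := Fintype.ofFinite (Sylow 19 G)
  obtain ⟨hinj, huniq⟩ := perm_facts hp2 hx (by omega)
  set f := MulAction.toPermHom G (Sylow 19 G)
  set P := syl hp2 hx
  have hfix : ∀ Q : Sylow 19 G, Function.IsFixedPt (f t) Q ↔ t • Q = Q := fun Q => Iff.rfl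
  have htP : t • P = P := by
    rw [Sylow.smul_eq_iff_mem_normalizer]
    show t ∈ Subgroup.normalizer (Subgroup.zpowers x : Set G)
    refine Subgroup.mem_normalizer_iff.2 fun a => ?_
    have key : ∀ a ∈ Subgroup.zpowers x, t * a * t⁻¹ ∈ Subgroup.zpowers x := fun a ha => by
      obtain ⟨i, rfl⟩ := Subgroup.mem_zpowers_iff.1 ha
      rw [← conj_zpow, hinv]
      exact zpow_mem (inv_mem (Subgroup.mem_zpowers x)) i
    refine ⟨key a, fun ha => ?_⟩
    have h := key _ ha
    have ht' : t⁻¹ = t := inv_eq_of_mul_eq_one_right (by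
      rw [← pow_two, ← ht, pow_orderOf_eq_one])
    rw [ht'] at h
    rwa [show t * (t * a * t) * t = (t * t) * a * (t * t) by group,
      show t * t = 1 by rw [← pow_two, ← ht, pow_orderOf_eq_one], one_mul, mul_one] at h
  have hle : Fintype.card (Function.fixedPoints (f t)) ≤ 2 := by
    by_contra hgt
    obtain ⟨⟨Q, hQ⟩, hQP⟩ := Fintype.exists_ne_of_one_lt_card (show 1 < Fintype.card (Function.fixedPoints (f t)) by omega)
      (⟨P, htP⟩ : Function.fixedPoints (f t))
    have hQP' : Q ≠ P := fun e => hQP (Subtype.ext e)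
    let orb : Fin 19 → Sylow 19 G := fun i => x ^ (i : ℕ) • Q
    have hinjo : Function.Injective orb := by
      intro i j h
      by_contra hij
      wlog hlt : (i : ℕ) < (j : ℕ) generalizing i j
      · exact this h.symm (Ne.symm hij) (by
          have : (i : ℕ) ≠ (j : ℕ) := fun e => hij (Fin.ext e)
          omega)
      have h' : x ^ ((j : ℕ) - (i : ℕ)) • Q = Q := by
        apply smul_left_cancel (x ^ (i : ℕ))
        rw [smul_smul, ← pow_add, show (i : ℕ) + ((j : ℕ) - i) = j by omega]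
        exact h.symm
      have hstab : x ∈ MulAction.stabilizer G Q := by
        have hm : x ^ ((j : ℕ) - (i : ℕ)) ∈ MulAction.stabilizer G Q := h'
        obtain ⟨s, hs⟩ := exists_pow_eq_self_of_coprime (x := x) (n := (j : ℕ) - (i : ℕ)) (by
          rw [hx]
          refine ((Nat.Prime.coprime_iff_not_dvd (by norm_num)).2 fun hd => ?_).symm
          have := Nat.le_of_dvd (by omega) hd
          have := j.2
          omega)
        exact hs ▸ pow_mem hm s
      exact hQP' (huniq Q hstab)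
    have himg : (Finset.univ.image orb) = Finset.univ.erase P := by
      refine Finset.eq_of_subset_of_card_le (fun R hR => ?_) ?_
      · obtain ⟨i, -, rfl⟩ := Finset.mem_image.1 hR
        refine Finset.mem_erase.2 ⟨fun e => hQP' ?_, Finset.mem_univ _⟩
        have hxP : x ∈ MulAction.stabilizer G P :=
          Sylow.smul_eq_iff_mem_normalizer.2 (Subgroup.le_normalizer (Subgroup.mem_zpowers x))
        exact smul_left_cancel _ (e.trans (pow_mem hxP (i : ℕ) : x ^ (i : ℕ) • P = P).symm)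
      · rw [Finset.card_image_of_injective _ hinjo, Finset.card_erase_of_mem (Finset.mem_univ _),
          Finset.card_univ, ← Nat.card_eq_fintype_card, hn, Finset.card_univ, Fintype.card_fin]
    have hsub : Set.toFinset (Function.fixedPoints (f t)) ⊆ {P, Q} := by
      intro R hR
      rw [Set.mem_toFinset] at hR
      rw [Finset.mem_insert, Finset.mem_singleton]
      by_cases hRP : R = P
      · exact Or.inl hRP
      right
      obtain ⟨i, -, rfl⟩ := Finset.mem_image.1
        (himg.symm ▸ Finset.mem_erase.2 ⟨hRP, Finset.mem_univ R⟩ : R ∈ Finset.univ.image orb)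
      have h' : t • x ^ (i : ℕ) • Q = x ^ (i : ℕ) • Q := hR
      have hQ' : t • Q = Q := hQ
      have e : t * x ^ (i : ℕ) = (x ^ (i : ℕ))⁻¹ * t := by
        rw [← inv_pow, ← hinv, conj_pow, inv_mul_cancel_right]
      rw [smul_smul, e, ← smul_smul, hQ', inv_smul_eq_iff, smul_smul, ← pow_add] at h'
      have h19 : i = 0 := by
        by_contra hi
        have hm : x ^ ((i : ℕ) + i) ∈ MulAction.stabilizer G Q := h'.symm
        obtain ⟨s, hs⟩ := exists_pow_eq_self_of_coprime (x := x) (n := (i : ℕ) + i) (by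
          rw [hx]
          refine ((Nat.Prime.coprime_iff_not_dvd (by norm_num)).2 fun hd => ?_).symm
          have h2 : (19 : ℕ) ∣ i := by omega
          have := Nat.le_of_dvd (Nat.pos_of_ne_zero fun e0 => hi (Fin.ext e0)) h2
          have := i.2
          omega)
        exact hQP' (huniq Q (hs ▸ pow_mem hm s))
      subst h19
      simp [orb]
    have := (Finset.card_le_card hsub).trans Finset.card_le_two
    rw [Set.toFinset_card] at this
    omega
  have hpos : 0 < Fintype.card (Function.fixedPoints (f t)) := Fintype.card_pos_iff.2 ⟨⟨P, htP⟩⟩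
  have hσ2 : (f t) ^ 2 = 1 := by rw [← map_pow, ← ht, pow_orderOf_eq_one, map_one]
  have hmod := Equiv.Perm.card_compl_support_modEq (p := 2) (n := 1) (σ := f t) (by rwa [pow_one])
  have hcs : (f t).supportᶜ.card = Fintype.card (Function.fixedPoints (f t)) := by
    rw [← Set.toFinset_card]
    congr 1
    ext R
    simp [Function.mem_fixedPoints, Function.IsFixedPt]
  rw [hcs, ← Nat.card_eq_fintype_card (α := Sylow 19 G), hn] at hmod
  have h2 : Fintype.card (Function.fixedPoints (f t)) = 2 := by unfold Nat.ModEq at hmod; omega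
  have hsign : Equiv.Perm.sign (f t) = -1 := by
    rw [Equiv.Perm.sign_of_pow_two_eq_one hσ2, h2, ← Nat.card_eq_fintype_card (α := Sylow 19 G), hn]
    decide
  rcases IsSimpleGroup.eq_bot_or_eq_top_of_normal ((Equiv.Perm.sign).comp f).ker inferInstance with e | e
  · have hc := Nat.card_le_card_of_injective _ ((MonoidHom.ker_eq_bot_iff _).1 e)
    rw [Nat.card_eq_fintype_card (α := ℤˣ), Fintype.card_units_int] at hc
    have h19 := Subgroup.orderOf_dvd_natCard (⊤ : Subgroup G) (Subgroup.mem_top x)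
    rw [Subgroup.card_top, hx] at h19
    have := Nat.le_of_dvd Nat.card_pos h19
    omega
  · have ht' : t ∈ ((Equiv.Perm.sign).comp f).ker := e ▸ Subgroup.mem_top t
    rw [MonoidHom.mem_ker, MonoidHom.comp_apply, hsign] at ht'
    exact absurd ht' (by decide)

theorem profile [IsSimpleGroup G] {p : ℕ} (hp : p.Prime) (hg : Nat.card G ∣ 175560) (hp3 : 3 ≤ p)
    (hsq : ¬ p ^ 2 ∣ Nat.card G) (hpg : p ∣ Nat.card G) (hne : Nat.card G ≠ p)
    (hne1 : ∀ h : Fact p.Prime, Nat.card (Sylow p G) ≠ 1) :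
    ∃ (x : G) (n k : ℕ), orderOf x = p ∧ Nat.card (Subgroup.centralizer ({x} : Set G)) = p * k ∧
      n = Nat.card (Sylow p G) ∧ (n, k) ∈ cand (Nat.card G) p := by
  have := Fact.mk hp
  obtain ⟨x, hx⟩ := exists_prime_orderOf_dvd_card' p hpg
  obtain ⟨e, hed, helt, hN, hmul⟩ := card_sylow_mul hsq hx
  set C := Subgroup.centralizer ({x} : Set G)
  obtain ⟨k, hk⟩ : p ∣ Nat.card C := hx ▸ Subgroup.orderOf_dvd_natCard C
    (Subgroup.mem_centralizer_iff.2 fun a ha => by rw [Set.mem_singleton_iff.1 ha])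
  set n := Nat.card (Sylow p G) with hn
  have hmul' : n * (p * (e * k)) = Nat.card G := by rw [← hmul, hN, hk]; ring
  have hn1 := hne1 inferInstance
  have hn2 : 2 ≤ n := by
    have : 0 < n := Nat.card_pos
    omega
  have he2 : 2 ≤ e := by
    rcases e with _ | _ | e
    · exfalso
      rw [zero_mul] at hN
      exact absurd hN Nat.card_pos.ne'
    · exact (e_ne_one hsq hx hne hN).elim
    · omega
  have hmod : n % p = 1 := by
    have h := card_sylow_modEq_one p G
    unfold Nat.ModEq at h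
    rw [← hn] at h
    rw [h, Nat.mod_eq_of_lt hp.one_lt]
  refine ⟨x, n, k, hx, hk, rfl, mem_cand hg hp.pos hpg helt hmul' hmod hn2 he2 hed ?_ ?_⟩
  · rintro rfl hn20
    have hk1 : k = 1 := by
      by_contra hk1
      obtain ⟨q, hq, hqk⟩ := Nat.exists_prime_and_dvd hk1
      have := Fact.mk hq
      obtain ⟨y, hy⟩ := exists_prime_orderOf_dvd_card' (G := C) q (hk ▸ dvd_mul_of_dvd_right hqk _)
      have hq19 : q ≠ 19 := by
        rintro rfl
        exact hsq (by rw [← hmul']; exact dvd_mul_of_dvd_right (by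
          rw [pow_two]; exact Nat.mul_dvd_mul_left 19 (dvd_mul_of_dvd_right hqk e)) n)
      obtain ⟨j, hj1, hj2, hqj⟩ := prime_in_centralizer hsq hx hq19 (y := (y : G))
        (by rw [Subgroup.orderOf_coe, hy]) (Subgroup.mem_centralizer_iff.1 y.2 x rfl) (by omega)
      have := Nat.le_of_dvd hj1 hqj
      have := hq.two_le
      omega
    subst hk1
    refine ⟨rfl, ?_⟩
    by_contra hev
    have : Fact (Nat.Prime 2) := ⟨Nat.prime_two⟩
    obtain ⟨t, ht⟩ := exists_prime_orderOf_dvd_card'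
      (G := Subgroup.normalizer (Subgroup.zpowers x : Set G)) 2
      (by rw [hN, hk]; exact dvd_mul_of_dvd_left (by omega) _)
    have hto : orderOf (t : G) = 2 := by rw [Subgroup.orderOf_coe, ht]
    obtain ⟨i, hi⟩ := Subgroup.mem_zpowers_iff.1
      ((Subgroup.mem_normalizer_iff.1 t.2 x).1 (Subgroup.mem_zpowers x))
    have ht2 : (t : G) * t = 1 := by rw [← pow_two, ← hto, pow_orderOf_eq_one]
    have hx1 : x ^ (i * i) = x := by
      rw [zpow_mul, hi, conj_zpow, hi,
        show (t : G) * ((t : G) * x * (t : G)⁻¹) * (t : G)⁻¹ = (t : G) * t * x * ((t : G) * t)⁻¹ by group,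
        ht2, one_mul, inv_one, mul_one]
    have hdvd : (19 : ℤ) ∣ (i - 1) * (i + 1) := by
      have h' : x ^ (i * i - 1) = 1 := by rw [zpow_sub, hx1, zpow_one, mul_inv_cancel]
      have := orderOf_dvd_iff_zpow_eq_one.2 h'
      rw [hx] at this
      rw [show (i - 1) * (i + 1) = i * i - 1 by ring]
      exact this
    rcases (Nat.prime_iff_prime_int.1 hp).dvd_mul.1 hdvd with h | h
    · have hc : x ^ i = x := by
        obtain ⟨c, hc⟩ := h
        rw [show i = 1 + 19 * c by omega, zpow_add, zpow_one, zpow_mul,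
          show ((19 : ℤ)) = ((19 : ℕ) : ℤ) from rfl, zpow_natCast, ← hx, pow_orderOf_eq_one, one_zpow,
          mul_one]
      have htC : (t : G) ∈ C := Subgroup.mem_centralizer_iff.2 fun a ha => by
        rw [Set.mem_singleton_iff.1 ha]
        rw [hi, mul_inv_eq_iff_eq_mul] at hc
        exact hc.symm
      have := Subgroup.orderOf_dvd_natCard C htC
      rw [hto, hk] at this
      omega
    · have hc : x ^ i = x⁻¹ := by
        obtain ⟨c, hc⟩ := h
        rw [show i = -1 + 19 * c by omega, zpow_add, zpow_neg_one, zpow_mul,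
          show ((19 : ℤ)) = ((19 : ℕ) : ℤ) from rfl, zpow_natCast, ← hx, pow_orderOf_eq_one, one_zpow,
          mul_one]
      exact no_inverting hsq hx hto (hi ▸ hc) hn20
  · rintro rfl hn77
    have hk' : k ∣ 24 * 385 := by
      have h2 : 19 * k ∣ 19 * (24 * 385) := by
        refine dvd_trans ?_ (show Nat.card G ∣ 19 * (24 * 385) from hg)
        exact hk ▸ Subgroup.card_subgroup_dvd_card C
      exact Nat.dvd_of_mul_dvd_mul_left (by norm_num) h2
    refine (Nat.Coprime.dvd_of_dvd_mul_right ?_ hk')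
    rw [show 385 = 5 * 7 * 11 from rfl, Nat.coprime_mul_iff_right, Nat.coprime_mul_iff_right]
    have key : ∀ q : ℕ, q.Prime → 5 ≤ q → q ≠ 19 → Nat.Coprime k q := by
      intro q hq h5 hq19
      refine ((Nat.Prime.coprime_iff_not_dvd hq).2 fun hqk => ?_).symm
      have := Fact.mk hq
      obtain ⟨y, hy⟩ := exists_prime_orderOf_dvd_card' (G := C) q (hk ▸ dvd_mul_of_dvd_right hqk _)
      obtain ⟨j, hj1, hj2, hqj⟩ := prime_in_centralizer hsq hx hq19 (y := (y : G))
        (by rw [Subgroup.orderOf_coe, hy]) (Subgroup.mem_centralizer_iff.1 y.2 x rfl) (by omega)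
      have := Nat.le_of_dvd hj1 hqj
      omega
    exact ⟨⟨key 5 (by norm_num) le_rfl (by norm_num), key 7 (by norm_num) (by norm_num) (by norm_num)⟩,
      key 11 (by norm_num) (by norm_num) (by norm_num)⟩

theorem sq_free {p : ℕ} (hp : p.Prime) (h2 : p ≠ 2) {g : ℕ} (hg : g ∣ 175560) : ¬ p ^ 2 ∣ g := by
  intro h
  have h' : p ^ 2 ∣ 21945 * 8 := h.trans hg
  have h3 : p ^ 2 ∣ 21945 := (Nat.Coprime.dvd_of_dvd_mul_right
    ((Nat.coprime_primes hp Nat.prime_two).2 h2 |>.pow 2 3) h')
  have hs : Squarefree 21945 := by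
    rw [show 21945 = 3 * (5 * (7 * (11 * 19))) from rfl]
    repeat' rw [Nat.squarefree_mul (by norm_num)]
    refine ⟨?_, ?_, ?_, ?_, ?_⟩ <;> exact (by norm_num : Nat.Prime _).squarefree
  exact hp.one_lt.ne' (Nat.isUnit_iff.1 (hs p (by rw [← pow_two]; exact h3)))

theorem not_simple [IsSimpleGroup G] [Fact (Nat.Prime 19)] {d : ℕ} (hd : d ∣ 9240) (hne : d ≠ 9240)
    (hcard : Nat.card G = 19 * d) (hn : Nat.card (Sylow 19 G) ≠ 1) : False := by
  classical
  have hg : Nat.card G ∣ 175560 := by rw [hcard]; exact Nat.mul_dvd_mul_left 19 hd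
  have hsyl : ∀ p : ℕ, p.Prime → Nat.card G ≠ p := by
    intro p hp e
    refine hn (Nat.card_eq_one_iff_unique.2 ⟨?_, inferInstance⟩)
    have h19 : p = 19 := ((Nat.prime_dvd_prime_iff_eq (by norm_num) hp).1 (e ▸ hcard ▸ dvd_mul_right 19 d)).symm
    have hG : IsPGroup 19 G := IsPGroup.of_card (n := 1) (by rw [e, h19, pow_one])
    have htop : ∀ R : Sylow 19 G, (R : Subgroup G) = ⊤ := fun R => Subgroup.eq_top_of_card_eq _ (by
      rw [card_syl (sq_free (by norm_num) (by norm_num) hg) (hcard ▸ dvd_mul_right 19 d) R, e, h19])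
    exact ⟨fun P Q => Sylow.ext ((htop P).trans (htop Q).symm)⟩
  have hne1 : ∀ p : ℕ, p.Prime → p ∣ Nat.card G → ∀ h : Fact p.Prime, Nat.card (Sylow p G) ≠ 1 := by
    intro p hp hpg hf e
    have : Subsingleton (Sylow p G) := (Nat.card_eq_one_iff_unique.1 e).1
    obtain ⟨P⟩ : Nonempty (Sylow p G) := inferInstance
    rcases IsSimpleGroup.eq_bot_or_eq_top_of_normal (P : Subgroup G) (Sylow.normal_of_subsingleton P) with h | h
    · have := P.dvd_card_of_dvd_card hpg
      rw [h, Subgroup.card_bot] at this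
      exact hp.one_lt.ne' (Nat.dvd_one.1 this)
    · have hG : IsPGroup p G := fun g => by
        obtain ⟨m, hm⟩ := P.isPGroup' ⟨g, h ▸ Subgroup.mem_top g⟩
        exact ⟨m, congrArg Subtype.val hm⟩
      obtain ⟨m, hm⟩ := IsPGroup.iff_card.1 hG
      by_cases h2 : p = 2
      · subst h2
        have h19 : 19 ∣ 2 ^ m := hm ▸ hcard ▸ dvd_mul_right 19 d
        have := (Nat.prime_dvd_prime_iff_eq (by norm_num) hp).1 ((show Nat.Prime 19 by norm_num).dvd_of_dvd_pow h19)
        omega
      · rcases m with _ | _ | m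
        · have h19 : 19 ∣ p ^ 0 := hm ▸ hcard ▸ dvd_mul_right 19 d
          norm_num at h19
        · exact hsyl p hp (hm.trans (pow_one p))
        · exact sq_free hp h2 hg (hm ▸ pow_dvd_pow p (by omega))
  have data : ∀ p : ℕ, p.Prime → 3 ≤ p → ∃ c : ℕ × ℕ, c ∈ cand (Nat.card G) p ∧
      (∀ q : ℕ, q.Prime → q ∣ c.2 → q ∣ Nat.card G) ∧
      ((p ∣ Nat.card G ∧ ∃ x : G, orderOf x = p ∧
          Nat.card (Subgroup.centralizer ({x} : Set G)) = p * c.2 ∧
          ∀ h : Fact p.Prime, c.1 = Nat.card (Sylow p G)) ∨ (¬ p ∣ Nat.card G ∧ c = (0, 1))) := by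
    intro p hp hp3
    by_cases hpg : p ∣ Nat.card G
    · obtain ⟨x, n, k, hx, hk, hn', hmem⟩ := profile hp hg hp3 (sq_free hp (by omega) hg) hpg
        (hsyl p hp) (hne1 p hp hpg)
      refine ⟨(n, k), hmem, fun q _ hqk => ?_, Or.inl ⟨hpg, x, hx, hk, fun h => hn'⟩⟩
      exact (hqk.trans (dvd_mul_left k p)).trans (hk ▸ Subgroup.card_subgroup_dvd_card _)
    · exact ⟨(0, 1), mem_cand_absent hpg, fun q hq h => absurd (Nat.dvd_one.1 h) hq.one_lt.ne',
        Or.inr ⟨hpg, rfl⟩⟩
  have hsym : ∀ p q : ℕ, ∀ hp : p.Prime, ∀ hq : q.Prime, ∀ a : ℕ × ℕ, ∀ b : ℕ × ℕ, 3 ≤ p → 3 ≤ q →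
      p ≠ q → (∀ r : ℕ, r.Prime → r ∣ a.2 → r ∣ Nat.card G) →
      ((p ∣ Nat.card G ∧ ∃ x : G, orderOf x = p ∧
          Nat.card (Subgroup.centralizer ({x} : Set G)) = p * a.2 ∧
          ∀ h : Fact p.Prime, a.1 = Nat.card (Sylow p G)) ∨ (¬ p ∣ Nat.card G ∧ a = (0, 1))) →
      ((q ∣ Nat.card G ∧ ∃ x : G, orderOf x = q ∧
          Nat.card (Subgroup.centralizer ({x} : Set G)) = q * b.2 ∧
          ∀ h : Fact q.Prime, b.1 = Nat.card (Sylow q G)) ∨ (¬ q ∣ Nat.card G ∧ b = (0, 1))) →
      q ∣ a.2 → p ∣ b.2 := by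
    intro p q hp hq a b hp3 hq3 hpq hda ha hb h
    rcases ha with ⟨hpg, x, hx, hk, -⟩ | ⟨-, rfl⟩
    · rcases hb with ⟨hqg, y, hy, hl, -⟩ | ⟨hqg, -⟩
      · have := Fact.mk hp
        have := Fact.mk hq
        exact swap_dvd (sq_free hp (by omega) hg) (sq_free hq (by omega) hg) hpq hx hy hk hl h
      · exact absurd (hda q hq h) hqg
    · exact absurd (Nat.dvd_one.1 h) hq.one_lt.ne'
  have hwt : ∀ p : ℕ, p.Prime → 3 ≤ p → ∀ S : List ℕ, (∀ q ∈ S, q.Prime ∧ q ≠ p) → ∀ c : ℕ × ℕ,
      ((p ∣ Nat.card G ∧ ∃ x : G, orderOf x = p ∧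
          Nat.card (Subgroup.centralizer ({x} : Set G)) = p * c.2 ∧
          ∀ h : Fact p.Prime, c.1 = Nat.card (Sylow p G)) ∨ (¬ p ∣ Nat.card G ∧ c = (0, 1))) →
      wt S p c ≤ (el (G := G) p S).ncard := by
    intro p hp hp3 S hS c hc
    rcases hc with ⟨-, x, hx, hk, hc1⟩ | ⟨-, rfl⟩
    · have := Fact.mk hp
      rw [wt, hc1 inferInstance, ← Nat.card_coe_set_eq]
      exact card_el (sq_free hp (by omega) hg) hx hk S hS
    · simp [wt]
  have hP19 : Nat.Prime 19 := by norm_num
  have hP7 : Nat.Prime 7 := by norm_num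
  have hP11 : Nat.Prime 11 := by norm_num
  have hP5 : Nat.Prime 5 := by norm_num
  have hP3 : Nat.Prime 3 := by norm_num
  obtain ⟨a, ha, hda, ha'⟩ := data 19 hP19 (by norm_num)
  obtain ⟨b, hb, hdb, hb'⟩ := data 7 hP7 (by norm_num)
  obtain ⟨c, hc, hdc, hc'⟩ := data 11 hP11 (by norm_num)
  obtain ⟨u, hu, hdu, hu'⟩ := data 5 hP5 (by norm_num)
  obtain ⟨v, hv, hdv, hv'⟩ := data 3 hP3 (by norm_num)
  have symok : ∀ p q : ℕ, ∀ hp : p.Prime, ∀ hq : q.Prime, 3 ≤ p → 3 ≤ q → p ≠ q → ∀ a b : ℕ × ℕ,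
      (q ∣ a.2 → p ∣ b.2) → (p ∣ b.2 → q ∣ a.2) → sym p q a b = true := by
    intro p q _ _ _ _ _ a b h1 h2
    rw [sym, beq_iff_eq, Bool.eq_iff_iff, beq_iff_eq, beq_iff_eq, ← Nat.dvd_iff_mod_eq_zero,
      ← Nat.dvd_iff_mod_eq_zero]
    exact ⟨h1, h2⟩
  have hok := okOrder_of_dvd hd hne
  rw [← hcard, okOrder, List.all_eq_true] at hok
  have h1 := hok a ha
  rw [List.all_eq_true] at h1
  have h2 := h1 b hb
  rw [symok 19 7 hP19 hP7 (by norm_num) (by norm_num) (by norm_num) a b
    (hsym 19 7 hP19 hP7 a b (by norm_num) (by norm_num) (by norm_num) hda ha' hb')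
    (hsym 7 19 hP7 hP19 b a (by norm_num) (by norm_num) (by norm_num) hdb hb' ha'),
    Bool.not_true, Bool.false_or, List.all_eq_true] at h2
  have h3 := h2 c hc
  rw [symok 19 11 hP19 hP11 (by norm_num) (by norm_num) (by norm_num) a c
    (hsym 19 11 hP19 hP11 a c (by norm_num) (by norm_num) (by norm_num) hda ha' hc')
    (hsym 11 19 hP11 hP19 c a (by norm_num) (by norm_num) (by norm_num) hdc hc' ha'),
    symok 7 11 hP7 hP11 (by norm_num) (by norm_num) (by norm_num) b c
    (hsym 7 11 hP7 hP11 b c (by norm_num) (by norm_num) (by norm_num) hdb hb' hc')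
    (hsym 11 7 hP11 hP7 c b (by norm_num) (by norm_num) (by norm_num) hdc hc' hb'),
    Bool.and_true, Bool.not_true, Bool.false_or, List.all_eq_true] at h3
  have h4 := h3 u hu
  rw [symok 19 5 hP19 hP5 (by norm_num) (by norm_num) (by norm_num) a u
    (hsym 19 5 hP19 hP5 a u (by norm_num) (by norm_num) (by norm_num) hda ha' hu')
    (hsym 5 19 hP5 hP19 u a (by norm_num) (by norm_num) (by norm_num) hdu hu' ha'),
    symok 7 5 hP7 hP5 (by norm_num) (by norm_num) (by norm_num) b u
    (hsym 7 5 hP7 hP5 b u (by norm_num) (by norm_num) (by norm_num) hdb hb' hu')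
    (hsym 5 7 hP5 hP7 u b (by norm_num) (by norm_num) (by norm_num) hdu hu' hb'),
    symok 11 5 hP11 hP5 (by norm_num) (by norm_num) (by norm_num) c u
    (hsym 11 5 hP11 hP5 c u (by norm_num) (by norm_num) (by norm_num) hdc hc' hu')
    (hsym 5 11 hP5 hP11 u c (by norm_num) (by norm_num) (by norm_num) hdu hu' hc'),
    Bool.and_true, Bool.and_true, Bool.not_true, Bool.false_or, List.all_eq_true] at h4
  have h5 := h4 v hv
  rw [symok 19 3 hP19 hP3 (by norm_num) (by norm_num) (by norm_num) a v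
    (hsym 19 3 hP19 hP3 a v (by norm_num) (by norm_num) (by norm_num) hda ha' hv')
    (hsym 3 19 hP3 hP19 v a (by norm_num) (by norm_num) (by norm_num) hdv hv' ha'),
    symok 7 3 hP7 hP3 (by norm_num) (by norm_num) (by norm_num) b v
    (hsym 7 3 hP7 hP3 b v (by norm_num) (by norm_num) (by norm_num) hdb hb' hv')
    (hsym 3 7 hP3 hP7 v b (by norm_num) (by norm_num) (by norm_num) hdv hv' hb'),
    symok 11 3 hP11 hP3 (by norm_num) (by norm_num) (by norm_num) c v
    (hsym 11 3 hP11 hP3 c v (by norm_num) (by norm_num) (by norm_num) hdc hc' hv')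
    (hsym 3 11 hP3 hP11 v c (by norm_num) (by norm_num) (by norm_num) hdv hv' hc'),
    symok 5 3 hP5 hP3 (by norm_num) (by norm_num) (by norm_num) u v
    (hsym 5 3 hP5 hP3 u v (by norm_num) (by norm_num) (by norm_num) hdu hu' hv')
    (hsym 3 5 hP3 hP5 v u (by norm_num) (by norm_num) (by norm_num) hdv hv' hu'),
    Bool.and_true, Bool.and_true, Bool.and_true, Bool.not_true, Bool.false_or, Bool.or_eq_true,
    decide_eq_true_eq, decide_eq_true_eq] at h5
  -- the five sets are disjoint and miss the identity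
  have hd' : ∀ {p q : ℕ} {S T : List ℕ}, p ∈ T → Disjoint (el (G := G) p S) (el (G := G) q T) := by
    intro p q S T hpT
    rw [Set.disjoint_left]
    exact fun w hw hw' => hw'.2 p hpT hw.1
  have hone : ∀ p : ℕ, p.Prime → ∀ S : List ℕ, el (G := G) p S ⊆ {(1 : G)}ᶜ := by
    intro p hp S w hw h
    rw [Set.mem_singleton_iff.1 h] at hw
    have := hw.1
    rw [orderOf_one, Nat.dvd_one] at this
    exact hp.one_lt.ne' this
  have bound : ∀ A B C D E : Set G, A ⊆ {(1 : G)}ᶜ → B ⊆ {(1 : G)}ᶜ → C ⊆ {(1 : G)}ᶜ → D ⊆ {(1 : G)}ᶜ →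
      E ⊆ {(1 : G)}ᶜ → Disjoint A B → Disjoint (A ∪ B) C → Disjoint (A ∪ B ∪ C) D →
      Disjoint (A ∪ B ∪ C ∪ D) E →
      A.ncard + B.ncard + C.ncard + D.ncard + E.ncard < Nat.card G := by
    intro A B C D E hA hB hC hD hE d1 d2 d3 d4
    rw [← Set.ncard_union_eq d1 (Set.toFinite _) (Set.toFinite _),
      ← Set.ncard_union_eq d2 (Set.toFinite _) (Set.toFinite _),
      ← Set.ncard_union_eq d3 (Set.toFinite _) (Set.toFinite _),
      ← Set.ncard_union_eq d4 (Set.toFinite _) (Set.toFinite _)]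
    refine lt_of_le_of_lt (Set.ncard_le_ncard
      (Set.union_subset (Set.union_subset (Set.union_subset (Set.union_subset hA hB) hC) hD) hE)
      (Set.toFinite _)) ?_
    rw [Set.ncard_compl, Set.ncard_singleton]
    have := Nat.card_pos (α := G)
    omega
  rcases h5 with h5 | h5
  · have w1 := hwt 19 hP19 (by norm_num) [] (by simp) a ha'
    have w2 := hwt 7 hP7 (by norm_num) [19] (by simp [hP19]) b hb'
    have w3 := hwt 11 hP11 (by norm_num) [19, 7] (by simp [hP19, hP7]) c hc'
    have w4 := hwt 5 hP5 (by norm_num) [19, 7, 11] (by simp [hP19, hP7, hP11]) u hu'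
    have w5 := hwt 3 hP3 (by norm_num) [19, 7, 11, 5] (by simp [hP19, hP7, hP11, hP5]) v hv'
    have hb2 := bound _ _ _ _ _ (hone 19 hP19 []) (hone 7 hP7 [19]) (hone 11 hP11 [19, 7])
      (hone 5 hP5 [19, 7, 11]) (hone 3 hP3 [19, 7, 11, 5]) (hd' (by simp))
      (Set.disjoint_union_left.2 ⟨hd' (by simp), hd' (by simp)⟩)
      (Set.disjoint_union_left.2 ⟨Set.disjoint_union_left.2 ⟨hd' (by simp), hd' (by simp)⟩, hd' (by simp)⟩)
      (Set.disjoint_union_left.2 ⟨Set.disjoint_union_left.2 ⟨Set.disjoint_union_left.2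
        ⟨hd' (by simp), hd' (by simp)⟩, hd' (by simp)⟩, hd' (by simp)⟩)
    rw [tot1] at h5
    omega
  · have w1 := hwt 19 hP19 (by norm_num) [] (by simp) a ha'
    have w2 := hwt 7 hP7 (by norm_num) [19] (by simp [hP19]) b hb'
    have w3 := hwt 11 hP11 (by norm_num) [19, 7] (by simp [hP19, hP7]) c hc'
    have w4 := hwt 3 hP3 (by norm_num) [19, 7, 11] (by simp [hP19, hP7, hP11]) v hv'
    have w5 := hwt 5 hP5 (by norm_num) [19, 7, 11, 3] (by simp [hP19, hP7, hP11, hP3]) u hu'
    have hb2 := bound _ _ _ _ _ (hone 19 hP19 []) (hone 7 hP7 [19]) (hone 11 hP11 [19, 7])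
      (hone 3 hP3 [19, 7, 11]) (hone 5 hP5 [19, 7, 11, 3]) (hd' (by simp))
      (Set.disjoint_union_left.2 ⟨hd' (by simp), hd' (by simp)⟩)
      (Set.disjoint_union_left.2 ⟨Set.disjoint_union_left.2 ⟨hd' (by simp), hd' (by simp)⟩, hd' (by simp)⟩)
      (Set.disjoint_union_left.2 ⟨Set.disjoint_union_left.2 ⟨Set.disjoint_union_left.2
        ⟨hd' (by simp), hd' (by simp)⟩, hd' (by simp)⟩, hd' (by simp)⟩)
    rw [tot2] at h5
    omega

end

/-! ## The induction -/

theorem eq_of_normal {G : Type*} [Group G] {p : ℕ} [Fact p.Prime] [Finite G] (P : Sylow p G)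
    (h : (P : Subgroup G).Normal) : Nat.card (Sylow p G) = 1 := by
  rw [P.card_eq_index_normalizer]
  have := h
  show (Subgroup.normalizer ((P : Subgroup G) : Set G)).index = 1
  rw [Subgroup.normalizer_eq_top_iff.2 h, Subgroup.index_top]

theorem centralizes {G : Type*} [Group G] [Finite G] [Fact (Nat.Prime 19)] (hg : Nat.card G ∣ 175560)
    {x : G} (hx : orderOf x = 19) (N : Subgroup G) [N.Normal] (hN : ¬ 19 ∣ Nat.card N) :
    N ≤ Subgroup.centralizer ({x} : Set G) := by
  classical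
  set H := N ⊓ Subgroup.centralizer ({x} : Set G) with hH
  suffices Nat.card N ∣ Nat.card H by
    intro y hy
    have e : H = N := Subgroup.eq_of_le_of_card_ge inf_le_left (Nat.le_of_dvd Nat.card_pos this)
    exact (e.symm ▸ hy : y ∈ H).2
  rw [← Nat.factorization_prime_le_iff_dvd Nat.card_pos.ne' Nat.card_pos.ne']
  intro q hq
  by_cases hqN : q ∣ Nat.card N
  swap
  · rw [Nat.factorization_eq_zero_of_not_dvd hqN]; exact Nat.zero_le _
  have := Fact.mk hq
  letI : MulAction G (Sylow q N) := MulAction.compHom _ (MulAut.conjNormal (G := G) (H := N))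
  let a : Equiv.Perm (Sylow q N) :=
    MulAction.toPermHom G (Sylow q N) x
  have hax : a ^ 19 ^ 1 = 1 := by
    show (MulAction.toPermHom G (Sylow q N) x) ^ 19 ^ 1 = 1
    rw [pow_one, ← map_pow, orderOf_dvd_iff_pow_eq_one.1 (dvd_of_eq hx), map_one]
  have := Fintype.ofFinite (Sylow q N)
  have hmod := Equiv.Perm.card_compl_support_modEq (σ := a) hax
  have h19 : ¬ 19 ∣ Fintype.card (Sylow q N) := fun h => hN (h.trans (by
    rw [← Nat.card_eq_fintype_card]
    obtain ⟨Q⟩ : Nonempty (Sylow q N) := inferInstance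
    rw [Q.card_eq_index_normalizer]
    exact Subgroup.index_dvd_card _))
  obtain ⟨Q, hQ⟩ : a.supportᶜ.Nonempty := Finset.card_pos.1 (Nat.pos_of_ne_zero fun e => h19 (by
    rw [e] at hmod
    exact Nat.modEq_zero_iff_dvd.1 hmod.symm))
  rw [Finset.mem_compl, Equiv.Perm.notMem_support] at hQ
  have hQ' : x • Q = Q := hQ
  set R := (Q : Subgroup N).map N.subtype with hR
  have hRx : ∀ r ∈ R, x * r * x⁻¹ ∈ R := by
    rintro r ⟨r', hr', rfl⟩
    refine ⟨MulAut.conjNormal x r', ?_, by simp⟩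
    rw [← hQ']
    show MulAut.conjNormal x r' ∈ ((x • Q : Sylow q N) : Subgroup N)
    exact Subgroup.smul_mem_pointwise_smul r' (MulAut.conjNormal x) _ hr'
  have hRcard : Nat.card R = q ^ (Nat.card N).factorization q := by
    rw [Subgroup.card_subtype, Q.card_eq_multiplicity]
  have hsmall : q ^ (Nat.card N).factorization q < 19 := by
    have hd : q ^ (Nat.card N).factorization q ∣ 9240 := by
      have h1 : q ^ (Nat.card N).factorization q ∣ 19 * 9240 :=
        (Nat.ordProj_dvd _ _).trans ((Subgroup.card_subgroup_dvd_card N).trans hg)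
      refine Nat.Coprime.dvd_of_dvd_mul_left ?_ h1
      exact ((Nat.coprime_primes hq (show Nat.Prime 19 by norm_num)).2 fun e => hN (by rw [← e]; exact hqN)).pow_left _
    by_cases h2 : q = 2
    · subst h2
      have h8 : ¬ 2 ^ 4 ∣ 9240 := by norm_num
      have : (Nat.card N).factorization 2 ≤ 3 := by
        by_contra h
        exact h8 ((pow_dvd_pow 2 (by omega)).trans hd)
      calc 2 ^ (Nat.card N).factorization 2 ≤ 2 ^ 3 := Nat.pow_le_pow_right (by norm_num) this
        _ < 19 := by norm_num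
    · have h2' : (Nat.card N).factorization q ≤ 1 := by
        by_contra h
        exact sq_free hq h2 (dvd_refl 175560) (((pow_dvd_pow q (by omega)).trans hd).trans (by norm_num))
      have hq11 : q < 19 := by
        have h1 : q ∣ 9240 := (dvd_pow_self q (Nat.ne_of_gt (Nat.Prime.factorization_pos_of_dvd hq
          Nat.card_pos.ne' hqN))).trans hd
        rw [show 9240 = 2 ^ 3 * 3 * 5 * 7 * 11 by norm_num] at h1
        rcases hq.dvd_mul.1 h1 with h | h
        · rcases hq.dvd_mul.1 h with h | h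
          · rcases hq.dvd_mul.1 h with h | h
            · rcases hq.dvd_mul.1 h with h | h
              · exact absurd ((Nat.prime_dvd_prime_iff_eq hq Nat.prime_two).1 (hq.dvd_of_dvd_pow h)) h2
              · exact lt_of_le_of_lt (Nat.le_of_dvd (by norm_num) h) (by norm_num)
            · exact lt_of_le_of_lt (Nat.le_of_dvd (by norm_num) h) (by norm_num)
          · exact lt_of_le_of_lt (Nat.le_of_dvd (by norm_num) h) (by norm_num)
        · exact lt_of_le_of_lt (Nat.le_of_dvd (by norm_num) h) (by norm_num)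
      calc q ^ (Nat.card N).factorization q ≤ q ^ 1 := Nat.pow_le_pow_right hq.pos h2'
        _ < 19 := by rwa [pow_one]
  have hRC : R ≤ H := by
    refine le_inf (Subgroup.map_subtype_le _) fun r hr => ?_
    let b : R → R := fun s => ⟨x * s * x⁻¹, hRx s s.2⟩
    have hbinj : Function.Injective b := fun s t h => Subtype.ext
      (mul_left_cancel (mul_right_cancel (congrArg Subtype.val h)))
    let σ : Equiv.Perm R := Equiv.ofBijective b (Finite.injective_iff_bijective.1 hbinj)
    have hσn : ∀ (m : ℕ) (s : R), ((σ ^ m) s : G) = x ^ m * s * (x ^ m)⁻¹ := by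
      intro m
      induction m with
      | zero => intro s; simp
      | succ m ih =>
        intro s
        rw [pow_succ', Equiv.Perm.mul_apply]
        show x * ((σ ^ m) s : G) * x⁻¹ = _
        rw [ih, pow_succ']; group
    have hσ19 : σ ^ 19 = 1 := Equiv.ext fun s => Subtype.ext (by
      rw [hσn, ← hx, pow_orderOf_eq_one]; simp)
    have := Fintype.ofFinite R
    have hσ1 : σ = 1 := by
      by_contra h1
      have ho : orderOf σ = 19 := orderOf_eq_prime hσ19 h1
      obtain ⟨m, hm⟩ := Equiv.Perm.cycleType_prime_order (ho ▸ (by norm_num : Nat.Prime 19))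
      have h2 := σ.sum_cycleType_le
      rw [hm, Multiset.sum_replicate, smul_eq_mul, ho, ← Nat.card_eq_fintype_card, hRcard] at h2
      omega
    refine Subgroup.mem_centralizer_iff.2 fun w hw => ?_
    rw [Set.mem_singleton_iff.1 hw]
    have h := congrArg (fun τ : Equiv.Perm R => ((τ ⟨r, hr⟩ : R) : G)) hσ1
    change x * r * x⁻¹ = r at h
    exact mul_inv_eq_iff_eq_mul.1 h
  have hd := Subgroup.card_dvd_of_le hRC
  rw [hRcard] at hd
  exact (Nat.Prime.pow_dvd_iff_le_factorization hq Nat.card_pos.ne').1 hd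

theorem unique_of_sub {G : Type*} [Group G] [Finite G] [Fact (Nat.Prime 19)] (hg : Nat.card G ∣ 175560)
    (h19 : 19 ∣ Nat.card G) (M : Subgroup G) [M.Normal] (hM19 : 19 ∣ Nat.card M)
    (hM : Nat.card (Sylow 19 M) = 1) : Nat.card (Sylow 19 G) = 1 := by
  obtain ⟨P⟩ : Nonempty (Sylow 19 M) := inferInstance
  have : Subsingleton (Sylow 19 M) := (Nat.card_eq_one_iff_unique.1 hM).1
  have := Sylow.normal_of_subsingleton P
  have hchar : (P : Subgroup M).Characteristic := P.characteristic_of_normal this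
  have hn : ((P : Subgroup M).map M.subtype).Normal := ConjAct.normal_of_characteristic_of_normal
  have hp2 := sq_free (g := Nat.card G) (show Nat.Prime 19 by norm_num) (by norm_num) hg
  have hcard : Nat.card ((P : Subgroup M).map M.subtype) = 19 := by
    rw [Subgroup.card_subtype]
    exact card_syl (fun h => hp2 (h.trans (Subgroup.card_subgroup_dvd_card M))) hM19 P
  obtain ⟨c, hc⟩ := exists_prime_orderOf_dvd_card' 19 (dvd_of_eq hcard.symm)
  have hco : orderOf (c : G) = 19 := by rw [Subgroup.orderOf_coe, hc]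
  refine eq_of_normal (syl hp2 hco) ?_
  have e : (P : Subgroup M).map M.subtype = Subgroup.zpowers (c : G) :=
    (Subgroup.eq_of_le_of_card_ge (Subgroup.zpowers_le.2 c.2) (by rw [hcard, Nat.card_zpowers, hco])).symm
  rw [coe_syl, ← e]
  exact hn

theorem step.{u} {G : Type u} [Group G] [Finite G] [Fact (Nat.Prime 19)] {d : ℕ} (hd : d ∣ 9240)
    (hcard : Nat.card G = 19 * d) (N : Subgroup G) [N.Normal] (hN0 : N ≠ ⊥) (hN1 : N ≠ ⊤)
    (ih : ∀ j < d, j ∣ 9240 → ∀ (H : Type u) [Group H] [Finite H],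
      Nat.card H = 19 * j → Nat.card (Sylow 19 H) = 1) : Nat.card (Sylow 19 G) = 1 := by
  have hg : Nat.card G ∣ 175560 := by rw [hcard]; exact Nat.mul_dvd_mul_left 19 hd
  have h19 : 19 ∣ Nat.card G := hcard ▸ dvd_mul_right 19 d
  by_contra hn
  have hlt : Nat.card N < Nat.card G := lt_of_le_of_ne (Subgroup.card_le_card_group N)
    fun e => hN1 (Subgroup.eq_top_of_card_eq N e)
  have hgt : 1 < Nat.card N := (Subgroup.one_lt_card_iff_ne_bot N).2 hN0
  by_cases hN19 : 19 ∣ Nat.card N
  · obtain ⟨j, hj⟩ := id hN19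
    have hjd : j ∣ d := by
      have := Subgroup.card_subgroup_dvd_card N
      rw [hj, hcard] at this
      exact Nat.dvd_of_mul_dvd_mul_left (by norm_num) this
    have hjlt : j < d := by rw [hj, hcard] at hlt; omega
    have hd9 := Nat.le_of_dvd (by norm_num) hd
    exact hn (unique_of_sub hg h19 N hN19 (ih j hjlt (hjd.trans hd) N hj))
  · have hidx := N.card_mul_index
    rw [hcard] at hidx
    obtain ⟨j, hj⟩ : 19 ∣ N.index := ((show Nat.Prime 19 by norm_num).dvd_mul.1
      (hidx ▸ dvd_mul_right 19 d)).resolve_left hN19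
    have hjd : Nat.card N * j = d := by
      rw [hj] at hidx
      exact Nat.eq_of_mul_eq_mul_left (show 0 < 19 by norm_num) (by rw [← hidx]; ring)
    have hj0 : 0 < j := Nat.pos_of_ne_zero fun e => by rw [e, mul_zero] at hjd; omega
    have hjlt : j < d := by rw [← hjd]; exact (Nat.lt_mul_iff_one_lt_left hj0).2 hgt
    have hd9 := Nat.le_of_dvd (by norm_num) hd
    have hQ := ih j hjlt ((Dvd.intro_left _ hjd).trans hd) (G ⧸ N)
      (by rw [← Subgroup.index_eq_card, hj])
    obtain ⟨R⟩ : Nonempty (Sylow 19 (G ⧸ N)) := inferInstance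
    have : Subsingleton (Sylow 19 (G ⧸ N)) := (Nat.card_eq_one_iff_unique.1 hQ).1
    have hRn := Sylow.normal_of_subsingleton R
    set M := (R : Subgroup (G ⧸ N)).comap (QuotientGroup.mk' N) with hM
    have hMn : M.Normal := hRn.comap _
    obtain ⟨x, hx⟩ := exists_prime_orderOf_dvd_card' 19 h19
    have hp2 := sq_free (g := Nat.card G) (show Nat.Prime 19 by norm_num) (by norm_num) hg
    have hxM : x ∈ M := by
      have hp' : IsPGroup 19 ((Subgroup.zpowers x).map (QuotientGroup.mk' N)) := (syl hp2 hx).isPGroup'.map _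
      obtain ⟨R', hR'⟩ := hp'.exists_le_sylow
      rw [Subsingleton.elim R' R] at hR'
      exact hR' ⟨x, Subgroup.mem_zpowers x, rfl⟩
    have hcen := centralizes hg hx N hN19
    refine hn (unique_of_sub hg h19 M (hx ▸ Subgroup.orderOf_dvd_natCard M hxM) ?_)
    -- `x` is central in `M`
    have hMeq : ∀ m ∈ M, Commute x m := by
      intro m hm
      have hRcard : Nat.card (R : Subgroup (G ⧸ N)) = 19 := by
        refine card_syl (fun h => hp2 (h.trans (Subgroup.card_quotient_dvd_card N))) ?_ R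
        rw [← Subgroup.index_eq_card, hj]; exact dvd_mul_right 19 j
      have hxR : QuotientGroup.mk' N x ∈ (R : Subgroup (G ⧸ N)) := hxM
      have hxN : QuotientGroup.mk' N x ≠ 1 := fun e => hN19 (by
        rw [← hx]; exact Subgroup.orderOf_dvd_natCard N ((QuotientGroup.eq_one_iff x).1 e))
      have hgen : Subgroup.zpowers (QuotientGroup.mk' N x) = (R : Subgroup (G ⧸ N)) :=
        Subgroup.eq_of_le_of_card_ge (Subgroup.zpowers_le.2 hxR) (by
          rw [hRcard, Nat.card_zpowers]
          have hd19 := orderOf_map_dvd (QuotientGroup.mk' N) x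
          rw [hx] at hd19
          rcases (Nat.dvd_prime (by norm_num : Nat.Prime 19)).1 hd19 with h | h
          · exact absurd (orderOf_eq_one_iff.1 h) hxN
          · exact h.ge)
      have hm' : QuotientGroup.mk' N m ∈ Subgroup.zpowers (QuotientGroup.mk' N x) := hgen.symm ▸ hm
      obtain ⟨i, hi⟩ := Subgroup.mem_zpowers_iff.1 hm'
      have hnm : (x ^ i)⁻¹ * m ∈ N := (QuotientGroup.eq).1 (by simpa using hi)
      have hc : Commute x ((x ^ i)⁻¹ * m) := Subgroup.mem_centralizer_iff.1 (hcen hnm) x rfl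
      simpa using ((Commute.refl x).zpow_right i).mul_right hc
    have hp2M : ¬ 19 ^ 2 ∣ Nat.card M := fun h => hp2 (h.trans (Subgroup.card_subgroup_dvd_card M))
    have hxo : orderOf (⟨x, hxM⟩ : M) = 19 := by rw [Subgroup.orderOf_mk, hx]
    refine eq_of_normal (syl hp2M hxo) ⟨fun a ha m => ?_⟩
    rw [coe_syl] at ha ⊢
    obtain ⟨i, rfl⟩ := Subgroup.mem_zpowers_iff.1 ha
    have hcm : Commute m ((⟨x, hxM⟩ : M) ^ i) :=
      (show Commute (⟨x, hxM⟩ : M) m from Subtype.ext (hMeq m m.2)).symm.zpow_right i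
    rw [hcm.eq, mul_inv_cancel_right]
    exact Subgroup.zpow_mem_zpowers _ _

theorem main_small.{u} (d : ℕ) : d ∣ 9240 → d ≠ 9240 → ∀ (G : Type u) [Group G] [Finite G] [Fact (Nat.Prime 19)],
    Nat.card G = 19 * d → Nat.card (Sylow 19 G) = 1 := by
  induction d using Nat.strong_induction_on with
  | _ d ih =>
    intro hd hne G _ _ _ hcard
    have hg : Nat.card G ∣ 175560 := by rw [hcard]; exact Nat.mul_dvd_mul_left 19 hd
    have h19 : 19 ∣ Nat.card G := hcard ▸ dvd_mul_right 19 d
    by_contra hn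
    have hd0 : 0 < d := Nat.pos_of_ne_zero (by rintro rfl; norm_num at hd)
    have hnt : Nontrivial G := Finite.one_lt_card_iff_nontrivial.1 (by rw [hcard]; omega)
    by_cases hs : IsSimpleGroup G
    · exact not_simple hd hne hcard hn
    obtain ⟨N, hNn, hN0, hN1⟩ : ∃ N : Subgroup G, N.Normal ∧ N ≠ ⊥ ∧ N ≠ ⊤ := by
      by_contra h
      push Not at h
      exact hs ⟨fun H hH => or_iff_not_imp_left.2 fun h0 => h H hH h0⟩
    have := hNn
    have hd9 := Nat.le_of_dvd (by norm_num) hd
    exact hn (step hd hcard N hN0 hN1 fun j hj hjd H _ _ hH => ih j hj hjd (by omega) H hH)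

theorem top_case.{u} {G : Type u} [Group G] [Finite G] [Fact (Nat.Prime 19)]
    (hG : Nat.card G = 175560) (N : Subgroup G) [N.Normal] (hN0 : N ≠ ⊥) (hN1 : N ≠ ⊤) :
    Nat.card (Sylow 19 G) = 1 :=
  step (d := 9240) dvd_rfl hG N hN0 hN1 fun j hj hjd H _ _ hH => main_small j hjd hj.ne H hH

end Cfsg.Agent.Order175560
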