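/-
M. Hall's factorisation of Sylow numbers.
-/
import Mathlib
import Cfsg.Agent.Lib.Basics.CoprimeAction
import Cfsg.Agent.Lib.Transfer.Residual

set_option autoImplicit false
set_option linter.all false

namespace Cfsg.Agent.FGS.SylowNumber

open Subgroup
open scoped Pointwise

universe u

variable {G : Type u} [Group G] [Finite G] {p : ℕ} [Fact p.Prime]

lemma card_mul_relIndex {H K : Subgroup G} (h : H ≤ K) :
    Nat.card H * H.relIndex K = Nat.card K := by
  rw [← Basics.card_subgroupOf h, relIndex]
  exact card_mul_index _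

lemma relIndex_sup_of_le_normalizer {X H : Subgroup G} (h : H ≤ normalizer (X : Set G)) :
    H.relIndex (X ⊔ H) = H.relIndex X := by
  have h1 := Basics.card_mul_card_eq_card_sup_mul_card_inf h
  have h2 := card_mul_relIndex (le_sup_right : H ≤ X ⊔ H)
  have h3 := card_mul_relIndex (inf_le_left : X ⊓ H ≤ X)
  rw [inf_relIndex_left] at h3
  rw [← h2, ← h3] at h1
  have hpos : 0 < Nat.card H * Nat.card (X ⊓ H : Subgroup G) :=
    Nat.mul_pos Nat.card_pos Nat.card_pos
  apply Nat.eq_of_mul_eq_mul_left hpos
  linarith [h1]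

/-- Sylow numbers of quotients. -/
lemma card_sylow_quotient (M : Subgroup G) [M.Normal] (P : Sylow p G) :
    Nat.card (Sylow p (G ⧸ M)) = (normalizer (((P : Subgroup G) ⊔ M : Subgroup G) : Set G)).index := by
  let Q := P.mapSurjective (QuotientGroup.mk'_surjective M)
  have e : (normalizer ((Q : Subgroup (G ⧸ M)) : Set (G ⧸ M))).comap (QuotientGroup.mk' M) =
      normalizer (((P : Subgroup G) ⊔ M : Subgroup G) : Set G) := by
    rw [comap_normalizer_eq_of_surjective _ (QuotientGroup.mk'_surjective M),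
      Sylow.coe_mapSurjective, comap_map_eq, QuotientGroup.ker_mk']
  rw [Sylow.card_eq_index_normalizer Q, ← e,
    index_comap_of_surjective _ (QuotientGroup.mk'_surjective M)]
  rfl

lemma card_sylow_quotient_of_isPGroup (M : Subgroup G) [M.Normal] (hM : IsPGroup p M) :
    Nat.card (Sylow p (G ⧸ M)) = Nat.card (Sylow p G) := by
  obtain ⟨P⟩ : Nonempty (Sylow p G) := inferInstance
  rw [card_sylow_quotient M P, Sylow.card_eq_index_normalizer P,
    sup_eq_left.2 (hM.le_sylow_of_normal P)]
  rfl

lemma card_sylow_subgroup {K T : Subgroup G} (P : Sylow p K)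
    (hP : (P : Subgroup K) = T.subgroupOf K) (hTK : T ≤ K) :
    Nat.card (Sylow p K) = (normalizer (T : Set G)).relIndex K := by
  rw [Sylow.card_eq_index_normalizer P, relIndex, subgroupOf_normalizer_eq hTK, ← hP]
  rfl

theorem sylow_card_formula (K : Subgroup G) [K.Normal] (P : Sylow p G) (N : Subgroup G)
    (hN : N = ((P : Subgroup G) ⊔ K) ⊓ normalizer (((P : Subgroup G) ⊓ K : Subgroup G) : Set G))
    [hn : (((P : Subgroup G) ⊓ K).subgroupOf N).Normal] :
    Nat.card (Sylow p G) = Nat.card (Sylow p (G ⧸ K)) * Nat.card (Sylow p K) *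
      Nat.card (Sylow p (N ⧸ ((P : Subgroup G) ⊓ K).subgroupOf N)) := by
  set X := (P : Subgroup G) ⊔ K with hX
  set T := (P : Subgroup G) ⊓ K with hT
  set NP := normalizer ((P : Subgroup G) : Set G) with hNP
  set NX := normalizer (X : Set G) with hNX
  have hPT : NP ≤ normalizer (T : Set G) := by
    intro g hg
    rw [hT, ← Basics.conj_smul_eq_self_iff, smul_inf, Basics.conj_smul_eq_self_iff.2 hg,
      Basics.conj_smul_eq_self_iff.2 (show g ∈ normalizer (K : Set G) by
        rw [normalizer_eq_top_iff.2 inferInstance]; exact mem_top g)]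
  have hPX : (P : Subgroup G) ≤ X := le_sup_left
  have hPN : (P : Subgroup G) ≤ N := hN ▸ le_inf hPX (le_normalizer.trans hPT)
  have hNX' : N ≤ X := hN ▸ inf_le_left
  -- the factor of the quotient
  have h1 : Nat.card (Sylow p (G ⧸ K)) = NX.index := card_sylow_quotient K P
  -- the factor of `K`
  obtain ⟨Pk, hPk⟩ := Transfer.exists_sylow_eq_subgroupOf P K
  have h2 : Nat.card (Sylow p K) = (normalizer (T : Set G)).relIndex K :=
    card_sylow_subgroup Pk (hPk.trans (inf_subgroupOf_right _ _).symm) inf_le_right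
  -- the factor of `N`
  obtain ⟨Pn, hPn⟩ : ∃ Pn : Sylow p N, (Pn : Subgroup N) = (P : Subgroup G).subgroupOf N := by
    refine ⟨(P.subtype hPN), ?_⟩
    rfl
  have h3 : Nat.card (Sylow p (N ⧸ T.subgroupOf N)) = NP.relIndex N := by
    rw [card_sylow_quotient_of_isPGroup (T.subgroupOf N) ?_, card_sylow_subgroup Pn hPn hPN]
    exact IsPGroup.of_injective (P.2.to_le (inf_le_left : T ≤ P))
      ((inclusion (le_refl T)).comp ((N.subtype.comp (T.subgroupOf N).subtype).codRestrict T
        fun x => x.2)) (fun a b h =>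
          Subtype.ext (Subtype.ext (congrArg (fun t : T => (t : G)) h)))
  rw [Sylow.card_eq_index_normalizer P, h1, h2, h3]
  have hNPX : NP ≤ NX := by
    intro g hg
    rw [hNX, ← Basics.conj_smul_eq_self_iff, hX, smul_sup, Basics.conj_smul_eq_self_iff.2 hg,
      Basics.conj_smul_eq_self_iff.2 (show g ∈ normalizer (K : Set G) by
        rw [normalizer_eq_top_iff.2 inferInstance]; exact mem_top g)]
  have hfr : NX = X ⊔ NP := by
    refine le_antisymm (fun g hg => ?_) (sup_le le_normalizer hNPX)
    have hgX : MulAut.conj g • X = X := Basics.conj_smul_eq_self_iff.2 hg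
    have hS : Basics.IsSylowIn p X (P : Subgroup G) := by
      refine ⟨hPX, le_antisymm ?_ ?_⟩ <;> rw [P.card_eq_multiplicity] <;>
        refine Nat.pow_le_pow_right (Fact.out : p.Prime).pos ?_
      · refine ((Fact.out : p.Prime).pow_dvd_iff_le_factorization Nat.card_pos.ne').1 ?_
        rw [← P.card_eq_multiplicity]
        exact card_dvd_of_le hPX
      · exact (Nat.factorization_le_iff_dvd Nat.card_pos.ne' Nat.card_pos.ne').2
          (card_subgroup_dvd_card X) p
    have hS' : Basics.IsSylowIn p X (MulAut.conj g • (P : Subgroup G)) :=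
      ⟨hgX ▸ pointwise_smul_le_pointwise_smul_iff.2 hPX,
        by rw [Basics.card_conj_smul]; exact hS.2⟩
    obtain ⟨c, hc, hcS⟩ := hS.exists_conj hS'
    have hmem : c⁻¹ * g ∈ NP := by
      rw [hNP, ← Basics.conj_smul_eq_self_iff, ← Basics.conj_smul_conj_smul,
        Basics.conj_smul_inv_eq hcS]
    have := mul_mem (mem_sup_left (T := NP) hc) (mem_sup_right (S := X) hmem)
    rwa [mul_inv_cancel_left] at this
  have hA : NP.relIndex NX = NP.relIndex X := by
    rw [hfr]; exact relIndex_sup_of_le_normalizer hNPX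
  have hB : NP.relIndex X = NP.relIndex N * N.relIndex X := by
    have e1 : (NP ⊓ X) ≤ N := hN ▸ le_inf inf_le_right (inf_le_left.trans hPT)
    have e2 : (NP ⊓ X).relIndex X = NP.relIndex X := inf_relIndex_right _ _
    rw [← e2, ← relIndex_mul_relIndex (NP ⊓ X) N X e1 hNX']
    congr 1
    rw [← inf_relIndex_right, inf_assoc, inf_eq_right.2 hNX', inf_relIndex_right]
  have hC : N.relIndex X = (normalizer (T : Set G)).relIndex K := by
    have hNK : N ≤ normalizer (K : Set G) := by
      rw [normalizer_eq_top_iff.2 inferInstance]; exact le_top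
    have e1 : X = K ⊔ N := le_antisymm (sup_le (hPN.trans le_sup_right) le_sup_left)
      (sup_le le_sup_right hNX')
    rw [e1, relIndex_sup_of_le_normalizer hNK, ← inf_relIndex_right N K,
      ← inf_relIndex_right (normalizer (T : Set G)) K]
    congr 1
    refine le_antisymm ?_ (le_inf (hN ▸ le_inf (inf_le_right.trans le_sup_right) inf_le_left)
      inf_le_right)
    exact le_inf (inf_le_left.trans (hN ▸ inf_le_right)) inf_le_right
  show NP.index = _
  rw [← relIndex_mul_index hNPX, hA, hB, hC]
  ring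

/-- The Sylow number of `P K` for a normal `p'`-subgroup `K` is a product of prime powers
congruent to `1` modulo `p`. -/
theorem modEq_of_sup_eq_top (K : Subgroup G) [K.Normal] (P : Sylow p G) (hK : ¬ p ∣ Nat.card K)
    (htop : (P : Subgroup G) ⊔ K = ⊤) {q : ℕ} (hq : q.Prime) :
    q ^ (Nat.card (Sylow p G)).factorization q ≡ 1 [MOD p] := by
  have hp : p.Prime := Fact.out
  have hPK : (P : Subgroup G) ≤ normalizer (K : Set G) := by
    rw [normalizer_eq_top_iff.2 inferInstance]; exact le_top
  have hcop : (Nat.card (P : Subgroup G)).Coprime (Nat.card K) := by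
    obtain ⟨k, hk⟩ := P.2.exists_card_eq
    rw [hk]; exact Nat.Coprime.pow_left k (hp.coprime_iff_not_dvd.2 hK)
  haveI : Group.IsNilpotent (P : Subgroup G) := P.2.isNilpotent
  set C := K ⊓ centralizer ((P : Subgroup G) : Set G) with hC
  have hn : Nat.card (Sylow p G) = C.relIndex K := by
    rw [Sylow.card_eq_index_normalizer P, ← relIndex_top_right]
    set NP := normalizer ((P : Subgroup G) : Set G) with hNP
    have hKN : NP ≤ normalizer (K : Set G) := by
      rw [normalizer_eq_top_iff.2 inferInstance]; exact le_top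
    have e : K ⊔ NP = ⊤ := by
      rw [eq_top_iff, ← htop, sup_comm]
      exact sup_le_sup_left le_normalizer K
    show NP.relIndex ⊤ = _
    rw [← e, relIndex_sup_of_le_normalizer hKN, ← inf_relIndex_right]
    congr 1
    ext c
    simp only [mem_inf, hC]
    constructor
    all_goals intro h
    all_goals (refine ⟨?_, ?_⟩)
    all_goals first
      | exact h.1
      | exact h.2
      | exact Basics.mem_centralizer_of_mem_normalizer' hPK hcop h.2 h.1
      | exact Basics.mem_centralizer_of_mem_normalizer' hPK hcop h.1 h.2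
      | exact centralizer_le_normalizer _ h.2
      | exact centralizer_le_normalizer _ h.1
  rw [hn]
  by_cases hqp : q = p
  · subst hqp
    have : ¬ q ∣ C.relIndex K := fun h => hK (h.trans (relIndex_dvd_card _ _))
    rw [Nat.factorization_eq_zero_of_not_dvd this, pow_zero]
  haveI := Fact.mk hq
  obtain ⟨U0⟩ : Nonempty (Sylow q C) := inferInstance
  set U := (U0 : Subgroup C).map C.subtype with hU
  have hUs : Basics.IsSylowIn q C U := Basics.isSylowIn_map U0
  have hUP : (P : Subgroup G) ≤ normalizer (U : Set G) := by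
    intro g hg
    have hfix : ∀ u ∈ U, g * u * g⁻¹ = u := fun u hu => by
      rw [(hUs.1 hu).2 g hg, mul_inv_cancel_right]
    rw [mem_normalizer_iff]
    intro h
    refine ⟨fun hh => by rw [hfix h hh]; exact hh, fun hh => ?_⟩
    have h2 := hfix _ hh
    have : g * h * g⁻¹ = h := mul_left_cancel (mul_right_cancel h2)
    rwa [this] at hh
  obtain ⟨S, hS, hUS, hSP⟩ := Basics.exists_invariant_isSylowIn_ge (P : Subgroup G) K hPK hcop
    (Or.inl inferInstance) q U (hUs.1.trans inf_le_left) hUs.isPGroup hUP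
  letI : MulAction (P : Subgroup G) S :=
    MulAction.compHom S (S.normalizerMonoidHom.comp (inclusion hSP))
  have hfp : MulAction.fixedPoints (P : Subgroup G) S = {s : S | (s : G) ∈ U} := by
    ext s
    constructor
    · intro hs
      have hsC : (s : G) ∈ C := ⟨hS.1 s.2, fun g hg => by
        have h1 : g * (s : G) * g⁻¹ = s := congrArg Subtype.val (hs ⟨g, hg⟩)
        exact mul_inv_eq_iff_eq_mul.1 h1⟩
      have hle : U = C ⊓ S := by
        refine eq_of_le_of_card_ge (le_inf hUs.1 hUS) (Nat.le_of_dvd Nat.card_pos ?_)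
        obtain ⟨i, hi⟩ := (hS.isPGroup.to_le (inf_le_right : C ⊓ S ≤ S)).exists_card_eq
        rw [hi, hUs.2]
        exact pow_dvd_pow q ((hq.pow_dvd_iff_le_factorization Nat.card_pos.ne').1
          (hi ▸ card_dvd_of_le inf_le_left))
      show (s : G) ∈ U
      rw [hle]
      exact ⟨hsC, s.2⟩
    · intro hs g
      refine Subtype.ext ?_
      show (g : G) * (s : G) * (g : G)⁻¹ = s
      rw [(hUs.1 hs).2 g g.2, mul_inv_cancel_right]
  have hmod := P.2.card_modEq_card_fixedPoints (α := S)
  rw [hfp] at hmod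
  have hcardU : Nat.card {s : S | (s : G) ∈ U} = Nat.card U :=
    Nat.card_congr
      { toFun := fun s => ⟨(s.1 : G), s.2⟩
        invFun := fun u => ⟨⟨(u : G), hUS u.2⟩, u.2⟩
        left_inv := fun s => rfl
        right_inv := fun u => rfl }
  rw [hcardU, hS.2, hUs.2] at hmod
  have hf : (Nat.card K).factorization q =
      (Nat.card C).factorization q + (C.relIndex K).factorization q := by
    rw [← Finsupp.add_apply, ← Nat.factorization_mul Nat.card_pos.ne' ?_,
      card_mul_relIndex (inf_le_left : C ≤ K)]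
    exact index_ne_zero_of_finite
  rw [hf, pow_add] at hmod
  conv_rhs at hmod => rw [← mul_one (q ^ (Nat.card C).factorization q)]
  exact Nat.ModEq.cancel_left_of_coprime
    (Nat.Coprime.pow_right _ ((Nat.coprime_primes hp hq).2 fun h => hqp h.symm)) hmod

/-- Induction principle for Sylow numbers. -/
theorem induction_on_sylow_number (p : ℕ) [Fact p.Prime] (C : ∀ (H : Type u) [Group H], Prop)
    (hCsub : ∀ (H : Type u) [Group H] [Finite H] (K : Subgroup H), C H → C K)
    (hCquo : ∀ (H : Type u) [Group H] [Finite H] (K : Subgroup H) [K.Normal], C H → C (H ⧸ K))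
    (Q : ℕ → Prop) (hone : Q 1) (hmul : ∀ a b, Q a → Q b → Q (a * b))
    (hpp : ∀ q e : ℕ, q.Prime → q ^ e ≡ 1 [MOD p] → Q (q ^ e))
    (hsimple : ∀ (S : Type u) [Group S] [Finite S], C S → IsSimpleGroup S →
      Q (Nat.card (Sylow p S))) :
    ∀ (n : ℕ) (G : Type u) [Group G] [Finite G], Nat.card G = n → C G →
      Q (Nat.card (Sylow p G)) := by
  intro n
  induction n using Nat.strong_induction_on with
  | _ n ih =>
  intro G _ _ hn hCG
  subst hn
  rcases subsingleton_or_nontrivial G with hs | hnt
  · have h1 : Nat.card (Sylow p G) = 1 := by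
      rw [Sylow.card_eq_index_normalizer (default : Sylow p G)]
      exact index_eq_one.2 (Subsingleton.elim _ _)
    rw [h1]; exact hone
  by_cases hsim : IsSimpleGroup G
  · exact hsimple G hCG hsim
  obtain ⟨K, hKn, hK1, hK2⟩ : ∃ K : Subgroup G, K.Normal ∧ K ≠ ⊥ ∧ K ≠ ⊤ := by
    by_contra h
    push Not at h
    exact hsim { eq_bot_or_eq_top_of_normal := fun K hK =>
      (em (K = ⊥)).imp_right fun hb => h K hK hb }
  haveI := hKn
  obtain ⟨P⟩ : Nonempty (Sylow p G) := inferInstance
  set T := (P : Subgroup G) ⊓ K with hT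
  set N := ((P : Subgroup G) ⊔ K) ⊓ normalizer (T : Set G) with hN
  haveI hTn : (T.subgroupOf N).Normal := by
    refine (normal_subgroupOf_iff_le_normalizer ?_).2 inf_le_right
    exact le_inf (inf_le_left.trans le_sup_left) le_normalizer
  rw [sylow_card_formula K P N hN]
  refine hmul _ _ (hmul _ _ (ih _ (Basics.card_quotient_lt hK1) _ rfl (hCquo G K hCG))
    (ih _ (Basics.card_lt_card_of_ne_top hK2) _ rfl (hCsub G K hCG))) ?_
  have hCN : C N := hCsub G N hCG
  by_cases hNtop : N ≠ ⊤
  · refine ih _ (lt_of_le_of_lt ?_ (Basics.card_lt_card_of_ne_top hNtop)) _ rfl (hCquo N _ hCN)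
    exact Nat.le_of_dvd Nat.card_pos (card_quotient_dvd_card _)
  push Not at hNtop
  by_cases hT1 : T ≠ ⊥
  · refine ih _ (lt_of_lt_of_le (Basics.card_quotient_lt ?_) ?_) _ rfl (hCquo N _ hCN)
    · rw [Ne, subgroupOf_eq_bot, disjoint_iff, inf_eq_left.2 (hNtop ▸ le_top)]
      exact hT1
    · rw [hNtop, card_top]
  push Not at hT1
  have hTN : IsPGroup p (T.subgroupOf N) := by
    rw [hT1, bot_subgroupOf]; exact IsPGroup.of_bot
  rw [card_sylow_quotient_of_isPGroup (T.subgroupOf N) hTN]
  have htop : (P : Subgroup G) ⊔ K = ⊤ := top_le_iff.1 (hNtop ▸ inf_le_left)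
  have hpK : ¬ p ∣ Nat.card K := by
    intro h
    obtain ⟨PK, hPK⟩ := Transfer.exists_sylow_eq_subgroupOf P K
    apply PK.ne_bot_of_dvd_card h
    rw [hPK, subgroupOf_eq_bot, disjoint_iff]
    exact hT1
  have hPN : (P : Subgroup G) ≤ N := hNtop ▸ le_top
  have e : Nat.card (Sylow p N) = Nat.card (Sylow p G) := by
    rw [card_sylow_subgroup (P.subtype hPN) rfl hPN, Sylow.card_eq_index_normalizer P, hNtop,
      relIndex_top_right]
    rfl
  rw [e, ← Nat.prod_factorization_pow_eq_self (Nat.card_pos : 0 < Nat.card (Sylow p G)).ne']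
  refine Finset.prod_induction _ Q hmul hone fun q hq => ?_
  rw [Nat.support_factorization, Nat.mem_primeFactors] at hq
  exact hpp q _ hq.1 (modEq_of_sup_eq_top K P hpK htop hq.1)

end Cfsg.Agent.FGS.SylowNumber
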