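/-
Class sizes not divisible by the square of the smallest prime divisor of the order give a normal
complement (elementary counting argument).
-/
import Mathlib
import Cfsg.Agent.Lib.Transfer.Residual
import Cfsg.Agent.Lib.Transfer.Abelian
import Cfsg.Agent.Lib.Basics.Cores
import Cfsg.Agent.Lib.Basics.Frattini
import Cfsg.Agent.Lib.FGB.Basic
import Cfsg.Agent.Lib.LocalEvenB.Basic
import Cfsg.Agent.Lib.FGS.SylowNumber
import Cfsg.Agent.Lib.FGB.PRegularClasses

set_option autoImplicit false
set_option linter.all false

namespace Cfsg.Agent.FGS.SquarefreeClass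

open Subgroup Cfsg
open scoped Pointwise

universe u

variable {G : Type u} [Group G] [Finite G] {p : ℕ}

/-- `p²` divides no class size. -/
def Sqp (p : ℕ) (G : Type u) [Group G] : Prop :=
  ∀ x : G, ¬ p ^ 2 ∣ (centralizer ({x} : Set G)).index

/-- Every element of order prime to `p` centralises a subgroup of index at most `p` of a Sylow
`p`-subgroup. -/
def HypU (p : ℕ) (G : Type u) [Group G] : Prop :=
  ∀ u : G, (orderOf u).Coprime p →
    (Nat.card G).factorization p ≤ (Nat.card (centralizer ({u} : Set G))).factorization p + 1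

theorem index_dvd_subgroup (N : Subgroup G) [N.Normal] (x : N) :
    (centralizer ({x} : Set N)).index ∣ (centralizer ({(x : G)} : Set G)).index := by
  have e : (centralizer ({x} : Set N)) = (centralizer ({(x : G)} : Set G)).subgroupOf N := by
    ext y
    rw [mem_subgroupOf, mem_centralizer_singleton_iff, mem_centralizer_singleton_iff,
      Subtype.ext_iff]
    rfl
  rw [e, ← relIndex]
  exact relIndex_dvd_index_of_normal_sup _ N
where
  relIndex_dvd_index_of_normal_sup (C N : Subgroup G) [N.Normal] : C.relIndex N ∣ C.index := by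
    have h1 := card_mul_index C
    have h2 : Nat.card ↥(C ⊔ N) * (C ⊔ N).index = Nat.card G := card_mul_index _
    have hn : C ≤ normalizer (N : Set G) := by
      rw [normalizer_eq_top_iff.2 inferInstance]; exact le_top
    rw [← relIndex_mul_index (le_sup_right : C ≤ N ⊔ C),
      FGS.SylowNumber.relIndex_sup_of_le_normalizer hn]
    exact dvd_mul_right _ _

theorem index_dvd_quotient (N : Subgroup G) [N.Normal] (x : G) :
    (centralizer ({QuotientGroup.mk' N x} : Set (G ⧸ N))).index ∣
      (centralizer ({x} : Set G)).index := by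
  refine (index_dvd_of_le ?_).trans (index_map_dvd _ (QuotientGroup.mk'_surjective N))
  rintro _ ⟨c, hc, rfl⟩
  rw [SetLike.mem_coe, mem_centralizer_singleton_iff] at hc
  rw [mem_centralizer_singleton_iff, ← map_mul, ← map_mul, hc]

theorem Sqp.subgroup (h : Sqp p G) (N : Subgroup G) [N.Normal] : Sqp p N := fun x hd =>
  h x (hd.trans (index_dvd_subgroup N x))

theorem Sqp.quotient (h : Sqp p G) (N : Subgroup G) [N.Normal] : Sqp p (G ⧸ N) := fun x hd => by
  obtain ⟨x, rfl⟩ := QuotientGroup.mk'_surjective N x
  exact h x (hd.trans (index_dvd_quotient N x))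

theorem factorization_le_of_not_dvd [hp : Fact p.Prime] {H : Subgroup G}
    (h : ¬ p ^ 2 ∣ H.index) :
    (Nat.card G).factorization p ≤ (Nat.card H).factorization p + 1 := by
  rw [← card_mul_index H, Nat.factorization_mul Nat.card_pos.ne' index_ne_zero_of_finite,
    Finsupp.add_apply]
  have : ¬ 2 ≤ H.index.factorization p := fun h2 =>
    h ((hp.out.pow_dvd_iff_le_factorization index_ne_zero_of_finite).2 h2)
  omega

theorem Sqp.hypU [Fact p.Prime] (h : Sqp p G) : HypU p G := fun u _ =>
  factorization_le_of_not_dvd (h u)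

/-- A central `p`-subgroup does not affect having a normal `p`-complement. -/
theorem hasNormalPComplement_of_central [hp : Fact p.Prime] (Z : Subgroup G) [Z.Normal]
    (hZ : IsPGroup p Z) (hc : Z ≤ center G) (h : HasNormalPComplement p (G ⧸ Z)) :
    HasNormalPComplement p G := by
  rw [Transfer.hasNormalPComplement_iff] at h ⊢
  set M := (pResidual p (G ⧸ Z)).comap (QuotientGroup.mk' Z) with hM
  have hcardM : Nat.card M = Nat.card Z * Nat.card (pResidual p (G ⧸ Z)) := Basics.card_comap_mk' _
  have hZM : Z ≤ M := fun z hz => by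
    rw [hM, mem_comap, show QuotientGroup.mk' Z z = 1 from (QuotientGroup.eq_one_iff z).2 hz]
    exact one_mem _
  have hidx : ¬ p ∣ (Z.subgroupOf M).index := by
    have e := card_mul_index (Z.subgroupOf M)
    rw [Nat.card_congr (subgroupOfEquivOfLe hZM).toEquiv, hcardM] at e
    rwa [Nat.eq_of_mul_eq_mul_left Nat.card_pos e]
  let Q : Sylow p M := (hZ.of_equiv (subgroupOfEquivOfLe hZM).symm).toSylow hidx
  have hM' : HasNormalPComplement p M := by
    refine Transfer.hasNormalPComplement_of_normalizer_le Q fun n _ => ?_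
    refine mem_centralizer_iff.2 fun z hz => Subtype.ext ?_
    exact (mem_center_iff.1 (hc (mem_subgroupOf.1 hz)) (n : G)).symm
  rw [Transfer.hasNormalPComplement_iff] at hM'
  intro hd
  refine hM' (hd.trans ?_)
  have hle : pResidual p G ≤ (pResidual p M).map M.subtype := by
    refine (closure_le _).2 fun g hg => ?_
    have hgM : g ∈ M := Transfer.mem_pResidual_of_coprime
      (Nat.Coprime.coprime_dvd_left (orderOf_map_dvd (QuotientGroup.mk' Z) g) hg)
    exact ⟨⟨g, hgM⟩, Transfer.mem_pResidual_of_coprime
      (show (orderOf (⟨g, hgM⟩ : M)).Coprime p by rw [orderOf_mk]; exact hg), rfl⟩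
  have := card_dvd_of_le hle
  rwa [card_map_of_injective M.subtype_injective] at this

theorem HypU.quotient [hp : Fact p.Prime] (h : HypU p G) (Z : Subgroup G) [Z.Normal] :
    HypU p (G ⧸ Z) := by
  intro u hu
  obtain ⟨g, rfl⟩ := QuotientGroup.mk'_surjective Z u
  obtain ⟨a, b, -, -, hab, ⟨k, hk⟩, hb⟩ := Transfer.exists_pPart_mul (p := p) g
  -- the `p'`-part lifts
  obtain ⟨a', b', ha', hb', hab', hka, hkb⟩ := Transfer.exists_pPart_mul (p := p) g
  have hlift : QuotientGroup.mk' Z b' = QuotientGroup.mk' Z g := by
    have hone : QuotientGroup.mk' Z a' = 1 := by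
      refine Transfer.eq_one_of_pow_of_coprime (p := p) ?_ ?_
      · obtain ⟨j, hj⟩ := hka
        exact ⟨j, (orderOf_map_dvd _ a').trans hj⟩
      · obtain ⟨i, rfl⟩ := ha'
        rw [map_zpow]
        exact Nat.Coprime.coprime_dvd_left (orderOf_dvd_of_mem_zpowers (zpow_mem (mem_zpowers _) i)) hu
    conv_rhs => rw [← hab', map_mul, hone, one_mul]
  rw [← hlift]
  have h1 := h b' hkb
  have hdvd := index_dvd_quotient Z b'
  have e1 := Nat.factorization_mul (a := Nat.card (centralizer ({b'} : Set G)))
    (b := (centralizer ({b'} : Set G)).index) Nat.card_pos.ne' index_ne_zero_of_finite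
  have e2 := Nat.factorization_mul
    (a := Nat.card (centralizer ({QuotientGroup.mk' Z b'} : Set (G ⧸ Z))))
    (b := (centralizer ({QuotientGroup.mk' Z b'} : Set (G ⧸ Z))).index)
    Nat.card_pos.ne' index_ne_zero_of_finite
  rw [card_mul_index] at e1 e2
  have e1' := congrArg (fun f => f p) e1
  have e2' := congrArg (fun f => f p) e2
  simp only [Finsupp.add_apply] at e1' e2'
  have h3 := (Nat.factorization_le_iff_dvd index_ne_zero_of_finite index_ne_zero_of_finite).2 hdvd p
  omega

/-- Orbits of an automorphism of prime order `≥ 3` fixing a small set. -/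
theorem card_image_le {V X : Type*} [Fintype V] [DecidableEq V] [DecidableEq X] (σ : Equiv.Perm V)
    {r : ℕ} (hr : r.Prime) (hσ : σ ^ r = 1) (f : V → X) (hf : ∀ v, f (σ v) = f v)
    (s : Finset V) (hs : ∀ v ∈ s, σ v ∈ s) :
    r * (s.image f).card ≤ r * (s.filter (fun v => σ v = v)).card +
      (s.filter (fun v => σ v ≠ v)).card := by
  classical
  set A := s.filter (fun v => σ v = v)
  set B := s.filter (fun v => σ v ≠ v) with hB
  have h1 : s.image f ⊆ A.image f ∪ B.image f := by
    intro x hx
    obtain ⟨v, hv, rfl⟩ := Finset.mem_image.1 hx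
    by_cases h : σ v = v
    · exact Finset.mem_union_left _ (Finset.mem_image_of_mem f (Finset.mem_filter.2 ⟨hv, h⟩))
    · exact Finset.mem_union_right _ (Finset.mem_image_of_mem f (Finset.mem_filter.2 ⟨hv, h⟩))
  have h2 : (B.image f).card * r ≤ B.card := by
    rw [Finset.card_eq_sum_card_image f B, mul_comm, ← Finset.sum_const_nat (m := r)
      (f := fun _ => r) (s := B.image f) (fun _ _ => rfl) |>.trans (mul_comm _ _)]
    refine Finset.sum_le_sum fun x hx => ?_
    obtain ⟨v, hv, rfl⟩ := Finset.mem_image.1 hx
    obtain ⟨hvs, hvσ⟩ := Finset.mem_filter.1 hv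
    have hper : Function.minimalPeriod σ v = r := by
      have hd : Function.minimalPeriod σ v ∣ r := by
        apply Function.IsPeriodicPt.minimalPeriod_dvd
        show σ^[r] v = v
        rw [Equiv.Perm.iterate_eq_pow, hσ]; rfl
      refine ((Nat.dvd_prime hr).1 hd).resolve_left fun h1 => hvσ ?_
      exact Function.minimalPeriod_eq_one_iff_isFixedPt.1 h1
    have hiter : ∀ i, σ^[i] v ∈ s ∧ f (σ^[i] v) = f v := by
      intro i
      induction i with
      | zero => exact ⟨hvs, rfl⟩
      | succ i ih =>
        rw [Function.iterate_succ_apply']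
        exact ⟨hs _ ih.1, (hf _).trans ih.2⟩
    calc r = ((Finset.range r).image (fun i => σ^[i] v)).card := by
            rw [Finset.card_image_of_injOn, Finset.card_range]
            intro i hi j hj hij
            rw [Finset.coe_range, Set.mem_Iio] at hi hj
            exact Function.iterate_injOn_Iio_minimalPeriod (by rw [Set.mem_Iio, hper]; exact hi)
              (by rw [Set.mem_Iio, hper]; exact hj) hij
      _ ≤ (B.filter (fun w => f w = f v)).card := by
            refine Finset.card_le_card fun w hw => ?_
            obtain ⟨i, -, rfl⟩ := Finset.mem_image.1 hw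
            rw [Finset.mem_filter, hB, Finset.mem_filter]
            refine ⟨⟨(hiter i).1, fun h => hvσ ?_⟩, (hiter i).2⟩
            have h' : σ^[i] (σ v) = σ^[i] v := by
              rw [← Function.iterate_succ_apply, Function.iterate_succ_apply']; exact h
            exact σ.injective.iterate i h'
  calc r * (s.image f).card ≤ r * (A.image f ∪ B.image f).card :=
        Nat.mul_le_mul_left r (Finset.card_le_card h1)
    _ ≤ r * ((A.image f).card + (B.image f).card) :=
        Nat.mul_le_mul_left r (Finset.card_union_le _ _)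
    _ ≤ r * A.card + B.card := by
        rw [mul_add, mul_comm r (B.image f).card]
        exact Nat.add_le_add (Nat.mul_le_mul_left r Finset.card_image_le) h2

/-- An automorphism of prime order `r > p` of a commutative `p`-group has fewer than half as many
orbits on non-identity elements as there are elements. -/
theorem two_mul_card_image_lt {V X : Type*} [CommGroup V] [Fintype V] [DecidableEq V]
    [DecidableEq X] [hp : Fact p.Prime] (hV : IsPGroup p V) (τ : MulAut V) {r : ℕ} (hr : r.Prime)
    (hpr : p < r) (hτ : τ ^ r = 1) (hτ1 : τ ≠ 1) (f : V → X) (hf : ∀ v, f (τ v) = f v) :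
    2 * ((Finset.univ.erase (1 : V)).image f).card < Fintype.card V := by
  classical
  have hpow : ∀ n : ℕ, (MulEquiv.toEquiv τ : Equiv.Perm V) ^ n = MulEquiv.toEquiv (τ ^ n) := by
    intro n
    induction n with
    | zero => rfl
    | succ n ih => rw [pow_succ, ih, pow_succ]; rfl
  have hσ : (MulEquiv.toEquiv τ : Equiv.Perm V) ^ r = 1 := by rw [hpow, hτ]; rfl
  set F : Subgroup V := MonoidHom.eqLocus τ.toMonoidHom (MonoidHom.id V) with hF
  haveI : Fact r.Prime := ⟨hr⟩
  -- the fixed subgroup has index at least `p²`
  have hidx : p ^ 2 ≤ F.index := by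
    obtain ⟨j, hj⟩ := hV.index F
    have hrp : IsPGroup r (zpowers (MulEquiv.toEquiv τ : Equiv.Perm V)) := by
      apply IsPGroup.of_card_dvd_pow (n := 1)
      rw [Nat.card_zpowers, pow_one]
      exact orderOf_dvd_of_pow_eq_one hσ
    have hmod := hrp.card_modEq_card_fixedPoints V
    have hfix : MulAction.fixedPoints (zpowers (MulEquiv.toEquiv τ : Equiv.Perm V)) V =
        (F : Set V) := by
      ext v
      constructor
      · intro h
        exact h ⟨_, mem_zpowers _⟩
      · rintro h ⟨w, k, rfl⟩
        exact MulAction.mem_stabilizer_iff.1 (zpow_mem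
          (show (MulEquiv.toEquiv τ : Equiv.Perm V) ∈ MulAction.stabilizer (Equiv.Perm V) v from h) k)
    rw [hfix, ← card_mul_index F, hj] at hmod
    have hFtop : F ≠ ⊤ := fun h => hτ1 (MulEquiv.ext fun v => (h ▸ mem_top v : v ∈ F))
    obtain ⟨i, hi⟩ := (hV.to_subgroup F).exists_card_eq
    have hmod' : p ^ i * p ^ j ≡ p ^ i * 1 [MOD r] := by
      rw [mul_one, ← hi]; exact hmod
    have hmod'' : p ^ j ≡ 1 [MOD r] := Nat.ModEq.cancel_left_of_coprime
      (Nat.Coprime.pow_right i ((Nat.coprime_primes hr hp.out).2 (by omega))) hmod'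
    rw [hj]
    rcases j with _ | _ | j
    · rw [pow_zero] at hj
      exact absurd (index_eq_one.1 hj) hFtop
    · rw [pow_one] at hmod''
      have h1 := (Nat.modEq_iff_dvd' hp.out.one_lt.le).1 hmod''.symm
      have := Nat.le_of_dvd (Nat.sub_pos_of_lt hp.out.one_lt) h1
      omega
    · exact Nat.pow_le_pow_right hp.out.pos (by omega)
  have key := card_image_le (MulEquiv.toEquiv τ) hr hσ f hf (Finset.univ.erase (1 : V))
    (fun v hv => by
      rw [Finset.mem_erase] at hv ⊢
      exact ⟨fun h => hv.1 (τ.injective (h.trans (map_one τ).symm)), Finset.mem_univ _⟩)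
  set A := (Finset.univ.erase (1 : V)).filter (fun v => (MulEquiv.toEquiv τ : Equiv.Perm V) v = v)
  set B := (Finset.univ.erase (1 : V)).filter (fun v => (MulEquiv.toEquiv τ : Equiv.Perm V) v ≠ v)
  have hA : A.card + 1 = Nat.card F := by
    have e : insert (1 : V) A = (F : Set V).toFinset := by
      ext v
      simp only [Finset.mem_insert, A, Finset.mem_filter, Finset.mem_erase, Finset.mem_univ,
        and_true, Set.mem_toFinset, SetLike.mem_coe]
      constructor
      · rintro (rfl | ⟨-, h⟩)
        · exact one_mem F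
        · exact h
      · intro h
        by_cases hv : v = 1
        · exact Or.inl hv
        · exact Or.inr ⟨hv, h⟩
    rw [← Finset.card_insert_of_notMem (show (1 : V) ∉ A by simp [A]), e, Nat.card_eq_fintype_card,
      Set.toFinset_card]
    rfl
  have hAB : A.card + B.card + 1 = Fintype.card V := by
    rw [Finset.card_filter_add_card_filter_not, Finset.card_erase_add_one (Finset.mem_univ _),
      Finset.card_univ]
  have hN : Fintype.card V = Nat.card F * F.index := by
    rw [card_mul_index, Nat.card_eq_fintype_card]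
  have hFpos : 0 < Nat.card F := Nat.card_pos
  have h4 : 4 ≤ F.index := le_trans (Nat.pow_le_pow_left hp.out.two_le 2) hidx
  have hr3 : 3 ≤ r := lt_of_le_of_lt hp.out.two_le hpr
  by_contra hge
  push Not at hge
  set m := ((Finset.univ.erase (1 : V)).image f).card
  have h5 : r * Fintype.card V ≤ 2 * (r * A.card + B.card) := by
    calc r * Fintype.card V ≤ r * (2 * m) := Nat.mul_le_mul_left r hge
      _ = 2 * (r * m) := by ring
      _ ≤ _ := Nat.mul_le_mul_left 2 key
  have h6 : 4 * (A.card + 1) ≤ A.card + B.card + 1 := by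
    rw [hAB, hN, hA, mul_comm 4]
    exact Nat.mul_le_mul_left _ h4
  rw [← hAB] at h5
  obtain ⟨d, rfl⟩ : ∃ d, r = 3 + d := ⟨r - 3, by omega⟩
  nlinarith

/-- The number of elements of order prime to `p` centralising a `p`-subgroup inside an abelian
Sylow subgroup, when the centraliser has a normal `p`-complement. -/
theorem card_coprime_centralizer_mul [hp : Fact p.Prime] (C : Subgroup G) (P : Sylow p G)
    (hPC : (P : Subgroup G) ≤ C) (h : HasNormalPComplement p C) :
    {u : G | u ∈ C ∧ (orderOf u).Coprime p}.ncard * Nat.card P ≤ Nat.card C := by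
  have hR := Transfer.hasNormalPComplement_iff.1 h
  set K := (pResidual p C).map C.subtype
  have hsub : {u : G | u ∈ C ∧ (orderOf u).Coprime p} ⊆ (K : Set G) := by
    rintro u ⟨huC, hu⟩
    exact ⟨⟨u, huC⟩, Transfer.mem_pResidual_of_coprime
      (show (orderOf (⟨u, huC⟩ : C)).Coprime p by rw [orderOf_mk]; exact hu), rfl⟩
  have h1 := Set.ncard_le_ncard hsub
  rw [← Nat.card_coe_set_eq (K : Set G)] at h1
  have hKc : Nat.card (K : Subgroup G) = Nat.card (pResidual p C) :=
    card_map_of_injective C.subtype_injective
  change _ ≤ Nat.card (K : Subgroup G) at h1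
  rw [hKc] at h1
  have hcop : (Nat.card (pResidual p C)).Coprime (Nat.card P) := by
    obtain ⟨k, hk⟩ := P.2.exists_card_eq
    rw [hk]
    exact Nat.Coprime.pow_right k ((hp.out.coprime_iff_not_dvd.2 hR).symm)
  refine le_trans (Nat.mul_le_mul_right _ h1) (Nat.le_of_dvd Nat.card_pos ?_)
  exact hcop.mul_dvd_of_dvd_of_dvd (card_subgroup_dvd_card _) (card_dvd_of_le hPC)

theorem hasNormalPComplement_elab [hp : Fact p.Prime] :
    ∀ (n : ℕ) (G : Type u) [Group G] [Finite G], Nat.card G = n →
      (∀ r : ℕ, r.Prime → r ∣ Nat.card G → p ≤ r) →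
      (∀ P : Sylow p G, IsMulCommutative P ∧ ∀ x ∈ (P : Subgroup G), x ^ p = 1) →
      HypU p G → HasNormalPComplement p G := by
  intro n
  induction n using Nat.strong_induction_on with
  | _ n ih =>
  intro G _ _ hn hmin hel hU
  classical
  subst hn
  obtain ⟨P⟩ : Nonempty (Sylow p G) := inferInstance
  haveI := (hel P).1
  have hel' : ∀ (H : Type u) [Group H] [Finite H] (φ : H →* G), Function.Injective φ →
      ∀ Q : Sylow p H, IsMulCommutative Q ∧ ∀ x ∈ (Q : Subgroup H), x ^ p = 1 := by
    intro H _ _ φ hφ Q
    obtain ⟨R, hR⟩ := (Q.2.map φ).exists_le_sylow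
    refine ⟨⟨⟨fun a b => Subtype.ext (hφ ?_)⟩⟩, fun x hx => hφ ?_⟩
    · rw [Subgroup.coe_mul, Subgroup.coe_mul, map_mul, map_mul]
      exact congrArg Subtype.val ((hel R).1.is_comm.comm
        ⟨φ a, hR ⟨_, a.2, rfl⟩⟩ ⟨φ b, hR ⟨_, b.2, rfl⟩⟩)
    · rw [map_pow, map_one]
      exact (hel R).2 _ (hR ⟨x, hx, rfl⟩)
  by_cases hz : ∃ a ∈ (P : Subgroup G), a ≠ 1 ∧ a ∈ center G
  · obtain ⟨a, haP, ha1, haZ⟩ := hz
    set Z := zpowers a with hZ
    have hZc : Z ≤ center G := zpowers_le.2 haZ
    haveI : Z.Normal := ⟨fun x hx g => by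
      rw [mem_center_iff.1 (hZc hx) g, mul_inv_cancel_right]; exact hx⟩
    have hZp : IsPGroup p Z := P.2.to_le (zpowers_le.2 haP)
    refine hasNormalPComplement_of_central Z hZp hZc ?_
    have hlt : Nat.card (G ⧸ Z) < Nat.card G :=
      Basics.card_quotient_lt (fun h => ha1 (zpowers_eq_bot.1 h))
    refine ih _ hlt (G ⧸ Z) rfl (fun r hr hd => hmin r hr (hd.trans (card_quotient_dvd_card Z)))
      (fun Q => ?_) (hU.quotient Z)
    obtain ⟨R, rfl⟩ := Sylow.mapSurjective_surjective (QuotientGroup.mk'_surjective Z) p Q
    refine ⟨⟨⟨?_⟩⟩, ?_⟩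
    · rintro ⟨x, hx⟩ ⟨y, hy⟩
      rw [Sylow.coe_mapSurjective] at hx hy
      obtain ⟨x', hx', rfl⟩ := hx
      obtain ⟨y', hy', rfl⟩ := hy
      refine Subtype.ext ?_
      show QuotientGroup.mk' Z x' * QuotientGroup.mk' Z y' =
        QuotientGroup.mk' Z y' * QuotientGroup.mk' Z x'
      have hc : x' * y' = y' * x' :=
        congrArg Subtype.val ((hel R).1.is_comm.comm ⟨x', hx'⟩ ⟨y', hy'⟩)
      rw [← map_mul, ← map_mul, hc]
    · intro x hx
      rw [Sylow.coe_mapSurjective] at hx
      obtain ⟨x', hx', rfl⟩ := hx
      rw [← map_pow, (hel R).2 x' hx', map_one]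
  push Not at hz
  have hPab : (P : Subgroup G) ≤ centralizer ((P : Subgroup G) : Set G) := fun x hx =>
    mem_centralizer_iff.2 fun y hy =>
      congrArg Subtype.val ((hel P).1.is_comm.comm ⟨y, hy⟩ ⟨x, hx⟩)
  -- centralisers of nontrivial elements of `P`
  have hCa : ∀ a ∈ (P : Subgroup G), a ≠ 1 →
      HasNormalPComplement p (centralizer ({a} : Set G)) := by
    intro a haP ha1
    set C := centralizer ({a} : Set G) with hC
    have hne : C ≠ ⊤ := fun h => hz a haP ha1 (mem_center_iff.2 fun g =>
      mem_centralizer_singleton_iff.1 (h ▸ mem_top g : g ∈ C))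
    refine ih _ (Basics.card_lt_card_of_ne_top hne) C rfl
      (fun r hr hd => hmin r hr (hd.trans (card_subgroup_dvd_card C)))
      (hel' C C.subtype C.subtype_injective) fun u hu => ?_
    have hu' : (orderOf (u : G)).Coprime p := by rwa [orderOf_coe]
    have h1 : (Nat.card C).factorization p ≤ (Nat.card G).factorization p :=
      (Nat.factorization_le_iff_dvd Nat.card_pos.ne' Nat.card_pos.ne').2 (card_subgroup_dvd_card C) p
    refine h1.trans ((hU u hu').trans (Nat.succ_le_succ ?_))
    set D := centralizer ({(u : G)} : Set G) with hD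
    have haD : a ∈ D := mem_centralizer_singleton_iff.2
      (mem_centralizer_singleton_iff.1 u.2).symm
    obtain ⟨T, hT⟩ := (show IsPGroup p (zpowers (⟨a, haD⟩ : D)) from by
      obtain ⟨j, hj⟩ := IsPGroup.iff_orderOf.1 P.2 ⟨a, haP⟩
      refine IsPGroup.of_card (n := j) ?_
      rw [Nat.card_zpowers, orderOf_mk, ← hj, orderOf_mk]).exists_le_sylow
    refine (hp.out.pow_dvd_iff_le_factorization Nat.card_pos.ne').1 ?_
    rw [← T.card_eq_multiplicity]
    let φ : (T : Subgroup D) →* centralizer ({u} : Set C) :=
      { toFun := fun t => ⟨⟨(t : D), mem_centralizer_singleton_iff.2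
          (congrArg (fun s : (T : Subgroup D) => ((s : D) : G))
            ((hel' D D.subtype D.subtype_injective T).1.is_comm.comm t
              ⟨_, hT (mem_zpowers _)⟩))⟩,
          mem_centralizer_singleton_iff.2 (Subtype.ext
            (mem_centralizer_singleton_iff.1 (t : D).2))⟩
        map_one' := rfl
        map_mul' := fun _ _ => rfl }
    exact card_dvd_of_injective φ fun s t h => Subtype.ext (Subtype.ext
      (congrArg (fun z : centralizer ({u} : Set C) => ((z : C) : G)) h))
  by_cases hpG : ¬ p ∣ Nat.card G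
  · rw [Transfer.hasNormalPComplement_iff]
    exact fun h => hpG (h.trans (card_subgroup_dvd_card _))
  push Not at hpG
  obtain ⟨k, hk⟩ := P.2.exists_card_eq
  have hk0 : k ≠ 0 := by
    rintro rfl
    exact P.ne_bot_of_dvd_card hpG (card_eq_one.1 (by rw [hk, pow_zero]))
  by_cases hk1 : k = 1
  · subst hk1
    refine Transfer.hasNormalPComplement_of_abelian P fun q hq hqd hqp F hF hmod => ?_
    obtain ⟨i, hi, hFc⟩ := (Nat.dvd_prime_pow hp.out).1 (hk ▸ card_subgroup_dvd_card F)
    have hF1 : Nat.card F = 1 := by
      rcases Nat.le_one_iff_eq_zero_or_eq_one.1 hi with rfl | rfl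
      · rw [hFc, pow_zero]
      · exact absurd (eq_top_of_card_eq F (hFc.trans hk.symm)) hF
    rw [hk, hF1, pow_one] at hmod
    have h1 := (Nat.modEq_iff_dvd' hp.out.one_lt.le).1 hmod.symm
    have h2 := Nat.le_of_dvd (Nat.sub_pos_of_lt hp.out.one_lt) h1
    have h3 := hmin q hq hqd
    omega
  -- an element inducing an automorphism of prime order
  by_contra hno
  set NP := normalizer ((P : Subgroup G) : Set G) with hNP
  let μ := (P : Subgroup G).normalizerMonoidHom
  have hne : μ.range ≠ ⊥ := by
    intro hb
    refine hno (Transfer.hasNormalPComplement_of_normalizer_le P fun m hm => ?_)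
    have h1 : (⟨m, hm⟩ : normalizer ((P : Subgroup G) : Set G)) ∈ μ.ker :=
      MonoidHom.mem_ker.2 (mem_bot.1 (hb ▸ ⟨_, rfl⟩))
    rw [normalizerMonoidHom_ker] at h1
    exact h1
  obtain ⟨r, hr, hrd⟩ := Nat.exists_prime_and_dvd (fun h1 => hne (card_eq_one.1 h1))
  haveI := Fact.mk hr
  obtain ⟨⟨τ, ⟨⟨w, hwN⟩, hw⟩⟩, hτo⟩ := exists_prime_orderOf_dvd_card' r hrd
  replace hτo : orderOf τ = r := (orderOf_coe _).trans hτo
  have hrG : r ∣ Nat.card G :=
    (hrd.trans (card_range_dvd μ)).trans (card_subgroup_dvd_card _)
  have hrp : p < r := by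
    refine lt_of_le_of_ne (hmin r hr hrG) ?_
    rintro rfl
    -- a `p`-automorphism is inner, hence trivial
    have hPker : ((P : Subgroup G).subgroupOf NP) ≤ μ.ker := by
      rw [normalizerMonoidHom_ker]
      exact fun y hy => hPab hy
    have h1 : p ∣ ((P : Subgroup G).subgroupOf NP).index := by
      refine (hrd.trans ?_).trans (index_dvd_of_le hPker)
      rw [index_ker]
    exact P.not_dvd_index (h1.trans (relIndex_dvd_index_of_le le_normalizer))
  have hτr : τ ^ r = 1 := by rw [← hτo, pow_orderOf_eq_one]
  have hτ1 : τ ≠ 1 := fun h => hr.ne_one (by rw [← hτo, h, orderOf_one])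
  letI : CommGroup (P : Subgroup G) :=
    { (inferInstance : Group (P : Subgroup G)) with mul_comm := (hel P).1.is_comm.comm }
  haveI := Fintype.ofFinite (P : Subgroup G)
  haveI := Fintype.ofFinite G
  have hτv : ∀ v : (P : Subgroup G), (τ v : G) = w * v * w⁻¹ := fun v => by rw [← hw]; rfl
  -- first count: elements with non-trivial `p`-part
  let f1 : ↥(P : Subgroup G) → ConjClasses G := fun v => ConjClasses.mk (v : G)
  have h1 := two_mul_card_image_lt (X := ConjClasses G) P.2 τ hr hrp hτr hτ1 f1 (fun v => by
    show ConjClasses.mk (τ v : G) = ConjClasses.mk (v : G)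
    rw [ConjClasses.mk_eq_mk_iff_isConj, hτv, isConj_comm]
    exact isConj_iff.2 ⟨w, rfl⟩)
  -- second count: kernels of linear characters
  haveI := Fintype.ofFinite ((P : Subgroup G) →* ℂˣ)
  let τh : MulAut ((P : Subgroup G) →* ℂˣ) :=
    { toFun := fun l => l.comp τ.symm.toMonoidHom
      invFun := fun l => l.comp τ.toMonoidHom
      left_inv := fun l => by ext v; simp
      right_inv := fun l => by ext v; simp
      map_mul' := fun l l' => rfl }
  have hτh : ∀ (m : ℕ) (l : (P : Subgroup G) →* ℂˣ) v, (τh ^ m) l v = l ((τ⁻¹ ^ m) v) := by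
    intro m
    induction m with
    | zero => intro l v; rfl
    | succ m ih =>
      intro l v
      rw [pow_succ', MulAut.mul_apply]
      show (τh ^ m) l (τ⁻¹ v) = _
      rw [ih, pow_succ, MulAut.mul_apply]
  have hτhr : τh ^ r = 1 := MulEquiv.ext fun l => MonoidHom.ext fun v => by
    rw [hτh, inv_pow, hτr, inv_one]; rfl
  haveI : HasEnoughRootsOfUnity ℂ (Monoid.exponent (P : Subgroup G)) :=
    haveI : NeZero (Monoid.exponent (P : Subgroup G)) := ⟨Monoid.exponent_ne_zero_of_finite⟩
    inferInstance
  have hτh1 : τh ≠ 1 := by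
    intro h
    apply hτ1
    refine MulEquiv.ext fun v => ?_
    by_contra hne'
    obtain ⟨l, hl⟩ := CommGroup.exists_apply_ne_one_of_hasEnoughRootsOfUnity (P : Subgroup G) ℂ
      (a := (τ v)⁻¹ * v) (fun hh => hne' (inv_mul_eq_one.1 hh))
    apply hl
    have h2 := congrArg (fun e : MulAut ((P : Subgroup G) →* ℂˣ) => e l (τ v)) h
    change l (τ.symm (τ v)) = l (τ v) at h2
    rw [MulEquiv.symm_apply_apply] at h2
    rw [map_mul, map_inv, h2, inv_mul_cancel]
  have hPd : IsPGroup p ((P : Subgroup G) →* ℂˣ) := IsPGroup.of_card (n := k) (by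
    rw [CommGroup.card_monoidHom_of_hasEnoughRootsOfUnity]; exact hk)
  let f2 : ((P : Subgroup G) →* ℂˣ) → Finset (Subgroup G) := fun l =>
    Finset.univ.image (fun g : G => MulAut.conj g • l.ker.map (P : Subgroup G).subtype)
  have h2 := two_mul_card_image_lt (X := Finset (Subgroup G)) hPd τh hr hrp hτhr hτh1 f2 (by
    intro l
    have e : (τh l).ker.map (P : Subgroup G).subtype =
        MulAut.conj w • l.ker.map (P : Subgroup G).subtype := by
      ext x
      rw [Basics.mem_conj_smul]
      constructor
      · rintro ⟨v, hv, rfl⟩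
        refine ⟨τ.symm v, hv, ?_⟩
        simp only [Subgroup.coe_subtype, inv_inv]
        have := hτv (τ.symm v)
        rw [MulEquiv.apply_symm_apply] at this
        rw [this]; group
      · rintro ⟨v, hv, hvx⟩
        simp only [Subgroup.coe_subtype, inv_inv] at hvx
        refine ⟨τ v, ?_, ?_⟩
        · show l (τ.symm (τ v)) = 1
          rw [MulEquiv.symm_apply_apply]; exact hv
        · show (τ v : G) = x
          rw [hτv, hvx]; group
    simp only [f2, e]
    ext H
    simp only [Finset.mem_image, Finset.mem_univ, true_and]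
    constructor
    · rintro ⟨g, rfl⟩
      exact ⟨g * w, by rw [map_mul, mul_smul]⟩
    · rintro ⟨g, rfl⟩
      exact ⟨g * w⁻¹, by rw [map_mul, mul_smul, map_inv, inv_smul_smul]⟩)
  set I1 := (Finset.univ.erase (1 : (P : Subgroup G))).image f1 with hI1
  set I2 := (Finset.univ.erase (1 : (P : Subgroup G) →* ℂˣ)).image f2 with hI2
  have hdual : Fintype.card ((P : Subgroup G) →* ℂˣ) = Fintype.card (P : Subgroup G) := by
    rw [← Nat.card_eq_fintype_card, CommGroup.card_monoidHom_of_hasEnoughRootsOfUnity,
      Nat.card_eq_fintype_card]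
  rw [hdual] at h2
  -- a count of `p'`-elements
  set U := Finset.univ.filter (fun u : G => (orderOf u).Coprime p) with hUdef
  set ν := Nat.card G with hν
  have hU2 : U.card * Nat.card P ≤ I2.card * ν := by
    let F : Finset (Subgroup G) → Finset G := fun X =>
      X.biUnion fun H => Finset.univ.filter (fun u : G =>
        u ∈ centralizer (H : Set G) ∧ (orderOf u).Coprime p)
    have hsub : U ⊆ I2.biUnion F := by
      intro u hu
      have hu' : (orderOf u).Coprime p := (Finset.mem_filter.1 hu).2
      obtain ⟨T⟩ : Nonempty (Sylow p (centralizer ({u} : Set G))) := inferInstance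
      set T' := (T : Subgroup (centralizer ({u} : Set G))).map
        (centralizer ({u} : Set G)).subtype with hT'
      obtain ⟨R, hR⟩ := (T.2.map (centralizer ({u} : Set G)).subtype).exists_le_sylow
      obtain ⟨g, hg⟩ := MulAction.exists_smul_eq G P R
      -- a hyperplane of `P` below a conjugate of the Sylow subgroup of the centraliser
      have hle : MulAut.conj g⁻¹ • T' ≤ (P : Subgroup G) := by
        have h3 : T' ≤ MulAut.conj g • (P : Subgroup G) := by
          rw [← Sylow.coe_subgroup_smul, hg]; exact hR
        rw [map_inv]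
        exact (pointwise_smul_le_pointwise_smul_iff (a := MulAut.conj g)).1
          (by rw [smul_inv_smul]; exact h3)
      have hTc : p ^ (k - 1) ≤ Nat.card (MulAut.conj g⁻¹ • T' : Subgroup G) := by
        rw [Basics.card_conj_smul, hT', card_map_of_injective (Subgroup.subtype_injective _),
          T.card_eq_multiplicity]
        refine Nat.pow_le_pow_right hp.out.pos ?_
        have := hU u hu'
        have hkm : k = (Nat.card G).factorization p :=
          Nat.pow_right_injective hp.out.two_le (hk.symm.trans P.card_eq_multiplicity)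
        omega
      set H0 := (MulAut.conj g⁻¹ • T' : Subgroup G).subgroupOf (P : Subgroup G) with hH0
      have hH0c : Nat.card H0 = Nat.card (MulAut.conj g⁻¹ • T' : Subgroup G) :=
        Nat.card_congr (subgroupOfEquivOfLe hle).toEquiv
      obtain ⟨i, hi, hH0i⟩ := (Nat.dvd_prime_pow hp.out).1 (hk ▸ card_subgroup_dvd_card H0)
      have hki : k - 1 ≤ i := (Nat.pow_le_pow_iff_right hp.out.one_lt).1 (by rw [← hH0i, hH0c]; exact hTc)
      obtain ⟨K, hK, hKc⟩ : ∃ K : Subgroup (P : Subgroup G), K ≤ H0 ∧ Nat.card K = p ^ (k - 1) := by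
        obtain ⟨K0, hK0⟩ := Sylow.exists_subgroup_card_pow_prime (G := H0) p
          (n := k - 1) (by rw [hH0i]; exact pow_dvd_pow p hki)
        exact ⟨K0.map H0.subtype, map_subtype_le _,
          by rw [card_map_of_injective H0.subtype_injective, hK0]⟩
      -- `K` is the kernel of a character
      haveI : K.Normal := ⟨fun a ha b => by rw [mul_comm b a, mul_inv_cancel_right]; exact ha⟩
      have hQ : Nat.card ((P : Subgroup G) ⧸ K) = p := by
        have h4 := card_eq_card_quotient_mul_card_subgroup K
        rw [hk, hKc] at h4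
        refine Nat.eq_of_mul_eq_mul_right (pow_pos hp.out.pos (k - 1)) ?_
        rw [← h4, ← pow_succ']
        congr 1
        omega
      haveI := isCyclic_of_prime_card hQ
      obtain ⟨a, ha⟩ : ∃ a : (P : Subgroup G) ⧸ K, a ≠ 1 := by
        haveI : Nontrivial ((P : Subgroup G) ⧸ K) :=
          Finite.one_lt_card_iff_nontrivial.1 (by rw [hQ]; exact hp.out.one_lt)
        exact exists_ne 1
      letI : CommGroup ((P : Subgroup G) ⧸ K) := IsCyclic.commGroup
      haveI : HasEnoughRootsOfUnity ℂ (Monoid.exponent ((P : Subgroup G) ⧸ K)) :=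
        haveI : NeZero (Monoid.exponent ((P : Subgroup G) ⧸ K)) :=
          ⟨Monoid.exponent_ne_zero_of_finite⟩
        inferInstance
      obtain ⟨l0, hl0⟩ := CommGroup.exists_apply_ne_one_of_hasEnoughRootsOfUnity
        ((P : Subgroup G) ⧸ K) ℂ (a := a) ha
      set l : (P : Subgroup G) →* ℂˣ := l0.comp (QuotientGroup.mk' K) with hl
      have hlK : l.ker = K := by
        refine le_antisymm ?_ fun x hx => ?_
        · intro x hx
          rw [← QuotientGroup.eq_one_iff]
          by_contra hne'
          apply hl0
          have : a ∈ zpowers (x : (P : Subgroup G) ⧸ K) := by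
            rw [zpowers_eq_top_of_prime_card (p := p) hQ hne']; trivial
          obtain ⟨i, rfl⟩ := this
          rw [map_zpow, show l0 (x : (P : Subgroup G) ⧸ K) = 1 from hx, one_zpow]
        · show l0 (QuotientGroup.mk' K x) = 1
          rw [show QuotientGroup.mk' K x = 1 from (QuotientGroup.eq_one_iff x).2 hx, map_one]
      have hl1 : l ≠ 1 := fun h => by
        obtain ⟨x, rfl⟩ := QuotientGroup.mk'_surjective K a
        exact hl0 (show l x = 1 by rw [h]; rfl)
      rw [Finset.mem_biUnion]
      refine ⟨f2 l, Finset.mem_image_of_mem f2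
        (Finset.mem_erase.2 ⟨hl1, Finset.mem_univ _⟩), ?_⟩
      rw [Finset.mem_biUnion]
      refine ⟨MulAut.conj g • l.ker.map (P : Subgroup G).subtype,
        Finset.mem_image.2 ⟨g, Finset.mem_univ _, rfl⟩, Finset.mem_filter.2 ⟨Finset.mem_univ _,
        ?_, hu'⟩⟩
      refine mem_centralizer_iff.2 fun x hx => ?_
      rw [SetLike.mem_coe, hlK, Basics.mem_conj_smul] at hx
      obtain ⟨v, hv, hvx⟩ := hx
      simp only [Subgroup.coe_subtype, inv_inv] at hvx
      have h5 : (v : G) ∈ MulAut.conj g⁻¹ • T' := mem_subgroupOf.1 (hK hv)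
      rw [Basics.mem_conj_smul, inv_inv] at h5
      have h6 : x ∈ T' := by
        have : g⁻¹⁻¹ * (v : G) * g⁻¹ = x := by
          rw [hvx]; group
        rw [← this]; simpa using h5
      obtain ⟨t, -, rfl⟩ := h6
      exact mem_centralizer_singleton_iff.1 t.2
    calc U.card * Nat.card P
        ≤ (∑ X ∈ I2, (F X).card) * Nat.card P :=
          Nat.mul_le_mul_right _ ((Finset.card_le_card hsub).trans Finset.card_biUnion_le)
      _ ≤ ∑ _X ∈ I2, ν := by
          rw [Finset.sum_mul]
          refine Finset.sum_le_sum fun X hX => ?_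
          obtain ⟨l, hl, rfl⟩ := Finset.mem_image.1 hX
          have hl1 := (Finset.mem_erase.1 hl).1
          set L := l.ker.map (P : Subgroup G).subtype with hL
          -- a non-trivial element of `L`
          obtain ⟨a, haL, ha1⟩ : ∃ a ∈ L, a ≠ 1 := by
            by_contra hall
            push Not at hall
            have hinj : Function.Injective l := by
              rw [← MonoidHom.ker_eq_bot_iff, eq_bot_iff]
              exact fun v hv => Subtype.ext (hall _ ⟨v, hv, rfl⟩)
            obtain ⟨x0, hx0⟩ : ∃ x0 : (P : Subgroup G), x0 ≠ 1 := by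
              haveI : Nontrivial (P : Subgroup G) := Finite.one_lt_card_iff_nontrivial.1 (by
                rw [hk]; exact Nat.one_lt_pow hk0 hp.out.one_lt)
              exact exists_ne 1
            have hsub' : ∀ v : (P : Subgroup G), l v ∈ rootsOfUnity p ℂ := fun v => by
              rw [mem_rootsOfUnity, ← map_pow,
                show v ^ p = 1 from Subtype.ext ((hel P).2 v v.2), map_one]
            have hle := Nat.card_le_card_of_injective
              (fun v : (P : Subgroup G) => (⟨l v, hsub' v⟩ : rootsOfUnity p ℂ))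
              (fun v w h => hinj (congrArg Subtype.val h))
            haveI : NeZero p := ⟨hp.out.ne_zero⟩
            rw [HasEnoughRootsOfUnity.natCard_rootsOfUnity, hk] at hle
            have h2k : p ^ 2 ≤ p ^ k := Nat.pow_le_pow_right hp.out.pos (by omega)
            have h3p : p < p ^ 2 := by
              rw [pow_two]; exact lt_mul_of_one_lt_left hp.out.pos hp.out.one_lt
            omega
          have haP : a ∈ (P : Subgroup G) := map_subtype_le _ haL
          set C := centralizer (L : Set G) with hC
          have hPC : (P : Subgroup G) ≤ C := fun x hx =>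
            centralizer_le (map_subtype_le l.ker) (hPab hx)
          have hCle : C ≤ centralizer ({a} : Set G) :=
            centralizer_le (Set.singleton_subset_iff.2 haL)
          have hCn : HasNormalPComplement p C :=
            Transfer.hasNormalPComplement_of_injective (inclusion hCle)
              (inclusion_injective hCle) (hCa a haP ha1)
          have hb : ∀ g : G, (Finset.univ.filter (fun u : G =>
              u ∈ centralizer ((MulAut.conj g • L : Subgroup G) : Set G) ∧
                (orderOf u).Coprime p)).card * Nat.card P ≤ Nat.card C := by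
            intro g
            refine le_trans (Nat.mul_le_mul_right _ ?_) (card_coprime_centralizer_mul C P hPC hCn)
            rw [Set.ncard_eq_toFinset_card']
            refine Finset.card_le_card_of_injOn (fun u => g⁻¹ * u * g) (fun u hu => ?_)
              (fun x _ y _ hxy => mul_left_cancel (mul_right_cancel hxy))
            obtain ⟨hu1, hu2⟩ := (Finset.mem_filter.1 hu).2
            simp only [Set.coe_toFinset, Set.mem_setOf_eq]
            refine ⟨mem_centralizer_iff.2 fun v hv => ?_, ?_⟩
            · have hmem : g * v * g⁻¹ ∈ MulAut.conj g • L := by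
                rw [Basics.mem_conj_smul]; simpa [mul_assoc] using hv
              have h7 := mem_centralizer_iff.1 hu1 _ hmem
              calc v * (g⁻¹ * u * g) = g⁻¹ * (g * v * g⁻¹ * u) * g := by group
                _ = g⁻¹ * (u * (g * v * g⁻¹)) * g := by rw [h7]
                _ = g⁻¹ * u * g * v := by group
            · rw [show g⁻¹ * u * g = MulAut.conj g⁻¹ u by simp, MulEquiv.orderOf_eq]
              exact hu2
          have hX : (f2 l).card * Nat.card C ≤ ν := by
            have hsubX : (f2 l).card ≤ (normalizer (L : Set G)).index := by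
              rw [index_eq_card, Nat.card_eq_fintype_card, ← Finset.card_univ]
              refine Finset.card_le_card_of_surjOn
                (fun q : G ⧸ normalizer (L : Set G) => MulAut.conj q.out • L) ?_
              intro H hH
              obtain ⟨g, -, rfl⟩ := Finset.mem_image.1 hH
              refine ⟨(g : G ⧸ normalizer (L : Set G)), Finset.mem_coe.2 (Finset.mem_univ _), ?_⟩
              obtain ⟨h, hh⟩ := QuotientGroup.mk_out_eq_mul (normalizer (L : Set G)) g
              show MulAut.conj _ • L = _
              rw [hh, map_mul, mul_smul, Basics.conj_smul_eq_self_iff.2 h.2]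
            calc (f2 l).card * Nat.card C ≤ (normalizer (L : Set G)).index *
                  Nat.card (normalizer (L : Set G)) :=
                  Nat.mul_le_mul hsubX (card_le_of_le (centralizer_le_normalizer _))
              _ = ν := index_mul_card _
          calc (F (f2 l)).card * Nat.card P
              ≤ (∑ H ∈ f2 l, (Finset.univ.filter (fun u : G =>
                  u ∈ centralizer (H : Set G) ∧ (orderOf u).Coprime p)).card) * Nat.card P :=
                Nat.mul_le_mul_right _ Finset.card_biUnion_le
            _ ≤ ∑ _H ∈ f2 l, Nat.card C := by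
                rw [Finset.sum_mul]
                refine Finset.sum_le_sum fun H hH => ?_
                obtain ⟨g, -, rfl⟩ := Finset.mem_image.1 hH
                exact hb g
            _ ≤ ν := by rw [Finset.sum_const, smul_eq_mul]; exact hX
      _ = I2.card * ν := by rw [Finset.sum_const, smul_eq_mul]
  -- the other elements
  have hU1 : (Finset.univ \ U).card * Nat.card P ≤ I1.card * ν := by
    let E : ConjClasses G → Finset G := fun c =>
      (Finset.univ.filter (fun a : G => ConjClasses.mk a = c)).biUnion fun a =>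
        (Finset.univ.filter (fun u : G => u ∈ centralizer ({a} : Set G) ∧
          (orderOf u).Coprime p)).image (a * ·)
    have hsub : Finset.univ \ U ⊆ I1.biUnion E := by
      intro x hx
      obtain ⟨a, b, hax, hbx, hab, ⟨j, hj⟩, hb⟩ := Transfer.exists_pPart_mul (p := p) x
      have ha1 : a ≠ 1 := by
        rintro rfl
        rw [one_mul] at hab
        subst hab
        exact (Finset.mem_sdiff.1 hx).2 (Finset.mem_filter.2 ⟨Finset.mem_univ _, hb⟩)
      obtain ⟨R, hR⟩ := (IsPGroup.of_card_dvd_pow (n := j) (G := zpowers a)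
        (by rwa [Nat.card_zpowers])).exists_le_sylow
      obtain ⟨g, hg⟩ := MulAction.exists_smul_eq G P R
      have haP : g⁻¹ * a * g ∈ (P : Subgroup G) := by
        have := hR (mem_zpowers a)
        rw [← hg, Sylow.coe_subgroup_smul, Basics.mem_conj_smul] at this
        simpa using this
      rw [Finset.mem_biUnion]
      refine ⟨f1 ⟨_, haP⟩, Finset.mem_image_of_mem f1 (Finset.mem_erase.2 ⟨fun h => ha1 ?_,
        Finset.mem_univ _⟩), ?_⟩
      · have h8 : g⁻¹ * a * g = 1 := congrArg Subtype.val h
        have := congrArg (fun z => g * z * g⁻¹) h8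
        simpa [mul_assoc] using this
      rw [Finset.mem_biUnion]
      refine ⟨a, Finset.mem_filter.2 ⟨Finset.mem_univ _, ?_⟩, Finset.mem_image.2 ⟨b,
        Finset.mem_filter.2 ⟨Finset.mem_univ _, ?_, hb⟩, hab⟩⟩
      · show ConjClasses.mk a = ConjClasses.mk (g⁻¹ * a * g)
        rw [ConjClasses.mk_eq_mk_iff_isConj]
        exact isConj_iff.2 ⟨g⁻¹, by simp⟩
      · obtain ⟨i, rfl⟩ := hax
        obtain ⟨i', rfl⟩ := hbx
        exact mem_centralizer_singleton_iff.2 ((Commute.refl x).zpow_zpow i' i).eq
    calc (Finset.univ \ U).card * Nat.card P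
        ≤ (∑ c ∈ I1, (E c).card) * Nat.card P :=
          Nat.mul_le_mul_right _ ((Finset.card_le_card hsub).trans Finset.card_biUnion_le)
      _ ≤ ∑ _c ∈ I1, ν := by
          rw [Finset.sum_mul]
          refine Finset.sum_le_sum fun c hc => ?_
          obtain ⟨v, hv, rfl⟩ := Finset.mem_image.1 hc
          have hv1 : (v : G) ≠ 1 := fun h => (Finset.mem_erase.1 hv).1 (Subtype.ext h)
          set C := centralizer ({(v : G)} : Set G) with hC
          have hPC : (P : Subgroup G) ≤ C := fun x hx =>
            mem_centralizer_singleton_iff.2 (mem_centralizer_iff.1 (hPab hx) v v.2).symm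
          have hb : ∀ a, ConjClasses.mk a = f1 v →
              ((Finset.univ.filter (fun u : G => u ∈ centralizer ({a} : Set G) ∧
                (orderOf u).Coprime p)).image (a * ·)).card * Nat.card P ≤ Nat.card C := by
            intro a ha
            refine le_trans (Nat.mul_le_mul_right _ (Finset.card_image_le.trans ?_))
              (card_coprime_centralizer_mul C P hPC (hCa v v.2 hv1))
            obtain ⟨g, hg⟩ := isConj_iff.1 (ConjClasses.mk_eq_mk_iff_isConj.1 ha)
            rw [Set.ncard_eq_toFinset_card']
            refine Finset.card_le_card_of_injOn (fun u => g * u * g⁻¹) (fun u hu => ?_)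
              (fun x _ y _ hxy => mul_left_cancel (mul_right_cancel hxy))
            obtain ⟨hu1, hu2⟩ := (Finset.mem_filter.1 hu).2
            simp only [Set.coe_toFinset, Set.mem_setOf_eq]
            refine ⟨mem_centralizer_singleton_iff.2 ?_, ?_⟩
            · show g * u * g⁻¹ * (v : G) = (v : G) * (g * u * g⁻¹)
              have h7 := mem_centralizer_singleton_iff.1 hu1
              rw [← hg]
              calc g * u * g⁻¹ * (g * a * g⁻¹) = g * (u * a) * g⁻¹ := by group
                _ = g * (a * u) * g⁻¹ := by rw [h7]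
                _ = g * a * g⁻¹ * (g * u * g⁻¹) := by group
            · rw [show g * u * g⁻¹ = MulAut.conj g u by simp, MulEquiv.orderOf_eq]
              exact hu2
          have hX : (Finset.univ.filter (fun a : G => ConjClasses.mk a = f1 v)).card *
              Nat.card C = ν := by
            have he : (Finset.univ.filter (fun a : G => ConjClasses.mk a = f1 v)).card =
                C.index := by
              rw [hC, ← FGB.ncard_carrier_eq_index_centralizer, ← Set.ncard_coe_finset]
              congr 1
              ext a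
              simp [f1, ConjClasses.mem_carrier_iff_mk_eq]
            rw [he, index_mul_card]
          calc (E (f1 v)).card * Nat.card P
              ≤ (∑ a ∈ Finset.univ.filter (fun a : G => ConjClasses.mk a = f1 v),
                ((Finset.univ.filter (fun u : G => u ∈ centralizer ({a} : Set G) ∧
                  (orderOf u).Coprime p)).image (a * ·)).card) * Nat.card P :=
                Nat.mul_le_mul_right _ Finset.card_biUnion_le
            _ ≤ ∑ _a ∈ Finset.univ.filter (fun a : G => ConjClasses.mk a = f1 v), Nat.card C := by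
                rw [Finset.sum_mul]
                exact Finset.sum_le_sum fun a ha => hb a (Finset.mem_filter.1 ha).2
            _ = ν := by rw [Finset.sum_const, smul_eq_mul]; exact hX
      _ = I1.card * ν := by rw [Finset.sum_const, smul_eq_mul]
  have htot : ν * Nat.card P ≤ (I1.card + I2.card) * ν := by
    calc ν * Nat.card P = ((Finset.univ \ U).card + U.card) * Nat.card P := by
          rw [Finset.card_sdiff_add_card_eq_card (Finset.subset_univ _), Finset.card_univ,
            hν, Nat.card_eq_fintype_card]
      _ ≤ (I1.card + I2.card) * ν := by rw [add_mul, add_mul]; exact Nat.add_le_add hU1 hU2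
  rw [mul_comm ν] at htot
  have := Nat.le_of_mul_le_mul_right htot Nat.card_pos
  rw [Nat.card_eq_fintype_card] at this
  omega

theorem hasNormalPComplement_of_sqp [hp : Fact p.Prime] :
    ∀ (n : ℕ) (G : Type u) [Group G] [Finite G], Nat.card G = n →
      (∀ r : ℕ, r.Prime → r ∣ Nat.card G → p ≤ r) → Sqp p G → HasNormalPComplement p G := by
  intro n
  induction n using Nat.strong_induction_on with
  | _ n ih =>
  intro G _ _ hn hmin h
  subst hn
  by_cases hall : ∀ P : Sylow p G, frattini (P : Subgroup G) = ⊥
  · refine hasNormalPComplement_elab _ G rfl hmin (fun P => ⟨⟨⟨fun a b => ?_⟩⟩, fun x hx => ?_⟩)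
      h.hypU
    · haveI := P.2.isNilpotent
      have hm := Basics.commutator_le_frattini (commutator_mem_commutator (mem_top a) (mem_top b))
      rw [hall P, mem_bot] at hm
      exact commutatorElement_eq_one_iff_mul_comm.1 hm
    · have hm := Basics.pow_mem_frattini P.2 (⟨x, hx⟩ : (P : Subgroup G))
      rw [hall P, mem_bot] at hm
      exact congrArg Subtype.val hm
  push Not at hall
  obtain ⟨P, hP⟩ := hall
  haveI := P.2.isNilpotent
  obtain ⟨t, htΦ, htZ, ht1⟩ : ∃ t : (P : Subgroup G),
      t ∈ frattini (P : Subgroup G) ∧ t ∈ center (P : Subgroup G) ∧ t ≠ 1 := by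
    obtain ⟨t, ht, htZ, ht1⟩ := LocalEvenB.exists_mem_center_ne_one (frattini (P : Subgroup G)) hP
    exact ⟨t, ht, htZ, ht1⟩
  set t' : G := (t : G) with ht'
  have htop : centralizer ({t'} : Set G) = ⊤ := by
    refine FGB.eq_top_of_conj_cover fun g => ?_
    obtain ⟨T⟩ : Nonempty (Sylow p (centralizer ({g} : Set G))) := inferInstance
    set T' := (T : Subgroup (centralizer ({g} : Set G))).map (centralizer ({g} : Set G)).subtype
    obtain ⟨R, hR⟩ := (T.2.map (centralizer ({g} : Set G)).subtype).exists_le_sylow
    obtain ⟨y, hy⟩ := MulAction.exists_smul_eq G R P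
    have hle : MulAut.conj y • T' ≤ (P : Subgroup G) := by
      rw [← hy, Sylow.coe_subgroup_smul]
      exact pointwise_smul_le_pointwise_smul_iff.2 hR
    have hfr : frattini (P : Subgroup G) ≤ (MulAut.conj y • T').subgroupOf (P : Subgroup G) := by
      set H0 := (MulAut.conj y • T').subgroupOf (P : Subgroup G) with hH0
      by_cases hH : H0 = ⊤
      · rw [hH]; exact le_top
      obtain ⟨M, hM, hle'⟩ := (eq_top_or_exists_le_coatom H0).resolve_left hH
      have hc1 : (Nat.card H0) * p ≥ Nat.card (P : Subgroup G) := by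
        rw [Nat.card_congr (subgroupOfEquivOfLe hle).toEquiv, Basics.card_conj_smul,
          card_map_of_injective (Subgroup.subtype_injective _), T.card_eq_multiplicity,
          P.card_eq_multiplicity, ← pow_succ]
        exact Nat.pow_le_pow_right hp.out.pos (factorization_le_of_not_dvd (h g))
      have : M = H0 := by
        by_contra hne
        have hlt : H0 < M := lt_of_le_of_ne hle' (Ne.symm hne)
        have h1 := Basics.card_lt_of_lt hlt
        obtain ⟨i, hi⟩ := (P.2.to_subgroup H0).exists_card_eq
        obtain ⟨j, hj⟩ := (P.2.to_subgroup M).exists_card_eq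
        have hMlt := Basics.card_lt_card_of_ne_top hM.1
        obtain ⟨l, hl⟩ := P.2.exists_card_eq
        rw [hi, hj] at h1
        rw [hj, hl] at hMlt
        rw [hi, hl, ← pow_succ] at hc1
        have a1 := (Nat.pow_lt_pow_iff_right hp.out.one_lt).1 h1
        have a2 := (Nat.pow_lt_pow_iff_right hp.out.one_lt).1 hMlt
        have a3 := (Nat.pow_le_pow_iff_right hp.out.one_lt).1 hc1
        omega
      exact this ▸ frattini_le_coatom hM
    refine ⟨y, mem_centralizer_singleton_iff.2 ?_⟩
    have h1 : t' ∈ MulAut.conj y • T' := mem_subgroupOf.1 (hfr htΦ)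
    rw [Basics.mem_conj_smul] at h1
    obtain ⟨s, -, hs⟩ := h1
    have h2 : g * (s : G) = (s : G) * g := (mem_centralizer_singleton_iff.1 s.2).symm
    simp only [Subgroup.coe_subtype, inv_inv] at hs
    rw [hs] at h2
    calc y * g * y⁻¹ * t' = y * (g * (y⁻¹ * t' * y)) * y⁻¹ := by group
      _ = y * (y⁻¹ * t' * y * g) * y⁻¹ := by rw [h2]
      _ = t' * (y * g * y⁻¹) := by group
  have hc : zpowers t' ≤ center G := zpowers_le.2 (mem_center_iff.2 fun g =>
    mem_centralizer_singleton_iff.1 (htop ▸ mem_top g : g ∈ centralizer ({t'} : Set G)))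
  haveI : (zpowers t').Normal := ⟨fun x hx g => by
    rw [mem_center_iff.1 (hc hx) g, mul_inv_cancel_right]; exact hx⟩
  refine hasNormalPComplement_of_central _ (P.2.to_le (zpowers_le.2 t.2)) hc ?_
  exact ih _ (Basics.card_quotient_lt fun hh => ht1 (Subtype.ext (zpowers_eq_bot.1 hh))) _ rfl
    (fun r hr hd => hmin r hr (hd.trans (card_quotient_dvd_card _))) (h.quotient _)

/-- Square-free class sizes force solvability. -/
theorem isSolvable_of_squarefree : ∀ (n : ℕ) (G : Type u) [Group G] [Finite G], Nat.card G = n →
    (∀ x : G, Squarefree (centralizer ({x} : Set G)).index) → Group.IsSolvable G := by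
  intro n
  induction n using Nat.strong_induction_on with
  | _ n ih =>
  intro G _ _ hn h
  subst hn
  rcases subsingleton_or_nontrivial G with hs | hnt
  · infer_instance
  have h1 : Nat.card G ≠ 1 := (Finite.one_lt_card).ne'
  set p := (Nat.card G).minFac with hp
  haveI : Fact p.Prime := ⟨Nat.minFac_prime h1⟩
  have hsq : Sqp p G := fun x hd => by
    have := (Nat.squarefree_iff_prime_squarefree.1 (h x)) p (Nat.minFac_prime h1)
    rw [pow_two] at hd
    exact this hd
  have hcompl := hasNormalPComplement_of_sqp _ G rfl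
    (fun r hr hd => Nat.minFac_le_of_dvd hr.two_le hd) hsq
  rw [Transfer.hasNormalPComplement_iff] at hcompl
  set K := pResidual p G
  have hlt : Nat.card K < Nat.card G := Basics.card_lt_card_of_ne_top fun hK => hcompl (by
    rw [hK, card_top]; exact Nat.minFac_dvd _)
  haveI := ih _ hlt K rfl fun x =>
    Squarefree.squarefree_of_dvd (index_dvd_subgroup K x) (h x)
  haveI := (Transfer.isPGroup_quotient_pResidual (p := p) (G := G)).isNilpotent
  exact Group.isSolvable_of_ker_le_range K.subtype (QuotientGroup.mk' K)
    (by rw [QuotientGroup.ker_mk', range_subtype])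

end Cfsg.Agent.FGS.SquarefreeClass
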