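/-
Pronormality of the overgroups of Sylow subgroups in extensions.
-/
import Mathlib
import Cfsg.Prelude.Def_HallClasses
import Cfsg.Agent.Lib.FGS.SquarefreeClass

set_option autoImplicit false
set_option linter.all false

namespace Cfsg.Agent.FGS.Pronormal

open Subgroup Cfsg
open scoped Pointwise

variable {G : Type*} [Group G]

/-- All overgroups of Sylow `p`-subgroups are pronormal. -/
def AllPron (p : ℕ) (G : Type*) [Group G] : Prop :=
  ∀ K : Subgroup G, (∃ P : Sylow p G, (P : Subgroup G) ≤ K) → IsPronormal K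

/-- conjugate subgroup -/
def cj (g : G) (H : Subgroup G) : Subgroup G := H.map (MulAut.conj g).toMonoidHom

theorem mem_cj {g x : G} {H : Subgroup G} : x ∈ cj g H ↔ g⁻¹ * x * g ∈ H := by
  constructor
  · rintro ⟨h, hh, rfl⟩
    simpa [mul_assoc] using hh
  · exact fun h => ⟨_, h, by simp [mul_assoc]⟩

theorem cj_one (H : Subgroup G) : cj 1 H = H := by ext; simp [mem_cj]

theorem cj_cj (a b : G) (H : Subgroup G) : cj a (cj b H) = cj (a * b) H := by
  ext; simp [mem_cj, mul_assoc]

theorem cj_mono (g : G) {H K : Subgroup G} (h : H ≤ K) : cj g H ≤ cj g K := Subgroup.map_mono h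

theorem cj_sup (g : G) (H K : Subgroup G) : cj g (H ⊔ K) = cj g H ⊔ cj g K := Subgroup.map_sup _ _ _

theorem cj_of_mem {g : G} {H : Subgroup G} (h : g ∈ H) : cj g H = H := by
  ext x
  rw [mem_cj]
  exact ⟨fun hx => by simpa [mul_assoc] using mul_mem (mul_mem h hx) (inv_mem h),
    fun hx => mul_mem (mul_mem (inv_mem h) hx) h⟩

theorem cj_eq_iff {g : G} {H : Subgroup G} : cj g H = H ↔ g ∈ normalizer (H : Set G) := by
  rw [mem_normalizer_iff]
  constructor
  · intro h x
    conv_rhs => rw [← h, mem_cj]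
    simp [mul_assoc]
  · intro h
    ext x
    rw [mem_cj, h]
    simp [mul_assoc]

theorem sup_cj_le {x : G} {H J K : Subgroup G} (hx : x ∈ J) (h1 : H ≤ J) (h2 : cj x K ≤ J) :
    H ⊔ K ≤ J := by
  refine sup_le h1 ?_
  calc K = cj x⁻¹ (cj x K) := by rw [cj_cj, inv_mul_cancel, cj_one]
    _ ≤ cj x⁻¹ J := cj_mono _ h2
    _ = J := cj_of_mem (inv_mem hx)

theorem isPronormal_iff {H : Subgroup G} :
    IsPronormal H ↔ ∀ g : G, ∃ x ∈ H ⊔ cj g H, cj g H = cj x H := Iff.rfl

theorem isPronormal_cj {H : Subgroup G} (c : G) (h : IsPronormal (cj c H)) : IsPronormal H := by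
  rw [isPronormal_iff] at h ⊢
  intro g
  obtain ⟨x, hx, e⟩ := h (c * g * c⁻¹)
  rw [cj_cj, show c * g * c⁻¹ * c = c * g by group, cj_cj] at e
  refine ⟨c⁻¹ * x * c, ?_, ?_⟩
  · rw [show c⁻¹ * x * c ∈ H ⊔ cj g H ↔ x ∈ cj c (H ⊔ cj g H) from mem_cj.symm]
    rw [cj_sup, cj_cj]
    rwa [cj_cj, show c * g * c⁻¹ * c = c * g by group] at hx
  · calc cj g H = cj c⁻¹ (cj (c * g) H) := by rw [cj_cj, inv_mul_cancel_left]
      _ = _ := by rw [e, cj_cj]; group

variable [Finite G] {p : ℕ} [Fact p.Prime]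

theorem exists_sylow_le_iff {K : Subgroup G} :
    (∃ P : Sylow p G, (P : Subgroup G) ≤ K) ↔ ¬ p ∣ K.index := by
  constructor
  · rintro ⟨P, hP⟩ h
    exact P.not_dvd_index' index_ne_zero_of_finite (h.trans (index_dvd_of_le hP))
  · intro h
    obtain ⟨R⟩ := (inferInstance : Nonempty (Sylow p K))
    refine ⟨Sylow.ofCard ((R : Subgroup K).map K.subtype) ?_, map_subtype_le _⟩
    rw [card_map_of_injective K.subtype_injective, R.card_eq_multiplicity, ← card_mul_index K,
      Nat.factorization_mul Nat.card_pos.ne' index_ne_zero_of_finite, Finsupp.add_apply,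
      Nat.factorization_eq_zero_of_not_dvd h, add_zero]

theorem not_dvd_relIndex (A : Subgroup G) [A.Normal] {K : Subgroup G} (h : ¬ p ∣ K.index) :
    ¬ p ∣ K.relIndex A := fun hd =>
  h (hd.trans (SquarefreeClass.index_dvd_subgroup.relIndex_dvd_index_of_normal_sup K A))

/-- A Sylow subgroup of a normal subgroup lies in a given overgroup of a Sylow subgroup, up to conjugacy. -/
theorem exists_conj_sylow_le (A : Subgroup G) [A.Normal] (T : Sylow p A) {K : Subgroup G}
    (h : ∃ P : Sylow p G, (P : Subgroup G) ≤ K) :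
    ∃ a ∈ A, cj a ((T : Subgroup A).map A.subtype) ≤ K := by
  rw [exists_sylow_le_iff] at h
  obtain ⟨R, hR⟩ := (exists_sylow_le_iff (K := K.subgroupOf A)).2 (not_dvd_relIndex A h)
  obtain ⟨a, ha⟩ := MulAction.exists_smul_eq A T R
  refine ⟨a, a.2, ?_⟩
  rintro _ ⟨_, ⟨t, ht, rfl⟩, rfl⟩
  have : MulAut.conj a • t ∈ (R : Subgroup A) := by
    rw [← ha, Sylow.coe_subgroup_smul]
    exact smul_mem_pointwise_smul t _ _ ht
  exact hR this

/-- The extension lemma. -/
theorem allPron_of_local (A : Subgroup G) [A.Normal] (hA : AllPron p A) (hQ : AllPron p (G ⧸ A))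
    (T : Subgroup G) (hT : ∃ P : Sylow p A, (P : Subgroup A).map A.subtype = T)
    [(T.subgroupOf (normalizer (T : Set G))).Normal]
    (hN : AllPron p (normalizer (T : Set G) ⧸ T.subgroupOf (normalizer (T : Set G))))
    (hmap : ∀ K : Subgroup G, (∃ P : Sylow p G, (P : Subgroup G) ≤ K) →
      normalizer ((K.map (QuotientGroup.mk' A) : Subgroup (G ⧸ A)) : Set (G ⧸ A)) ≤
        (normalizer (K : Set G)).map (QuotientGroup.mk' A)) :
    AllPron p G := by
  obtain ⟨T₀, rfl⟩ := hT
  set T := (T₀ : Subgroup A).map A.subtype with hTdef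
  -- reduce to overgroups of T
  suffices key : ∀ H : Subgroup G, (∃ P : Sylow p G, (P : Subgroup G) ≤ H) → T ≤ H → IsPronormal H by
    intro H hH
    obtain ⟨a, ha, hle⟩ := exists_conj_sylow_le A T₀ hH
    refine isPronormal_cj a⁻¹ (key _ ?_ ?_)
    · rw [exists_sylow_le_iff] at hH ⊢
      rw [cj]
      rwa [index_map_of_bijective (MulAut.conj a⁻¹).bijective]
    · calc T = cj a⁻¹ (cj a T) := by rw [cj_cj, inv_mul_cancel, cj_one]
        _ ≤ cj a⁻¹ H := cj_mono _ hle
  intro H hH hTH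
  rw [isPronormal_iff]
  set π := QuotientGroup.mk' A with hπ
  intro g
  set J := H ⊔ cj g H with hJ
  -- quotient
  have hHb : ∃ P : Sylow p (G ⧸ A), (P : Subgroup (G ⧸ A)) ≤ H.map π := by
    rw [exists_sylow_le_iff] at hH ⊢
    exact fun h => hH (h.trans (index_map_dvd H (QuotientGroup.mk'_surjective A)))
  obtain ⟨xb, hxb, exb⟩ := isPronormal_iff.1 (hQ _ hHb) (π g)
  have hcjπ : ∀ (b : G) (L : Subgroup G), cj (π b) (L.map π) = (cj b L).map π := by
    intro b L
    rw [cj, cj, Subgroup.map_map, Subgroup.map_map]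
    congr 1
  rw [hcjπ, ← Subgroup.map_sup] at hxb
  obtain ⟨x, hx, rfl⟩ := hxb
  rw [hcjπ, hcjπ] at exb
  have hn : π (x⁻¹ * g) ∈ normalizer ((H.map π : Subgroup (G ⧸ A)) : Set (G ⧸ A)) := by
    rw [← cj_eq_iff, hcjπ, ← cj_cj, ← hcjπ, exb, hcjπ, cj_cj, inv_mul_cancel, cj_one]
  obtain ⟨n, hnH, hne⟩ := hmap H hH hn
  set a := x⁻¹ * g * n⁻¹ with hadef
  have haA : a ∈ A := by
    rw [← QuotientGroup.eq_one_iff a]
    show π a = 1
    rw [hadef, map_mul, ← hne, map_inv, mul_inv_cancel]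
  have hga : cj g H = cj x (cj a H) := by
    conv_rhs => rw [← cj_eq_iff.2 hnH, cj_cj, cj_cj]
    rw [hadef]; congr 1; group
  -- it suffices to treat elements of A
  suffices h : ∀ a ∈ A, ∃ z ∈ H ⊔ cj a H, cj a H = cj z H by
    obtain ⟨z, hz, ez⟩ := h a haA
    have hle : H ⊔ cj a H ≤ J := sup_cj_le hx le_sup_left (hga ▸ le_sup_right)
    exact ⟨x * z, mul_mem hx (hle hz), by rw [hga, ez, cj_cj]⟩
  clear hga haA hadef a hne hnH n hn exb hx x hJ J g
  intro a ha
  set J := H ⊔ cj a H with hJ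
  set B := H ⊓ A with hB
  have hcjA : ∀ b : G, cj b A = A := fun b => cj_eq_iff.2 (by
    rw [normalizer_eq_top_iff.2 inferInstance]; exact mem_top b)
  -- pronormality in A
  have hBsyl : ∃ R : Sylow p A, (R : Subgroup A) ≤ B.subgroupOf A := ⟨T₀, fun t ht =>
    ⟨hTH ⟨t, ht, rfl⟩, t.2⟩⟩
  obtain ⟨y', hy', ey'⟩ := isPronormal_iff.1 (hA _ hBsyl) ⟨a, ha⟩
  have hsub : ∀ b : A, (cj b (B.subgroupOf A)).map A.subtype = cj (b : G) B := by
    intro b
    have h1 : (B.subgroupOf A).map A.subtype = B :=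
      map_subgroupOf_eq_of_le inf_le_right
    conv_rhs => rw [← h1]
    rw [cj, cj, Subgroup.map_map, Subgroup.map_map]
    congr 1
  have ey : cj a B = cj (y' : G) B := by
    have := congrArg (Subgroup.map A.subtype) ey'
    rwa [hsub, hsub] at this
  have hy : (y' : G) ∈ B ⊔ cj a B := by
    have h := Subgroup.mem_map_of_mem A.subtype hy'
    rwa [Subgroup.map_sup, hsub, map_subgroupOf_eq_of_le inf_le_right] at h
  have hyJ : (y' : G) ∈ J := (sup_le_sup inf_le_left (cj_mono a inf_le_left)) hy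
  set a1 := (y' : G)⁻¹ * a with ha1
  have ha1A : a1 ∈ A := mul_mem (inv_mem y'.2) ha
  have ha1B : cj a1 B = B := by rw [ha1, ← cj_cj, ey, cj_cj, inv_mul_cancel, cj_one]
  have hJ1 : H ⊔ cj a1 H ≤ J := sup_cj_le hyJ le_sup_left (by
    rw [cj_cj, ha1, mul_inv_cancel_left]; exact le_sup_right)
  -- Frattini inside B
  have hTB : T ≤ B := le_inf hTH (map_subtype_le _)
  let TB : Sylow p B := Sylow.ofCard (T.subgroupOf B) (by
    rw [Nat.card_congr (subgroupOfEquivOfLe hTB).toEquiv, hTdef, card_map_of_injective A.subtype_injective,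
      T₀.card_eq_multiplicity]
    refine congrArg _ (le_antisymm ?_ ?_)
    · refine ((Fact.out : p.Prime).pow_dvd_iff_le_factorization Nat.card_pos.ne').1 ?_
      have := card_dvd_of_le hTB
      rwa [hTdef, card_map_of_injective A.subtype_injective, T₀.card_eq_multiplicity] at this
    · exact (Nat.factorization_le_iff_dvd Nat.card_pos.ne' Nat.card_pos.ne').2
        (card_dvd_of_le inf_le_right) p)
  have hfr : ∀ c : G, cj c B = B → ∃ b ∈ B, b * c ∈ normalizer (T : Set G) := by
    intro c hc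
    have hle : cj c T ≤ B := hc ▸ cj_mono c hTB
    let Tc : Sylow p B := Sylow.ofCard ((cj c T).subgroupOf B) (by
      rw [Nat.card_congr (subgroupOfEquivOfLe hle).toEquiv, cj,
        card_map_of_injective (MulAut.conj c).injective,
        ← Nat.card_congr (subgroupOfEquivOfLe hTB).toEquiv]
      exact TB.card_eq_multiplicity)
    obtain ⟨b, hb⟩ := MulAction.exists_smul_eq B Tc TB
    refine ⟨b, b.2, cj_eq_iff.1 ?_⟩
    have h2 := congrArg (Subgroup.map B.subtype) (congrArg Sylow.toSubgroup hb)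
    rw [Sylow.coe_subgroup_smul] at h2
    have h3 : (MulAut.conj b • (Tc : Subgroup B)).map B.subtype = cj (b : G) (cj c T) := by
      rw [show (MulAut.conj b • (Tc : Subgroup B)) = cj b (Tc : Subgroup B) from rfl]
      conv_rhs => rw [← map_subgroupOf_eq_of_le hle, show cj c T = cj c T from rfl]
      rw [cj, cj, Subgroup.map_map, Subgroup.map_map]
      congr 1
    rw [h3, cj_cj] at h2
    exact h2.trans (map_subgroupOf_eq_of_le hTB)
  obtain ⟨b, hbB, hbN⟩ := hfr a1 ha1B
  set a3 := b * a1 with ha3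
  have hbH : b ∈ H := hbB.1
  have hJ3 : H ⊔ cj a3 H ≤ J := by
    refine sup_le le_sup_left ?_
    rw [ha3, ← cj_cj]
    calc cj b (cj a1 H) ≤ cj b J := cj_mono b (le_sup_right.trans hJ1)
      _ = J := cj_of_mem ((le_sup_left : H ≤ J) hbH)
  have ha3B : cj a3 B = B := by rw [ha3, ← cj_cj, ha1B, cj_of_mem hbB]
  have hBn : ∀ h ∈ H, cj h B = B := fun h hh => by
    rw [hB, cj, map_inf _ _ _ (MulAut.conj h).injective, ← cj, ← cj, cj_of_mem hh, hcjA]
  -- H = B (H ∩ N(T))
  set N := normalizer (T : Set G) with hN'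
  set K := H ⊓ N with hK
  have hHK : H = B ⊔ K := by
    refine le_antisymm (fun h hh => ?_) (sup_le inf_le_left inf_le_left)
    obtain ⟨c, hc, hcn⟩ := hfr h (hBn h hh)
    have : c * h ∈ K := ⟨mul_mem hc.1 hh, hcn⟩
    simpa using mul_mem (mem_sup_left (T := K) (inv_mem hc)) (mem_sup_right (S := B) this)
  have hTK : T ≤ K := le_inf hTH le_normalizer
  have hKsyl : ¬ p ∣ K.index := by
    have h1 : ¬ p ∣ K.relIndex H := by
      -- the orbit of `T` under `B`
      obtain ⟨P, hP⟩ := hH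
      obtain ⟨c, hc, hcle⟩ : ∃ c ∈ B, (cj c (P : Subgroup G)) ≤ N := by
        have hPA : ¬ p ∣ (P : Subgroup G).relIndex A := not_dvd_relIndex A (P.not_dvd_index' index_ne_zero_of_finite)
        obtain ⟨R, hR⟩ := exists_sylow_le_iff.2 hPA
        have hle : (R : Subgroup A).map A.subtype ≤ B := fun t ht => by
          obtain ⟨t, ht', rfl⟩ := ht
          exact ⟨hP (hR ht'), t.2⟩
        let RB : Sylow p B := Sylow.ofCard (((R : Subgroup A).map A.subtype).subgroupOf B) (by
          rw [Nat.card_congr (subgroupOfEquivOfLe hle).toEquiv, card_map_of_injective A.subtype_injective,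
            R.card_eq_multiplicity, ← T₀.card_eq_multiplicity,
            ← card_map_of_injective (f := A.subtype) A.subtype_injective (K := (T₀ : Subgroup A)),
            ← hTdef, ← Nat.card_congr (subgroupOfEquivOfLe hTB).toEquiv]
          exact TB.card_eq_multiplicity)
        have hRP : (R : Subgroup A).map A.subtype = (P : Subgroup G) ⊓ A := by
          refine le_antisymm (fun t ht => ?_) ?_
          · obtain ⟨t, ht', rfl⟩ := ht; exact ⟨hR ht', t.2⟩
          · rintro t ⟨htP, htA⟩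
            have hq : IsPGroup p ((P : Subgroup G).subgroupOf A) :=
              P.isPGroup'.comap_of_injective A.subtype A.subtype_injective
            rw [← R.3 hq hR]
            exact ⟨⟨t, htA⟩, htP, rfl⟩
        obtain ⟨c, hc⟩ := MulAction.exists_smul_eq B RB TB
        refine ⟨c, c.2, ?_⟩
        have h2 := congrArg (Subgroup.map B.subtype) (congrArg Sylow.toSubgroup hc)
        rw [Sylow.coe_subgroup_smul] at h2
        have h3 : (MulAut.conj c • (RB : Subgroup B)).map B.subtype = cj (c : G) ((P : Subgroup G) ⊓ A) := by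
          rw [show (MulAut.conj c • (RB : Subgroup B)) = cj c (RB : Subgroup B) from rfl, ← hRP]
          conv_rhs => rw [← map_subgroupOf_eq_of_le hle]
          rw [cj, cj, Subgroup.map_map, Subgroup.map_map]
          congr 1
        rw [h3] at h2
        have h4 : cj (c : G) ((P : Subgroup G) ⊓ A) = T := h2.trans (map_subgroupOf_eq_of_le hTB)
        intro q hq
        rw [mem_cj] at hq
        refine cj_eq_iff.1 ?_
        rw [← h4, cj_cj, show q * (c : G) = c * ((c : G)⁻¹ * q * c) by group, ← cj_cj]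
        congr 1
        rw [cj, map_inf _ _ _ (MulAut.conj _).injective, ← cj, ← cj, cj_of_mem hq, hcjA]
      have hle2 : cj c (P : Subgroup G) ≤ K :=
        le_inf ((cj_mono c hP).trans (cj_of_mem hc.1).le) hcle
      intro hd
      have h5 := (hd.trans ⟨H.index, (relIndex_mul_index (inf_le_left : K ≤ H)).symm⟩).trans (index_dvd_of_le hle2)
      rw [cj, index_map_of_bijective (MulAut.conj c).bijective] at h5
      exact P.not_dvd_index' index_ne_zero_of_finite h5
    rw [exists_sylow_le_iff] at hH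
    rw [← relIndex_mul_index (inf_le_left : K ≤ H)]
    exact fun h => ((Fact.out : p.Prime).dvd_mul.1 h).elim h1 hH
  set Tn := T.subgroupOf N with hTn
  set τ := QuotientGroup.mk' Tn with hτ
  have hKN : K ≤ N := inf_le_right
  obtain ⟨zb, hzb, ezb⟩ := isPronormal_iff.1 (hN ((K.subgroupOf N).map τ) (by
    rw [exists_sylow_le_iff]
    intro h
    refine hKsyl ((h.trans (index_map_dvd _ (QuotientGroup.mk'_surjective Tn))).trans ?_)
    exact ⟨N.index, (relIndex_mul_index hKN).symm⟩)) (τ ⟨a3, hbN⟩)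
  have hcjτ : ∀ (c : N) (L : Subgroup N), cj (τ c) (L.map τ) = (cj c L).map τ := by
    intro c L
    rw [cj, cj, Subgroup.map_map, Subgroup.map_map]
    congr 1
  rw [hcjτ, ← Subgroup.map_sup] at hzb
  obtain ⟨z, hz, rfl⟩ := hzb
  rw [hcjτ, hcjτ] at ezb
  have hTKN : Tn ≤ K.subgroupOf N := fun t ht => hTK ht
  have hcjT : ∀ c : N, Tn ≤ cj c (K.subgroupOf N) := fun c t ht => by
    rw [mem_cj]
    exact hTKN (by simpa using (inferInstance : Tn.Normal).conj_mem t ht c⁻¹)
  have ez : cj (⟨a3, hbN⟩ : N) (K.subgroupOf N) = cj z (K.subgroupOf N) := by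
    have h := congrArg (Subgroup.comap τ) ezb
    rwa [comap_map_eq, comap_map_eq, QuotientGroup.ker_mk', sup_eq_left.2 (hcjT _),
      sup_eq_left.2 (hcjT _)] at h
  have hsubN : ∀ c : N, (cj c (K.subgroupOf N)).map N.subtype = cj (c : G) K := by
    intro c
    conv_rhs => rw [← map_subgroupOf_eq_of_le hKN]
    rw [cj, cj, Subgroup.map_map, Subgroup.map_map]
    congr 1
  have ezG : cj a3 K = cj (z : G) K := by
    have := congrArg (Subgroup.map N.subtype) ez
    rwa [hsubN, hsubN] at this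
  have hzmem : (z : G) ∈ K ⊔ cj a3 K := by
    have h := Subgroup.mem_map_of_mem N.subtype hz
    rwa [Subgroup.map_sup, hsubN, map_subgroupOf_eq_of_le hKN] at h
  have hzB : cj (z : G) B = B := by
    have hle : K ⊔ cj a3 K ≤ normalizer (B : Set G) := by
      refine sup_le (fun k hk => cj_eq_iff.1 (hBn k hk.1)) ?_
      intro k hk
      rw [mem_cj] at hk
      refine cj_eq_iff.1 ?_
      calc cj k B = cj a3 (cj (a3⁻¹ * k * a3) (cj a3⁻¹ B)) := by rw [cj_cj, cj_cj]; congr 1; group
        _ = B := by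
          rw [show cj a3⁻¹ B = B by
            calc cj a3⁻¹ B = cj a3⁻¹ (cj a3 B) := by rw [ha3B]
              _ = B := by rw [cj_cj, inv_mul_cancel, cj_one],
            hBn _ hk.1, ha3B]
    exact cj_eq_iff.2 (hle hzmem)
  have eH : cj a3 H = cj (z : G) H := by
    rw [hHK, cj_sup, cj_sup, ha3B, hzB, ezG]
  have hzJ : (z : G) ∈ J :=
    hJ3 ((sup_le_sup (inf_le_left : K ≤ H) (cj_mono a3 inf_le_left)) hzmem)
  refine ⟨(y' : G) * (b⁻¹ * (z : G)), mul_mem hyJ (mul_mem (inv_mem ((le_sup_left : H ≤ J) hbH)) hzJ), ?_⟩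
  rw [← cj_cj (y' : G), ← cj_cj b⁻¹, ← eH, cj_cj, cj_cj, ha3, ha1]
  congr 1
  group

/-- The two local consequences. -/
theorem local_of_allPron (h : AllPron p G) (A : Subgroup G) [A.Normal]
    (T : Subgroup G) (hT : ∃ P : Sylow p A, (P : Subgroup A).map A.subtype = T)
    [(T.subgroupOf (normalizer (T : Set G))).Normal] :
    AllPron p (normalizer (T : Set G) ⧸ T.subgroupOf (normalizer (T : Set G))) := by
  obtain ⟨T₀, rfl⟩ := hT
  set T := (T₀ : Subgroup A).map A.subtype with hTdef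
  set N := normalizer (T : Set G) with hN
  set Tn := T.subgroupOf N with hTn
  set τ := QuotientGroup.mk' Tn with hτ
  have hNi : ¬ p ∣ N.index := by
    rw [← exists_sylow_le_iff]
    obtain ⟨P⟩ := (inferInstance : Nonempty (Sylow p G))
    obtain ⟨a, ha, hle⟩ := exists_conj_sylow_le A T₀ ⟨P, le_rfl⟩
    have hq : IsPGroup p (((cj a⁻¹ (P : Subgroup G))).subgroupOf A) :=
      (P.isPGroup'.map _).comap_of_injective A.subtype A.subtype_injective
    have hTle : T ≤ cj a⁻¹ (P : Subgroup G) := by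
      calc T = cj a⁻¹ (cj a T) := by rw [cj_cj, inv_mul_cancel, cj_one]
        _ ≤ _ := cj_mono _ hle
    have heq : cj a⁻¹ (P : Subgroup G) ⊓ A = T := by
      refine le_antisymm ?_ (le_inf hTle (map_subtype_le _))
      rintro t ⟨ht, htA⟩
      rw [hTdef, ← T₀.3 hq (fun x hx => hTle ⟨x, hx, rfl⟩)]
      exact ⟨⟨t, htA⟩, ht, rfl⟩
    refine ⟨a⁻¹ • P, ?_⟩
    intro q hq'
    rw [Sylow.coe_subgroup_smul] at hq'
    refine cj_eq_iff.1 ?_
    have hq2 : q ∈ cj a⁻¹ (P : Subgroup G) := hq'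
    rw [← heq, cj, map_inf _ _ _ (MulAut.conj q).injective, ← cj, ← cj, cj_of_mem hq2,
      cj_eq_iff.2 (by rw [normalizer_eq_top_iff.2 inferInstance]; exact mem_top q : q ∈ normalizer (A : Set G))]
  intro Kb hKb
  rw [exists_sylow_le_iff] at hKb
  set L := (Kb.comap τ).map N.subtype with hL
  have hLN : L ≤ N := map_subtype_le _
  have hLs : (L.subgroupOf N) = Kb.comap τ := comap_map_eq_self_of_injective N.subtype_injective _
  have hLi : ¬ p ∣ L.index := by
    rw [← relIndex_mul_index hLN]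
    intro hd
    rcases (Fact.out : p.Prime).dvd_mul.1 hd with h1 | h1
    · rw [relIndex, hLs, index_comap_of_surjective _ (QuotientGroup.mk'_surjective _)] at h1
      exact hKb h1
    · exact hNi h1
  rw [isPronormal_iff]
  intro nb
  obtain ⟨n, rfl⟩ := QuotientGroup.mk'_surjective Tn nb
  obtain ⟨x, hx, ex⟩ := isPronormal_iff.1 (h L (exists_sylow_le_iff.2 hLi)) (n : G)
  have hsubN : ∀ c : N, (cj c (Kb.comap τ)).map N.subtype = cj (c : G) L := by
    intro c
    rw [hL, cj, cj, Subgroup.map_map, Subgroup.map_map]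
    congr 1
  rw [← hsubN n, hL, ← Subgroup.map_sup] at hx
  obtain ⟨x', hx', rfl⟩ := hx
  refine ⟨τ x', ?_, ?_⟩
  · have := Subgroup.mem_map_of_mem τ hx'
    rwa [Subgroup.map_sup, map_comap_eq_self_of_surjective (QuotientGroup.mk'_surjective Tn),
      show (cj n (Kb.comap τ)).map τ = cj (τ n) Kb by
        conv_rhs => rw [← map_comap_eq_self_of_surjective (QuotientGroup.mk'_surjective Tn) Kb]
        rw [cj, cj, Subgroup.map_map, Subgroup.map_map]
        congr 1] at this
  · have e2 : cj n (Kb.comap τ) = cj x' (Kb.comap τ) :=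
      Subgroup.map_injective N.subtype_injective (by rw [hsubN, hsubN]; exact ex)
    have := congrArg (Subgroup.map τ) e2
    have hc : ∀ c : N, (cj c (Kb.comap τ)).map τ = cj (τ c) Kb := fun c => by
      conv_rhs => rw [← map_comap_eq_self_of_surjective (QuotientGroup.mk'_surjective Tn) Kb]
      rw [cj, cj, Subgroup.map_map, Subgroup.map_map]
      congr 1
    rwa [hc, hc] at this

theorem map_normalizer_of_pronormal (A : Subgroup G) [A.Normal] {K : Subgroup G} (hK : IsPronormal K) :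
    (normalizer (K : Set G)).map (QuotientGroup.mk' A) =
      normalizer ((K.map (QuotientGroup.mk' A) : Subgroup (G ⧸ A)) : Set (G ⧸ A)) := by
  set π := QuotientGroup.mk' A with hπ
  have hcjπ : ∀ (b : G) (L : Subgroup G), cj (π b) (L.map π) = (cj b L).map π := by
    intro b L
    rw [cj, cj, Subgroup.map_map, Subgroup.map_map]
    congr 1
  refine le_antisymm ?_ ?_
  · rintro _ ⟨n, hn, rfl⟩
    rw [← cj_eq_iff, hcjπ, cj_eq_iff.2 hn]
  · intro gb hg
    obtain ⟨g, rfl⟩ := QuotientGroup.mk'_surjective A gb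
    rw [← cj_eq_iff, hcjπ] at hg
    obtain ⟨x, hx, ex⟩ := isPronormal_iff.1 hK g
    have hle : K ⊔ cj g K ≤ A ⊔ K := by
      refine sup_le le_sup_right ?_
      intro k hk
      have h1 : π k ∈ K.map π := hg ▸ Subgroup.mem_map_of_mem π hk
      obtain ⟨k0, hk0, e⟩ := h1
      have h2 : k * k0⁻¹ ∈ A := by
        rw [← QuotientGroup.eq_one_iff]
        show π (k * k0⁻¹) = 1
        rw [map_mul, map_inv, e, mul_inv_cancel]
      simpa using mul_mem (mem_sup_left (T := K) h2) (mem_sup_right (S := A) hk0)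
    obtain ⟨a, ha, k, hk, rfl⟩ := mem_sup_of_normal_left.1 (hle hx)
    rw [← cj_cj, cj_of_mem hk] at ex
    refine ⟨a⁻¹ * g, cj_eq_iff.1 (by rw [← cj_cj, ex, cj_cj, inv_mul_cancel, cj_one]), ?_⟩
    rw [map_mul, map_inv, (QuotientGroup.eq_one_iff a).2 ha |> (fun h => (show π a = 1 from h)), inv_one, one_mul]

theorem allPron_of_selfNormalizing {Q : Type*} [Group Q] [Finite Q]
    (hQ : ∀ P : Sylow p Q, normalizer ((P : Subgroup Q) : Set Q) = P) :
    AllPron p Q ∧ ∀ K : Subgroup Q, (∃ P : Sylow p Q, (P : Subgroup Q) ≤ K) →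
      normalizer (K : Set Q) ≤ K := by
  have key : ∀ (K : Subgroup Q) (g : Q), (∃ P : Sylow p Q, (P : Subgroup Q) ≤ K) →
      ∃ x ∈ K ⊔ cj g K, cj g K = cj x K := by
    rintro K g ⟨P, hP⟩
    set J := K ⊔ cj g K with hJ
    have h1 : ((g • P : Sylow p Q) : Subgroup Q) ≤ J := by
      rw [Sylow.coe_subgroup_smul]
      exact le_trans (Subgroup.map_mono hP) le_sup_right
    obtain ⟨k, hk⟩ := MulAction.exists_smul_eq J ((g • P).subtype h1) (P.subtype (hP.trans le_sup_left))
    rw [Sylow.smul_subtype] at hk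
    have e : ((k : Q) * g) • P = P := by rw [← smul_smul]; exact Sylow.subtype_injective hk
    have h2 : (k : Q) * g ∈ K := hP (hQ P ▸ Sylow.smul_eq_iff_mem_normalizer.1 e)
    refine ⟨(k : Q)⁻¹, inv_mem k.2, ?_⟩
    calc cj g K = cj (k : Q)⁻¹ (cj ((k : Q) * g) K) := by rw [cj_cj, inv_mul_cancel_left]
      _ = _ := by rw [cj_of_mem h2]
  refine ⟨fun K hK => isPronormal_iff.2 fun g => key K g hK, ?_⟩
  rintro K ⟨P, hP⟩ g hg
  have hgK : cj g K = K := cj_eq_iff.2 hg
  have h1 : ((g • P : Sylow p Q) : Subgroup Q) ≤ K := by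
    rw [Sylow.coe_subgroup_smul]
    exact (Subgroup.map_mono hP).trans hgK.le
  obtain ⟨k, hk⟩ := MulAction.exists_smul_eq K ((g • P).subtype h1) (P.subtype hP)
  rw [Sylow.smul_subtype] at hk
  have e : ((k : Q) * g) • P = P := by rw [← smul_smul]; exact Sylow.subtype_injective hk
  have h2 : (k : Q) * g ∈ K := hP (hQ P ▸ Sylow.smul_eq_iff_mem_normalizer.1 e)
  simpa using mul_mem (inv_mem k.2) h2

end Cfsg.Agent.FGS.Pronormal
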