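import Cfsg.Agent.Lib.SL2.SylowTwo
import Cfsg.Agent.Lib.SL2.Psl

/-!
# Redundant Sylow subgroups of `SL(2, q)` and `PSL(2, q)`
-/

set_option autoImplicit false
set_option linter.unusedSectionVars false

namespace Cfsg.Agent.RedundantSL2

open Matrix Cfsg.Agent.SL2

section general

variable {G H : Type*} [Group G] [Group H] {p : ℕ} [Fact p.Prime]

theorem iff_two [Finite G] :
    (∃ Q : Sylow p G, ∀ x : G, (∃ k : ℕ, orderOf x = p ^ k) → ∃ P : Sylow p G, P ≠ Q ∧ x ∈ P) ↔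
      ∀ x : G, (∃ k : ℕ, orderOf x = p ^ k) → ∃ P P' : Sylow p G, P ≠ P' ∧ x ∈ P ∧ x ∈ P' := by
  constructor
  · rintro ⟨Q, hQ⟩ x hx
    obtain ⟨k, hk⟩ := hx
    obtain ⟨P, hP⟩ := (IsPGroup.of_card (p := p) (G := Subgroup.zpowers x) (n := k)
      (by rw [Nat.card_zpowers, hk])).exists_le_sylow
    obtain ⟨g, hg⟩ := MulAction.exists_smul_eq G P Q
    obtain ⟨R, hRQ, hxR⟩ := hQ (g * x * g⁻¹) ⟨k, by
      rw [← hk]; exact orderOf_injective (MulAut.conj g).toMonoidHom (MulAut.conj g).injective x⟩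
    refine ⟨P, g⁻¹ • R, fun h => hRQ ?_, hP (Subgroup.mem_zpowers x), ?_⟩
    · rw [← hg, h, smul_inv_smul]
    · show x ∈ ((g⁻¹ • R : Sylow p G) : Subgroup G)
      rw [Sylow.coe_subgroup_smul, Subgroup.mem_pointwise_smul_iff_inv_smul_mem]
      show (MulAut.conj g⁻¹)⁻¹ • x ∈ (R : Subgroup G)
      have hxR' : g * x * g⁻¹ ∈ (R : Subgroup G) := hxR
      simpa [MulAut.smul_def] using hxR'
  · intro h
    obtain ⟨Q⟩ : Nonempty (Sylow p G) := inferInstance
    refine ⟨Q, fun x hx => ?_⟩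
    obtain ⟨P, P', hne, hP, hP'⟩ := h x hx
    by_cases e : P = Q
    · exact ⟨P', fun e' => hne (e.trans e'.symm), hP'⟩
    · exact ⟨P, e, hP⟩

theorem mem_of_ker [Finite G] [Finite H] {f : G →* H}
    (hker : ∀ z : G, f z = 1 → (∀ u, Commute z u) ∧ z ^ 2 = 1) (P : Sylow p G) {x : G}
    (hx : ∃ k : ℕ, orderOf x = p ^ k) (hfx : f x ∈ (P : Subgroup G).map f) : x ∈ (P : Subgroup G) := by
  obtain ⟨u, hu, hux⟩ := hfx
  obtain ⟨hcomm, h2⟩ := hker (x * u⁻¹) (by rw [map_mul, map_inv, hux, mul_inv_cancel])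
  suffices x * u⁻¹ ∈ (P : Subgroup G) by simpa using mul_mem this hu
  have hp : p.Prime := Fact.out
  obtain ⟨k, hk⟩ := hx
  obtain ⟨m, hm⟩ := P.isPGroup' ⟨u, hu⟩
  have hu' : u ^ p ^ m = 1 := by simpa using congrArg Subtype.val hm
  have hz : (x * u⁻¹) ^ p ^ (k + m) = 1 := by
    have hxu : Commute x u⁻¹ := by
      have := ((hcomm u).mul_left (Commute.refl u)).inv_right
      simpa using this
    rw [hxu.mul_pow, inv_pow, pow_add, pow_mul, ← hk, pow_orderOf_eq_one, one_pow,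
      mul_comm (orderOf x), pow_mul, hu', one_pow, inv_one, one_mul]
  by_cases hp2 : p = 2
  · subst hp2
    let Z := Subgroup.zpowers (x * u⁻¹)
    have hn : (P : Subgroup G) ≤ Subgroup.normalizer (Z : Set G) := fun v _ => by
      rw [Subgroup.mem_normalizer_iff]
      intro y
      constructor
      · intro hy
        obtain ⟨i, rfl⟩ := Subgroup.mem_zpowers_iff.1 hy
        rw [← ((hcomm v).zpow_left i).eq, mul_inv_cancel_right]
        exact Subgroup.zpow_mem_zpowers _ _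
      · intro hy
        obtain ⟨i, hi⟩ := Subgroup.mem_zpowers_iff.1 hy
        have : y = (x * u⁻¹) ^ i := by
          have e := ((hcomm v).zpow_left i).eq
          refine mul_left_cancel (a := v) ?_
          rw [← e, hi, inv_mul_cancel_right]
        exact this ▸ Subgroup.zpow_mem_zpowers _ _
    have hZ : IsPGroup 2 Z := by
      rintro ⟨y, hy⟩
      obtain ⟨i, rfl⟩ := Subgroup.mem_zpowers_iff.1 hy
      exact ⟨1, Subtype.ext (by
        simp only [SubmonoidClass.coe_pow, OneMemClass.coe_one, pow_one]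
        rw [← zpow_natCast, ← _root_.zpow_mul, mul_comm, _root_.zpow_mul, zpow_natCast, h2, _root_.one_zpow])⟩
    have e : (P : Subgroup G) ⊔ Z = P :=
      P.is_maximal' (IsPGroup.to_sup_of_normal_right' P.isPGroup' hZ hn) le_sup_left
    exact e ▸ (le_sup_right : Z ≤ _) (Subgroup.mem_zpowers _)
  · have h1 : orderOf (x * u⁻¹) = 1 := Nat.eq_one_of_dvd_coprimes
      (Nat.Coprime.pow_left (k + m) ((Nat.coprime_primes hp Nat.prime_two).2 hp2))
      (orderOf_dvd_of_pow_eq_one hz) (orderOf_dvd_of_pow_eq_one h2)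
    rw [orderOf_eq_one_iff.1 h1]
    exact one_mem _

theorem map_unique [Finite G] [Finite H] {f : G →* H} (hf : Function.Surjective f)
    (hker : ∀ z : G, f z = 1 → (∀ u, Commute z u) ∧ z ^ 2 = 1)
    (h : ∃ x : G, (∃ k : ℕ, orderOf x = p ^ k) ∧
      ∀ P P' : Sylow p G, x ∈ P → x ∈ P' → P = P') :
    ∃ y : H, (∃ k : ℕ, orderOf y = p ^ k) ∧ ∀ R R' : Sylow p H, y ∈ R → y ∈ R' → R = R' := by
  obtain ⟨x, hx, huniq⟩ := h
  obtain ⟨k, hk⟩ := hx
  obtain ⟨j, -, hj⟩ := (Nat.dvd_prime_pow (Fact.out : p.Prime)).1 (hk ▸ orderOf_map_dvd f x)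
  refine ⟨f x, ⟨j, hj⟩, fun R R' hR hR' => ?_⟩
  obtain ⟨P, rfl⟩ := Sylow.mapSurjective_surjective hf p R
  obtain ⟨P', rfl⟩ := Sylow.mapSurjective_surjective hf p R'
  rw [huniq P P' (mem_of_ker hker P ⟨k, hk⟩ hR) (mem_of_ker hker P' ⟨k, hk⟩ hR')]

theorem map_two [Finite G] [Finite H] {f : G →* H} (hf : Function.Surjective f)
    (hker : ∀ z : G, f z = 1 → (∀ u, Commute z u) ∧ z ^ 2 = 1)
    (h : ∀ x : G, (∃ k : ℕ, orderOf x = p ^ k) → ∃ P P' : Sylow p G, P ≠ P' ∧ x ∈ P ∧ x ∈ P') :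
    ∀ y : H, (∃ k : ℕ, orderOf y = p ^ k) → ∃ R R' : Sylow p H, R ≠ R' ∧ y ∈ R ∧ y ∈ R' := by
  intro y ⟨k, hk⟩
  obtain ⟨R, hR⟩ := (IsPGroup.of_card (p := p) (G := Subgroup.zpowers y) (n := k)
    (by rw [Nat.card_zpowers, hk])).exists_le_sylow
  obtain ⟨P0, rfl⟩ := Sylow.mapSurjective_surjective hf p R
  obtain ⟨x, hxP, rfl⟩ := hR (Subgroup.mem_zpowers y)
  have hpow : ∀ (P : Sylow p G) (v : G), v ∈ P → ∃ j, orderOf v = p ^ j := fun P v hv => by
    obtain ⟨j, hj⟩ := IsPGroup.iff_orderOf.1 P.isPGroup' ⟨v, hv⟩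
    exact ⟨j, by rwa [← Subgroup.orderOf_mk (a := v) (ha := hv)]⟩
  obtain ⟨P, P', hne, hP, hP'⟩ := h x (hpow P0 x hxP)
  refine ⟨P.mapSurjective hf, P'.mapSurjective hf, fun e => hne ?_,
    ⟨x, hP, rfl⟩, ⟨x, hP', rfl⟩⟩
  have e' : (P : Subgroup G).map f = (P' : Subgroup G).map f := congrArg (fun R : Sylow p H => (R : Subgroup H)) e
  refine Sylow.ext (le_antisymm (fun v hv => ?_) (fun v hv => ?_))
  · exact mem_of_ker hker P' (hpow P v hv) (e' ▸ ⟨v, hv, rfl⟩)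
  · exact mem_of_ker hker P (hpow P' v hv) (e' ▸ ⟨v, hv, rfl⟩)

end general

variable {F : Type*} [Field F] [Fintype F]

local notation "G" => Matrix.SpecialLinearGroup (Fin 2) F
local notation "q" => Fintype.card F

theorem charP_two_of_not_odd (h : ¬ Odd q) : CharP F 2 := by
  have hc : ringChar F = 2 := FiniteField.even_card_iff_char_two.2
    (Nat.even_iff.1 (Nat.not_odd_iff_even.1 h))
  exact hc ▸ ringChar.charP F

theorem pow_two_of_not_odd (h : ¬ Odd q) : ∃ k : ℕ, q = 2 ^ k := by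
  have := charP_two_of_not_odd h
  obtain ⟨n, -, hn⟩ := FiniteField.card F 2
  exact ⟨n, hn⟩

theorem unique_abelian (p : ℕ) [Fact p.Prime] (hsc : ∀ z : G, Scal z → (∃ k, z ^ p ^ k = 1) → z = 1) :
    ∃ x : G, (∃ k : ℕ, orderOf x = p ^ k) ∧ ∀ P P' : Sylow p G, x ∈ P → x ∈ P' → P = P' := by
  obtain ⟨P0⟩ : Nonempty (Sylow p G) := inferInstance
  by_cases htriv : (P0 : Subgroup G) = ⊥
  · refine ⟨1, ⟨0, by simp⟩, fun P P' _ _ => ?_⟩
    have hall : ∀ P : Sylow p G, (P : Subgroup G) = ⊥ := fun P => Subgroup.card_eq_one.1 (by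
      rw [P.card_eq_multiplicity, ← P0.card_eq_multiplicity, htriv, Subgroup.card_bot])
    exact Sylow.ext ((hall P).trans (hall P').symm)
  have hpow : ∀ (P : Sylow p G) (v : G), v ∈ P → ∃ j, v ^ p ^ j = 1 := fun P v hv => by
    obtain ⟨j, hj⟩ := P.isPGroup' ⟨v, hv⟩
    exact ⟨j, by simpa using congrArg Subtype.val hj⟩
  have habel : ∀ (P : Sylow p G), ∀ a ∈ (P : Subgroup G), ∀ b ∈ (P : Subgroup G), a * b = b * a := by
    intro P a ha b hb
    rcases subsingleton_or_nontrivial (P : Subgroup G) with hs | hn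
    · have := Subsingleton.elim (⟨a, ha⟩ : (P : Subgroup G)) ⟨b, hb⟩
      rw [show a = b from congrArg Subtype.val this]
    have := P.isPGroup'.center_nontrivial
    obtain ⟨z, hz⟩ := exists_ne (1 : Subgroup.center (P : Subgroup G))
    have hzs : ¬ Scal ((z : (P : Subgroup G)) : G) := fun h => hz (Subtype.ext (Subtype.ext
      (hsc _ h (hpow P _ (z : (P : Subgroup G)).2))))
    have hc : ∀ v ∈ (P : Subgroup G), v ∈ cent ((z : (P : Subgroup G)) : G) := fun v hv => mem_cent.2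
      (congrArg Subtype.val (Subgroup.mem_center_iff.1 z.2 ⟨v, hv⟩)).symm
    exact cent_comm hzs (hc a ha) (hc b hb)
  obtain ⟨x, hx, hx1⟩ := (Subgroup.ne_bot_iff_exists_ne_one.1 htriv |> fun ⟨v, hv⟩ =>
    (⟨v, v.2, fun e => hv (Subtype.ext e)⟩ : ∃ x, x ∈ (P0 : Subgroup G) ∧ x ≠ 1))
  have hxs : ¬ Scal x := fun h => hx1 (hsc x h (hpow P0 x hx))
  obtain ⟨j, hj⟩ := hpow P0 x hx
  obtain ⟨i, -, hi⟩ := (Nat.dvd_prime_pow (Fact.out : p.Prime)).1 (orderOf_dvd_of_pow_eq_one hj)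
  refine ⟨x, ⟨i, hi⟩, fun P P' hP hP' => ?_⟩
  have hn : (P : Subgroup G) ≤ Subgroup.normalizer ((P' : Subgroup G) : Set G) := by
    intro v hv
    have key : ∀ y ∈ (P' : Subgroup G), v * y * v⁻¹ = y := fun y hy => mul_inv_eq_iff_eq_mul.2
      (cent_comm hxs (mem_cent.2 (habel P x hP v hv)) (mem_cent.2 (habel P' x hP' y hy)))
    rw [Subgroup.mem_normalizer_iff]
    intro y
    refine ⟨fun hy => (key y hy).symm ▸ hy, fun hy => ?_⟩
    have := key _ hy
    have e : v * y * v⁻¹ = y := mul_left_cancel (mul_right_cancel this)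
    exact e ▸ hy
  have e : (P : Subgroup G) ⊔ P' = P :=
    P.is_maximal' (IsPGroup.to_sup_of_normal_right' P.isPGroup' P'.isPGroup' hn) le_sup_left
  exact Sylow.ext (P'.is_maximal' P.isPGroup' (sup_eq_left.1 e))

theorem unique_two (hodd : Odd q) (hq : (∃ k, q + 1 = 2 ^ k) ∨ ∃ k, q = 2 ^ k + 1) :
    ∃ x : G, (∃ k : ℕ, orderOf x = 2 ^ k) ∧ ∀ P P' : Sylow 2 G, x ∈ P → x ∈ P' → P = P' := by
  obtain ⟨S⟩ : Nonempty (Sylow 2 G) := inferInstance
  obtain ⟨g, h, a, hp, -, -, -, -, ha, ha2, hcard, -⟩ := sylow_two_structure hodd S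
  have h2 := two_ne_zero' hodd
  have ht := tr_sq_of_tr_zero h2 (tr_zero_of_sq h2 hp.isq)
  have hn : Nat.card (cent g) = 2 ^ a := by
    have hq2 := two_le_q (F := F)
    obtain ⟨m, hm⟩ := id hodd
    obtain ⟨j, hj⟩ : ∃ j, Nat.card (cent g) = 2 ^ j := by
      rcases hq with ⟨k, hk⟩ | ⟨k, hk⟩
      · obtain ⟨i, rfl⟩ : ∃ i, k = i + 2 := ⟨k - 2, by
          match k, hk with
          | 0, hk => simp at hk
          | 1, hk => omega
          | k + 2, _ => omega⟩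
        rcases cent_sq_neg_one hodd hp.isq with ⟨e, h4⟩ | ⟨e, h4⟩
        · rw [pow_add] at hk; omega
        · exact ⟨i + 2, by omega⟩
      · match k, hk with
        | 0, hk => simp at hk; omega
        | 1, hk =>
          refine ⟨2, ?_⟩
          rcases cent_sq_neg_one hodd hp.isq with ⟨e, h4⟩ | ⟨e, h4⟩ <;> omega
        | i + 2, hk =>
          refine ⟨i + 2, ?_⟩
          rcases cent_sq_neg_one hodd hp.isq with ⟨e, h4⟩ | ⟨e, h4⟩
          · omega
          · rw [pow_add] at hk; omega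
    rw [ha, hj, Nat.Prime.factorization_pow Nat.prime_two, Finsupp.single_eq_same]
  have := isCyclic_cent ht
  obtain ⟨c, hc⟩ := IsCyclic.exists_ofOrder_eq_natCard (α := cent g)
  have hx : orderOf (c : G) = 2 ^ a := by rw [Subgroup.orderOf_coe, hc, hn]
  have h4 : 4 ≤ 2 ^ a := Nat.pow_le_pow_right two_pos ha2
  have hxs : ¬ Scal (c : G) := fun hs => by
    have : (c : G) ^ 2 = 1 := by rcases (scal_iff _).1 hs with e | e <;> rw [e, pow_two] <;> simp
    have := Nat.le_of_dvd two_pos (orderOf_dvd_of_pow_eq_one this)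
    omega
  have key : ∀ P : Sylow 2 G, (c : G) ∈ P →
      (P : Subgroup G) = Subgroup.normalizer (cent g : Set G) := by
    intro P hP
    have hPc : Nat.card (P : Subgroup G) = 2 ^ (a + 1) := by
      rw [P.card_eq_multiplicity, ← S.card_eq_multiplicity, hcard]
    refine Subgroup.eq_of_le_of_card_ge (fun s hs => ?_)
      (by rw [card_normalizer_cent ht, hn, hPc, pow_succ']; )
    let K : Subgroup (P : Subgroup G) := Subgroup.zpowers ⟨(c : G), hP⟩
    have hK : K.index = 2 := by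
      have := K.card_mul_index
      rw [hPc, Nat.card_zpowers, Subgroup.orderOf_mk, hx, pow_succ] at this
      exact Nat.eq_of_mul_eq_mul_left (Nat.pow_pos two_pos) this
    have := Subgroup.normal_of_index_eq_two hK
    obtain ⟨i, hi⟩ := Subgroup.mem_zpowers_iff.1
      (this.conj_mem _ (Subgroup.mem_zpowers (⟨(c : G), hP⟩ : (P : Subgroup G))) ⟨s, hs⟩)
    have hi' : (c : G) ^ i = s * (c : G) * s⁻¹ := by simpa using congrArg Subtype.val hi
    have hmem : s * (c : G) * s⁻¹ ∈ cent g := hi' ▸ zpow_mem c.2 i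
    have hg := scal_of_tr_sq_ne ht
    have e1 := cent_eq hg c.2 hxs
    have e2 := cent_eq hg hmem (not_scal_conj hxs s)
    rw [Subgroup.mem_normalizer_iff]
    intro y
    conv_rhs => rw [← e2, cent_conj, show s⁻¹ * (s * y * s⁻¹) * s = y by group, e1]
  exact ⟨c, ⟨a, hx⟩, fun P P' hP hP' => Sylow.ext ((key P hP).trans (key P' hP').symm)⟩

theorem two_of_good (hodd : Odd q) (h1 : ¬ ∃ k, q + 1 = 2 ^ k) (h3 : ¬ ∃ k, q = 2 ^ k + 1) :
    ∀ x : G, (∃ k : ℕ, orderOf x = 2 ^ k) → ∃ P P' : Sylow 2 G, P ≠ P' ∧ x ∈ P ∧ x ∈ P' := by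
  obtain ⟨S⟩ : Nonempty (Sylow 2 G) := inferInstance
  obtain ⟨g, h, a, hp, hgS, hhS, hh, hle, ha, -, -, -⟩ := sylow_two_structure hodd S
  have h2 := two_ne_zero' hodd
  have ht := tr_sq_of_tr_zero h2 (tr_zero_of_sq h2 hp.isq)
  have hg := scal_of_tr_sq_ne ht
  obtain ⟨l, hl, hl2, hld⟩ : ∃ l, l.Prime ∧ l ≠ 2 ∧ l ∣ Nat.card (cent g) := by
    by_contra hcon
    push Not at hcon
    have := Nat.eq_prime_pow_of_unique_prime_dvd Nat.card_pos.ne' (p := 2) (n := Nat.card (cent g))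
      fun {d} hd hdd => by_contra fun hne => hcon d hd hne hdd
    rcases cent_sq_neg_one hodd hp.isq with ⟨e, -⟩ | ⟨e, -⟩ <;> rw [e] at this
    · exact h3 ⟨_, by rw [← this]; have := two_le_q (F := F); omega⟩
    · exact h1 ⟨_, this⟩
  have : Fact l.Prime := ⟨hl⟩
  obtain ⟨c, hc⟩ := exists_prime_orderOf_dvd_card' l hld
  have core : ∀ z ∈ cent g, z ∈ (S : Subgroup G) →
      ∃ P P' : Sylow 2 G, P ≠ P' ∧ z ∈ P ∧ z ∈ P' := by
    intro z hz hzS
    refine ⟨(c : G) • S, S, fun e => ?_, ?_, hzS⟩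
    · have hm : (c : G) * h * (c : G)⁻¹ ∈ (((c : G) • S : Sylow 2 G) : Subgroup G) := by
        rw [Sylow.coe_subgroup_smul, Subgroup.mem_pointwise_smul_iff_inv_smul_mem]
        simpa [MulAut.smul_def, mul_assoc] using hhS
      rw [e] at hm
      rcases normalizer_act ht (hle hhS) with ⟨hc', -⟩ | ⟨-, hinv⟩
      · exact hh hc'
      have e' : (c : G) * h * (c : G)⁻¹ * h⁻¹ = (c : G) ^ 2 := by
        rw [show (c : G) * h * (c : G)⁻¹ * h⁻¹ = (c : G) * (h * (c : G)⁻¹ * h⁻¹) by group,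
          hinv _ (inv_mem c.2), inv_inv, pow_two]
      have hc2 : (c : G) ^ 2 ∈ (S : Subgroup G) := e' ▸ mul_mem hm (inv_mem hhS)
      obtain ⟨k, hk⟩ := S.isPGroup' ⟨_, hc2⟩
      have hk' : ((c : G) ^ 2) ^ 2 ^ k = 1 := by simpa using congrArg Subtype.val hk
      rw [← pow_mul, ← pow_succ'] at hk'
      have := orderOf_dvd_of_pow_eq_one hk'
      rw [Subgroup.orderOf_coe, hc] at this
      exact hl2 ((Nat.prime_dvd_prime_iff_eq hl Nat.prime_two).1 (hl.dvd_of_dvd_pow this))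
    · show z ∈ (((c : G) • S : Sylow 2 G) : Subgroup G)
      rw [Sylow.coe_subgroup_smul, Subgroup.mem_pointwise_smul_iff_inv_smul_mem]
      simp only [MulAut.smul_def, MulAut.conj_inv_apply]
      rw [cent_comm hg (inv_mem c.2) hz, mul_assoc, inv_mul_cancel, mul_one]
      exact hzS
  rintro x ⟨k, hk⟩
  obtain ⟨P, hP⟩ := (IsPGroup.of_card (p := 2) (n := k)
    (show Nat.card (Subgroup.zpowers x) = 2 ^ k by rw [Nat.card_zpowers, hk])).exists_le_sylow
  obtain ⟨u, hu⟩ := MulAction.exists_smul_eq G P S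
  obtain ⟨v, hv, hv'⟩ : ∃ v : G, v * x * v⁻¹ ∈ cent g ∧ v * x * v⁻¹ ∈ (S : Subgroup G) := by
    have hyS : u * x * u⁻¹ ∈ (S : Subgroup G) := by
      rw [← hu, Sylow.coe_subgroup_smul, Subgroup.mem_pointwise_smul_iff_inv_smul_mem]
      simpa [MulAut.smul_def, mul_assoc] using hP (Subgroup.mem_zpowers x)
    by_cases hy : u * x * u⁻¹ ∈ cent g
    · exact ⟨u, hy, hyS⟩
    obtain ⟨-, hsq⟩ := sq_of_mem_normalizer ht (hle hyS) hy
    have htr : tr x = tr g := by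
      rw [← tr_conj x u, tr_zero_of_sq h2 hsq, tr_zero_of_sq h2 hp.isq]
    obtain ⟨v, hv⟩ := isConj_of_tr htr (by rw [htr]; exact ht)
    exact ⟨v, hv ▸ self_mem_cent g, hv ▸ hgS⟩
  obtain ⟨R, R', hne, hR, hR'⟩ := core _ hv hv'
  refine ⟨v⁻¹ • R, v⁻¹ • R', fun e => hne (smul_left_cancel _ e), ?_, ?_⟩
  · show x ∈ ((v⁻¹ • R : Sylow 2 G) : Subgroup G)
    rw [Sylow.coe_subgroup_smul, Subgroup.mem_pointwise_smul_iff_inv_smul_mem]
    have hR1 : v * x * v⁻¹ ∈ (R : Subgroup G) := hR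
    simpa [MulAut.smul_def] using hR1
  · show x ∈ ((v⁻¹ • R' : Sylow 2 G) : Subgroup G)
    rw [Sylow.coe_subgroup_smul, Subgroup.mem_pointwise_smul_iff_inv_smul_mem]
    have hR1 : v * x * v⁻¹ ∈ (R' : Subgroup G) := hR'
    simpa [MulAut.smul_def] using hR1

theorem unique_of_bad (p : ℕ) [Fact p.Prime]
    (hbad : ¬ (p = 2 ∧ (¬ ∃ k : ℕ, q + 1 = 2 ^ k) ∧ (¬ ∃ k : ℕ, q = 2 ^ k) ∧ ¬ ∃ k : ℕ, q = 2 ^ k + 1)) :
    ∃ x : G, (∃ k : ℕ, orderOf x = p ^ k) ∧ ∀ P P' : Sylow p G, x ∈ P → x ∈ P' → P = P' := by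
  by_cases hp2 : p = 2
  · subst hp2
    by_cases hodd : Odd q
    · refine unique_two hodd ?_
      by_contra hcon
      rw [not_or] at hcon
      refine hbad ⟨rfl, hcon.1, ?_, hcon.2⟩
      rintro ⟨k, hk⟩
      match k, hk with
      | 0, hk => have := two_le_q (F := F); simp at hk; omega
      | i + 1, hk => exact Nat.not_even_iff_odd.2 hodd (hk ▸ ⟨2 ^ i, by ring⟩)
    · have := charP_two_of_not_odd hodd
      refine unique_abelian 2 fun z hz _ => ?_
      rcases (scal_iff z).1 hz with e | e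
      · exact e
      · rw [e, SL2.neg_eq_self]
  · refine unique_abelian p fun z hz ⟨k, hk⟩ => ?_
    have h2 : z ^ 2 = 1 := by rcases (scal_iff z).1 hz with e | e <;> rw [e, pow_two] <;> simp
    exact orderOf_eq_one_iff.1 (Nat.eq_one_of_dvd_coprimes
      (Nat.Coprime.pow_left k ((Nat.coprime_primes Fact.out Nat.prime_two).2 hp2))
      (orderOf_dvd_of_pow_eq_one hk) (orderOf_dvd_of_pow_eq_one h2))

theorem two_of_cond (p : ℕ) [Fact p.Prime] (hp2 : p = 2) (h1 : ¬ ∃ k : ℕ, q + 1 = 2 ^ k)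
    (h2 : ¬ ∃ k : ℕ, q = 2 ^ k) (h3 : ¬ ∃ k : ℕ, q = 2 ^ k + 1) :
    ∀ x : G, (∃ k : ℕ, orderOf x = p ^ k) → ∃ P P' : Sylow p G, P ≠ P' ∧ x ∈ P ∧ x ∈ P' := by
  subst hp2
  exact two_of_good (by_contra fun h => h2 (pow_two_of_not_odd h)) h1 h3

end Cfsg.Agent.RedundantSL2
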