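/-
Normal nonabelian subgroups with centre of order two in 2-groups of sectional rank at most four.
-/
import Mathlib
import Cfsg.Prelude.Def_CaseTheorems
import Cfsg.Agent.Lib.Basics.Frattini
import Cfsg.Agent.Lib.Basics.Tools

set_option autoImplicit false
set_option linter.all false

namespace Cfsg.Agent.FGS.SectionalRankFour

open Subgroup Cfsg
open scoped commutatorElement

variable {S : Type*} [Group S] [Finite S]

/-- The image of a subgroup under a partial homomorphism has bounded rank. -/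
theorem rank_le {k : ℕ} (hr : SectionalPRankLE 2 k S) {X Y : Type*} [Group X] [Group Y]
    (ι : X →* S) (hι : Function.Injective ι) (f : X →* Y) (hf : Function.Surjective f)
    (A : Subgroup Y) (hAc : IsMulCommutative A) (hA : ∀ a ∈ A, a ^ 2 = 1) : Nat.card A ≤ 2 ^ k := by
  let e := MonoidHom.ofInjective hι
  let g : ι.range →* Y := f.comp e.symm.toMonoidHom
  have hg : Function.Surjective g := hf.comp e.symm.surjective
  let E : ι.range ⧸ g.ker ≃* Y := QuotientGroup.quotientKerEquivOfSurjective g hg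
  have h := hr ι.range g.ker (A.map E.symm.toMonoidHom)
    ⟨⟨by
      rintro ⟨_, a, ha, rfl⟩ ⟨_, b, hb, rfl⟩
      apply Subtype.ext
      show E.symm a * E.symm b = E.symm b * E.symm a
      rw [← map_mul, ← map_mul]
      exact congrArg E.symm (congrArg Subtype.val (hAc.is_comm.comm ⟨a, ha⟩ ⟨b, hb⟩))⟩⟩
    (by
      rintro _ ⟨a, ha, rfl⟩
      show E.symm a ^ 2 = 1
      rw [← map_pow, hA a ha, map_one])
  rwa [card_map_of_injective E.symm.injective] at h

theorem sectional_subgroup {k : ℕ} (hr : SectionalPRankLE 2 k S) (L : Subgroup S) :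
    SectionalPRankLE 2 k L := fun H N _ A hc hA =>
  rank_le hr (L.subtype.comp H.subtype) (L.subtype_injective.comp H.subtype_injective)
    (QuotientGroup.mk' N) (QuotientGroup.mk'_surjective N) A hc hA

theorem exists_central (h2 : IsPGroup 2 S) (N : Subgroup S) [N.Normal] (hN : N ≠ ⊥) :
    ∃ z ∈ N, z ≠ 1 ∧ z ∈ center S := by
  haveI := Fact.mk Nat.prime_two
  letI : MulAction S N :=
    { smul := fun g x => ⟨g * x * g⁻¹, Normal.conj_mem inferInstance _ x.2 g⟩
      one_smul := fun x => Subtype.ext (by show (1 : S) * x * (1 : S)⁻¹ = x; group)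
      mul_smul := fun a b x => Subtype.ext (by
        show (a * b) * (x : S) * (a * b)⁻¹ = a * (b * x * b⁻¹) * a⁻¹; group) }
  have h1 : (1 : N) ∈ MulAction.fixedPoints S N := fun g => Subtype.ext (by
    show g * (1 : S) * g⁻¹ = 1; group)
  have hd : 2 ∣ Nat.card N := by
    obtain ⟨n, hn⟩ := IsPGroup.iff_card.1 (h2.to_subgroup N)
    rw [hn]
    refine dvd_pow_self 2 ?_
    intro h0
    exact hN (card_eq_one.1 (by rw [hn, h0, pow_zero]))
  obtain ⟨z, hz, hz1⟩ := h2.exists_fixed_point_of_prime_dvd_card_of_fixed_point N hd h1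
  refine ⟨z, z.2, fun e => hz1 (Subtype.ext e.symm), mem_center_iff.2 fun g => ?_⟩
  have h : g * (z : S) * g⁻¹ = z := congrArg Subtype.val (hz g)
  calc g * (z : S) = g * z * g⁻¹ * g := by group
    _ = z * g := by rw [h]

/-- facts on a single nonabelian subgroup with centre of order two -/
theorem facts (h2 : IsPGroup 2 S) (P : Subgroup S) (hP : ¬ IsMulCommutative P)
    (hZ : Nat.card (center P) = 2) :
    center P ≤ frattini P ∧ 4 ≤ (frattini P).index := by
  haveI := Fact.mk Nat.prime_two
  have hP2 : IsPGroup 2 P := h2.to_subgroup P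
  haveI : Group.IsNilpotent P := hP2.isNilpotent
  have hc : commutator P ≠ ⊥ := fun h => hP ⟨⟨fun a b => by
    have : ⁅a, b⁆ ∈ commutator P := by
      rw [_root_.commutator_def]; exact commutator_mem_commutator (mem_top a) (mem_top b)
    rw [h, mem_bot, commutatorElement_eq_one_iff_mul_comm] at this
    exact this⟩⟩
  constructor
  · obtain ⟨z, hz, hz1, hzc⟩ := exists_central hP2 (commutator P) hc
    have hle : zpowers z ≤ center P := zpowers_le.2 hzc
    have he : zpowers z = center P := eq_of_le_of_card_ge hle (by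
      rw [hZ]
      haveI : Nontrivial (zpowers z) := ⟨⟨⟨z, mem_zpowers z⟩, 1, fun h => hz1 (congrArg Subtype.val h)⟩⟩
      exact Finite.one_lt_card)
    rw [← he, zpowers_le]
    exact Basics.commutator_le_frattini hz
  · obtain ⟨n, hn⟩ := hP2.index (frattini P)
    by_contra h
    push Not at h
    rw [hn] at h
    have hn1 : n ≤ 1 := by
      by_contra h'
      have : 2 ^ 2 ≤ 2 ^ n := Nat.pow_le_pow_right (by norm_num) (by omega)
      omega
    have hcy : ∃ x : P, zpowers x ⊔ frattini P = ⊤ := by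
      rcases Nat.eq_zero_or_pos n with h0 | h0
      · exact ⟨1, by rw [eq_top_iff, ← index_eq_one.1 (hn.trans (by rw [h0, pow_zero]))]; exact le_sup_right⟩
      · obtain ⟨x, hx⟩ : ∃ x, x ∉ frattini P := by
          by_contra hall
          push Not at hall
          have : frattini P = ⊤ := eq_top_iff.2 fun y _ => hall y
          rw [this, index_top] at hn
          have : 2 ^ 1 ≤ 2 ^ n := Nat.pow_le_pow_right (by norm_num) h0
          omega
        refine ⟨x, ?_⟩
        have hd := relIndex_mul_index (le_sup_right : frattini P ≤ zpowers x ⊔ frattini P)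
        rw [hn, show n = 1 by omega, pow_one] at hd
        rw [← index_eq_one]
        rcases (Nat.dvd_prime Nat.prime_two).1 (Dvd.intro_left _ hd) with h' | h'
        · exact h'
        · exfalso
          rw [h'] at hd
          have : (frattini P).relIndex (zpowers x ⊔ frattini P) = 1 := by omega
          exact hx (relIndex_eq_one.1 this (mem_sup_left (mem_zpowers x)))
    obtain ⟨x, hx⟩ := hcy
    have htop := frattini_nongenerating hx
    exact hP ⟨⟨fun a b => by
      obtain ⟨i, hi⟩ := mem_zpowers_iff.1 (htop ▸ mem_top a : a ∈ zpowers x)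
      obtain ⟨j, hj⟩ := mem_zpowers_iff.1 (htop ▸ mem_top b : b ∈ zpowers x)
      rw [← hi, ← hj, ← zpow_add, ← zpow_add, add_comm]⟩⟩

theorem inf_eq_bot (h2 : IsPGroup 2 S) (P Q : Subgroup S) [P.Normal] [Q.Normal]
    (hZP : Nat.card (center P) = 2) (hZQ : Nat.card (center Q) = 2)
    (hne : (center P).map P.subtype ≠ (center Q).map Q.subtype) : P ⊓ Q = ⊥ := by
  by_contra h
  haveI : (P ⊓ Q).Normal := inferInstance
  obtain ⟨z, ⟨hzP, hzQ⟩, hz1, hzc⟩ := exists_central h2 (P ⊓ Q) h
  have key : ∀ R : Subgroup S, z ∈ R → Nat.card (center R) = 2 → (center R).map R.subtype = zpowers z := by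
    intro R hzR hR
    refine (eq_of_le_of_card_ge (zpowers_le.2 ((Subgroup.mem_map (f := R.subtype) (K := center R)).2 ⟨⟨z, hzR⟩, mem_center_iff.2 fun g =>
      Subtype.ext (mem_center_iff.1 hzc g), rfl⟩)) ?_).symm
    rw [card_map_of_injective R.subtype_injective, hR]
    change 2 ≤ Nat.card (zpowers z)
    haveI : Nontrivial (zpowers z) := ⟨⟨⟨z, mem_zpowers z⟩, 1, fun h => hz1 (congrArg Subtype.val h)⟩⟩
    exact Finite.one_lt_card
  exact hne ((key P hzP hZP).trans (key Q hzQ hZQ).symm)

theorem centralizer_le (h2 : IsPGroup 2 S) (hr : SectionalPRankLE 2 4 S) (P Q : Subgroup S)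
    [P.Normal] [Q.Normal] (hP : ¬ IsMulCommutative P) (hQ : ¬ IsMulCommutative Q)
    (hZP : Nat.card (center P) = 2) (hZQ : Nat.card (center Q) = 2) (hPQ : P ⊓ Q = ⊥) :
    centralizer ((P ⊔ Q : Subgroup S) : Set S) ≤ P ⊔ Q := by
  haveI := Fact.mk Nat.prime_two
  intro c₀ hc₀
  by_contra hc₀W
  set W := P ⊔ Q with hW
  haveI hWn : W.Normal := inferInstance
  -- an element of order two modulo W
  obtain ⟨c, hcC, hcW, hc2⟩ : ∃ c ∈ centralizer (W : Set S), c ∉ W ∧ c * c ∈ W := by
    obtain ⟨k, hk⟩ := h2 c₀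
    have hk' : c₀ ^ 2 ^ k ∈ W := by rw [hk]; exact one_mem _
    clear hk
    induction k generalizing c₀ with
    | zero => simp at hk'; exact absurd hk' hc₀W
    | succ k ih =>
      by_cases h : c₀ * c₀ ∈ W
      · exact ⟨c₀, hc₀, hc₀W, h⟩
      · refine ih (mul_mem hc₀ hc₀) h ?_
        rw [← pow_two, ← pow_mul, ← pow_succ']
        exact hk'
  set ΦP := (frattini P).map P.subtype with hΦP
  set ΦQ := (frattini Q).map Q.subtype with hΦQ
  haveI : ΦP.Normal := ConjAct.normal_of_characteristic_of_normal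
  haveI : ΦQ.Normal := ConjAct.normal_of_characteristic_of_normal
  set M := ΦP ⊔ ΦQ with hM
  have hPle : ΦP ≤ P := map_subtype_le _
  have hQle : ΦQ ≤ Q := map_subtype_le _
  have hMW : M ≤ W := sup_le_sup hPle hQle
  set H := W ⊔ zpowers c with hH
  have hWH : W ≤ H := le_sup_left
  set M' := M.subgroupOf H with hM'
  set π := QuotientGroup.mk' M' with hπ
  have hcomm : ∀ a ∈ P, ∀ b ∈ Q, a * b = b * a := fun a ha b hb =>
    (Subgroup.commute_of_normal_of_disjoint P Q inferInstance inferInstance (disjoint_iff.2 hPQ) a b ha hb).eq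
  -- squares and commutators of generators die
  have hsqP : ∀ a ∈ P, a * a ∈ M := fun a ha => mem_sup_left ⟨⟨a, ha⟩ * ⟨a, ha⟩, by
    haveI : Group.IsNilpotent P := (h2.to_subgroup P).isNilpotent
    have := Basics.pow_mem_frattini (h2.to_subgroup P) (⟨a, ha⟩ : P)
    rwa [pow_two] at this, rfl⟩
  have hsqQ : ∀ a ∈ Q, a * a ∈ M := fun a ha => mem_sup_right ⟨⟨a, ha⟩ * ⟨a, ha⟩, by
    haveI : Group.IsNilpotent Q := (h2.to_subgroup Q).isNilpotent
    have := Basics.pow_mem_frattini (h2.to_subgroup Q) (⟨a, ha⟩ : Q)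
    rwa [pow_two] at this, rfl⟩
  have hsqc : c * c ∈ M := by
    obtain ⟨a, ha, b, hb, hab⟩ := mem_sup_of_normal_left.1 hc2
    have hcc : ∀ w ∈ W, w * (c * c) = (c * c) * w := fun w hw =>
      mem_centralizer_iff.1 (mul_mem hcC hcC) w hw
    have haZ : (⟨a, ha⟩ : P) ∈ center P := mem_center_iff.2 fun g => Subtype.ext (by
      show (g : S) * a = a * g
      have h1 := hcc g (mem_sup_left g.2)
      rw [← hab, ← mul_assoc, mul_assoc a b (g : S), ← hcomm g g.2 b hb, ← mul_assoc] at h1
      exact mul_right_cancel h1)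
    have hbZ : (⟨b, hb⟩ : Q) ∈ center Q := mem_center_iff.2 fun g => Subtype.ext (by
      show (g : S) * b = b * g
      have h1 := hcc g (mem_sup_right g.2)
      rw [← hab, ← mul_assoc, ← hcomm a ha g g.2, mul_assoc, mul_assoc] at h1
      exact mul_left_cancel h1)
    rw [← hab]
    exact mul_mem (mem_sup_left ⟨_, (facts h2 P hP hZP).1 haZ, rfl⟩)
      (mem_sup_right ⟨_, (facts h2 Q hQ hZQ).1 hbZ, rfl⟩)
  have hcmP : ∀ a ∈ P, ∀ b ∈ P, a * b * a⁻¹ * b⁻¹ ∈ M := fun a ha b hb => mem_sup_left
    ⟨⁅(⟨a, ha⟩ : P), (⟨b, hb⟩ : P)⁆, by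
      haveI : Group.IsNilpotent P := (h2.to_subgroup P).isNilpotent
      apply Basics.commutator_le_frattini
      rw [_root_.commutator_def]; exact commutator_mem_commutator (mem_top _) (mem_top _), rfl⟩
  have hcmQ : ∀ a ∈ Q, ∀ b ∈ Q, a * b * a⁻¹ * b⁻¹ ∈ M := fun a ha b hb => mem_sup_right
    ⟨⁅(⟨a, ha⟩ : Q), (⟨b, hb⟩ : Q)⁆, by
      haveI : Group.IsNilpotent Q := (h2.to_subgroup Q).isNilpotent
      apply Basics.commutator_le_frattini
      rw [_root_.commutator_def]; exact commutator_mem_commutator (mem_top _) (mem_top _), rfl⟩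
  set Gn : Set H := {x | (x : S) ∈ P ∨ (x : S) ∈ Q ∨ (x : S) = c} with hGn
  have hgenc : ∀ x ∈ π '' Gn, ∀ y ∈ π '' Gn, x * y = y * x := by
    rintro _ ⟨x, hx, rfl⟩ _ ⟨y, hy, rfl⟩
    have h1 : (x : S) * y * (x : S)⁻¹ * (y : S)⁻¹ ∈ M := by
      have hone : ∀ a b : S, a * b = b * a → a * b * a⁻¹ * b⁻¹ ∈ M := fun a b h => by
        rw [h]; simp
      have hcW' : ∀ w ∈ W, w * c = c * w := fun w hw => mem_centralizer_iff.1 hcC w hw
      rcases hx with hx | hx | hx <;> rcases hy with hy | hy | hy
      · exact hcmP _ hx _ hy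
      · exact hone _ _ (hcomm _ hx _ hy)
      · exact hone _ _ (hy ▸ hcW' _ (mem_sup_left hx))
      · exact hone _ _ (hcomm _ hy _ hx).symm
      · exact hcmQ _ hx _ hy
      · exact hone _ _ (hy ▸ hcW' _ (mem_sup_right hx))
      · exact hone _ _ (hx ▸ (hcW' _ (mem_sup_left hy)).symm)
      · exact hone _ _ (hx ▸ (hcW' _ (mem_sup_right hy)).symm)
      · exact hone _ _ (by rw [hx, hy])
    have h3 : π (x * y * x⁻¹ * y⁻¹) = 1 := (QuotientGroup.eq_one_iff _).2 h1
    simp only [map_mul, map_inv] at h3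
    calc π x * π y = (π x * π y * (π x)⁻¹ * (π y)⁻¹) * (π y * π x) := by group
      _ = π y * π x := by rw [h3, one_mul]
  have hgen2 : ∀ x ∈ π '' Gn, x * x = 1 := by
    rintro _ ⟨x, hx, rfl⟩
    rw [← map_mul]
    refine (QuotientGroup.eq_one_iff _).2 ?_
    show (x : S) * x ∈ M
    rcases hx with hx | hx | hx
    · exact hsqP _ hx
    · exact hsqQ _ hx
    · rw [hx]; exact hsqc
  have htop : closure (π '' Gn) = ⊤ := by
    rw [← MonoidHom.map_closure, ← MonoidHom.range_eq_top.2 (QuotientGroup.mk'_surjective M'),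
      MonoidHom.range_eq_map]
    congr 1
    refine Subgroup.map_injective H.subtype_injective ?_
    rw [MonoidHom.map_closure, ← MonoidHom.range_eq_map, range_subtype]
    refine le_antisymm ((closure_le _).2 (by rintro _ ⟨x, -, rfl⟩; exact x.2)) ?_
    refine sup_le (sup_le ?_ ?_) (zpowers_le.2 ?_)
    · exact fun a ha => subset_closure ⟨⟨a, hWH (mem_sup_left ha)⟩, Or.inl ha, rfl⟩
    · exact fun a ha => subset_closure ⟨⟨a, hWH (mem_sup_right ha)⟩, Or.inr (Or.inl ha), rfl⟩
    · exact subset_closure ⟨⟨c, mem_sup_right (mem_zpowers c)⟩, Or.inr (Or.inr rfl), rfl⟩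
  haveI hab := Subgroup.isMulCommutative_closure hgenc
  have hall : ∀ x ∈ closure (π '' Gn), x ^ 2 = 1 := by
    intro x hx
    induction hx using closure_induction with
    | mem x hx => rw [pow_two]; exact hgen2 x hx
    | one => exact one_pow _
    | mul a b ha hb iha ihb =>
      have : Commute a b := congrArg Subtype.val
        (hab.is_comm.comm (⟨a, ha⟩ : closure (π '' Gn)) ⟨b, hb⟩)
      rw [this.mul_pow, iha, ihb, one_mul]
    | inv a _ iha => rw [inv_pow, iha, inv_one]
  have hle := rank_le hr H.subtype H.subtype_injective π (QuotientGroup.mk'_surjective M')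
    (closure (π '' Gn)) hab hall
  rw [htop, card_top] at hle
  have hidx : Nat.card (H ⧸ M') = M.relIndex H := by rw [relIndex, index_eq_card]
  rw [hidx, ← relIndex_mul_relIndex M W H hMW hWH] at hle
  have h1 : 2 ≤ W.relIndex H := by
    have hne : W.relIndex H ≠ 1 := fun h => hcW (relIndex_eq_one.1 h (mem_sup_right (mem_zpowers c)))
    have hne0 : W.relIndex H ≠ 0 := index_ne_zero_of_finite
    omega
  have h2' : 16 ≤ M.relIndex W := by
    have hWc : Nat.card W = Nat.card P * Nat.card Q := by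
      have := Basics.card_mul_card_eq_card_sup_mul_card_inf (N := P) (H := Q)
        (by rw [normalizer_eq_top_iff.2 inferInstance]; exact le_top)
      rw [hPQ, card_bot, mul_one] at this
      exact this.symm
    have hMc : Nat.card M ≤ Nat.card (frattini P) * Nat.card (frattini Q) := by
      have := Basics.card_mul_card_eq_card_sup_mul_card_inf (N := ΦP) (H := ΦQ)
        (by rw [normalizer_eq_top_iff.2 inferInstance]; exact le_top)
      rw [le_bot_iff.1 (show ΦP ⊓ ΦQ ≤ ⊥ from hPQ ▸ inf_le_inf hPle hQle), card_bot, mul_one, hΦP, hΦQ,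
        card_map_of_injective P.subtype_injective, card_map_of_injective Q.subtype_injective] at this
      exact this.ge
    have e := relIndex_mul_relIndex ⊥ M W bot_le hMW
    rw [relIndex_bot_left, relIndex_bot_left, hWc] at e
    have f1 := (facts h2 P hP hZP).2
    have f2 := (facts h2 Q hQ hZQ).2
    have g1 := card_mul_index (frattini P)
    have g2 := card_mul_index (frattini Q)
    by_contra hlt
    push Not at hlt
    have hpos : 0 < Nat.card (frattini P) * Nat.card (frattini Q) := Nat.mul_pos Nat.card_pos Nat.card_pos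
    have : Nat.card (frattini P) * Nat.card (frattini Q) * 16 ≤ Nat.card M * M.relIndex W := by
      rw [e, ← g1, ← g2]
      calc Nat.card (frattini P) * Nat.card (frattini Q) * 16
          = (Nat.card (frattini P) * 4) * (Nat.card (frattini Q) * 4) := by ring
        _ ≤ _ := Nat.mul_le_mul (Nat.mul_le_mul_left _ f1) (Nat.mul_le_mul_left _ f2)
    nlinarith
  have := Nat.mul_le_mul h2' h1
  omega

theorem rank_two (h2 : IsPGroup 2 S) (hr : SectionalPRankLE 2 4 S) (P Q : Subgroup S)
    [P.Normal] [Q.Normal] (hQ : ¬ IsMulCommutative Q) (hZQ : Nat.card (center Q) = 2)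
    (hPQ : P ⊓ Q = ⊥) : SectionalPRankLE 2 2 P := by
  haveI := Fact.mk Nat.prime_two
  intro H N _ A hAc hA
  haveI : Group.IsNilpotent Q := (h2.to_subgroup Q).isNilpotent
  by_contra hlt
  let ι : H × Q →* S :=
    MonoidHom.noncommCoprod (P.subtype.comp H.subtype) Q.subtype (fun a b =>
      Subgroup.commute_of_normal_of_disjoint P Q inferInstance inferInstance (disjoint_iff.2 hPQ)
        _ _ (a : P).2 b.2)
  have hι : Function.Injective ι := by
    rw [injective_iff_map_eq_one]
    rintro ⟨a, b⟩ hab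
    have hab' : ((a : P) : S) * (b : S) = 1 := hab
    have : ((a : P) : S) ∈ P ⊓ Q := ⟨(a : P).2, (eq_inv_of_mul_eq_one_left hab') ▸ Q.inv_mem b.2⟩
    rw [hPQ, mem_bot] at this
    rw [this, one_mul] at hab'
    exact Prod.ext (Subtype.ext (Subtype.ext this)) (Subtype.ext hab')
  have hqq : ∀ x y : Q ⧸ frattini Q, x * y = y * x := by
    intro x y
    induction x using QuotientGroup.induction_on with
    | _ a =>
    induction y using QuotientGroup.induction_on with
    | _ b =>
      rw [← QuotientGroup.mk_mul, ← QuotientGroup.mk_mul, QuotientGroup.eq]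
      apply Basics.commutator_le_frattini
      rw [show (a * b)⁻¹ * (b * a) = ⁅b⁻¹, a⁻¹⁆ by rw [commutatorElement_def]; group, _root_.commutator_def]
      exact commutator_mem_commutator (mem_top _) (mem_top _)
  have h := rank_le hr ι hι ((QuotientGroup.mk' N).prodMap (QuotientGroup.mk' (frattini Q)))
    (Prod.map_surjective.2 ⟨QuotientGroup.mk'_surjective N, QuotientGroup.mk'_surjective _⟩)
    (A.prod ⊤) ⟨⟨fun a b => Subtype.ext (Prod.ext
      (congrArg Subtype.val (hAc.is_comm.comm ⟨a.1.1, a.2.1⟩ ⟨b.1.1, b.2.1⟩)) (hqq _ _))⟩⟩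
    (fun a ha => Prod.ext (hA _ ha.1) (by
      obtain ⟨q, hq⟩ := QuotientGroup.mk'_surjective (frattini Q) a.2
      show a.2 ^ 2 = 1
      rw [← hq, ← map_pow]
      exact (QuotientGroup.eq_one_iff _).2 (Basics.pow_mem_frattini (h2.to_subgroup Q) q)))
  rw [Nat.card_congr (Subgroup.prodEquiv A ⊤).toEquiv, Nat.card_prod, card_top, ← index_eq_card] at h
  have hA4 : 2 ^ 3 ≤ Nat.card A := by
    obtain ⟨n, hn⟩ := IsPGroup.iff_card.1
      (((((h2.to_subgroup P).to_subgroup H)).to_quotient N).to_subgroup A)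
    rw [hn] at hlt ⊢
    have : 2 < n := by
      by_contra h'
      exact hlt (Nat.pow_le_pow_right (by norm_num) (by omega))
    exact Nat.pow_le_pow_right (by norm_num) this
  have := Nat.mul_le_mul hA4 (facts h2 Q hQ hZQ).2
  omega

end Cfsg.Agent.FGS.SectionalRankFour
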