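/-
Structure of groups with square-free class sizes.
-/
import Mathlib
import Cfsg.Agent.Lib.FGS.SquarefreeClass
import Cfsg.Agent.Lib.Basics.Schmidt
import Cfsg.Agent.Lib.LocalEvenB.HyperCyclic
import Cfsg.Agent.Lib.SmallSimple.PrimeSylow

set_option autoImplicit false
set_option linter.all false

namespace Cfsg.Agent.FGS.SquarefreeClass

open Subgroup Cfsg
open scoped Pointwise commutatorElement

universe u

variable {G : Type u} [Group G] [Finite G] {p : ℕ}

/-- All class sizes are square-free. -/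
def Sqf (G : Type u) [Group G] : Prop := ∀ x : G, Squarefree (centralizer ({x} : Set G)).index

theorem Sqf.sqp (h : Sqf G) [hp : Fact p.Prime] : Sqp p G := fun x hd => by
  rw [pow_two] at hd
  exact (Nat.squarefree_iff_prime_squarefree.1 (h x)) p hp.out hd

theorem Sqf.quotient (h : Sqf G) (N : Subgroup G) [N.Normal] : Sqf (G ⧸ N) := fun x => by
  obtain ⟨x, rfl⟩ := QuotientGroup.mk'_surjective N x
  exact Squarefree.squarefree_of_dvd (index_dvd_quotient N x) (h x)

theorem Sqf.isSolvable (h : Sqf G) : Group.IsSolvable G := isSolvable_of_squarefree _ G rfl h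

/-- In a normal `p`-subgroup each element is centralised by a subgroup of index dividing `p`. -/
theorem relIndex_dvd [hp : Fact p.Prime] (h : Sqp p G) (N : Subgroup G) [N.Normal]
    (hN : IsPGroup p N) (g : G) : (centralizer ({g} : Set G)).relIndex N ∣ p := by
  have hd : (centralizer ({g} : Set G)).relIndex N ∣ (centralizer ({g} : Set G)).index := by
    rw [← FGS.SylowNumber.relIndex_sup_of_le_normalizer
      (show centralizer ({g} : Set G) ≤ normalizer (N : Set G) by
        rw [normalizer_eq_top_iff.2 inferInstance]; exact le_top),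
      ← relIndex_mul_index (le_sup_right : centralizer ({g} : Set G) ≤ N ⊔ _)]
    exact dvd_mul_right _ _
  obtain ⟨j, hj⟩ := hN.index ((centralizer ({g} : Set G)).subgroupOf N)
  rw [relIndex, hj] at hd ⊢
  have hj1 : j ≤ 1 := by
    by_contra hj1
    exact h g ((pow_dvd_pow p (show 2 ≤ j by omega)).trans hd)
  exact (pow_dvd_pow p hj1).trans (by rw [pow_one])

/-- Knoche: a `p`-group in which every element has a centraliser of index dividing `p` has
central derived group of order dividing `p`. -/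
theorem knoche {P : Type u} [Group P] [Finite P] [hp : Fact p.Prime] (hP : IsPGroup p P)
    (h : ∀ x : P, (centralizer ({x} : Set P)).index ∣ p) :
    commutator P ≤ center P ∧ Nat.card (commutator P) ∣ p := by
  haveI := hP.isNilpotent
  have hc : commutator P ≤ center P := by
    intro c hc
    refine mem_center_iff.2 fun x => ?_
    by_cases htop : centralizer ({x} : Set P) = ⊤
    · have := mem_centralizer_singleton_iff.1 (htop ▸ mem_top c : c ∈ centralizer ({x} : Set P))
      exact this.symm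
    · obtain ⟨M, hM, hle⟩ := (eq_top_or_exists_le_coatom _).resolve_left htop
      have he : M = centralizer ({x} : Set P) := by
        by_contra hne
        have h1 := ((Nat.dvd_prime hp.out).1 (h x)).resolve_left
          fun h1 => htop (index_eq_one.1 h1)
        have h2 := relIndex_mul_index hle
        rw [h1] at h2
        rcases (Nat.dvd_prime hp.out).1 (Dvd.intro_left _ h2) with h3 | h3
        · exact hM.1 (index_eq_one.1 h3)
        · rw [h3] at h2
          exact hne (le_antisymm (relIndex_eq_one.1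
            (Nat.eq_of_mul_eq_mul_right hp.out.pos (h2.trans (one_mul p).symm))) hle)
      have : c ∈ centralizer ({x} : Set P) :=
        he ▸ (Basics.commutator_le_frattini.trans (frattini_le_coatom hM)) hc
      exact (mem_centralizer_singleton_iff.1 this).symm
  refine ⟨hc, ?_⟩
  have hz : ∀ x y z : P, z * ⁅x, y⁆ = ⁅x, y⁆ * z := fun x y z =>
    mem_center_iff.1 (hc (commutator_mem_commutator (mem_top x) (mem_top y))) z
  let δ : P → P →* P := fun x =>
    { toFun := fun y => ⁅x, y⁆
      map_one' := by simp [commutatorElement_def]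
      map_mul' := fun y z => by
        calc ⁅x, y * z⁆ = ⁅x, y⁆ * (y * ⁅x, z⁆ * y⁻¹) := by
              simp only [commutatorElement_def]; group
          _ = ⁅x, y⁆ * ⁅x, z⁆ := by rw [hz x z y, mul_inv_cancel_right] }
  have hD : ∀ x, Nat.card (δ x).range ∣ p := fun x => by
    refine dvd_trans (dvd_of_eq ?_) (h x)
    rw [← index_ker]
    congr 1
    ext y
    rw [MonoidHom.mem_ker, mem_centralizer_singleton_iff]
    exact commutatorElement_eq_one_iff_mul_comm.trans eq_comm
  have hgen : ∀ (x : P) (c : P), c ∈ (δ x).range → c ≠ 1 → (δ x).range = zpowers c := by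
    intro x c hc' hc1
    refine (eq_of_le_of_card_ge (zpowers_le.2 hc') ?_).symm
    rcases (Nat.dvd_prime hp.out).1 (hD x) with h1 | h1
    · rw [h1]; exact Nat.card_pos
    · have h2 := card_dvd_of_le (zpowers_le.2 hc')
      rw [h1] at h2
      rcases (Nat.dvd_prime hp.out).1 h2 with h3 | h3
      · rw [Nat.card_zpowers, orderOf_eq_one_iff] at h3
        exact absurd h3 hc1
      · rw [h1, h3]
  by_cases hab : ∀ a b : P, ⁅a, b⁆ = 1
  · have : commutator P = ⊥ := by
      rw [eq_bot_iff]
      exact commutator_le.2 fun a _ b _ => mem_bot.2 (hab a b)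
    rw [this, card_bot]; exact one_dvd p
  push Not at hab
  obtain ⟨a, b, hab⟩ := hab
  set c := ⁅a, b⁆ with hcdef
  have hDa : (δ a).range = zpowers c := hgen a c ⟨b, rfl⟩ hab
  have hDb : (δ b).range = zpowers c := by
    rw [hgen b c⁻¹ ⟨a, by show ⁅b, a⁆ = c⁻¹; rw [hcdef, commutatorElement_inv]⟩
      (inv_ne_one.2 hab), zpowers_inv]
  have key : ∀ x : P, (δ x).range ≤ zpowers c := by
    intro x
    by_cases hxa : ⁅x, a⁆ ≠ 1
    · rw [hgen x ⁅x, a⁆ ⟨a, rfl⟩ hxa, zpowers_le, ← hDa, ← inv_mem_iff, commutatorElement_inv]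
      exact ⟨x, rfl⟩
    push Not at hxa
    by_cases hxb : ⁅x, b⁆ ≠ 1
    · rw [hgen x ⁅x, b⁆ ⟨b, rfl⟩ hxb, zpowers_le, ← hDb, ← inv_mem_iff, commutatorElement_inv]
      exact ⟨x, rfl⟩
    push Not at hxb
    have e : ∀ y, ⁅x * a, y⁆ = ⁅a, y⁆ * ⁅x, y⁆ := fun y => by
      calc ⁅x * a, y⁆ = x * ⁅a, y⁆ * x⁻¹ * ⁅x, y⁆ := by
            simp only [commutatorElement_def]; group
        _ = ⁅a, y⁆ * ⁅x, y⁆ := by rw [hz a y x, mul_inv_cancel_right]
    have h1 : (δ (x * a)).range = zpowers c := hgen _ c ⟨b, by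
      show ⁅x * a, b⁆ = c
      rw [e, hxb, mul_one]⟩ hab
    rintro _ ⟨y, rfl⟩
    show ⁅x, y⁆ ∈ zpowers c
    have h2 : ⁅x, y⁆ = ⁅a, y⁆⁻¹ * ⁅x * a, y⁆ := by rw [e, inv_mul_cancel_left]
    rw [h2]
    exact mul_mem (inv_mem (hDa ▸ ⟨y, rfl⟩)) (h1 ▸ ⟨y, rfl⟩)
  have hle : commutator P ≤ zpowers c := commutator_le.2 fun x _ y _ => key x ⟨y, rfl⟩
  exact (card_dvd_of_le hle).trans (hDa ▸ hD a)

/-- The map `n ↦ g n g⁻¹ n⁻¹` on an abelian normal subgroup. -/
def delta (N : Subgroup G) [N.Normal] [IsMulCommutative N] (g : G) : N →* G where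
  toFun n := g * (n : G) * g⁻¹ * (n : G)⁻¹
  map_one' := by simp
  map_mul' a b := by
    have hc : ∀ u v : G, u ∈ N → v ∈ N → u * v = v * u := fun u v hu hv =>
      congrArg Subtype.val
        ((inferInstance : IsMulCommutative N).is_comm.comm ⟨u, hu⟩ ⟨v, hv⟩)
    rw [Subgroup.coe_mul, mul_inv_rev]
    calc g * ((a : G) * b) * g⁻¹ * ((b : G)⁻¹ * (a : G)⁻¹)
        = g * a * g⁻¹ * ((g * b * g⁻¹ * (b : G)⁻¹) * (a : G)⁻¹) := by group
      _ = g * a * g⁻¹ * ((a : G)⁻¹ * (g * b * g⁻¹ * (b : G)⁻¹)) := by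
          rw [hc (g * b * g⁻¹ * (b : G)⁻¹) (a : G)⁻¹
            (mul_mem (Normal.conj_mem inferInstance _ b.2 g) (inv_mem b.2)) (inv_mem a.2)]
      _ = g * a * g⁻¹ * (a : G)⁻¹ * (g * b * g⁻¹ * (b : G)⁻¹) := by group

section Delta

variable (N : Subgroup G) [N.Normal] [IsMulCommutative N]

theorem delta_apply (g : G) (n : N) : delta N g n = g * (n : G) * g⁻¹ * (n : G)⁻¹ := rfl

theorem mem_ker_delta {g : G} {n : N} : n ∈ (delta N g).ker ↔ g * (n : G) = (n : G) * g := by
  rw [MonoidHom.mem_ker, delta_apply, mul_inv_eq_one, mul_inv_eq_iff_eq_mul]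

theorem range_delta_le (g : G) : (delta N g).range ≤ N := by
  rintro _ ⟨n, rfl⟩
  exact mul_mem (Normal.conj_mem inferInstance _ n.2 g) (inv_mem n.2)

theorem index_ker_delta (g : G) :
    (delta N g).ker.index = (centralizer ({g} : Set G)).relIndex N := by
  rw [relIndex]
  congr 1
  ext n
  rw [mem_ker_delta, mem_subgroupOf, mem_centralizer_singleton_iff, eq_comm]

theorem delta_conj (x g : G) (n : N) :
    x * delta N g n * x⁻¹ =
      delta N (x * g * x⁻¹) ⟨x * (n : G) * x⁻¹, Normal.conj_mem inferInstance _ n.2 x⟩ := by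
  simp only [delta_apply]
  group

theorem delta_mul (g h : G) (n : N) :
    delta N (g * h) n = g * delta N h n * g⁻¹ * delta N g n := by
  simp only [delta_apply]
  group

end Delta

/-- A minimal normal elementary abelian subgroup has prime order. -/
theorem card_minimal [hp : Fact p.Prime] (h : Sqp p G) (N : Subgroup G) [N.Normal]
    (hab : IsMulCommutative N) (hexp : ∀ x ∈ N, x ^ p = 1) (hne : N ≠ ⊥)
    (hmin : ∀ K : Subgroup G, K.Normal → K ≤ N → K = ⊥ ∨ K = N) : Nat.card N = p := by
  have hN : IsPGroup p N := Basics.isPGroup_of_pow_eq_one hexp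
  have hker : ∀ g, (delta N g).ker.index ∣ p := fun g => by
    rw [index_ker_delta]; exact relIndex_dvd h N hN g
  obtain ⟨k, hk⟩ := hN.exists_card_eq
  -- ranges
  let R : G → Subgroup G := fun g => (delta N g).range
  have hRc : ∀ g, Nat.card (R g) ∣ p := fun g => by
    show Nat.card (delta N g).range ∣ p
    rw [← index_ker]; exact hker g
  have hRinv : ∀ g x, x ∈ R g → g⁻¹ * x * g ∈ R g := by
    rintro g _ ⟨n, rfl⟩
    refine ⟨⟨g⁻¹ * (n : G) * g, by simpa using Normal.conj_mem ‹N.Normal› _ n.2 g⁻¹⟩, ?_⟩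
    simp only [delta_apply]
    group
  have hne' : ∀ g, ¬ (∀ n : N, delta N g n = 1) → Nat.card (R g) = p := fun g hg =>
    ((Nat.dvd_prime hp.out).1 (hRc g)).resolve_left fun h1 => hg fun n => by
      have : delta N g n ∈ R g := ⟨n, rfl⟩
      rwa [card_eq_one.1 h1, mem_bot] at this
  have pair : ∀ g₁ g₂, ¬ (∀ n : N, delta N g₁ n = 1) → ¬ (∀ n : N, delta N g₂ n = 1) →
      R g₁ = R g₂ ∨ (delta N g₁).ker = (delta N g₂).ker := by
    intro g₁ g₂ h1 h2
    by_contra hcon
    push Not at hcon
    obtain ⟨hR, hK⟩ := hcon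
    have hidx : ∀ g, ¬ (∀ n : N, delta N g n = 1) → (delta N g).ker.index = p := fun g hg =>
      ((Nat.dvd_prime hp.out).1 (hker g)).resolve_left fun h1 => hg fun n =>
        MonoidHom.mem_ker.1 (index_eq_one.1 h1 ▸ mem_top n)
    have hnle : ∀ a b, ¬ (∀ n : N, delta N a n = 1) → ¬ (∀ n : N, delta N b n = 1) →
        (delta N a).ker ≠ (delta N b).ker → ∃ v, v ∈ (delta N a).ker ∧ v ∉ (delta N b).ker := by
      intro a b ha hb hab'
      by_contra hall
      push Not at hall
      refine hab' (eq_of_le_of_card_ge hall (le_of_eq ?_))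
      have e1 := card_mul_index (delta N a).ker
      have e2 := card_mul_index (delta N b).ker
      rw [hidx a ha] at e1
      rw [hidx b hb, ← e1] at e2
      exact Nat.eq_of_mul_eq_mul_right hp.out.pos e2
    obtain ⟨v, hv2, hv1⟩ := hnle g₂ g₁ h2 h1 (Ne.symm hK)
    obtain ⟨w, hw1, hw2⟩ := hnle g₁ g₂ h1 h2 hK
    rw [MonoidHom.mem_ker] at hv1 hv2 hw1 hw2
    have ev : delta N g₁ v ∈ R (g₁ * g₂) := ⟨v, by rw [delta_mul, hv2]; group⟩
    have ew : g₁ * delta N g₂ w * g₁⁻¹ ∈ R (g₁ * g₂) := ⟨w, by rw [delta_mul, hw1, mul_one]⟩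
    have gen : ∀ g x, x ∈ R g → x ≠ 1 → R g = zpowers x := by
      intro g x hx hx1
      refine (eq_of_le_of_card_ge (zpowers_le.2 hx) ?_).symm
      have h2' := card_dvd_of_le (zpowers_le.2 hx)
      rcases (Nat.dvd_prime hp.out).1 (hRc g) with h3 | h3
      · rw [h3]; exact Nat.card_pos
      · rw [h3] at h2' ⊢
        rcases (Nat.dvd_prime hp.out).1 h2' with h4 | h4
        · rw [Nat.card_zpowers, orderOf_eq_one_iff] at h4
          exact absurd h4 hx1
        · rw [h4]
    have eR : R (g₁ * g₂) = R g₁ := (gen _ _ ev hv1).trans (gen g₁ _ ⟨v, rfl⟩ hv1).symm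
    rw [eR] at ew
    have ew' : delta N g₂ w ∈ R g₁ := by
      have := hRinv g₁ _ ew
      rwa [show g₁⁻¹ * (g₁ * delta N g₂ w * g₁⁻¹) * g₁ = delta N g₂ w by group] at this
    exact hR ((gen g₁ _ ew' hw2).trans (gen g₂ _ ⟨w, rfl⟩ hw2).symm)
  have hconj : ∀ x g, ¬ (∀ n : N, delta N g n = 1) → ¬ (∀ n : N, delta N (x * g * x⁻¹) n = 1) := by
    intro x g hg hall
    refine hg fun n => ?_
    have h1 := delta_conj N x g n
    rw [hall, mul_inv_eq_one] at h1
    exact mul_eq_left.1 h1
  by_cases htriv : ∀ g, ∀ n : N, delta N g n = 1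
  · obtain ⟨a, ha, ha1⟩ := N.bot_or_exists_ne_one.resolve_left hne
    haveI : (zpowers a).Normal := ⟨fun y hy g => by
      have := htriv g ⟨y, zpowers_le.2 ha hy⟩
      rw [delta_apply, mul_inv_eq_one] at this
      rw [this]; exact hy⟩
    rcases hmin _ inferInstance (zpowers_le.2 ha) with h1 | h1
    · exact absurd (zpowers_eq_bot.1 h1) ha1
    · rw [← h1, Nat.card_zpowers, orderOf_eq_prime (hexp a ha) ha1]
  push Not at htriv
  obtain ⟨g₀, n₀, hn₀⟩ := htriv
  have hg₀ : ¬ (∀ n : N, delta N g₀ n = 1) := fun hh => hn₀ (hh n₀)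
  by_cases hsame : ∀ g, ¬ (∀ n : N, delta N g n = 1) → R g = R g₀
  · haveI : (R g₀).Normal := ⟨by
      rintro _ ⟨n, rfl⟩ x
      rw [delta_conj, ← hsame _ (hconj x g₀ hg₀)]
      exact ⟨_, rfl⟩⟩
    rcases hmin _ inferInstance (range_delta_le N g₀) with h1 | h1
    · have h2 := hne' g₀ hg₀
      rw [show R g₀ = ⊥ from h1, card_bot] at h2
      exact absurd h2.symm hp.out.ne_one
    · rw [← h1]; exact hne' g₀ hg₀
  push Not at hsame
  obtain ⟨g₁, hg₁', hR1⟩ := hsame
  have hg₁ : ¬ (∀ n : N, delta N g₁ n = 1) := by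
    obtain ⟨n, hn⟩ := hg₁'; exact fun hh => hn (hh n)
  have hK10 : (delta N g₁).ker = (delta N g₀).ker := (pair g₁ g₀ hg₁ hg₀).resolve_left hR1
  have hall : ∀ g, ¬ (∀ n : N, delta N g n = 1) → (delta N g).ker = (delta N g₀).ker := by
    intro g hg
    rcases pair g g₀ hg hg₀ with h1 | h1
    · rcases pair g g₁ hg hg₁ with h2 | h2
      · exact absurd (h2.symm.trans h1) hR1
      · exact h2.trans hK10
    · exact h1
  set K := ((delta N g₀).ker).map N.subtype with hK
  have hKn : K.Normal := ⟨by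
    rintro _ ⟨n, hn, rfl⟩ x
    refine ⟨⟨x * (n : G) * x⁻¹, Normal.conj_mem inferInstance _ n.2 x⟩, ?_, rfl⟩
    rw [SetLike.mem_coe, MonoidHom.mem_ker] at hn
    rw [SetLike.mem_coe, ← hall _ (hconj x g₀ hg₀), MonoidHom.mem_ker, ← delta_conj, hn]
    group⟩
  have hidx0 : (delta N g₀).ker.index = p :=
    ((Nat.dvd_prime hp.out).1 (hker g₀)).resolve_left fun h1 => hg₀ fun n =>
      MonoidHom.mem_ker.1 (index_eq_one.1 h1 ▸ mem_top n)
  have hc := card_mul_index (delta N g₀).ker
  rw [hidx0] at hc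
  rcases hmin K hKn (map_subtype_le _) with h1 | h1
  · rw [hK, map_eq_bot_iff_of_injective _ N.subtype_injective] at h1
    rw [← hc, h1, card_bot, one_mul]
  · have h2 : Nat.card (delta N g₀).ker = Nat.card N := by
      rw [← card_map_of_injective N.subtype_injective, ← hK, h1]
    rw [h2] at hc
    have h3 : p = 1 := Nat.eq_of_mul_eq_mul_left Nat.card_pos (hc.trans (mul_one _).symm)
    exact absurd h3 hp.out.ne_one

/-- Every nontrivial normal subgroup contains a normal subgroup of prime order. -/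
theorem exists_normal_prime_le (h : Sqf G) (K : Subgroup G) [K.Normal] (hK : K ≠ ⊥) :
    ∃ N : Subgroup G, N.Normal ∧ N ≤ K ∧ (Nat.card N).Prime := by
  haveI := h.isSolvable
  obtain ⟨p, E, hp, hEn, hEK, hEne, hEab, hEexp⟩ :=
    Basics.exists_elementary_normal hK inferInstance
  haveI := Fact.mk hp
  haveI := hEn
  obtain ⟨M, hMn, hME, hMne, hmin⟩ := Basics.exists_minimal_normal hEne
  haveI := hMn
  refine ⟨M, hMn, hME.trans hEK, ?_⟩
  rw [card_minimal h.sqp M ⟨⟨fun a b => Subtype.ext
    (congrArg Subtype.val (hEab.is_comm.comm ⟨a, hME a.2⟩ ⟨b, hME b.2⟩) :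
      (a : G) * b = b * a)⟩⟩ (fun x hx => hEexp x (hME hx)) hMne hmin]
  exact hp

theorem commutator_centralizes {N : Subgroup G} [N.Normal] (hN : (Nat.card N).Prime) :
    commutator G ≤ centralizer (N : Set G) := by
  haveI := Fact.mk hN
  haveI : IsCyclic N := isCyclic_of_prime_card rfl
  refine commutator_le.2 fun x _ y _ => ?_
  refine mem_centralizer_iff.2 fun n hn => ?_
  obtain ⟨a, ha⟩ := (MulAut.conjNormal (H := N) x).toMonoidHom.map_cyclic
  obtain ⟨b, hb⟩ := (MulAut.conjNormal (H := N) y).toMonoidHom.map_cyclic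
  have hcomm : MulAut.conjNormal (H := N) x * MulAut.conjNormal (H := N) y =
      MulAut.conjNormal (H := N) y * MulAut.conjNormal (H := N) x := by
    refine MulEquiv.ext fun m => ?_
    have ha' : ∀ z, MulAut.conjNormal (H := N) x z = z ^ a := ha
    have hb' : ∀ z, MulAut.conjNormal (H := N) y z = z ^ b := hb
    simp only [MulAut.mul_apply, ha', hb', ← zpow_mul, mul_comm a b]
  have h1 : MulAut.conjNormal (H := N) ⁅x, y⁆ = 1 := by
    rw [map_commutatorElement]; exact commutatorElement_eq_one_iff_mul_comm.2 hcomm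
  have h2 := congrArg (fun e : MulAut N => ((e ⟨n, hn⟩ : N) : G)) h1
  simp only [MulAut.conjNormal_apply, MulAut.one_apply] at h2
  exact (mul_inv_eq_iff_eq_mul.1 h2).symm

theorem supersolvable_and_nilpotent : ∀ (n : ℕ) (G : Type u) [Group G] [Finite G],
    Nat.card G = n → Sqf G → IsSupersolvable G ∧ Group.IsNilpotent (commutator G) := by
  intro n
  induction n using Nat.strong_induction_on with
  | _ n ih =>
  intro G _ _ hn h
  subst hn
  rcases subsingleton_or_nontrivial G with hs | hnt
  · refine ⟨⟨0, fun _ => ⊥, rfl, Subsingleton.elim _ _, fun _ => inferInstance,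
      fun i => i.elim0⟩, inferInstance⟩
  obtain ⟨N, hN, -, hNp⟩ := exists_normal_prime_le h (⊤ : Subgroup G) top_ne_bot
  haveI := hN
  have hNne : N ≠ ⊥ := fun h1 => hNp.ne_one (by rw [h1, card_bot])
  obtain ⟨hs, hnil⟩ := ih _ (Basics.card_quotient_lt hNne) _ rfl (h.quotient N)
  refine ⟨?_, ?_⟩
  · obtain ⟨g, hg, hg1⟩ := N.bot_or_exists_ne_one.resolve_left hNne
    haveI := Fact.mk hNp
    have hz : (⊥ : Subgroup G) ⊔ zpowers g = N := by
      rw [bot_sup_eq]
      exact SmallSimple.zpowers_eq_of_prime rfl hg hg1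
    refine LocalEvenB.isSupersolvable_of_cycReach
      (LocalEvenB.cycReach_top_of_quotient N hs ?_)
    have := LocalEvenB.CycReach.step g LocalEvenB.CycReach.bot (by rw [hz]; exact hN)
    rwa [hz] at this
  · let π := QuotientGroup.mk' N
    let f : commutator G →* commutator (G ⧸ N) :=
      (π.comp (commutator G).subtype).codRestrict _ fun c =>
        (map_commutator_eq G π).le ⟨(c : G), c.2, rfl⟩ |> fun h1 => by
          have h2 : ⁅π.range, π.range⁆ ≤ commutator (G ⧸ N) :=
            commutator_mono le_top le_top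
          exact h2 h1
    haveI := hnil
    refine Subgroup.isNilpotent_of_ker_le_center f fun c hc => mem_center_iff.2 fun d => ?_
    have h1 : (c : G) ∈ N := by
      have : π (c : G) = 1 := congrArg Subtype.val (MonoidHom.mem_ker.1 hc)
      exact (QuotientGroup.eq_one_iff _).1 this
    exact Subtype.ext (mem_centralizer_iff.1 (commutator_centralizes hNp d.2) c h1).symm

theorem commutator_le_fitting (h : Sqf G) : commutator G ≤ fittingSubgroup G :=
  Basics.le_fittingSubgroup (supersolvable_and_nilpotent _ G rfl h).2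

/-- The Fitting subgroup has class at most two. -/
theorem fitting_class_two (h : Sqf G) :
    Subgroup.upperCentralSeries ↥(fittingSubgroup G) 2 = ⊤ := by
  set F := fittingSubgroup G with hF
  have key : ∀ p : Nat.Primes, ∀ q : Nat.Primes, ∀ x ∈ pCore (p : ℕ) G, ∀ y ∈ pCore (q : ℕ) G,
      ⁅x, y⁆ ∈ centralizer (F : Set G) := by
    intro p q x hx y hy
    haveI := Fact.mk p.2
    haveI := Fact.mk q.2
    by_cases hpq : (p : ℕ) = q
    · rw [← hpq] at hy
      have hxy : ⁅x, y⁆ ∈ pCore (p : ℕ) G :=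
        mul_mem (mul_mem (mul_mem hx hy) (inv_mem hx)) (inv_mem hy)
      rw [hF, Basics.fittingSubgroup_eq_iSup_pCore, ← zpowers_le, le_centralizer_iff]
      refine iSup_le fun s => ?_
      rw [le_centralizer_iff, zpowers_le]
      refine mem_centralizer_iff.2 fun z hz => ?_
      haveI := Fact.mk s.2
      by_cases hsp : (s : ℕ) = p
      · rw [hsp] at hz
        set P := pCore (p : ℕ) G with hP
        have hk := (knoche (P := P) (Basics.pCore_isPGroup (p : ℕ)) fun w => by
          have e : (centralizer ({w} : Set P)).index =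
              (centralizer ({(w : G)} : Set G)).relIndex P := by
            rw [relIndex]
            congr 1
            ext v
            rw [mem_subgroupOf, mem_centralizer_singleton_iff, mem_centralizer_singleton_iff,
              Subtype.ext_iff]
            rfl
          rw [e]
          exact relIndex_dvd h.sqp P (Basics.pCore_isPGroup (p : ℕ)) (w : G)).1
        exact congrArg Subtype.val (mem_center_iff.1
          (hk (commutator_mem_commutator (mem_top (⟨x, hx⟩ : P)) (mem_top ⟨y, hy⟩))) ⟨z, hz⟩)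
      · exact (Basics.commute_pCore hsp hz hxy).eq
    · rw [commutatorElement_eq_one_iff_mul_comm.2 (Basics.commute_pCore hpq hx hy).eq]
      exact one_mem _
  haveI : (centralizer (F : Set G)).Normal := normal_centralizer
  set π := QuotientGroup.mk' (centralizer (F : Set G))
  have hsupF : F.map π = ⨆ p : Nat.Primes, (pCore (p : ℕ) G).map π := by
    rw [← Subgroup.map_iSup, ← Basics.fittingSubgroup_eq_iSup_pCore]
  have hab : F.map π ≤ centralizer ((F.map π : Subgroup _) : Set (G ⧸ centralizer (F : Set G))) := by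
    rw [hsupF]
    refine iSup_le fun p => ?_
    rw [le_centralizer_iff]
    refine iSup_le fun q => ?_
    rintro _ ⟨y, hy, rfl⟩
    refine mem_centralizer_iff.2 ?_
    rintro _ ⟨x, hx, rfl⟩
    have := (QuotientGroup.eq_one_iff _).2 (key p q x hx y hy)
    rw [← QuotientGroup.mk'_apply, map_commutatorElement] at this
    exact commutatorElement_eq_one_iff_mul_comm.1 this
  refine eq_top_iff.2 fun x _ => Subgroup.mem_upperCentralSeries_succ_iff.2 fun y => ?_
  rw [Subgroup.upperCentralSeries_one]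
  refine mem_center_iff.2 fun z => Subtype.ext ?_
  have h1 : π ⁅(x : G), (y : G)⁆ = 1 := by
    rw [map_commutatorElement, commutatorElement_eq_one_iff_mul_comm]
    exact (mem_centralizer_iff.1 (hab ⟨_, x.2, rfl⟩) _ ⟨_, y.2, rfl⟩).symm
  exact mem_centralizer_iff.1 ((QuotientGroup.eq_one_iff _).1 h1) z z.2

/-- `p`-elements in a normal subgroup whose index is prime to... -/
theorem exists_element_not_mem (r : ℕ) [hr : Fact r.Prime] {F X : Subgroup G} [F.Normal]
    (hFX : F ≤ X) (hd : r ∣ F.relIndex X) :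
    ∃ x ∈ X, (∃ k, orderOf x = r ^ k) ∧ x ∉ F := by
  by_contra hall
  push Not at hall
  obtain ⟨S⟩ : Nonempty (Sylow r X) := inferInstance
  apply S.not_dvd_index
  refine dvd_trans hd (index_dvd_of_le fun s hs => ?_)
  rw [mem_subgroupOf]
  obtain ⟨k, hk⟩ := IsPGroup.iff_orderOf.1 S.2 ⟨s, hs⟩
  rw [orderOf_mk] at hk
  exact hall s s.2 ⟨k, by rw [orderOf_coe, hk]⟩

theorem orderOf_coprime_of_ne {p r : ℕ} (hp : p.Prime) (hr : r.Prime) (hpr : p ≠ r) {a x : G}
    (ha : ∃ k, orderOf a ∣ p ^ k) (hx : ∃ k, orderOf x ∣ r ^ k) :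
    (orderOf a).Coprime (orderOf x) := by
  obtain ⟨i, hi⟩ := ha
  obtain ⟨j, hj⟩ := hx
  exact Nat.Coprime.coprime_dvd_left hi (Nat.Coprime.coprime_dvd_right hj
    (Nat.Coprime.pow i j ((Nat.coprime_primes hp hr).2 hpr)))

/-- A normal subgroup of prime order inside the Fitting subgroup is centralised by it. -/
theorem fitting_le_centralizer (N : Subgroup G) [N.Normal] (hN : (Nat.card N).Prime)
    (hNF : N ≤ fittingSubgroup G) : fittingSubgroup G ≤ centralizer (N : Set G) := by
  haveI := Fact.mk hN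
  haveI : (N.subgroupOf (fittingSubgroup G)).Normal := inferInstance
  obtain ⟨z, hz, hzc, hz1⟩ := LocalEvenB.exists_mem_center_ne_one
    (N.subgroupOf (fittingSubgroup G)) (fun h => by
      rw [subgroupOf_eq_bot, disjoint_iff, inf_eq_left.2 hNF] at h
      exact hN.ne_one (by rw [h, card_bot]))
  intro f hf
  refine mem_centralizer_iff.2 fun m hm => ?_
  rw [← SmallSimple.zpowers_eq_of_prime rfl (mem_subgroupOf.1 hz)
    (fun h => hz1 (Subtype.ext h))] at hm
  obtain ⟨i, rfl⟩ := hm
  have hc : Commute f (z : G) := congrArg Subtype.val (mem_center_iff.1 hzc ⟨f, hf⟩)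
  exact ((hc.zpow_right i).eq).symm

theorem not_sq_dvd_fitting_index : ∀ (n : ℕ) (G : Type u) [Group G] [Finite G],
    Nat.card G = n → Sqf G → ∀ r : ℕ, r.Prime → ¬ r ^ 2 ∣ (fittingSubgroup G).index := by
  intro n
  induction n using Nat.strong_induction_on with
  | _ n ih =>
  intro G _ _ hn h r hr hd
  subst hn
  haveI := Fact.mk hr
  haveI := h.isSolvable
  set F := fittingSubgroup G with hF
  haveI : Nontrivial G := by
    by_contra hs
    rw [not_nontrivial_iff_subsingleton] at hs
    rw [show F = ⊤ from Subsingleton.elim _ _, index_top] at hd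
    have := Nat.le_of_dvd one_pos hd
    have := Nat.pow_le_pow_left hr.two_le 2
    omega
  -- the element acting non-trivially on a normal subgroup of prime order
  have hx : ∀ N : Subgroup G, N.Normal → (Nat.card N).Prime →
      ∃ x : G, (∃ k, orderOf x = r ^ k) ∧ x ∉ centralizer (N : Set G) ∧
        r ≠ Nat.card N ∧ ∃ hN : N.Normal,
          QuotientGroup.mk' N x ∈ fittingSubgroup (G ⧸ N) := by
    intro N hN hNp
    haveI := hN
    set π := QuotientGroup.mk' N with hπ
    set X := (fittingSubgroup (G ⧸ N)).comap π with hX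
    have hFX : F ≤ X := by
      rw [← map_le_iff_le_comap]
      haveI := Subgroup.Normal.map (inferInstance : F.Normal) π (QuotientGroup.mk'_surjective N)
      exact Basics.le_fittingSubgroup (Group.nilpotent_of_surjective (π.subgroupMap F)
        (π.subgroupMap_surjective F))
    have hXi : X.index = (fittingSubgroup (G ⧸ N)).index :=
      index_comap_of_surjective _ (QuotientGroup.mk'_surjective N)
    have hNne : N ≠ ⊥ := fun h1 => hNp.ne_one (by rw [h1, card_bot])
    have hrel : r ∣ F.relIndex X := by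
      by_contra hnd
      refine ih _ (Basics.card_quotient_lt hNne) _ rfl (h.quotient N) r hr ?_
      rw [← hXi]
      rw [← relIndex_mul_index hFX] at hd
      exact (Nat.Coprime.pow_left 2 ((hr.coprime_iff_not_dvd).2 hnd)).dvd_of_dvd_mul_left hd
    obtain ⟨x, hxX, hxo, hxF⟩ := exists_element_not_mem r hFX hrel
    have hxC : x ∉ centralizer (N : Set G) := by
      intro hxC
      refine hxF ?_
      set Y := X ⊓ centralizer (N : Set G)
      haveI : (centralizer (N : Set G)).Normal := normal_centralizer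
      haveI : X.Normal := Normal.comap inferInstance π
      haveI : Y.Normal := inferInstanceAs ((X ⊓ _ : Subgroup G).Normal)
      refine Basics.le_fittingSubgroup (N := Y) ?_ ⟨hxX, hxC⟩
      exact Subgroup.isNilpotent_of_ker_le_center
        ((π.comp Y.subtype).codRestrict (fittingSubgroup (G ⧸ N)) fun y => y.2.1)
        fun y hy => mem_center_iff.2 fun z => Subtype.ext (by
          have h1 : (y : G) ∈ N := (QuotientGroup.eq_one_iff _).1
            (congrArg Subtype.val (MonoidHom.mem_ker.1 hy))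
          exact (mem_centralizer_iff.1 z.2.2 _ h1).symm)
    refine ⟨x, hxo, hxC, ?_, hN, hxX⟩
    intro hrN
    obtain ⟨k, hk⟩ := hxo
    haveI := Fact.mk hNp
    refine hxC (SmallSimple.mem_centralizer_of_mem_normalizer (q := Nat.card N) N rfl
      (by rw [normalizer_eq_top_iff.2 hN]; exact mem_top x) ?_)
    rw [hk, ← hrN]
    exact Nat.Coprime.pow_left k ((hr.coprime_iff_not_dvd).2 fun hh => by
      have := Nat.le_of_dvd (Nat.sub_pos_of_lt hr.one_lt) hh
      have := hr.pos
      omega)
  obtain ⟨N, hN, -, hNp⟩ := exists_normal_prime_le h (⊤ : Subgroup G) top_ne_bot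
  haveI := hN
  have hNF : ∀ M : Subgroup G, M.Normal → (Nat.card M).Prime → M ≤ F := fun M hM hMp => by
    haveI := hM
    haveI := Fact.mk hMp
    exact Basics.le_fittingSubgroup
      (IsPGroup.of_card (p := Nat.card M) (n := 1) (pow_one _).symm).isNilpotent
  by_cases huniq : ∀ M : Subgroup G, M.Normal → (Nat.card M).Prime → M = N
  · -- a unique normal subgroup of prime order
    set p := Nat.card N with hpdef
    haveI := Fact.mk hNp
    have hFp : F = pCore p G := by
      rw [hF, Basics.fittingSubgroup_eq_iSup_pCore]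
      refine le_antisymm (iSup_le fun q => ?_)
        (le_iSup (fun q : Nat.Primes => pCore (q : ℕ) G) ⟨p, hNp⟩)
      by_cases hq : (q : ℕ) = p
      · rw [hq]
      · by_cases hb : pCore (q : ℕ) G = ⊥
        · rw [hb]; exact bot_le
        · exfalso
          haveI := Fact.mk q.2
          obtain ⟨M, hM, hMq, hMp⟩ := exists_normal_prime_le h (pCore (q : ℕ) G) hb
          have h1 : M = N := huniq M hM hMp
          subst h1
          obtain ⟨k, hk⟩ := ((Basics.pCore_isPGroup (G := G) (q : ℕ)).to_le hMq).exists_card_eq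
          have h2 : p ∣ (q : ℕ) ^ k := hk ▸ dvd_refl p
          exact hq ((Nat.prime_dvd_prime_iff_eq hNp q.2).1 (hNp.dvd_of_dvd_pow h2)).symm
    have hFP : IsPGroup p F := hFp ▸ Basics.pCore_isPGroup p
    obtain ⟨x, hxo, hxC, hrp, hN', hxX⟩ := hx N hN hNp
    obtain ⟨k, hk⟩ := hxo
    set A := zpowers x with hA
    have hAc : Nat.card A = r ^ k := by rw [hA, Nat.card_zpowers, hk]
    have hcopFA : (Nat.card F).Coprime (Nat.card A) := by
      obtain ⟨j, hj⟩ := hFP.exists_card_eq
      rw [hj, hAc]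
      exact Nat.Coprime.pow j k ((Nat.coprime_primes hNp hr).2 (Ne.symm hrp))
    have hAN : A ≤ normalizer (N : Set G) := by
      rw [normalizer_eq_top_iff.2 hN]; exact le_top
    have hNA : (Nat.card A).Coprime (Nat.card N) :=
      (hcopFA.coprime_dvd_left (card_dvd_of_le (hNF N hN hNp))).symm
    set C := F ⊓ centralizer (A : Set G) with hC
    have hFC : F ≤ N ⊔ C := by
      intro a ha
      obtain ⟨j, hj⟩ := IsPGroup.iff_orderOf.1 hFP ⟨a, ha⟩
      rw [orderOf_mk] at hj
      have hcomm : Commute (QuotientGroup.mk' N x) (QuotientGroup.mk' N a) := by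
        refine Basics.commute_of_coprime_le
          (H := fittingSubgroup (G ⧸ N)) inferInstance hxX ?_ ?_
        · haveI := Subgroup.Normal.map (inferInstance : F.Normal) (QuotientGroup.mk' N)
            (QuotientGroup.mk'_surjective N)
          exact Basics.le_fittingSubgroup (Group.nilpotent_of_surjective
            ((QuotientGroup.mk' N).subgroupMap F)
            ((QuotientGroup.mk' N).subgroupMap_surjective F)) ⟨a, ha, rfl⟩
        · exact orderOf_coprime_of_ne hr hNp hrp
            ⟨k, (orderOf_map_dvd _ x).trans hk.dvd⟩ ⟨j, (orderOf_map_dvd _ a).trans hj.dvd⟩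
      obtain ⟨c, hc, hcN⟩ := Basics.exists_centralizer_mem_coset A N hAN hNA
        (Or.inr inferInstance) a (by rw [normalizer_eq_top_iff.2 hN]; exact mem_top a)
        (fun e he => by
          obtain ⟨i, rfl⟩ := he
          rw [← QuotientGroup.ker_mk' N, MonoidHom.mem_ker, map_mul, map_mul, map_mul, map_inv,
            map_inv, map_zpow, (hcomm.zpow_left i).eq]
          group)
      have hcF : c ∈ F := by
        have : c = a * (a⁻¹ * c) := by group
        rw [this]; exact mul_mem ha (hNF N hN hNp hcN)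
      have : a = (a * (a⁻¹ * c)⁻¹ * a⁻¹) * c := by group
      rw [this]
      exact mul_mem_sup (Normal.conj_mem hN _ (inv_mem hcN) a) ⟨hcF, hc⟩
    have hNC : N ≤ normalizer (C : Set G) := by
      intro n hn
      refine centralizer_le_normalizer _ (mem_centralizer_iff.2 fun c hc => ?_)
      exact (mem_centralizer_iff.1 (fitting_le_centralizer N hNp (hNF N hN hNp) hc.1) n hn).symm
    have hFn : F ≤ normalizer (C : Set G) := hFC.trans (sup_le hNC le_normalizer)
    have hNAC : normalizer (A : Set G) ≤ normalizer (C : Set G) := by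
      intro g hg
      rw [← Basics.conj_smul_eq_self_iff, hC, smul_inf,
        Basics.conj_smul_eq_self_iff.2
          (show g ∈ normalizer (F : Set G) by
            rw [normalizer_eq_top_iff.2 inferInstance]; exact mem_top g)]
      congr 1
      ext e
      rw [Basics.mem_conj_smul, mem_centralizer_iff, mem_centralizer_iff]
      constructor
      · intro he a ha
        have h1 := he (g⁻¹ * a * g) ((mem_normalizer_iff''.1 hg a).1 ha)
        calc a * e = g * (g⁻¹ * a * g * (g⁻¹ * e * g)) * g⁻¹ := by group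
          _ = g * (g⁻¹ * e * g * (g⁻¹ * a * g)) * g⁻¹ := by rw [h1]
          _ = e * a := by group
      · intro he a ha
        have h1 := he (g * a * g⁻¹) ((mem_normalizer_iff.1 hg a).1 ha)
        calc a * (g⁻¹ * e * g) = g⁻¹ * (g * a * g⁻¹ * e) * g := by group
          _ = g⁻¹ * (e * (g * a * g⁻¹)) * g := by rw [h1]
          _ = g⁻¹ * e * g * a := by group
    set M := F ⊔ A with hM
    haveI : M.Normal := Normal.of_commutator_le _ ((commutator_le_fitting h).trans le_sup_left)
    have hAM : A ≤ M := le_sup_right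
    have hsyl : ¬ r ∣ (A.subgroupOf M).index := by
      have e := card_mul_index (A.subgroupOf M)
      rw [Nat.card_congr (subgroupOfEquivOfLe hAM).toEquiv] at e
      have hFA : A ≤ normalizer (F : Set G) := by
        rw [normalizer_eq_top_iff.2 inferInstance]; exact le_top
      rw [show Nat.card M = Nat.card F * Nat.card A from Basics.card_sup_of_coprime hFA hcopFA,
        mul_comm] at e
      rw [Nat.eq_of_mul_eq_mul_right Nat.card_pos e]
      intro hdd
      obtain ⟨j, hj⟩ := hFP.exists_card_eq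
      rw [hj] at hdd
      exact hrp ((Nat.prime_dvd_prime_iff_eq hr hNp).1 (hr.dvd_of_dvd_pow hdd))
    let S : Sylow r M := ((IsPGroup.of_card (p := r) hAc).of_equiv
      (subgroupOfEquivOfLe hAM).symm).toSylow hsyl
    have htop := Sylow.normalizer_sup_eq_top S
    rw [show (S : Subgroup M).map M.subtype = A from map_subgroupOf_eq_of_le hAM] at htop
    haveI : C.Normal := by
      rw [← normalizer_eq_top_iff, eq_top_iff, ← htop]
      exact sup_le hNAC (sup_le hFn (le_normalizer.trans hNAC))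
    have hCbot : C = ⊥ := by
      by_contra hne
      obtain ⟨M', hM', hM'C, hM'p⟩ := exists_normal_prime_le h C hne
      apply hxC
      refine mem_centralizer_iff.2 fun n hn => ?_
      have h1 : n ∈ C := hM'C ((huniq M' hM' hM'p).symm ▸ hn)
      exact (mem_centralizer_iff.1 h1.2 x (mem_zpowers x)).symm
    have hFN : F = N := le_antisymm (by
      refine hFC.trans ?_
      rw [hCbot, sup_bot_eq]) (hNF N hN hNp)
    obtain ⟨n, hn, hn1⟩ := N.bot_or_exists_ne_one.resolve_left
      fun h1 => hNp.ne_one (by rw [hpdef, h1, card_bot])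
    refine (Nat.squarefree_iff_prime_squarefree.1 (h n)) r hr ?_
    rw [← pow_two]
    refine hd.trans (index_dvd_of_le ?_)
    have hle : centralizer ({n} : Set G) ≤ centralizer (N : Set G) := by
      intro g hg
      refine mem_centralizer_iff.2 fun m hm => ?_
      rw [← SmallSimple.zpowers_eq_of_prime rfl hn hn1] at hm
      obtain ⟨i, rfl⟩ := hm
      exact ((Commute.zpow_left (mem_centralizer_singleton_iff.1 hg).symm i)).eq
    refine hle.trans ?_
    have := Basics.centralizer_fittingSubgroup_le (G := G)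
    rw [← hF, hFN] at this
    rw [hFN]
    exact this
  push Not at huniq
  obtain ⟨N₂, hN₂, hN₂p, hne⟩ := huniq
  haveI := hN₂
  have hinf : ∀ {A B : Subgroup G}, (Nat.card A).Prime → (Nat.card B).Prime → A ≠ B →
      A ⊓ B = ⊥ := by
    intro A B hA hB hAB
    rcases (Nat.dvd_prime hA).1 (card_dvd_of_le (inf_le_left : A ⊓ B ≤ A)) with h1 | h1
    · exact card_eq_one.1 h1
    · exfalso
      apply hAB
      have e : A ⊓ B = A := eq_of_le_of_card_ge inf_le_left h1.ge
      have hle : A ≤ B := e ▸ inf_le_right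
      refine eq_of_le_of_card_ge hle (le_of_eq ?_)
      rcases (Nat.dvd_prime hB).1 (card_dvd_of_le hle) with h2 | h2
      · exact absurd h2 hA.ne_one
      · exact h2.symm
  -- the witness for one subgroup centralises the other
  have hcent : ∀ A B : Subgroup G, A.Normal → B.Normal → (Nat.card A).Prime → (Nat.card B).Prime →
      A ≠ B → ∀ x, (∃ hA : A.Normal, QuotientGroup.mk' A x ∈ fittingSubgroup (G ⧸ A)) →
      x ∈ centralizer (B : Set G) := by
    intro A B hA hB hAp hBp hAB x hxF
    haveI := hA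
    haveI := hB
    obtain ⟨hA', hxF⟩ := hxF
    haveI hBn : (B.map (QuotientGroup.mk' A)).Normal :=
      Normal.map hB _ (QuotientGroup.mk'_surjective A)
    have hker : B ⊓ (QuotientGroup.mk' A).ker = ⊥ := by
      rw [QuotientGroup.ker_mk']; exact hinf hBp hAp hAB.symm
    have hBc : Nat.card (B.map (QuotientGroup.mk' A)) = Nat.card B := by
      refine (Nat.card_congr (Equiv.ofBijective (fun b : B => (⟨QuotientGroup.mk' A b, b, b.2, rfl⟩ :
        B.map (QuotientGroup.mk' A))) ⟨fun a b hab => ?_, ?_⟩)).symm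
      · have h1 : QuotientGroup.mk' A ((a : G)⁻¹ * b) = 1 := by
          rw [map_mul, map_inv, inv_mul_eq_one]; exact congrArg Subtype.val hab
        have h2 : (a : G)⁻¹ * b ∈ B ⊓ (QuotientGroup.mk' A).ker :=
          mem_inf.2 ⟨mul_mem (inv_mem a.2) b.2, h1⟩
        rw [hker, mem_bot, inv_mul_eq_one] at h2
        exact Subtype.ext h2
      · rintro ⟨_, b, hb, rfl⟩
        exact ⟨⟨b, hb⟩, rfl⟩
    have hle : B.map (QuotientGroup.mk' A) ≤ fittingSubgroup (G ⧸ A) := by
      haveI := Fact.mk hBp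
      exact Basics.le_fittingSubgroup (IsPGroup.of_card (p := Nat.card B) (n := 1)
        (by rw [hBc, pow_one])).isNilpotent
    have hc := fitting_le_centralizer _ (by rw [hBc]; exact hBp) hle hxF
    refine mem_centralizer_iff.2 fun b hb => ?_
    have h1 := mem_centralizer_iff.1 hc _ ⟨b, hb, rfl⟩
    rw [← map_mul, ← map_mul] at h1
    have h2 : b⁻¹ * (x * b * x⁻¹) ∈ B ⊓ A := by
      refine mem_inf.2 ⟨mul_mem (inv_mem hb) (Normal.conj_mem hB _ hb x), ?_⟩
      rw [← QuotientGroup.ker_mk' A, MonoidHom.mem_ker, map_mul, map_mul, map_inv, map_inv,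
        ← h1, map_mul]
      group
    rw [hinf hBp hAp hAB.symm, mem_bot, inv_mul_eq_one] at h2
    exact eq_mul_inv_iff_mul_eq.1 h2
  obtain ⟨x₁, ⟨k₁, hk₁⟩, hx₁, -, hA₁, hxF₁⟩ := hx N hN hNp
  obtain ⟨x₂, ⟨k₂, hk₂⟩, hx₂, -, hA₂, hxF₂⟩ := hx N₂ hN₂ hN₂p
  have h12 := hcent N N₂ hN hN₂ hNp hN₂p (Ne.symm hne) x₁ ⟨hA₁, hxF₁⟩
  have h21 := hcent N₂ N hN₂ hN hN₂p hNp hne x₂ ⟨hA₂, hxF₂⟩
  set C₁ := centralizer (N : Set G)
  set C₂ := centralizer (N₂ : Set G)
  haveI : C₁.Normal := normal_centralizer
  haveI : C₂.Normal := normal_centralizer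
  -- `r` divides both steps
  have step : ∀ (D : Subgroup G) (x : G) (K : Subgroup G), K.Normal → x ∈ D → x ∉ K →
      (∃ j, orderOf x = r ^ j) → r ∣ K.relIndex D := by
    intro D x K hK hxD hxK hxo
    haveI := hK
    obtain ⟨j, hj⟩ := hxo
    let ψ : D →* G ⧸ K := (QuotientGroup.mk' K).comp D.subtype
    have hψ : ψ.ker = K.subgroupOf D := by
      ext d
      rw [MonoidHom.mem_ker, mem_subgroupOf]
      exact QuotientGroup.eq_one_iff (d : G)
    rw [relIndex, ← hψ, index_ker]
    have h1 : orderOf (ψ ⟨x, hxD⟩) ∣ r ^ j := (orderOf_map_dvd ψ _).trans (by rw [orderOf_mk, hj])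
    obtain ⟨i, -, hi⟩ := (Nat.dvd_prime_pow hr).1 h1
    have hi0 : i ≠ 0 := by
      rintro rfl
      rw [pow_zero, orderOf_eq_one_iff] at hi
      exact hxK ((QuotientGroup.eq_one_iff x).1 hi)
    refine (dvd_pow_self r hi0).trans (hi ▸ ?_)
    exact Subgroup.orderOf_dvd_natCard _ ⟨_, rfl⟩
  have hd1 : r ∣ C₁.index := by
    rw [← relIndex_top_right]
    exact step ⊤ x₁ C₁ inferInstance (mem_top _) hx₁ ⟨k₁, hk₁⟩
  have hd2 : r ∣ (C₁ ⊓ C₂).relIndex C₁ := by
    rw [inf_relIndex_left]
    exact step C₁ x₂ C₂ inferInstance h21 hx₂ ⟨k₂, hk₂⟩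
  obtain ⟨a, ha, ha1⟩ := N.bot_or_exists_ne_one.resolve_left
    fun h1 => hNp.ne_one (by rw [h1, card_bot])
  obtain ⟨b, hb, hb1⟩ := N₂.bot_or_exists_ne_one.resolve_left
    fun h1 => hN₂p.ne_one (by rw [h1, card_bot])
  refine (Nat.squarefree_iff_prime_squarefree.1 (h (a * b))) r hr ?_
  have hle : centralizer ({a * b} : Set G) ≤ C₁ ⊓ C₂ := by
    intro g hg
    have h0 := mem_centralizer_singleton_iff.1 hg
    have e : a⁻¹ * (g * a * g⁻¹) = b * (g * b * g⁻¹)⁻¹ := by
      rw [eq_mul_inv_iff_mul_eq]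
      calc a⁻¹ * (g * a * g⁻¹) * (g * b * g⁻¹) = a⁻¹ * (g * (a * b)) * g⁻¹ := by group
        _ = a⁻¹ * ((a * b) * g) * g⁻¹ := by rw [h0]
        _ = b := by group
    have h3 : a⁻¹ * (g * a * g⁻¹) ∈ N ⊓ N₂ := mem_inf.2 ⟨mul_mem (inv_mem ha) (Normal.conj_mem hN _ ha g),
      e ▸ mul_mem hb (inv_mem (Normal.conj_mem hN₂ _ hb g))⟩
    rw [hinf hNp hN₂p (Ne.symm hne), mem_bot] at h3
    have hga : Commute g a := (mul_inv_eq_iff_eq_mul.1 (inv_mul_eq_one.1 h3).symm)
    have hgb : Commute g b := by
      rw [h3] at e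
      exact (mul_inv_eq_iff_eq_mul.1 (mul_inv_eq_one.1 e.symm).symm)
    haveI := Fact.mk hNp
    haveI := Fact.mk hN₂p
    refine ⟨mem_centralizer_iff.2 fun m hm => ?_, mem_centralizer_iff.2 fun m hm => ?_⟩
    · rw [← SmallSimple.zpowers_eq_of_prime rfl ha ha1] at hm
      obtain ⟨i, rfl⟩ := hm
      exact (hga.zpow_right i).eq.symm
    · rw [← SmallSimple.zpowers_eq_of_prime rfl hb hb1] at hm
      obtain ⟨i, rfl⟩ := hm
      exact (hgb.zpow_right i).eq.symm
  refine dvd_trans ?_ (index_dvd_of_le hle)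
  rw [← relIndex_mul_index (inf_le_left : C₁ ⊓ C₂ ≤ C₁)]
  exact Nat.mul_dvd_mul hd2 hd1

/-- A lift of a `p'`-element can be chosen of order prime to `p`, and of a `p`-element a
`p`-element, inside the cyclic group of any lift. -/
theorem exists_lift [hp : Fact p.Prime] (M : Subgroup G) [M.Normal] (g : G) :
    (((orderOf (QuotientGroup.mk' M g)).Coprime p) →
      ∃ u ∈ zpowers g, (orderOf u).Coprime p ∧ QuotientGroup.mk' M u = QuotientGroup.mk' M g) ∧
    ((∃ k, orderOf (QuotientGroup.mk' M g) ∣ p ^ k) →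
      ∃ u ∈ zpowers g, (∃ k, orderOf u ∣ p ^ k) ∧
        QuotientGroup.mk' M u = QuotientGroup.mk' M g) := by
  obtain ⟨a, b, ha, hb, hab, hka, hkb⟩ := Transfer.exists_pPart_mul (p := p) g
  have hdvd : ∀ c ∈ zpowers g, orderOf (QuotientGroup.mk' M c) ∣
      orderOf (QuotientGroup.mk' M g) := by
    rintro c ⟨i, rfl⟩
    rw [map_zpow]
    exact orderOf_dvd_of_mem_zpowers (zpow_mem (mem_zpowers _) i)
  refine ⟨fun hg => ⟨b, hb, hkb, ?_⟩, fun hg => ⟨a, ha, hka, ?_⟩⟩
  · have h1 : QuotientGroup.mk' M a = 1 := by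
      obtain ⟨j, hj⟩ := hka
      exact Transfer.eq_one_of_pow_of_coprime ⟨j, (orderOf_map_dvd _ a).trans hj⟩
        (Nat.Coprime.coprime_dvd_left (hdvd a ha) hg)
    conv_rhs => rw [← hab, map_mul, h1, one_mul]
  · have h1 : QuotientGroup.mk' M b = 1 := by
      obtain ⟨j, hj⟩ := hg
      exact Transfer.eq_one_of_pow_of_coprime ⟨j, (hdvd b hb).trans hj⟩
        (Nat.Coprime.coprime_dvd_left (orderOf_map_dvd _ b) hkb)
    conv_rhs => rw [← hab, map_mul, h1, mul_one]

/-- If `g a g⁻¹ = c a` with `c` commuting with `g`, `c` of `p`-power and `g` of `p'`-order then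
`c = 1`. -/
theorem eq_one_of_conj {g a c : G} (hc : ∃ k, orderOf c ∣ p ^ k) (hg : (orderOf g).Coprime p)
    (hcomm : g * c = c * g) (h : g * a * g⁻¹ = c * a) : c = 1 := by
  have key : ∀ m : ℕ, g ^ m * a * (g ^ m)⁻¹ = c ^ m * a := by
    intro m
    induction m with
    | zero => simp
    | succ m ih =>
      have hcm : g * c ^ m = c ^ m * g := (Commute.pow_right hcomm m).eq
      calc g ^ (m + 1) * a * (g ^ (m + 1))⁻¹ = g * (g ^ m * a * (g ^ m)⁻¹) * g⁻¹ := by
            rw [pow_succ']; group
        _ = g * (c ^ m * a) * g⁻¹ := by rw [ih]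
        _ = g * c ^ m * a * g⁻¹ := by group
        _ = c ^ m * g * a * g⁻¹ := by rw [hcm]
        _ = c ^ m * (g * a * g⁻¹) := by group
        _ = c ^ (m + 1) * a := by rw [h, pow_succ, mul_assoc]
  have h1 := key (orderOf g)
  rw [pow_orderOf_eq_one, one_mul, inv_one, mul_one] at h1
  have h2 : c ^ orderOf g = 1 := (mul_eq_right.1 h1.symm)
  obtain ⟨k, hk⟩ := hc
  exact orderOf_eq_one_iff.1 (Nat.eq_one_of_dvd_coprimes (hg.pow_right k)
    (orderOf_dvd_of_pow_eq_one h2) hk)

/-- If elements of order prime to `p` centralise all `p`-elements of the derived group, a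
solvable group has a normal `p`-complement. -/
theorem hasNormalPComplement_of_commute [hp : Fact p.Prime] [Group.IsSolvable G]
    (h : ∀ u : G, (orderOf u).Coprime p → ∀ a ∈ commutator G, (∃ k, orderOf a ∣ p ^ k) →
      u * a = a * u) : HasNormalPComplement p G := by
  set M := pPrimeCore p G with hM
  set π := QuotientGroup.mk' M with hπ
  refine Transfer.hasNormalPComplement_of_normal M (Basics.not_dvd_card_pPrimeCore p) fun y => ?_
  obtain ⟨g, rfl⟩ := QuotientGroup.mk'_surjective M y
  obtain ⟨a, b, ha, hb, hab, hka, hkb⟩ := Transfer.exists_pPart_mul (p := p) g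
  suffices hb1 : π b = 1 by
    obtain ⟨j, hj⟩ := hka
    rw [← hab, map_mul, hb1, mul_one]
    exact ⟨j, orderOf_dvd_iff_pow_eq_one.1 ((orderOf_map_dvd _ a).trans hj)⟩
  have hbc : (orderOf (π b)).Coprime p := Nat.Coprime.coprime_dvd_left (orderOf_map_dvd _ b) hkb
  have hcent : π b ∈ centralizer (pCore p (G ⧸ M) : Set (G ⧸ M)) := by
    refine mem_centralizer_iff.2 fun z hz => ?_
    obtain ⟨z, rfl⟩ := QuotientGroup.mk'_surjective M z
    set c := π ⁅b, z⁆ with hc
    have hcp : ∃ k, orderOf c ∣ p ^ k := by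
      have h1 : c ∈ pCore p (G ⧸ M) := by
        rw [hc, map_commutatorElement, commutatorElement_def]
        exact mul_mem (Normal.conj_mem inferInstance _ hz _) (inv_mem hz)
      obtain ⟨j, hj⟩ := IsPGroup.iff_orderOf.1 (Basics.pCore_isPGroup (G := G ⧸ M) p) ⟨c, h1⟩
      rw [orderOf_mk] at hj
      exact ⟨j, hj.dvd⟩
    obtain ⟨c', hc', hc'p, hc'e⟩ := (exists_lift (p := p) M ⁅b, z⁆).2 hcp
    have hcomm : π b * c = c * π b := by
      rw [show c = π c' from hc'e.symm, ← map_mul, ← map_mul, h b hkb c'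
        (zpowers_le.2 (commutator_mem_commutator (mem_top b) (mem_top z)) hc') hc'p]
    have hconj : π b * π z * (π b)⁻¹ = c * π z := by
      rw [hc, map_commutatorElement, commutatorElement_def]; group
    have := eq_one_of_conj (G := G ⧸ M) hcp hbc hcomm hconj
    rw [this, one_mul, mul_inv_eq_iff_eq_mul] at hconj
    exact hconj.symm
  obtain ⟨j, hj⟩ := IsPGroup.iff_orderOf.1 (Basics.pCore_isPGroup (G := G ⧸ M) p)
    ⟨π b, Basics.centralizer_pCore_le (Basics.pPrimeCore_quotient_eq_bot p) hcent⟩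
  rw [orderOf_mk] at hj
  exact Transfer.eq_one_of_pow_of_coprime ⟨j, hj.dvd⟩ hbc

theorem not_sq_dvd_commutator : ∀ (n : ℕ) (G : Type u) [Group G] [Finite G],
    Nat.card G = n → Sqf G → ∀ p : ℕ, p.Prime → ¬ p ^ 2 ∣ Nat.card (commutator G) := by
  intro n
  induction n using Nat.strong_induction_on with
  | _ n ih =>
  intro G _ _ hn h p hp hd
  subst hn
  haveI := Fact.mk hp
  haveI := h.isSolvable
  haveI := (supersolvable_and_nilpotent _ G rfl h).2
  obtain ⟨S⟩ : Nonempty (Sylow p (commutator G)) := inferInstance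
  haveI : (S : Subgroup (commutator G)).Normal := inferInstance
  haveI := S.characteristic_of_normal inferInstance
  set N₀ := (S : Subgroup (commutator G)).map (commutator G).subtype with hN₀
  haveI hN₀n : N₀.Normal := ConjAct.normal_of_characteristic_of_normal
  have hN₀G : N₀ ≤ commutator G := map_subtype_le _
  have hN₀p : IsPGroup p N₀ := S.2.map _
  have hN₀c : Nat.card N₀ = p ^ (Nat.card (commutator G)).factorization p := by
    rw [hN₀, card_map_of_injective (commutator G).subtype_injective, S.card_eq_multiplicity]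
  have hk2 : 2 ≤ (Nat.card (commutator G)).factorization p :=
    (hp.pow_dvd_iff_le_factorization Nat.card_pos.ne').1 hd
  -- `p`-elements of the derived group lie in `N₀`
  have hmemN₀ : ∀ a ∈ commutator G, (∃ k, orderOf a ∣ p ^ k) → a ∈ N₀ := by
    intro a ha hk
    refine ⟨⟨a, ha⟩, ?_, rfl⟩
    refine Transfer.mem_sylow_of_mem_normalizer S ?_ ?_
    · rw [show (S : Set (commutator G)) = ((S : Subgroup (commutator G)) : Set (commutator G))
        from rfl, normalizer_eq_top_iff.2 inferInstance]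
      exact mem_top _
    · rwa [orderOf_mk]
  have hN₀ne : N₀ ≠ ⊥ := fun h1 => by
    rw [h1, card_bot] at hN₀c
    exact absurd hN₀c.symm (Nat.one_lt_pow (by omega) hp.one_lt).ne'
  obtain ⟨L, hL, hLN, hLp⟩ := exists_normal_prime_le h N₀ hN₀ne
  haveI := hL
  have hLc : Nat.card L = p := by
    obtain ⟨j, hj⟩ := (hN₀p.to_le hLN).exists_card_eq
    have : p ∣ Nat.card L := by
      refine hj ▸ dvd_pow_self p ?_
      rintro rfl
      exact hLp.ne_one (by rw [hj, pow_zero])
    exact ((Nat.prime_dvd_prime_iff_eq hp hLp).1 this).symm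
  -- the Sylow subgroup of the derived group has order `p²`
  have himage : ∀ (M : Subgroup G) [M.Normal], M ≤ commutator G →
      Nat.card (commutator (G ⧸ M)) * Nat.card M = Nat.card (commutator G) := by
    intro M _ hM
    have e : (commutator (G ⧸ M)).comap (QuotientGroup.mk' M) = commutator G := by
      rw [show commutator (G ⧸ M) = (commutator G).map (QuotientGroup.mk' M) by
        rw [map_commutator_eq, MonoidHom.range_eq_top.2 (QuotientGroup.mk'_surjective M)]
        rfl, comap_map_eq, QuotientGroup.ker_mk', sup_eq_left.2 hM]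
    rw [mul_comm, ← Basics.card_comap_mk', e]
  have hcard2 : Nat.card N₀ = p ^ 2 := by
    have hne : L ≠ ⊥ := fun h1 => hLp.ne_one (by rw [h1, card_bot])
    have h1 := ih _ (Basics.card_quotient_lt hne) _ rfl (h.quotient L) p hp
    have h2 := himage L (hLN.trans hN₀G)
    rw [hN₀c]
    congr 1
    by_contra h3
    apply h1
    have h4 : p ^ 3 ∣ Nat.card (commutator G) :=
      (hp.pow_dvd_iff_le_factorization Nat.card_pos.ne').2 (by omega)
    rw [← h2, hLc, pow_succ] at h4
    exact Nat.dvd_of_mul_dvd_mul_right hp.pos h4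
  haveI hab : IsMulCommutative N₀ := IsPGroup.isMulCommutative_of_card_eq_prime_sq hcard2
  have habel : ∀ a b : G, a ∈ N₀ → b ∈ N₀ → a * b = b * a := fun a b ha hb =>
    congrArg Subtype.val (hab.is_comm.comm ⟨a, ha⟩ ⟨b, hb⟩)
  have hGc : ∀ d ∈ commutator G, ∀ a ∈ N₀, d * a = a * d := by
    intro d hdG a ha
    obtain ⟨d₁, d₂, h1, h2, h12, hk1, hk2⟩ := Transfer.exists_pPart_mul (p := p) d
    have hd1 : d₁ ∈ N₀ := hmemN₀ _ (zpowers_le.2 hdG h1) hk1
    obtain ⟨j, hj⟩ := IsPGroup.iff_orderOf.1 hN₀p ⟨a, ha⟩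
    rw [orderOf_mk] at hj
    have hc2 : Commute d₂ a := Basics.commute_of_coprime_le
      (H := commutator G) inferInstance (zpowers_le.2 hdG h2) (hN₀G ha)
      (hj ▸ hk2.pow_right j)
    have hc1 : Commute d₁ a := habel _ _ hd1 ha
    rw [← h12]
    exact (hc1.mul_left hc2).eq
  by_cases hall : ∀ u : G, (orderOf u).Coprime p → ∀ a ∈ N₀, u * a = a * u
  · have hnc := hasNormalPComplement_of_commute (p := p) fun u hu a ha hk =>
      hall u hu a (hmemN₀ a ha hk)
    rw [Transfer.hasNormalPComplement_iff] at hnc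
    set K := pResidual p G with hK
    have hq := Transfer.isPGroup_quotient_pResidual (p := p) (G := G)
    have hkn := (knoche hq fun x => by
      obtain ⟨j, hj⟩ := hq.index (centralizer ({x} : Set (G ⧸ K)))
      rw [hj]
      rcases j with _ | _ | j
      · simp
      · simp
      · exfalso
        exact (h.quotient K).sqp x (by rw [hj]; exact pow_dvd_pow p (by omega))).2
    have h1 : Nat.card (commutator (G ⧸ K)) *
        Nat.card ((commutator G ⊓ K : Subgroup G)) = Nat.card (commutator G) := by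
      have e : commutator (G ⧸ K) = (commutator G).map (QuotientGroup.mk' K) := by
        rw [map_commutator_eq, MonoidHom.range_eq_top.2 (QuotientGroup.mk'_surjective K)]
        rfl
      let ψ : commutator G →* G ⧸ K := (QuotientGroup.mk' K).comp (commutator G).subtype
      have hr : ψ.range = (commutator G).map (QuotientGroup.mk' K) := by
        rw [MonoidHom.range_comp, range_subtype]
      have hk : ψ.ker = (commutator G ⊓ K).subgroupOf (commutator G) := by
        ext d
        rw [MonoidHom.mem_ker, mem_subgroupOf, mem_inf]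
        exact ⟨fun h' => ⟨d.2, (QuotientGroup.eq_one_iff _).1 h'⟩,
          fun h' => (QuotientGroup.eq_one_iff _).2 h'.2⟩
      rw [e, ← hr, ← index_ker, ← Nat.card_congr (subgroupOfEquivOfLe
        (inf_le_left : commutator G ⊓ K ≤ commutator G)).toEquiv, ← hk, mul_comm, card_mul_index]
    rw [← h1] at hd
    have hcop : (p ^ 2).Coprime (Nat.card (commutator G ⊓ K : Subgroup G)) :=
      Nat.Coprime.pow_left 2 ((hp.coprime_iff_not_dvd).2
        fun hh => hnc (hh.trans (card_dvd_of_le inf_le_right)))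
    have := Nat.le_of_dvd hp.pos ((hcop.dvd_of_dvd_mul_right hd).trans hkn)
    have := Nat.pow_le_pow_left hp.two_le 2
    nlinarith
  push Not at hall
  obtain ⟨u, hu, a₀, ha₀, hua₀⟩ := hall
  set δ := delta N₀ u with hδ
  have hR1 : δ.range ≠ ⊥ := by
    intro h1
    have : δ ⟨a₀, ha₀⟩ = 1 := mem_bot.1 (h1 ▸ ⟨_, rfl⟩)
    exact hua₀ ((mem_ker_delta N₀).1 (MonoidHom.mem_ker.2 this))
  have hWc : Nat.card δ.range = p := by
    refine ((Nat.dvd_prime hp).1 ?_).resolve_left fun h1 => hR1 (card_eq_one.1 h1)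
    rw [← index_ker, hδ, index_ker_delta]
    exact relIndex_dvd h.sqp N₀ hN₀p u
  set W := δ.range with hW
  set C := δ.ker.map N₀.subtype with hC
  have hCc : Nat.card C = p := by
    have e := card_mul_index δ.ker
    rw [index_ker, ← hW, hWc, hcard2, pow_two] at e
    rw [hC, card_map_of_injective N₀.subtype_injective]
    exact Nat.eq_of_mul_eq_mul_right hp.pos e
  have hWN : W ≤ N₀ := range_delta_le N₀ u
  have hCN : C ≤ N₀ := map_subtype_le _
  have hWC : ∀ w ∈ W, u * w = w * u → w = 1 := by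
    rintro _ ⟨m, rfl⟩ hw
    obtain ⟨j, hj⟩ := IsPGroup.iff_orderOf.1 hN₀p ⟨δ m, hWN ⟨m, rfl⟩⟩
    rw [orderOf_mk] at hj
    refine eq_one_of_conj (a := (m : G)) ⟨j, hj.dvd⟩ hu hw ?_
    rw [hδ, delta_apply]; group
  have hsame : ∀ x : G, ∀ m : N₀, delta N₀ (x * u * x⁻¹) m = δ m := by
    intro x m
    have hf : x * u * x⁻¹ * u⁻¹ ∈ commutator G :=
      commutator_mem_commutator (mem_top x) (mem_top u)
    have hc := hGc _ hf (u * (m : G) * u⁻¹) (Normal.conj_mem hN₀n _ m.2 u)
    rw [hδ, delta_apply, delta_apply]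
    congr 1
    calc x * u * x⁻¹ * (m : G) * (x * u * x⁻¹)⁻¹
        = (x * u * x⁻¹ * u⁻¹) * (u * (m : G) * u⁻¹) * (x * u * x⁻¹ * u⁻¹)⁻¹ := by group
      _ = u * (m : G) * u⁻¹ := by rw [hc, mul_inv_cancel_right]
  haveI hWn : W.Normal := ⟨by
    rintro _ ⟨m, rfl⟩ x
    rw [hδ, delta_conj, hsame]
    exact ⟨_, rfl⟩⟩
  haveI hCn : C.Normal := ⟨by
    rintro _ ⟨m, hm, rfl⟩ x
    refine ⟨⟨x * (m : G) * x⁻¹, Normal.conj_mem hN₀n _ m.2 x⟩, ?_, rfl⟩
    rw [SetLike.mem_coe, MonoidHom.mem_ker] at hm ⊢
    rw [← hsame x, ← delta_conj, ← hδ, hm]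
    group⟩
  have hWCinf : W ⊓ C = ⊥ := (eq_bot_iff_forall _).2 fun w hw => by
    obtain ⟨hwW, m, hm, rfl⟩ := hw
    exact hWC _ hwW ((mem_ker_delta N₀).1 hm)
  -- every element centralises one of the two lines
  have hcover : ∀ g : G, g ∈ centralizer (W : Set G) ∨ g ∈ centralizer (C : Set G) := by
    intro g
    by_contra hg
    push Not at hg
    obtain ⟨hgW, hgC⟩ := hg
    have hfix : ∀ (V : Subgroup G), V.Normal → Nat.card V = p → g ∉ centralizer (V : Set G) →
        ∀ v ∈ V, g * v * g⁻¹ = v → v = 1 := by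
      intro V hV hVc hgV v hv hgv
      by_contra hv1
      refine hgV (mem_centralizer_iff.2 fun m hm => ?_)
      rw [← SmallSimple.zpowers_eq_of_prime hVc hv hv1] at hm
      obtain ⟨i, rfl⟩ := hm
      exact ((Commute.zpow_right (mul_inv_eq_iff_eq_mul.1 hgv) i)).eq.symm
    have hsup : N₀ ≤ W ⊔ C := by
      have e : W ⊔ C = N₀ := eq_of_le_of_card_ge (sup_le hWN hCN) (le_of_eq (by
        rw [Basics.card_mul_card_eq_card_sup_mul_card_inf
          (show C ≤ normalizer (W : Set G) by rw [normalizer_eq_top_iff.2 hWn]; exact le_top)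
          |> fun e' => (show Nat.card (W ⊔ C : Subgroup G) = Nat.card W * Nat.card C by
            rw [e', hWCinf, card_bot, mul_one]), hWc, hCc, hcard2, pow_two]))
      exact e.ge
    have hinj : (delta N₀ g).ker = ⊥ := by
      rw [eq_bot_iff]
      intro m hm
      rw [mem_bot]
      refine Subtype.ext ?_
      obtain ⟨w, hw, c, hc, hwc⟩ := mem_sup_of_normal_left.1 (hsup m.2)
      have h1 : g * (m : G) * g⁻¹ = m := by
        rw [(mem_ker_delta N₀).1 hm, mul_inv_cancel_right]
      rw [← hwc] at h1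
      have h3 : w⁻¹ * (g * w * g⁻¹) = c * (g * c * g⁻¹)⁻¹ := by
        rw [eq_mul_inv_iff_mul_eq]
        calc w⁻¹ * (g * w * g⁻¹) * (g * c * g⁻¹) = w⁻¹ * (g * (w * c) * g⁻¹) := by group
          _ = c := by rw [h1]; group
      have h4 : w⁻¹ * (g * w * g⁻¹) ∈ W ⊓ C :=
        mem_inf.2 ⟨mul_mem (inv_mem hw) (Normal.conj_mem hWn _ hw g),
          h3 ▸ mul_mem hc (inv_mem (Normal.conj_mem hCn _ hc g))⟩
      rw [hWCinf, mem_bot] at h4
      rw [h4] at h3
      have hw1 := hfix W hWn hWc hgW w hw (inv_mul_eq_one.1 h4).symm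
      have hc1 := hfix C hCn hCc hgC c hc (mul_inv_eq_one.1 h3.symm).symm
      show (m : G) = 1
      rw [← hwc, hw1, hc1, mul_one]
    have h5 := relIndex_dvd h.sqp N₀ hN₀p g
    rw [← index_ker_delta, hinj, index_bot, hcard2] at h5
    have := Nat.le_of_dvd hp.pos h5
    have := Nat.pow_le_pow_left hp.two_le 2
    nlinarith
  have hCcent : ∀ g : G, g ∈ centralizer (C : Set G) := by
    have huW : u ∉ centralizer (W : Set G) := fun h1 => by
      obtain ⟨w, hw, hw1⟩ := W.bot_or_exists_ne_one.resolve_left hR1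
      exact hw1 (hWC w hw (mem_centralizer_iff.1 h1 w hw).symm)
    intro g
    by_contra hg
    have hgW := (hcover g).resolve_right hg
    have huC := (hcover u).resolve_left huW
    rcases hcover (g * u) with h1 | h1
    · exact huW (by simpa using mul_mem (inv_mem hgW) h1)
    · exact hg (by simpa using mul_mem h1 (inv_mem huC))
  -- the quotient by `W`
  set π := QuotientGroup.mk' W with hπ
  have hcomG : commutator (G ⧸ W) = (commutator G).map π := by
    rw [map_commutator_eq, MonoidHom.range_eq_top.2 (QuotientGroup.mk'_surjective W)]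
    rfl
  have hpn : HasNormalPComplement p (G ⧸ W) := by
    refine hasNormalPComplement_of_commute fun v _ a ha hk => ?_
    obtain ⟨v, rfl⟩ := QuotientGroup.mk'_surjective W v
    rw [hcomG] at ha
    obtain ⟨d, hd', rfl⟩ := ha
    obtain ⟨d', hdd, hdp, hde⟩ := (exists_lift (p := p) W d).2 hk
    rw [← hde]
    have hmem : d' ∈ N₀ := hmemN₀ _ (zpowers_le.2 hd' hdd) hdp
    have hsup : N₀ ≤ W ⊔ C := by
      have e : W ⊔ C = N₀ := eq_of_le_of_card_ge (sup_le hWN hCN) (le_of_eq (by
        rw [Basics.card_mul_card_eq_card_sup_mul_card_inf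
          (show C ≤ normalizer (W : Set G) by rw [normalizer_eq_top_iff.2 hWn]; exact le_top)
          |> fun e' => (show Nat.card (W ⊔ C : Subgroup G) = Nat.card W * Nat.card C by
            rw [e', hWCinf, card_bot, mul_one]), hWc, hCc, hcard2, pow_two]))
      exact e.ge
    obtain ⟨w, hw, c, hc, rfl⟩ := mem_sup_of_normal_left.1 (hsup hmem)
    rw [map_mul π w c, show π w = 1 from (QuotientGroup.eq_one_iff w).2 hw, one_mul, ← map_mul,
      ← map_mul, mem_centralizer_iff.1 (hCcent v) c hc]
  set L' := centralizer ({u} : Set G) with hL'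
  have hLW : L' ⊓ W = ⊥ := (eq_bot_iff_forall _).2 fun w hw =>
    hWC w hw.2 (mem_centralizer_singleton_iff.1 hw.1).symm
  obtain ⟨T⟩ : Nonempty (Sylow p L') := inferInstance
  set T' := (T : Subgroup L').map L'.subtype with hT'
  have hT'c : Nat.card T' = p ^ (Nat.card L').factorization p := by
    rw [hT', card_map_of_injective L'.subtype_injective, T.card_eq_multiplicity]
  have hT'p : IsPGroup p T' := T.2.map _
  have hTW : T' ⊓ W = ⊥ := by
    rw [eq_bot_iff, ← hLW]
    exact inf_le_inf_right _ (map_subtype_le _)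
  set P0 := W ⊔ T' with hP0
  have hP0p : IsPGroup p P0 := (IsPGroup.of_card (n := 1) (by rw [hWc, pow_one])).to_sup_of_normal_left hT'p
  have hP0c : Nat.card P0 = p ^ ((Nat.card L').factorization p + 1) := by
    have e := Basics.card_mul_card_eq_card_sup_mul_card_inf
      (show T' ≤ normalizer (W : Set G) by rw [normalizer_eq_top_iff.2 hWn]; exact le_top)
    rw [inf_comm, hTW, card_bot, mul_one, hWc, hT'c] at e
    rw [hP0, ← e, pow_succ']
  have hfac : (Nat.card G).factorization p = (Nat.card L').factorization p + 1 := by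
    refine le_antisymm (factorization_le_of_not_dvd (h.sqp u)) ?_
    obtain ⟨R, hR⟩ := hP0p.exists_le_sylow
    have h2 := card_le_of_le hR
    rw [hP0c, R.card_eq_multiplicity] at h2
    exact (Nat.pow_le_pow_iff_right hp.one_lt).1 h2
  let P : Sylow p G := Sylow.ofCard P0 (by rw [hP0c, hfac])
  let Pb := P.mapSurjective (QuotientGroup.mk'_surjective W)
  have hTnab : ¬ IsMulCommutative (T : Subgroup L') := by
    intro hTab
    have hnc := Transfer.hasNormalPComplement_iff.1 hpn
    set K := pResidual p (G ⧸ W)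
    have htop := Transfer.pResidual_sup_sylow Pb
    have hPb : (Pb : Subgroup (G ⧸ W)) = T'.map π := by
      rw [Sylow.coe_mapSurjective]
      show P0.map π = _
      rw [hP0, Subgroup.map_sup, hπ, QuotientGroup.map_mk'_self, bot_sup_eq]
    have hle : commutator (G ⧸ W) ≤ K := by
      haveI := hTab
      refine Subgroup.Normal.commutator_le_of_self_sup_commutative_eq_top htop ?_
      refine ⟨⟨?_⟩⟩
      rintro ⟨x, hx⟩ ⟨y, hy⟩
      rw [hPb] at hx hy
      obtain ⟨_, ⟨a, ha, rfl⟩, rfl⟩ := hx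
      obtain ⟨_, ⟨b, hb, rfl⟩, rfl⟩ := hy
      refine Subtype.ext ?_
      show π (L'.subtype a) * π (L'.subtype b) = π (L'.subtype b) * π (L'.subtype a)
      rw [← map_mul, ← map_mul, ← map_mul, ← map_mul,
        congrArg Subtype.val (hTab.is_comm.comm ⟨a, ha⟩ ⟨b, hb⟩) |> fun e =>
          (show a * b = b * a from e)]
    apply hnc
    refine dvd_trans ?_ (card_dvd_of_le hle)
    have h2 := himage W (hWN.trans hN₀G)
    rw [← h2, hWc, pow_two] at hd
    exact Nat.dvd_of_mul_dvd_mul_right hp.pos hd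
  have hLn : HasNormalPComplement p L' := by
    refine Transfer.hasNormalPComplement_of_injective (π.comp L'.subtype) ?_ hpn
    rw [← MonoidHom.ker_eq_bot_iff, eq_bot_iff]
    intro l hl
    have h1 : (l : G) ∈ L' ⊓ W := ⟨l.2, (QuotientGroup.eq_one_iff _).1 hl⟩
    rw [hLW, mem_bot] at h1
    exact Subtype.ext h1
  obtain ⟨z, hzT, hz⟩ : ∃ z ∈ (T : Subgroup L'), p ∣ (centralizer ({z} : Set L')).index := by
    by_contra hno
    push Not at hno
    apply hTnab
    set K := pResidual p L'
    have hdis := (Transfer.hasNormalPComplement_iff_inf_eq_bot T).1 hLn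
    refine ⟨⟨fun a b => Subtype.ext ?_⟩⟩
    have hcl : ∀ z ∈ (T : Subgroup L'), ∀ w : L', ⁅z, w⁆ ∈ K := by
      intro z hz w
      have hd' := index_dvd_quotient K z
      obtain ⟨j, hj⟩ := (Transfer.isPGroup_quotient_pResidual (p := p) (G := L')).index
        (centralizer ({QuotientGroup.mk' K z} : Set (L' ⧸ K)))
      rcases j with _ | j
      · rw [pow_zero, index_eq_one] at hj
        rw [← QuotientGroup.eq_one_iff, ← QuotientGroup.mk'_apply, map_commutatorElement,
          commutatorElement_eq_one_iff_mul_comm]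
        exact (mem_centralizer_singleton_iff.1 (hj ▸ mem_top _ :
          QuotientGroup.mk' K w ∈ centralizer ({QuotientGroup.mk' K z} : Set (L' ⧸ K)))).symm
      · exact absurd ((dvd_pow_self p (Nat.succ_ne_zero j)).trans (hj ▸ hd')) (hno z hz)
    have h1 : ⁅(a : L'), (b : L')⁆ ∈ (T : Subgroup L') ⊓ K :=
      mem_inf.2 ⟨mul_mem (mul_mem (mul_mem a.2 b.2) (inv_mem a.2)) (inv_mem b.2), hcl _ a.2 _⟩
    rw [hdis, mem_bot, commutatorElement_eq_one_iff_mul_comm] at h1
    exact h1
  obtain ⟨j, hj⟩ := IsPGroup.iff_orderOf.1 T.2 ⟨z, hzT⟩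
  rw [orderOf_mk] at hj
  have hzu : Commute u (z : G) := (mem_centralizer_singleton_iff.1 z.2).symm
  have hzj : (z : G) ^ p ^ j = 1 := by
    rw [← hj, ← orderOf_coe, pow_orderOf_eq_one]
  set g := u * (z : G) with hg
  have hCg : centralizer ({g} : Set G) = (centralizer ({z} : Set L')).map L'.subtype := by
    ext c
    rw [mem_centralizer_singleton_iff]
    constructor
    · intro hc
      have h1 : Commute c (u ^ p ^ j) := by
        have h2 : Commute c (g ^ p ^ j) := Commute.pow_right hc _
        rwa [hg, hzu.mul_pow, hzj, mul_one] at h2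
      obtain ⟨m, hm⟩ := exists_pow_eq_self_of_coprime (n := p ^ j) (x := u) (hu.symm.pow_left j)
      have hcu : Commute c u := by
        have h2 := h1.pow_right m
        rwa [show (u ^ p ^ j) ^ m = u from hm] at h2
      have hcz : Commute c (z : G) := by
        have h2 : Commute c (u⁻¹ * g) := hcu.inv_right.mul_right hc
        rwa [hg, inv_mul_cancel_left] at h2
      exact ⟨⟨c, mem_centralizer_singleton_iff.2 hcu⟩,
        mem_centralizer_singleton_iff.2 (Subtype.ext hcz), rfl⟩
    · rintro ⟨c, hc, rfl⟩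
      have hcz : Commute (c : G) (z : G) :=
        congrArg Subtype.val (mem_centralizer_singleton_iff.1 hc)
      exact ((show Commute (c : G) u from mem_centralizer_singleton_iff.1 c.2).mul_right hcz).eq
  have hpL : p ∣ L'.index := by
    have e := congrArg (fun f => f p) (Nat.factorization_mul (a := Nat.card L') (b := L'.index)
      Nat.card_pos.ne' index_ne_zero_of_finite)
    simp only [Finsupp.add_apply, card_mul_index] at e
    by_contra hnd
    rw [Nat.factorization_eq_zero_of_not_dvd hnd] at e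
    omega
  refine h.sqp (p := p) g ?_
  rw [hCg, index_map_subtype, pow_two]
  exact Nat.mul_dvd_mul hz hpL

theorem squarefree_of_forall {m : ℕ} (h : ∀ p : ℕ, p.Prime → ¬ p ^ 2 ∣ m) : Squarefree m :=
  Nat.squarefree_iff_prime_squarefree.2 fun p hp hd => h p hp (by rwa [pow_two])

end Cfsg.Agent.FGS.SquarefreeClass
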