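/-
No finite simple group has exactly 22 Sylow 3-subgroups.
-/
import Mathlib
import Cfsg.Agent.Lib.SmallSimple.PrimeSylow
import Cfsg.Agent.Lib.Basics.CoprimeAction

set_option autoImplicit false
set_option linter.all false

namespace Cfsg.Agent.FGS.SylowThree

open Subgroup SmallSimple MulAction
open scoped Pointwise

universe u

section Generic

variable {G : Type u} [Group G]

/-- The action of the centraliser of `Z` on the orbits of `Z`. -/
def orbitPerm (Z : Subgroup G) (α : Type u) [MulAction G α] :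
    centralizer (Z : Set G) →* Equiv.Perm (orbitRel.Quotient Z α) where
  toFun c :=
    let f : (d : centralizer (Z : Set G)) → orbitRel.Quotient Z α → orbitRel.Quotient Z α :=
      fun d => Quotient.map' ((d : G) • ·) (by
        intro a b hab
        obtain ⟨z, hz⟩ := hab
        refine ⟨z, ?_⟩
        show (z : G) • (d : G) • b = (d : G) • a
        rw [← hz, ← mul_smul, mem_centralizer_iff.1 d.2 z z.2, mul_smul]
        rfl)
    { toFun := f c
      invFun := f c⁻¹
      left_inv := fun q => by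
        induction q using Quotient.inductionOn' with
        | h a => exact congrArg Quotient.mk'' (inv_smul_smul (c : G) a)
      right_inv := fun q => by
        induction q using Quotient.inductionOn' with
        | h a => exact congrArg Quotient.mk'' (smul_inv_smul (c : G) a) }
  map_one' := by
    ext q
    induction q using Quotient.inductionOn' with
    | h a => exact congrArg Quotient.mk'' (one_smul G a)
  map_mul' c d := by
    ext q
    induction q using Quotient.inductionOn' with
    | h a => exact congrArg Quotient.mk'' (mul_smul (c : G) (d : G) a)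

/-- If `c` commutes with `Z` and preserves all its orbits then `c ^ n` is trivial on `α`
when `Z` has exponent dividing `n`. -/
theorem pow_smul_of_orbit {Z : Subgroup G} {α : Type u} [MulAction G α] {n : ℕ}
    (hZ : ∀ z ∈ Z, z ^ n = 1) {c : G} (hc : c ∈ centralizer (Z : Set G)) (a : α)
    (h : c • a ∈ orbit Z a) : c ^ n • a = a := by
  obtain ⟨⟨z, hz⟩, hza⟩ := h
  change z • a = c • a at hza
  have hpow : ∀ m : ℕ, c ^ m • a = z ^ m • a := by
    intro m
    induction m with
    | zero => simp
    | succ m ih =>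
      rw [pow_succ' c, mul_smul, ih, ← mul_smul,
        ← mem_centralizer_iff.1 hc _ (pow_mem hz m), mul_smul, ← hza, ← mul_smul, ← pow_succ]
  rw [hpow n, hZ z hz, one_smul]

variable [Finite G] {p : ℕ} [Fact p.Prime]

/-- A subgroup of prime order with a unique fixed point or none: the number of orbits. -/
theorem card_orbits_mul (Z : Subgroup G) (hZ : Nat.card Z = p) {α : Type u} [MulAction G α]
    [Finite α] {f : ℕ} (hfix : ∀ z ∈ Z, z ≠ 1 → Nat.card (fixedBy α z) = f) :
    Nat.card (orbitRel.Quotient Z α) * p = Nat.card α + (p - 1) * f := by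
  classical
  haveI := Fintype.ofFinite α
  haveI := Fintype.ofFinite Z
  haveI := Fintype.ofFinite (orbitRel.Quotient Z α)
  have h := sum_card_fixedBy_eq_card_orbits_mul_card_group Z α
  rw [← Finset.sum_erase_add _ _ (Finset.mem_univ (1 : Z))] at h
  have h1 : ∀ x ∈ (Finset.univ : Finset Z).erase 1, Fintype.card (fixedBy α x) = f := by
    intro x hx
    rw [← Nat.card_eq_fintype_card, ← hfix x x.2
      (fun h => (Finset.mem_erase.1 hx).1 (Subtype.ext h))]
    rfl
  rw [Finset.sum_congr rfl h1, Finset.sum_const, Finset.card_erase_of_mem (Finset.mem_univ _),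
    Finset.card_univ, ← Nat.card_eq_fintype_card, ← Nat.card_eq_fintype_card,
    ← Nat.card_eq_fintype_card, smul_eq_mul] at h
  have h2 : Nat.card (fixedBy α (1 : Z)) = Nat.card α :=
    Nat.card_congr (Equiv.subtypeUnivEquiv fun a => one_smul _ a)
  rw [h2, hZ] at h
  show Nat.card (Quotient (orbitRel Z α)) * p = _
  rw [← h]
  ring

theorem pow_eq_one_of_card (Z : Subgroup G) (hZ : Nat.card Z = p) : ∀ z ∈ Z, z ^ p = 1 := by
  intro z hz
  exact orderOf_dvd_iff_pow_eq_one.1 (hZ ▸ Subgroup.orderOf_dvd_natCard Z hz)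

end Generic

/-! ### Permutations of seven points -/

section Seven

variable {X : Type u} [Fintype X] [DecidableEq X]

theorem perm_seven (hX : Fintype.card X = 7) (G' : Subgroup (Equiv.Perm X))
    (h7 : 7 ∣ Nat.card G') (h3 : ¬ 3 ∣ Nat.card G') :
    ¬ 5 ∣ Nat.card G' ∧ Nat.card G' ≠ 112 := by
  classical
  haveI : Fact (Nat.Prime 7) := ⟨by norm_num⟩
  haveI : Fact (Nat.Prime 5) := ⟨by norm_num⟩
  haveI : Fact (Nat.Prime 2) := ⟨by norm_num⟩
  have hSym : Nat.card (Equiv.Perm X) = 5040 := by
    rw [Nat.card_perm, Nat.card_eq_fintype_card, hX]; rfl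
  have hcd : Nat.card G' ∣ 5040 := hSym ▸ card_subgroup_dvd_card G'
  obtain ⟨P⟩ : Nonempty (Sylow 7 G') := inferInstance
  have hP : Nat.card P = 7 := by
    obtain ⟨m, hm⟩ := h7
    refine (card_sylow_of_eq (k := 1) (m := m) P (by rw [pow_one, hm]) ?_).trans (pow_one 7)
    intro h
    have : 7 * 7 ∣ 5040 := dvd_trans (hm ▸ Nat.mul_dvd_mul_left 7 h) hcd
    norm_num at this
  obtain ⟨σ, hσP, hσ1⟩ := (P : Subgroup G').bot_or_exists_ne_one.resolve_left (fun h => by
    rw [h, Subgroup.card_bot] at hP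
    omega)
  have hσ : orderOf (σ : Equiv.Perm X) = 7 := by
    refine orderOf_eq_prime ?_ (fun h => hσ1 (Subtype.ext h))
    exact congrArg Subtype.val (pow_eq_one_of_card (P : Subgroup G') hP σ hσP)
  have hcyc : (σ : Equiv.Perm X).IsCycle :=
    Equiv.Perm.isCycle_of_prime_order'' (by rw [hX]; norm_num) (by rw [hX]; exact hσ)
  have hsupp : (σ : Equiv.Perm X).support = Finset.univ := by
    apply Finset.eq_univ_of_card
    rw [hX, ← hcyc.orderOf, hσ]
  constructor
  · intro h5
    have hn := card_sylow_mul P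
    have hmod : Nat.card (Sylow 7 G') % 7 = 1 := card_sylow_modEq_one 7 G'
    have hnd : Nat.card (Sylow 7 G') ∣ 560 := by
      refine Nat.Coprime.dvd_of_dvd_mul_right (n := 3 ^ 2) (m := 560) ?_
        ((Dvd.intro _ hn).trans (hcd.trans (by norm_num)))
      refine Nat.Coprime.pow_right 2 ?_
      exact ((Nat.prime_three.coprime_iff_not_dvd).2
        fun h => h3 (h.trans (Dvd.intro _ hn))).symm
    have key : ∀ n ∈ (560 : ℕ).divisors, n % 7 = 1 → n = 1 ∨ n = 8 := by decide +kernel
    have hn18 := key _ (Nat.mem_divisors.2 ⟨hnd, by norm_num⟩) hmod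
    have hcop : Nat.Coprime 5 (Nat.card (Sylow 7 G')) := by
      rcases hn18 with h | h <;> rw [h] <;> decide
    have h5N : 5 ∣ Nat.card (normalizer ((P : Subgroup G') : Set G')) :=
      hcop.dvd_of_dvd_mul_left (hn.symm ▸ h5)
    obtain ⟨⟨z, hzN⟩, hz⟩ := exists_prime_orderOf_dvd_card'
      (G := normalizer ((P : Subgroup G') : Set G')) 5 h5N
    replace hz : orderOf z = 5 := (orderOf_coe (⟨z, hzN⟩ :
      normalizer ((P : Subgroup G') : Set G'))).trans hz
    have hzc := mem_centralizer_of_mem_normalizer (q := 7) (P : Subgroup G') hP hzN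
      (by rw [hz]; norm_num)
    have hz7 : (z : Equiv.Perm X) ^ 7 = 1 := by
      ext x
      show ((z : Equiv.Perm X) ^ 7) • x = x
      refine pow_smul_of_orbit (Z := zpowers (σ : Equiv.Perm X)) ?_ ?_ x ?_
      · intro w hw
        obtain ⟨k, rfl⟩ := hw
        rw [← zpow_natCast, ← zpow_mul, mul_comm, zpow_mul, zpow_natCast, ← hσ,
          pow_orderOf_eq_one, one_zpow]
      · refine mem_centralizer_iff.2 fun w hw => ?_
        obtain ⟨k, rfl⟩ := hw
        have hc : Commute (σ : Equiv.Perm X) (z : Equiv.Perm X) :=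
          congrArg Subtype.val (mem_centralizer_iff.1 hzc σ hσP)
        exact (hc.zpow_left k).eq
      · have hx : x ∈ (σ : Equiv.Perm X).support := hsupp ▸ Finset.mem_univ x
        have hzx : (z : Equiv.Perm X) x ∈ (σ : Equiv.Perm X).support :=
          hsupp ▸ Finset.mem_univ _
        obtain ⟨k, hk⟩ := hcyc.exists_zpow_eq (Equiv.Perm.mem_support.1 hx)
          (Equiv.Perm.mem_support.1 hzx)
        exact ⟨⟨(σ : Equiv.Perm X) ^ k, zpow_mem (mem_zpowers _) k⟩, hk⟩
    have hz7' : z ^ 7 = 1 := Subtype.ext hz7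
    have := orderOf_dvd_of_pow_eq_one hz7'
    rw [hz] at this
    norm_num at this
  · intro h112
    obtain ⟨T⟩ : Nonempty (Sylow 2 G') := inferInstance
    have hT : Nat.card T = 16 :=
      (card_sylow_of_eq (k := 4) (m := 7) T (by rw [h112]; norm_num) (by norm_num)).trans
        (by norm_num)
    set T' : Subgroup (Equiv.Perm X) := (T : Subgroup G').map G'.subtype with hT'
    have hT'c : Nat.card T' = 16 := by
      rw [hT', card_map_of_injective G'.subtype_injective, hT]
    have hfac : (Nat.card (Equiv.Perm X)).factorization 2 = 4 := by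
      rw [hSym, show 5040 = 2 ^ 4 * 315 by norm_num,
        Nat.factorization_mul (pow_ne_zero _ two_ne_zero) (by norm_num), Nat.factorization_pow]
      simp [Nat.factorization_pow, Nat.Prime.factorization_self Nat.prime_two,
        Nat.factorization_eq_zero_of_not_dvd (show ¬ 2 ∣ 315 by norm_num)]
    let Q : Sylow 2 (Equiv.Perm X) := Sylow.ofCard T' (by rw [hfac, hT'c]; norm_num)
    obtain ⟨x, y, hxy⟩ := Fintype.exists_pair_of_one_lt_card (α := X) (by omega)
    obtain ⟨R, hR⟩ := (IsPGroup.of_card (p := 2) (n := 1) (G := zpowers (Equiv.swap x y))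
      (by rw [Nat.card_zpowers, (show (Equiv.swap x y).IsSwap from ⟨x, y, hxy, rfl⟩).orderOf, pow_one])).exists_le_sylow

    obtain ⟨g, hg⟩ := MulAction.exists_smul_eq (Equiv.Perm X) Q R
    have hs : g⁻¹ * Equiv.swap x y * g ∈ G' := by
      have h2 : Equiv.swap x y ∈ (MulAut.conj g • T' : Subgroup (Equiv.Perm X)) := by
        have h3 := hR (mem_zpowers _)
        rw [← hg] at h3
        exact h3
      rw [mem_pointwise_smul_iff_inv_smul_mem] at h2
      have h4 : g⁻¹ * Equiv.swap x y * g ∈ T' := by simpa [MulAut.smul_def] using h2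
      exact map_subtype_le _ h4
    have hsw : (g⁻¹ * Equiv.swap x y * g).IsSwap := by
      refine ⟨g⁻¹ x, g⁻¹ y, fun h => hxy (g⁻¹.injective h), ?_⟩
      rw [Equiv.swap_apply_apply, inv_inv]
    have htop := Equiv.Perm.closure_prime_cycle_swap (by rw [hX]; norm_num) hcyc hsupp hsw
    have hle : (⊤ : Subgroup (Equiv.Perm X)) ≤ G' := by
      rw [← htop, closure_le]
      rintro w (rfl | rfl)
      · exact σ.2
      · exact hs
    rw [top_le_iff.1 hle, card_top, hSym] at h112
    norm_num at h112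

end Seven

/-! ### The action on 22 Sylow 3-subgroups -/

section Simple

variable {G : Type u} [Group G] [Finite G] [IsSimpleGroup G]
variable (h22 : Nat.card (Sylow 3 G) = 22)
include h22

theorem three_dvd : 3 ∣ Nat.card G := by
  by_contra h
  obtain ⟨P⟩ : Nonempty (Sylow 3 G) := inferInstance
  have hP : (P : Subgroup G) = ⊥ := by
    rcases P.2.card_eq_or_dvd with h1 | h1
    · exact card_eq_one.1 h1
    · exact absurd (h1.trans (card_subgroup_dvd_card _)) h
  have := P.card_eq_index_normalizer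
  rw [h22] at this
  change 22 = (normalizer ((P : Subgroup G) : Set G)).index at this
  rw [hP, index_eq_one.2 (normalizer_eq_top_iff.2 inferInstance)] at this
  omega

theorem notComm : ¬ IsMulCommutative G := by
  intro hc
  obtain ⟨P⟩ : Nonempty (Sylow 3 G) := inferInstance
  have hn : (P : Subgroup G).Normal := ⟨fun x hx g => by
    rw [hc.is_comm.comm g x, mul_inv_cancel_right]; exact hx⟩
  have := P.card_eq_index_normalizer
  rw [h22] at this
  change 22 = (normalizer ((P : Subgroup G) : Set G)).index at this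
  rw [index_eq_one.2 (normalizer_eq_top_iff.2 hn)] at this
  omega

theorem eq_one_of_fixes {g : G} (h : ∀ R : Sylow 3 G, g • R = R) : g = 1 := by
  obtain ⟨P⟩ : Nonempty (Sylow 3 G) := inferInstance
  rcases (MonoidHom.normal_ker (toPermHom G (Sylow 3 G))).eq_bot_or_eq_top with h1 | h1
  · exact (MonoidHom.ker_eq_bot_iff _).1 h1
      ((Equiv.ext fun R => h R).trans (map_one _).symm)
  · exfalso
    refine normalizer_sylow_ne_top (notComm h22) (three_dvd h22) P
      (eq_top_iff.2 fun g _ => (SylowFive.smul_sylow_eq P).1 ?_)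
    exact congrArg (fun σ : Equiv.Perm (Sylow 3 G) => σ P) (h1 ▸ mem_top g :
      g ∈ (toPermHom G (Sylow 3 G)).ker)

omit h22 [IsSimpleGroup G] in
theorem card_eq (a b : Sylow 3 G) : Nat.card a = Nat.card b := by
  rw [a.card_eq_multiplicity, b.card_eq_multiplicity]

omit h22 [IsSimpleGroup G] in
theorem card_orbit_mul (a b : Sylow 3 G) :
    Nat.card (orbit (a : Subgroup G) b) * Nat.card ↥((a : Subgroup G) ⊓ b) = Nat.card a := by
  have h := card_mul_index (stabilizer (a : Subgroup G) b)
  rw [index_stabilizer, ← Nat.card_coe_set_eq, mul_comm] at h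
  rw [← h]
  congr 1
  refine ((Nat.card_congr (subgroupOfEquivOfLe (inf_le_left : (a : Subgroup G) ⊓ b ≤ a)).toEquiv)).symm.trans ?_
  congr 1
  congr 1
  ext d
  rw [mem_subgroupOf, mem_inf, mem_stabilizer_iff]
  constructor
  · exact fun hd => SylowFive.smul_eq_of_mem b hd.2
  · intro hd
    refine ⟨d.2, ?_⟩
    refine SylowFive.le_of_fixes (a.2.to_le (zpowers_le.2 d.2)) b (fun e he => ?_)
      (mem_zpowers (d : G))
    obtain ⟨k, rfl⟩ := he
    exact mem_stabilizer_iff.1 (zpow_mem (show (d : G) ∈ stabilizer G b from hd) k)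

theorem orbit_card (a b : Sylow 3 G) (hab : a ≠ b) :
    Nat.card (orbit (a : Subgroup G) b) = 3 ∨ Nat.card (orbit (a : Subgroup G) b) = 9 := by
  obtain ⟨k, hk⟩ := a.2.card_orbit b
  have hle : Nat.card (orbit (a : Subgroup G) b) ≤ 22 := by
    rw [← h22]; exact Nat.card_le_card_of_injective _ Subtype.val_injective
  rcases k with _ | _ | _ | k
  · exfalso
    refine hab (SylowFive.eq_of_fixes a b fun d hd => ?_)
    have hsub : Subsingleton (orbit (a : Subgroup G) b) :=
      (Nat.card_eq_one_iff_unique.1 (by simpa using hk)).1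
    exact congrArg Subtype.val
      (hsub.elim ⟨(⟨d, hd⟩ : (a : Subgroup G)) • b, mem_orbit _ _⟩ ⟨b, mem_orbit_self b⟩)
  · exact Or.inl (by simpa using hk)
  · exact Or.inr (by simpa using hk)
  · exfalso
    have h1 : 3 ^ 3 ≤ 3 ^ (k + 1 + 1 + 1) := Nat.pow_le_pow_right (by norm_num) (by omega)
    omega

end Simple

/-- The Sylow subgroups `a`, `b` meet in index 3. -/
def Rel {G : Type u} [Group G] (a b : Sylow 3 G) : Prop :=
  a ≠ b ∧ 3 * Nat.card ↥((a : Subgroup G) ⊓ b) = Nat.card a

section Comb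

variable {G : Type u} [Group G] [Finite G] [IsSimpleGroup G]
variable (h22 : Nat.card (Sylow 3 G) = 22)

omit [IsSimpleGroup G] in
theorem Rel.symm {a b : Sylow 3 G} (h : Rel a b) : Rel b a :=
  ⟨h.1.symm, by rw [inf_comm, card_eq b a]; exact h.2⟩

omit [IsSimpleGroup G] in
theorem rel_iff {a b : Sylow 3 G} (hab : a ≠ b) :
    Rel a b ↔ Nat.card (orbit (a : Subgroup G) b) = 3 := by
  have h := card_orbit_mul a b
  constructor
  · intro hr
    exact Nat.eq_of_mul_eq_mul_right Nat.card_pos (h.trans hr.2.symm)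
  · intro h3
    exact ⟨hab, by rw [← h, h3]⟩

omit [IsSimpleGroup G] in
theorem inf_smul (g : G) (a b : Sylow 3 G) :
    ((g • a : Sylow 3 G) : Subgroup G) ⊓ ((g • b : Sylow 3 G) : Subgroup G) =
      MulAut.conj g • ((a : Subgroup G) ⊓ b) := by
  rw [Sylow.coe_subgroup_smul, Sylow.coe_subgroup_smul, smul_inf]

omit [IsSimpleGroup G] in
theorem rel_smul (g : G) (a b : Sylow 3 G) : Rel (g • a) (g • b) ↔ Rel a b := by
  rw [Rel, Rel, inf_smul, Basics.card_conj_smul, card_eq (g • a) a,
    (MulAction.injective g).ne_iff]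

include h22

theorem three_mul_card_le {a b : Sylow 3 G} (hab : a ≠ b) :
    3 * Nat.card ↥((a : Subgroup G) ⊓ b) ≤ Nat.card a := by
  have h := card_orbit_mul a b
  rw [← h]
  apply Nat.mul_le_mul_right
  rcases orbit_card h22 a b hab with h3 | h3 <;> omega

theorem unique_of_le {a b u v : Sylow 3 G} (hab : Rel a b) (huv : u ≠ v)
    (hu : (a : Subgroup G) ⊓ b ≤ u) (hv : (a : Subgroup G) ⊓ b ≤ v) :
    Rel u v ∧ (u : Subgroup G) ⊓ v = (a : Subgroup G) ⊓ b := by
  have h1 := three_mul_card_le h22 huv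
  have h2 := hab.2
  rw [card_eq u a, ← h2] at h1
  have he := eq_of_le_of_card_ge (le_inf hu hv) (Nat.le_of_mul_le_mul_left h1 (by norm_num))
  exact ⟨⟨huv, by rw [← he, card_eq u a]; exact h2⟩, he.symm⟩

omit h22 [IsSimpleGroup G] in
/-- An element fixing one point of a stable set of three points, with a 3-power order, fixes
them all. -/
theorem fixes_orbit {x c d : Sylow 3 G} (hc : Nat.card (orbit (x : Subgroup G) c) = 3)
    (hd : d ∈ orbit (x : Subgroup G) c) : (x : Subgroup G) ⊓ c ≤ (d : Subgroup G) := by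
  refine SylowFive.le_of_fixes (x.2.to_le inf_le_left) d fun k hk => ?_
  by_contra hne
  let S : Set (Sylow 3 G) := orbit (x : Subgroup G) c
  let k' : (x : Subgroup G) := ⟨k, hk.1⟩
  have hmem : ∀ i : ℕ, k ^ i • d ∈ S \ {c} := fun i => by
    refine ⟨?_, ?_⟩
    · obtain ⟨w, hw⟩ := hd
      exact ⟨k' ^ i * w, by rw [← hw]; exact mul_smul _ _ _⟩
    · intro h
      apply hne
      have h' : k ^ i • d = k ^ i • c := by
        rw [SylowFive.smul_eq_of_mem c (pow_mem hk.2 i)]; exact h
      rw [smul_left_cancel _ h', SylowFive.smul_eq_of_mem c hk.2]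
  -- the orbit of `d` has at most two points
  have hp : IsPGroup 3 (zpowers k) := x.2.to_le (zpowers_le.2 hk.1)
  obtain ⟨m, hm⟩ := hp.card_orbit d
  have hsub : orbit (zpowers k) d ⊆ S \ {c} := by
    rintro _ ⟨⟨w, hw⟩, rfl⟩
    obtain ⟨i, rfl⟩ := (mem_powers_iff_mem_zpowers.2 hw : w ∈ Submonoid.powers k)
    exact hmem i
  have hle := Set.ncard_le_ncard hsub
  rw [Set.ncard_diff (Set.singleton_subset_iff.2 (mem_orbit_self c)), Set.ncard_singleton,
    ← Nat.card_coe_set_eq, hm, ← Nat.card_coe_set_eq S, hc] at hle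
  have hm0 : m = 0 := by
    by_contra h0
    have := Nat.le_self_pow h0 3
    omega
  subst hm0
  have hs : Subsingleton (orbit (zpowers k) d) :=
    (Nat.card_eq_one_iff_unique.1 (by simpa using hm)).1
  exact hne (congrArg Subtype.val
    (hs.elim ⟨(⟨k, mem_zpowers k⟩ : zpowers k) • d, mem_orbit _ _⟩ ⟨d, mem_orbit_self d⟩))

theorem triangle {a b c : Sylow 3 G} (hab : Rel a b) (hac : Rel a c) (hbc : Rel b c) :
    (a : Subgroup G) ⊓ b = (a : Subgroup G) ⊓ c := by
  by_contra hne
  have hC := (rel_iff hac.1).1 hac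
  have hC' := (rel_iff hbc.1).1 hbc
  set K := (a : Subgroup G) ⊓ b with hK
  have hsub : orbit K c ⊆ orbit (a : Subgroup G) c := by
    rintro _ ⟨d, rfl⟩
    exact ⟨⟨d.1, d.2.1⟩, rfl⟩
  have hsub' : orbit K c ⊆ orbit (b : Subgroup G) c := by
    rintro _ ⟨d, rfl⟩
    exact ⟨⟨d.1, d.2.2⟩, rfl⟩
  have hK3 : Nat.card (orbit K c) = 3 := by
    obtain ⟨m, hm⟩ := (a.2.to_le (inf_le_left : K ≤ a)).card_orbit c
    have hle := Set.ncard_le_ncard hsub
    rw [← Nat.card_coe_set_eq, ← Nat.card_coe_set_eq, hC, hm] at hle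
    rcases m with _ | m
    · exfalso
      apply hne
      have hs : Subsingleton (orbit K c) := (Nat.card_eq_one_iff_unique.1 (by simpa using hm)).1
      have hKc : K ≤ (c : Subgroup G) := SylowFive.le_of_fixes (a.2.to_le inf_le_left) c
        fun k hk => congrArg Subtype.val
          (hs.elim ⟨(⟨k, hk⟩ : K) • c, mem_orbit _ _⟩ ⟨c, mem_orbit_self c⟩)
      refine eq_of_le_of_card_ge (le_inf inf_le_left hKc) ?_
      have h1 := hab.2
      rw [← hac.2, ← hK] at h1
      omega
    · rw [hm]
      refine le_antisymm ?_ (Nat.le_self_pow (by omega) 3)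
      exact hle
  have heq : orbit K c = orbit (a : Subgroup G) c := Set.eq_of_subset_of_ncard_le hsub
    (by rw [← Nat.card_coe_set_eq, ← Nat.card_coe_set_eq, hC, hK3])
  have heq' : orbit K c = orbit (b : Subgroup G) c := Set.eq_of_subset_of_ncard_le hsub'
    (by rw [← Nat.card_coe_set_eq, ← Nat.card_coe_set_eq, hC', hK3])
  obtain ⟨d, hd, hdc⟩ : ∃ d ∈ orbit (a : Subgroup G) c, d ≠ c := by
    by_contra h
    push Not at h
    have h1 : orbit (a : Subgroup G) c ⊆ {c} := h
    have := Set.ncard_le_ncard h1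
    rw [← Nat.card_coe_set_eq, hC, Set.ncard_singleton] at this
    omega
  have h1 : (a : Subgroup G) ⊓ c ≤ d := fixes_orbit hC hd
  have h2 : (b : Subgroup G) ⊓ c ≤ d := fixes_orbit hC' (heq' ▸ heq.symm ▸ hd)
  have e1 := unique_of_le h22 hac hdc.symm inf_le_right h1
  have e2 := unique_of_le h22 hbc hdc.symm inf_le_right h2
  have h3 : (a : Subgroup G) ⊓ c ≤ b := by
    rw [← e1.2, e2.2]; exact inf_le_left
  have e3 := unique_of_le h22 hac hab.1 inf_le_left h3
  exact hne e3.2

end Comb

theorem block_key (s : ℕ) (hs : s ≤ 13) (k : ℕ) (hk : k ≤ 12) (h1 : s % 3 = 1) (h4 : 4 ≤ s)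
    (h2 : s - 1 ≤ k) (hd : s * (s - 1) ∣ 22 * k) : s = 4 ∧ 6 ≤ k := by
  obtain ⟨t, ht⟩ := hd
  have hs' : s = 4 ∨ s = 7 ∨ s = 10 ∨ s = 13 := by omega
  rcases hs' with rfl | rfl | rfl | rfl <;> omega

section Counting

variable {G : Type u} [Group G] [Finite G] [IsSimpleGroup G]
variable (h22 : Nat.card (Sylow 3 G) = 22)
include h22

theorem card_sylow_three (P : Sylow 3 G) : Nat.card P = 3 := by
  classical
  haveI := Fintype.ofFinite (Sylow 3 G)
  have huniv : (Finset.univ : Finset (Sylow 3 G)).card = 22 := by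
    rw [Finset.card_univ, ← Nat.card_eq_fintype_card, h22]
  let Rs : Sylow 3 G → Finset (Sylow 3 G) := fun a => Finset.univ.filter (Rel a)
  let N : Sylow 3 G → Finset (Sylow 3 G) :=
    fun a => Finset.univ.filter (fun x => x ≠ a ∧ ¬ Rel a x)
  let B : Sylow 3 G → Sylow 3 G → Finset (Sylow 3 G) :=
    fun a b => Finset.univ.filter (fun x => (a : Subgroup G) ⊓ b ≤ (x : Subgroup G))
  have memR : ∀ {a x}, x ∈ Rs a ↔ Rel a x := fun {a x} => by simp [Rs]
  have memN : ∀ {a x}, x ∈ N a ↔ x ≠ a ∧ ¬ Rel a x := fun {a x} => by simp [N]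
  have memB : ∀ {a b x}, x ∈ B a b ↔ (a : Subgroup G) ⊓ b ≤ (x : Subgroup G) :=
    fun {a b x} => by simp [B]
  have hsum : ∀ a, (Rs a).card + (N a).card = 21 := by
    intro a
    have hd : Disjoint (Rs a) (N a) :=
      Finset.disjoint_left.2 fun x hx hx' => (memN.1 hx').2 (memR.1 hx)
    rw [← Finset.card_union_of_disjoint hd,
      show Rs a ∪ N a = Finset.univ.erase a by
        ext x
        simp only [Finset.mem_union, memR, memN, Finset.mem_erase, Finset.mem_univ, and_true]
        constructor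
        · rintro (h | h)
          · exact h.1.symm
          · exact h.1
        · intro h
          tauto,
      Finset.card_erase_of_mem (Finset.mem_univ _), huniv]
  have hN9 : ∀ a, 9 ∣ (N a).card := by
    intro a
    let f : Sylow 3 G → Finset (Sylow 3 G) :=
      fun x => Finset.univ.filter (fun y => y ∈ orbit (a : Subgroup G) x)
    rw [Finset.card_eq_sum_card_image f (N a)]
    refine Finset.dvd_sum fun β hβ => ?_
    obtain ⟨x, hx, rfl⟩ := Finset.mem_image.1 hβ
    have h9 : Nat.card (orbit (a : Subgroup G) x) = 9 :=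
      (orbit_card h22 a x (memN.1 hx).1.symm).resolve_left
        fun h => (memN.1 hx).2 ((rel_iff (memN.1 hx).1.symm).2 h)
    have hfib : (N a).filter (fun y => f y = f x) = f x := by
      ext y
      rw [Finset.mem_filter]
      constructor
      · rintro ⟨hy, he⟩
        rw [← he]
        simp [f]
      · intro hy
        have hy' : y ∈ orbit (a : Subgroup G) x := by simpa [f] using hy
        refine ⟨?_, ?_⟩
        · obtain ⟨⟨g, hg⟩, rfl⟩ := hy'
          have hga : g • a = a := SylowFive.smul_eq_of_mem a hg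
          refine memN.2 ⟨?_, ?_⟩
          · intro h
            exact (memN.1 hx).1 (smul_left_cancel g (h.trans hga.symm))
          · intro h
            apply (memN.1 hx).2
            have h' : Rel (g • a) (g • x) := by rw [hga]; exact h
            exact (rel_smul g a x).1 h'
        · have he : orbit (a : Subgroup G) y = orbit (a : Subgroup G) x := orbit_eq_iff.2 hy'
          show Finset.univ.filter (fun w => w ∈ orbit (a : Subgroup G) y) = _
          rw [he]
    rw [hfib]
    have : (f x).card = 9 := by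
      rw [← h9, Nat.card_coe_set_eq, ← Set.ncard_coe_finset]
      congr 1
      ext y; simp [f]
    rw [this]
  have hconst : ∀ a b, (Rs a).card = (Rs b).card := by
    intro a b
    obtain ⟨g, rfl⟩ := MulAction.exists_smul_eq G a b
    refine Finset.card_bij (fun x _ => g • x) (fun x hx => memR.2 ((rel_smul g a x).2 (memR.1 hx)))
      (fun x _ y _ h => smul_left_cancel g h) (fun y hy => ⟨g⁻¹ • y, ?_, smul_inv_smul g y⟩)
    exact memR.2 ((rel_smul g a _).1 (by rw [smul_inv_smul]; exact memR.1 hy))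
  have hBcard : ∀ {a b}, Rel a b → (B a b).card % 3 = 1 ∧ 4 ≤ (B a b).card := by
    intro a b hab
    have h := (a.2.to_le (inf_le_left : (a : Subgroup G) ⊓ b ≤ a)).card_modEq_card_fixedPoints
      (Sylow 3 G)
    rw [h22] at h
    have he : fixedPoints ↥((a : Subgroup G) ⊓ b) (Sylow 3 G) = ↑(B a b) := by
      ext R
      rw [Finset.mem_coe, memB]
      constructor
      · exact fun hR => SylowFive.le_of_fixes (a.2.to_le inf_le_left) R
          fun d hd => hR ⟨d, hd⟩
      · exact fun hR d => SylowFive.smul_eq_of_mem R (hR d.2)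
    rw [he, Nat.card_coe_set_eq, Set.ncard_coe_finset] at h
    have h1 : (B a b).card % 3 = 1 := h.symm
    have h2 : 2 ≤ (B a b).card := by
      rw [← Finset.card_pair hab.1]
      exact Finset.card_le_card (by
        intro x hx
        rcases Finset.mem_insert.1 hx with rfl | hx
        · exact memB.2 inf_le_left
        · rw [Finset.mem_singleton.1 hx]; exact memB.2 inf_le_right)
    exact ⟨h1, by omega⟩
  have hBeq : ∀ {a b u v}, Rel a b → u ≠ v → u ∈ B a b → v ∈ B a b →
      Rel u v ∧ B u v = B a b := by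
    intro a b u v hab huv hu hv
    obtain ⟨h1, h2⟩ := unique_of_le h22 hab huv (memB.1 hu) (memB.1 hv)
    refine ⟨h1, ?_⟩
    simp only [B, h2]
  -- the number of related points
  obtain ⟨m, hm⟩ : ∃ m, ∀ a, (Rs a).card = m := ⟨_, fun a => hconst a P⟩
  have hm' : m = 21 ∨ m = 12 ∨ m = 3 := by
    have h1 := hsum P
    obtain ⟨k, hk⟩ := hN9 P
    rw [hm, hk] at h1
    omega
  rcases hm' with rfl | hm'
  · -- all pairs are related
    have hall : ∀ a x : Sylow 3 G, a ≠ x → Rel a x := by
      intro a x hax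
      by_contra h
      have : (N a).Nonempty := ⟨x, memN.2 ⟨hax.symm, h⟩⟩
      have := this.card_pos
      have := hsum a
      rw [hm] at this
      omega
    obtain ⟨b, hb⟩ : ∃ b, b ≠ P := by
      haveI : Nontrivial (Sylow 3 G) :=
        Finite.one_lt_card_iff_nontrivial.1 (by rw [h22]; norm_num)
      exact exists_ne P
    have hle : ∀ x : Sylow 3 G, (P : Subgroup G) ⊓ b ≤ x := by
      intro x
      by_cases hxP : x = P
      · subst hxP; exact inf_le_left
      by_cases hxb : x = b
      · subst hxb; exact inf_le_right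
      rw [triangle h22 (hall P b hb.symm) (hall P x (Ne.symm hxP)) (hall b x (Ne.symm hxb))]
      exact inf_le_right
    have hbot : (P : Subgroup G) ⊓ b = ⊥ := (eq_bot_iff_forall _).2 fun g hg =>
      eq_one_of_fixes h22 fun R => SylowFive.smul_eq_of_mem R (hle R hg)
    have := (hall P b hb.symm).2
    rw [hbot, card_bot] at this
    omega
  exfalso
  -- blocks have four points
  have hB4 : ∀ {a b}, Rel a b → (B a b).card = 4 ∧ m = 12 := by
    intro a b hab
    set s := (B a b).card with hs
    let n : Sylow 3 G → ℕ := fun x => ((Rs x).filter (fun y => (B x y).card = s)).card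
    have hBsmul : ∀ (g : G) (x y : Sylow 3 G), (B (g • x) (g • y)).card = (B x y).card := by
      intro g x y
      refine (Finset.card_bij (fun z _ => g • z) (fun z hz => memB.2 ?_)
        (fun z _ w _ h => smul_left_cancel g h)
        (fun z hz => ⟨g⁻¹ • z, memB.2 ?_, smul_inv_smul g z⟩)).symm
      · rw [inf_smul, Sylow.coe_subgroup_smul]
        exact pointwise_smul_le_pointwise_smul_iff.2 (memB.1 hz)
      · have h := memB.1 hz
        rw [inf_smul] at h
        rw [Sylow.coe_subgroup_smul, map_inv, ← pointwise_smul_le_pointwise_smul_iff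
          (a := MulAut.conj g), smul_inv_smul]
        exact h
    have hnconst : ∀ x, n x = n a := by
      intro x
      obtain ⟨g, rfl⟩ := MulAction.exists_smul_eq G a x
      refine (Finset.card_bij (fun y _ => g • y) (fun y hy => ?_)
        (fun y _ w _ h => smul_left_cancel g h)
        (fun y hy => ⟨g⁻¹ • y, ?_, smul_inv_smul g y⟩)).symm
      · rw [Finset.mem_filter, memR] at hy ⊢
        exact ⟨(rel_smul g a y).2 hy.1, by rw [hBsmul]; exact hy.2⟩
      · rw [Finset.mem_filter, memR] at hy ⊢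
        exact ⟨(rel_smul g a _).1 (by rw [smul_inv_smul]; exact hy.1),
          by rw [← hBsmul g, smul_inv_smul]; exact hy.2⟩
    let T : Finset (Sylow 3 G × Sylow 3 G) :=
      Finset.univ.filter (fun p => Rel p.1 p.2 ∧ (B p.1 p.2).card = s)
    have hT1 : T.card = 22 * n a := by
      rw [Finset.card_eq_sum_card_fiberwise (f := Prod.fst) (t := Finset.univ)
        (fun p _ => Finset.mem_coe.2 (Finset.mem_univ _)), ← huniv]
      rw [Finset.sum_congr rfl (fun x _ => ?_), Finset.sum_const, smul_eq_mul]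
      rw [← hnconst x]
      refine Finset.card_bij (fun p _ => p.2) (fun p hp => ?_) (fun p hp q hq h => ?_)
        (fun y hy => ⟨(x, y), ?_, rfl⟩)
      · simp only [T, Finset.mem_filter, Finset.mem_univ, true_and] at hp
        rw [Finset.mem_filter, memR, ← hp.2]
        exact hp.1
      · simp only [T, Finset.mem_filter, Finset.mem_univ, true_and] at hp hq
        exact Prod.ext (hp.2.trans hq.2.symm) h
      · rw [Finset.mem_filter, memR] at hy
        simp [T, hy.1, hy.2]
    have hT2 : s * (s - 1) ∣ T.card := by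
      rw [Finset.card_eq_sum_card_image (fun p => B p.1 p.2) T]
      refine Finset.dvd_sum fun β hβ => ?_
      obtain ⟨⟨u, v⟩, huv, rfl⟩ := Finset.mem_image.1 hβ
      simp only [T, Finset.mem_filter, Finset.mem_univ, true_and] at huv
      have : T.filter (fun p => B p.1 p.2 = B u v) = (B u v).offDiag := by
        ext ⟨x, y⟩
        simp only [T, Finset.mem_filter, Finset.mem_univ, true_and, Finset.mem_offDiag]
        constructor
        · rintro ⟨⟨hr, _⟩, he⟩
          rw [← he]
          exact ⟨memB.2 inf_le_left, memB.2 inf_le_right, hr.1⟩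
        · rintro ⟨hx, hy, hxy⟩
          obtain ⟨h1, h2⟩ := hBeq huv.1 hxy hx hy
          exact ⟨⟨h1, by rw [h2]; exact huv.2⟩, h2⟩
      rw [this, Finset.offDiag_card, huv.2, Nat.mul_sub_one]
    have hn1 : s - 1 ≤ n a := by
      rw [hs, ← Finset.card_erase_of_mem (memB.2 (inf_le_left : (a : Subgroup G) ⊓ b ≤ a))]
      refine Finset.card_le_card fun x hx => ?_
      rw [Finset.mem_erase] at hx
      obtain ⟨h1, h2⟩ := hBeq hab hx.1.symm (memB.2 inf_le_left) hx.2
      rw [Finset.mem_filter, memR]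
      exact ⟨h1, by rw [h2]⟩
    have hn2 : n a ≤ m := by
      rw [← hm a]; exact Finset.card_filter_le _ _
    have h2 := hBcard hab
    rw [← hs] at h2
    rw [hT1] at hT2
    have hm12 : m ≤ 12 := by omega
    obtain ⟨h4, h6⟩ := block_key s (by omega) (n a) (by omega) h2.1 h2.2 hn1 hT2
    exact ⟨h4, by omega⟩
  obtain ⟨b, hb⟩ : (Rs P).Nonempty := Finset.card_pos.1 (by rw [hm]; omega)
  obtain rfl : m = 12 := (hB4 (memR.1 hb)).2
  have hN : ∀ a, (N a).card = 9 := fun a => by
    have := hsum a
    rw [hm] at this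
    omega
  have hout : ∀ {a b c}, Rel a b → c ∈ Rs a → c ∉ B a b → c ∈ N b := by
    intro a b c hab hc hcB
    refine memN.2 ⟨fun h => hcB (h ▸ memB.2 inf_le_right), fun hbc => hcB (memB.2 ?_)⟩
    rw [triangle h22 hab (memR.1 hc) hbc]
    exact inf_le_right
  have hNb : ∀ {a b}, Rel a b → N b = (Rs a) \ (B a b) := by
    intro a b hab
    symm
    refine Finset.eq_of_subset_of_card_le (fun c hc => ?_) ?_
    · rw [Finset.mem_sdiff] at hc
      exact hout hab hc.1 hc.2
    · have h1 := Finset.le_card_sdiff ((B a b).erase a) (Rs a)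
      have h2 : (Rs a) \ (B a b).erase a = (Rs a) \ (B a b) := by
        ext c
        simp only [Finset.mem_sdiff, Finset.mem_erase, memR]
        constructor
        · rintro ⟨hc, hn⟩
          exact ⟨hc, fun h => hn ⟨hc.1.symm, h⟩⟩
        · rintro ⟨hc, hn⟩
          exact ⟨hc, fun h => hn h.2⟩
      rw [h2, Finset.card_erase_of_mem (memB.2 inf_le_left), (hB4 hab).1, hm] at h1
      rw [hN]
      omega
  -- the points outside a class are pairwise unrelated
  have hout' : ∀ {a w b}, w ∈ N a → b ∈ Rs a → Rel w b := by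
    intro a w b hw hb
    by_contra h
    have hwb : w ≠ b := fun e => (memN.1 hw).2 (e ▸ memR.1 hb)
    have : w ∈ N b := memN.2 ⟨hwb, fun e => h e.symm⟩
    rw [hNb (memR.1 hb), Finset.mem_sdiff, memR] at this
    exact (memN.1 hw).2 this.1
  have hpair : ∀ {a w w'}, w ∈ N a → w' ∈ N a → ¬ Rel w w' := by
    intro a w w' hw hw' h
    have heq : Rs a = Rs w := Finset.eq_of_subset_of_card_le
      (fun b hb => memR.2 (hout' hw hb)) (by rw [hm, hm])
    have : w' ∈ Rs a := heq ▸ memR.2 h
    exact (memN.1 hw').2 (memR.1 this)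
  have hab := memR.1 hb
  obtain ⟨c, hc⟩ : ((Rs P) \ (B P b)).Nonempty := by
    rw [← hNb hab]
    exact Finset.card_pos.1 (by rw [hN]; norm_num)
  rw [Finset.mem_sdiff] at hc
  have hac := memR.1 hc.1
  obtain ⟨d, hd, hdP⟩ : ∃ d ∈ (B P c).erase P, d ≠ c :=
    Finset.exists_mem_ne (by
      rw [Finset.card_erase_of_mem (memB.2 inf_le_left), (hB4 hac).1]; norm_num) c
  rw [Finset.mem_erase] at hd
  obtain ⟨had, hBd⟩ := hBeq hac hd.1.symm (memB.2 inf_le_left) hd.2
  have hdB : d ∉ B P b := by
    intro h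
    obtain ⟨_, h'⟩ := hBeq hab hd.1.symm (memB.2 inf_le_left) h
    apply hc.2
    rw [← h', hBd]
    exact memB.2 inf_le_right
  have hcd : Rel c d := (hBeq hac (Ne.symm hdP) (memB.2 inf_le_right) hd.2).1
  exact hpair (hout hab hc.1 hc.2) (hout hab (memR.2 had) hdB) hcd

theorem fixed_eq (P R : Sylow 3 G) {x : G} (hx : x ∈ (P : Subgroup G)) (hx1 : x ≠ 1)
    (hR : x • R = R) : R = P := by
  refine (SylowFive.eq_of_fixes P R fun d hd => ?_).symm
  rw [← zpowers_eq_of_prime (card_sylow_three h22 P) hx hx1] at hd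
  obtain ⟨k, rfl⟩ := hd
  exact mem_stabilizer_iff.1 (zpow_mem (mem_stabilizer_iff.2 hR) k)

/-- The data of the normaliser of a Sylow 3-subgroup. -/
theorem normalizer_data (P : Sylow 3 G) :
    ∃ c : ℕ, c ∣ 560 ∧ (7 ∣ c → ¬ 5 ∣ c ∧ c ≠ 112) ∧
      Nat.card (centralizer ((P : Subgroup G) : Set G)) = 3 * c ∧
      Nat.card (normalizer ((P : Subgroup G) : Set G)) = 6 * c ∧ Nat.card G = 132 * c := by
  classical
  haveI := Fintype.ofFinite (Sylow 3 G)
  have hP := card_sylow_three h22 P
  obtain ⟨e, he, he1, heq⟩ := sylow_relIndex (notComm h22) P hP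
  have he2 : e = 2 := ((Nat.dvd_prime Nat.prime_two).1 he).resolve_left he1
  subst he2
  set C := centralizer ((P : Subgroup G) : Set G) with hC
  haveI : IsCyclic (P : Subgroup G) := isCyclic_of_prime_card hP
  have hPC : (P : Subgroup G) ≤ C := le_centralizer _
  let W := orbitRel.Quotient (P : Subgroup G) (Sylow 3 G)
  haveI := Fintype.ofFinite W
  have hW : Nat.card W = 8 := by
    have h := card_orbits_mul (p := 3) (P : Subgroup G) hP (α := Sylow 3 G) (f := 1)
      fun z hz hz1 => by
        rw [Nat.card_eq_one_iff_exists]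
        exact ⟨⟨P, SylowFive.smul_eq_of_mem P hz⟩,
          fun R => Subtype.ext (fixed_eq h22 P R.1 hz hz1 R.2)⟩
    rw [h22] at h
    show Nat.card (orbitRel.Quotient (P : Subgroup G) (Sylow 3 G)) = 8
    omega
  let q0 : W := Quotient.mk'' P
  let X := {q : W // q ≠ q0}
  have hX : Fintype.card X = 7 := by
    rw [Fintype.card_subtype_compl, Fintype.card_subtype_eq, ← Nat.card_eq_fintype_card, hW]
  let π := orbitPerm (P : Subgroup G) (Sylow 3 G)
  have hq0 : ∀ c : C, π c q0 = q0 := fun c => congrArg Quotient.mk''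
    ((SylowFive.smul_sylow_eq P).2 (SmallSimple.centralizer_le_normalizer _ c.2))
  have hinv : ∀ c : C, ∀ q, π c q ≠ q0 ↔ q ≠ q0 := fun c q => by
    conv_lhs => rw [← hq0 c]
    exact (π c).injective.ne_iff
  let ψ : C →* Equiv.Perm X :=
    { toFun := fun c => (π c).subtypePerm (hinv c)
      map_one' := by
        ext q
        show π 1 q.1 = q.1
        rw [map_one]; rfl
      map_mul' := fun c d => by
        ext q
        show π (c * d) q.1 = π c (π d q.1)
        rw [map_mul]; rfl }
  have hker : ψ.ker = (P : Subgroup G).subgroupOf C := by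
    refine le_antisymm (fun c hc => ?_) (fun c hc => ?_)
    · rw [mem_subgroupOf]
      refine SylowFive.sylow_le_of_mem_normalizer P
        (SmallSimple.centralizer_le_normalizer _ c.2) 1 ?_
      rw [pow_one]
      refine eq_one_of_fixes h22 fun R =>
        pow_smul_of_orbit (pow_eq_one_of_card _ hP) c.2 R ?_
      have hfix : π c (Quotient.mk'' R) = Quotient.mk'' R := by
        by_cases hq : (Quotient.mk'' R : W) = q0
        · rw [hq]; exact hq0 c
        · exact congrArg (fun σ : Equiv.Perm X => (σ ⟨_, hq⟩).1) hc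
      exact Quotient.eq''.1 hfix
    · rw [mem_subgroupOf] at hc
      rw [MonoidHom.mem_ker]
      refine Equiv.ext fun q => Subtype.ext ?_
      obtain ⟨q, hq⟩ := q
      induction q using Quotient.inductionOn' with
      | h R => exact Quotient.sound' ⟨⟨c, hc⟩, rfl⟩
  have hCc : Nat.card C = 3 * Nat.card ψ.range := by
    rw [← card_mul_index ψ.ker, index_ker, hker,
      Nat.card_congr (subgroupOfEquivOfLe hPC).toEquiv, hP]
  have hn := card_sylow_mul P
  rw [h22, ← heq, hCc] at hn
  have h3 : ¬ 3 ∣ Nat.card ψ.range := by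
    rintro ⟨k, hk⟩
    rw [hk] at hn
    have : 3 ^ 2 ∣ Nat.card G := ⟨44 * k, by rw [← hn]; ring⟩
    have h' := P.pow_dvd_card_of_pow_dvd_card this
    rw [hP] at h'
    norm_num at h'
  have h5040 : Nat.card ψ.range ∣ 5040 := by
    have := card_subgroup_dvd_card ψ.range
    rwa [Nat.card_perm, Nat.card_eq_fintype_card (α := X), hX] at this
  refine ⟨_, ?_, fun h7 => perm_seven hX ψ.range h7 h3, hCc, ?_, ?_⟩
  · refine Nat.Coprime.dvd_of_dvd_mul_right (n := 3 ^ 2) (m := 560) ?_ (h5040.trans (by norm_num))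
    exact Nat.Coprime.pow_right 2 ((Nat.prime_three.coprime_iff_not_dvd).2 h3).symm
  · rw [← heq, hCc]; ring
  · rw [← hn]; ring

/-- There are 12 Sylow 11-subgroups, and the order is 264, 660 or 1320. -/
theorem eleven_data :
    ∃ (Q : Sylow 11 G) (c e : ℕ), Nat.card Q = 11 ∧ Nat.card (Sylow 11 G) = 12 ∧
      centralizer ((Q : Subgroup G) : Set G) = Q ∧
      Nat.card (normalizer ((Q : Subgroup G) : Set G)) = 11 * e ∧
      (∀ P : Sylow 3 G, Nat.card (centralizer ((P : Subgroup G) : Set G)) = 3 * c) ∧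
      ((c = 2 ∧ e = 2) ∨ (c = 5 ∧ e = 5) ∨ (c = 10 ∧ e = 10)) := by
  classical
  haveI : Fact (Nat.Prime 11) := ⟨by norm_num⟩
  haveI := Fintype.ofFinite (Sylow 3 G)
  obtain ⟨P⟩ : Nonempty (Sylow 3 G) := inferInstance
  obtain ⟨c, hc, hc7, hCP, hNP, hG⟩ := normalizer_data h22 P
  obtain ⟨Q⟩ : Nonempty (Sylow 11 G) := inferInstance
  have h11c : ¬ 11 ∣ c := fun h => by
    have := h.trans hc
    norm_num at this
  have hQ : Nat.card Q = 11 := by
    refine (card_sylow_of_eq (k := 1) (m := 12 * c) Q (by rw [hG]; ring) ?_).trans (pow_one _)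
    intro h
    rcases (Nat.Prime.dvd_mul (by norm_num)).1 h with h | h
    · norm_num at h
    · exact h11c h
  have hfree : ∀ z ∈ (Q : Subgroup G), z ≠ 1 → ∀ R : Sylow 3 G, z • R ≠ R := by
    intro z hz hz1 R hR
    obtain ⟨c', -, -, -, hNR, hG'⟩ := normalizer_data h22 R
    have := Subgroup.orderOf_dvd_natCard _ ((SylowFive.smul_sylow_eq R).1 hR)
    rw [← Nat.card_zpowers, zpowers_eq_of_prime hQ hz hz1, hQ, hNR] at this
    obtain rfl : c' = c := by omega
    rcases (Nat.Prime.dvd_mul (by norm_num)).1 this with h | h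
    · norm_num at h
    · exact h11c h
  let W := orbitRel.Quotient (Q : Subgroup G) (Sylow 3 G)
  haveI := Fintype.ofFinite W
  have hW : Nat.card W = 2 := by
    have h := card_orbits_mul (p := 11) (Q : Subgroup G) hQ (α := Sylow 3 G) (f := 0)
      fun z hz hz1 => by
        rw [Nat.card_eq_zero]
        exact Or.inl ⟨fun R => hfree z hz hz1 R.1 R.2⟩
    rw [h22] at h
    show Nat.card (orbitRel.Quotient (Q : Subgroup G) (Sylow 3 G)) = 2
    omega
  set C := centralizer ((Q : Subgroup G) : Set G) with hC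
  haveI : IsCyclic (Q : Subgroup G) := isCyclic_of_prime_card hQ
  have hQC : (Q : Subgroup G) ≤ C := le_centralizer _
  let π : C →* Equiv.Perm W := orbitPerm (Q : Subgroup G) (Sylow 3 G)
  have hkerle : ∀ d : C, π d = 1 → (d : G) ∈ (Q : Subgroup G) := by
    intro d hd
    refine SylowFive.sylow_le_of_mem_normalizer Q (SmallSimple.centralizer_le_normalizer _ d.2) 1 ?_
    rw [pow_one]
    refine eq_one_of_fixes h22 fun R => pow_smul_of_orbit (pow_eq_one_of_card _ hQ) d.2 R ?_
    have hfix : π d (Quotient.mk'' R) = Quotient.mk'' R := by rw [hd]; rfl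
    exact Quotient.eq''.1 hfix
  have hCQ : C = Q := by
    refine le_antisymm (fun d hd => ?_) hQC
    refine hkerle ⟨d, hd⟩ ?_
    by_contra hne
    have h2 : 2 ∣ Nat.card C := by
      have h := Subgroup.card_dvd_of_le (le_top : π.range ≤ ⊤)
      rw [card_top, Nat.card_perm, hW] at h
      have h' : Nat.card π.range ∣ 2 := h
      rcases (Nat.dvd_prime Nat.prime_two).1 h' with h1 | h1
      · refine absurd ?_ hne
        have : π ⟨d, hd⟩ ∈ π.range := ⟨_, rfl⟩
        rw [card_eq_one.1 h1, mem_bot] at this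
        exact this
      · rw [← h1]; exact card_range_dvd π
    obtain ⟨t, ht⟩ := exists_prime_orderOf_dvd_card' (G := C) 2 h2
    have ht1 : (t : G) ≠ 1 := fun h => by
      rw [show t = 1 from Subtype.ext h, orderOf_one] at ht
      omega
    have ht2 : (t : G) * t = 1 := by
      have := pow_orderOf_eq_one t
      rw [ht, sq] at this
      exact congrArg Subtype.val this
    have hnofix : ∀ R : Sylow 3 G, (t : G) • R ≠ R := by
      intro R hR
      have hπ : π t = 1 := by
        have hfix : π t (Quotient.mk'' R) = Quotient.mk'' R := congrArg Quotient.mk'' hR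
        by_contra hne'
        have hsupp : (π t).support.card ≤ 1 := by
          have hsub : (π t).support ⊆ Finset.univ.erase (Quotient.mk'' R) := fun q hq =>
            Finset.mem_erase.2 ⟨fun e => Equiv.Perm.mem_support.1 hq (e ▸ hfix),
              Finset.mem_univ _⟩
          refine (Finset.card_le_card hsub).trans ?_
          rw [Finset.card_erase_of_mem (Finset.mem_univ _), Finset.card_univ,
            ← Nat.card_eq_fintype_card, hW]
        have := Equiv.Perm.two_le_card_support_of_ne_one hne'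
        omega
      have := Subgroup.orderOf_dvd_natCard _ (hkerle t hπ)
      rw [orderOf_coe, ht, hQ] at this
      norm_num at this
    have hs := sign_of_involutive (MulAction.toPerm (t : G) : Equiv.Perm (Sylow 3 G))
      (by ext R; simp [← mul_smul, ht2])
    rw [sign_toPerm_eq_one (notComm h22),
      show (MulAction.toPerm (t : G) : Equiv.Perm (Sylow 3 G)).support = Finset.univ by
        ext R; simp [hnofix R],
      Finset.card_univ, ← Nat.card_eq_fintype_card, h22] at hs
    exact absurd hs (by decide)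
  obtain ⟨e, he, he1, heq⟩ := sylow_relIndex (notComm h22) Q hQ
  rw [← hC, hCQ, hQ] at heq
  have hn := card_sylow_mul Q
  have hmod : Nat.card (Sylow 11 G) % 11 = 1 := card_sylow_modEq_one 11 G
  rw [← heq, hG] at hn
  have hne : Nat.card (Sylow 11 G) * e = 12 * c := by
    apply Nat.eq_of_mul_eq_mul_right (show 0 < 11 by norm_num)
    rw [mul_assoc, hn]; ring
  have key : ∀ c ∈ (560 : ℕ).divisors, ∀ e ∈ (10 : ℕ).divisors, e ≠ 1 → e ∣ 12 * c →
      (12 * c / e) % 11 = 1 →
      (7 ∣ c ∧ (5 ∣ c ∨ c = 112)) ∨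
        (12 * c / e = 12 ∧ ((c = 2 ∧ e = 2) ∨ (c = 5 ∧ e = 5) ∨ (c = 10 ∧ e = 10))) := by
    decide +kernel
  have he0 : 0 < e := Nat.pos_of_dvd_of_pos he (by norm_num)
  have hdiv : 12 * c / e = Nat.card (Sylow 11 G) := by
    rw [← hne, Nat.mul_div_cancel _ he0]
  rcases key c (Nat.mem_divisors.2 ⟨hc, by norm_num⟩) e (Nat.mem_divisors.2 ⟨he, by norm_num⟩)
    he1 ⟨_, by rw [← hne, mul_comm]⟩ (by rw [hdiv]; exact hmod) with ⟨h7, h5⟩ | ⟨h12, hce⟩
  · exfalso
    obtain ⟨h1, h2⟩ := hc7 h7
    exact h5.elim h1 h2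
  · refine ⟨Q, c, e, hQ, hdiv ▸ h12, hCQ, by rw [← heq, mul_comm], fun R => ?_, hce⟩
    obtain ⟨c', -, -, hCR, -, hG'⟩ := normalizer_data h22 R
    rw [hCR]
    omega

theorem false_of_card_sylow : False := by
  classical
  haveI : Fact (Nat.Prime 11) := ⟨by norm_num⟩
  haveI : Fact (Nat.Prime 5) := ⟨by norm_num⟩
  obtain ⟨Q, c, e, hQ, h12, hC, hN, hCP, hce⟩ := eleven_data h22
  have hcent : ∀ t : G, t ∈ centralizer ((Q : Subgroup G) : Set G) → orderOf t ∣ 11 := by
    intro t ht
    rw [hC] at ht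
    exact hQ ▸ Subgroup.orderOf_dvd_natCard _ ht
  set N := normalizer ((Q : Subgroup G) : Set G) with hNdef
  by_cases h2 : 2 ∣ e
  · obtain ⟨⟨t, htN⟩, ht⟩ := exists_prime_orderOf_dvd_card' (G := N) 2
      (hN ▸ Dvd.dvd.mul_left h2 11)
    replace ht : orderOf t = 2 := (orderOf_coe (⟨t, htN⟩ : N)).trans ht
    have htt : t * t = 1 := by rw [← sq, ← ht, pow_orderOf_eq_one]
    have := hcent t (no_involution_of_card_sylow_succ (notComm h22) Q hQ h12 (by norm_num) htt htN)
    rw [ht] at this
    norm_num at this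
  obtain ⟨rfl, rfl⟩ : c = 5 ∧ e = 5 := by omega
  obtain ⟨P⟩ : Nonempty (Sylow 3 G) := inferInstance
  obtain ⟨⟨z, hzC⟩, hz⟩ := exists_prime_orderOf_dvd_card'
    (G := centralizer ((P : Subgroup G) : Set G)) 5 (by rw [hCP]; norm_num)
  replace hz : orderOf z = 5 :=
    (orderOf_coe (⟨z, hzC⟩ : centralizer ((P : Subgroup G) : Set G))).trans hz
  obtain ⟨x, hxP, hx1⟩ := (P : Subgroup G).bot_or_exists_ne_one.resolve_left (fun h => by
    have := card_sylow_three h22 P
    rw [h, card_bot] at this
    omega)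
  have hxz : Commute x z := mem_centralizer_iff.1 hzC x hxP
  -- `z` fixes a coset of `N`
  have hidx : Nat.card (G ⧸ N) = 12 := by
    rw [← h12, Q.card_eq_index_normalizer]; rfl
  have hp5 : IsPGroup 5 (zpowers z) := IsPGroup.of_card (n := 1) (by
    rw [Nat.card_zpowers, hz, pow_one])
  have hmodz := hp5.card_modEq_card_fixedPoints (G ⧸ N)
  rw [hidx] at hmodz
  have hfixeq : fixedPoints (zpowers z) (G ⧸ N) = fixedBy (G ⧸ N) z := by
    ext a
    constructor
    · exact fun h => h ⟨z, mem_zpowers z⟩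
    · rintro h ⟨w, k, rfl⟩
      exact mem_stabilizer_iff.1 (zpow_mem (show z ∈ stabilizer G a from h) k)
  rw [hfixeq] at hmodz
  obtain ⟨⟨a, ha⟩⟩ : Nonempty (fixedBy (G ⧸ N) z) := (Nat.card_pos_iff.1
    (Nat.pos_of_ne_zero fun h0 => by rw [h0] at hmodz; exact absurd hmodz (by decide))).1
  obtain ⟨g, rfl⟩ := QuotientGroup.mk_surjective a
  set z' := g⁻¹ * z * g with hz'
  set x' := g⁻¹ * x * g with hx'
  have hz'N : z' ∈ N := by
    have h : z • (g : G ⧸ N) = g := ha
    rw [MulAction.Quotient.smul_coe, QuotientGroup.eq, smul_eq_mul] at h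
    rw [hz']
    have := inv_mem h
    simpa [mul_assoc] using this
  have hz'o : orderOf z' = 5 := by
    rw [hz', show g⁻¹ * z * g = MulAut.conj g⁻¹ z by simp, MulEquiv.orderOf_eq, hz]
  have hx'o : orderOf x' = 3 := by
    rw [hx', show g⁻¹ * x * g = MulAut.conj g⁻¹ x by simp, MulEquiv.orderOf_eq]
    exact orderOf_eq_prime (pow_eq_one_of_card _ (card_sylow_three h22 P) x hxP) hx1
  have hcomm : Commute x' z' := by
    show g⁻¹ * x * g * (g⁻¹ * z * g) = g⁻¹ * z * g * (g⁻¹ * x * g)
    have := hxz.eq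
    calc g⁻¹ * x * g * (g⁻¹ * z * g) = g⁻¹ * (x * z) * g := by group
      _ = g⁻¹ * (z * x) * g := by rw [this]
      _ = g⁻¹ * z * g * (g⁻¹ * x * g) := by group
  have hle : Nat.card (fixedBy (G ⧸ N) z') ≤ 2 :=
    (card_fixedBy_le_orbits Q hQ hz'N (fun h => by
      have := hcent z' h
      rw [hz'o] at this
      norm_num at this)).trans (card_orbits_le_two Q hQ h12)
  set o : G ⧸ N := ((1 : G) : G ⧸ N) with ho
  have hfixo : ∀ w : G, w • o = o ↔ w ∈ N := fun w => by
    rw [ho, MulAction.Quotient.smul_coe, QuotientGroup.eq, smul_eq_mul]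
    simp
  have hsub : orbit (zpowers x') o ⊆ fixedBy (G ⧸ N) z' := by
    rintro _ ⟨⟨w, k, rfl⟩, rfl⟩
    show z' • (x' ^ k) • o = (x' ^ k) • o
    rw [← mul_smul, ← (hcomm.zpow_left k).eq, mul_smul, (hfixo z').2 hz'N]
  obtain ⟨m, hm⟩ := (IsPGroup.of_card (p := 3) (n := 1) (G := zpowers x')
    (by rw [Nat.card_zpowers, hx'o, pow_one])).card_orbit o
  have h1 := Set.ncard_le_ncard hsub
  rw [← Nat.card_coe_set_eq, ← Nat.card_coe_set_eq, hm] at h1
  have hm0 : m = 0 := by
    by_contra h0
    have := Nat.le_self_pow h0 3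
    omega
  subst hm0
  have hs : Subsingleton (orbit (zpowers x') o) :=
    (Nat.card_eq_one_iff_unique.1 (by simpa using hm)).1
  have hxN : x' ∈ N := (hfixo x').1 (congrArg Subtype.val
    (hs.elim ⟨(⟨x', mem_zpowers x'⟩ : zpowers x') • o, mem_orbit _ _⟩ ⟨o, mem_orbit_self o⟩))
  have := Subgroup.orderOf_dvd_natCard N hxN
  rw [hx'o, hN] at this
  norm_num at this

end Counting

end Cfsg.Agent.FGS.SylowThree
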