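/-
Groups in which every square is a product of commutators, and the block construction of Sylow 2-subgroups.
-/
import Mathlib
import Cfsg.Agent.Lib.SymSylow.Two

set_option autoImplicit false

namespace Cfsg.Agent.FGS.SqC

open Equiv
open scoped commutatorElement

/-- Every square lies in the derived subgroup. -/
def SqComm (H : Type*) [Group H] : Prop := ∀ x : H, x ^ 2 ∈ commutator H

section basics

variable {H K : Type*} [Group H] [Group K]

theorem hom_commutator (φ : H →* K) {x : H} (hx : x ∈ commutator H) : φ x ∈ commutator K := by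
  rw [← Abelianization.ker_of, MonoidHom.mem_ker] at hx ⊢
  rw [← Abelianization.map_of φ, hx, map_one]

theorem sqComm_of_equiv (e : H ≃* K) (h : SqComm H) : SqComm K := fun x => by
  have := hom_commutator e.toMonoidHom (h (e.symm x))
  simpa using this

/-- The elements with square in the derived subgroup. -/
def sqSub (H : Type*) [Group H] : Subgroup H :=
  ((powMonoidHom 2).comp (Abelianization.of (G := H))).ker

theorem mem_sqSub {x : H} : x ∈ sqSub H ↔ x ^ 2 ∈ commutator H := by
  rw [sqSub, MonoidHom.mem_ker, ← Abelianization.ker_of, MonoidHom.mem_ker, map_pow]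
  rfl

theorem hom_sqSub (φ : H →* K) (h : SqComm H) (x : H) : φ x ∈ sqSub K := by
  rw [mem_sqSub, ← map_pow]; exact hom_commutator φ (h x)

theorem sqSub_of_invol {x : H} (h : x * x = 1) : x ∈ sqSub H := by
  rw [mem_sqSub, sq, h]; exact one_mem _

/-- An element inverted by a conjugation has its square in the derived subgroup. -/
theorem sqSub_of_inverted {x s : H} (h : s * x * s⁻¹ = x⁻¹) : x ∈ sqSub H := by
  rw [mem_sqSub]
  have e : (x ^ 2)⁻¹ = ⁅s, x⁆ := by
    rw [commutatorElement_def, h, sq, mul_inv_rev]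
  rw [← inv_mem_iff, e, commutator_def]
  exact Subgroup.commutator_mem_commutator (Subgroup.mem_top _) (Subgroup.mem_top _)

end basics

theorem quaternion_sqComm {k : ℕ} (hk : 1 ≤ k) : SqComm (QuaternionGroup (2 ^ k)) := by
  have h2 : QuaternionGroup.a (2 : ZMod (2 * 2 ^ k)) ∈ commutator (QuaternionGroup (2 ^ k)) := by
    have : QuaternionGroup.a (2 : ZMod (2 * 2 ^ k)) = ⁅QuaternionGroup.a (1 : ZMod (2 * 2 ^ k)), QuaternionGroup.xa 0⁆ := by
      rw [commutatorElement_def, show (QuaternionGroup.a (1 : ZMod (2 * 2 ^ k)))⁻¹ = QuaternionGroup.a (-1) from rfl,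
        show (QuaternionGroup.xa (0 : ZMod (2 * 2 ^ k)))⁻¹ = QuaternionGroup.xa ((2 ^ k : ℕ) + 0) from rfl]
      simp only [QuaternionGroup.a_mul_xa, QuaternionGroup.xa_mul_a, QuaternionGroup.xa_mul_xa]
      congr 1
      have h0 : ((2 * 2 ^ k : ℕ) : ZMod (2 * 2 ^ k)) = 0 := ZMod.natCast_self _
      push_cast at h0 ⊢
      linear_combination (-1 : ZMod (2 * 2 ^ k)) * h0
    rw [this, commutator_def]
    exact Subgroup.commutator_mem_commutator (Subgroup.mem_top _) (Subgroup.mem_top _)
  have hev : ∀ i : ZMod (2 * 2 ^ k), QuaternionGroup.a (2 * i) ∈ commutator (QuaternionGroup (2 ^ k)) := by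
    intro i
    have e : ∀ n : ℕ, QuaternionGroup.a (2 : ZMod (2 * 2 ^ k)) ^ n = QuaternionGroup.a (2 * (n : ZMod (2 * 2 ^ k))) := by
      intro n
      induction n with
      | zero => rw [pow_zero, Nat.cast_zero, mul_zero]; exact QuaternionGroup.one_def
      | succ n ih => rw [pow_succ, ih, QuaternionGroup.a_mul_a]; push_cast; ring_nf
    have : NeZero (2 * 2 ^ k) := ⟨by positivity⟩
    rw [← ZMod.natCast_zmod_val i, ← e]
    exact pow_mem h2 _
  intro x
  rcases x with i | i
  · rw [sq, QuaternionGroup.a_mul_a, ← two_mul]; exact hev i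
  · rw [sq, QuaternionGroup.xa_mul_xa]
    obtain ⟨j, rfl⟩ : ∃ j, k = j + 1 := ⟨k - 1, by omega⟩
    have := hev ((2 ^ j : ℕ) : ZMod (2 * 2 ^ (j + 1)))
    convert this using 2
    push_cast; ring

theorem sylow_sqComm {G H : Type*} [Group G] [Finite G] [Group H] [Finite H] (f : H →* G)
    (hf : Function.Injective f) (hc : Nat.card H = 2 ^ padicValNat 2 (Nat.card G)) (h : SqComm H)
    (P : Sylow 2 G) : SqComm (P : Subgroup G) := by
  have hr : Nat.card f.range = 2 ^ (Nat.card G).factorization 2 := by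
    rw [← Nat.card_congr (MonoidHom.ofInjective hf).toEquiv, hc, Nat.factorization_def _ Nat.prime_two]
  exact sqComm_of_equiv ((MonoidHom.ofInjective hf).trans ((Sylow.ofCard f.range hr).equiv P)) h

section sym

variable {α : Type*} [DecidableEq α] [Fintype α]

theorem exists_invol_lift (T : Sylow 2 (Perm α)) {σ : Perm (SymSylow.swaps (T : Subgroup (Perm α)))}
    (hσ : σ * σ = 1) : ∃ g : Subgroup.normalizer (SymSylow.swaps (T : Subgroup (Perm α))),
      SymSylow.phi (T : Subgroup (Perm α)) g = σ ∧ g.1 * g.1 = 1 := by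
  classical
  revert σ
  set S := (T : Subgroup (Perm α))
  intro σ hσ
  let f : SymSylow.swaps S × Bool ≃ {x // x ∈ Set.range (SymSylow.pts S)} :=
    Equiv.ofInjective _ (SymSylow.pts_injective S T.2)
  let g : Perm α := Perm.extendDomain (Equiv.prodCongr σ (Equiv.refl Bool)) f
  have hgp : ∀ p, g (SymSylow.pts S p) = SymSylow.pts S (σ p.1, p.2) := fun p =>
    Perm.extendDomain_apply_image (Equiv.prodCongr σ (Equiv.refl Bool)) f p
  have hconj : ∀ τ : SymSylow.swaps S, g * τ.1 * g⁻¹ = (σ τ).1 := by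
    intro τ
    have e1 : τ.1 = swap (SymSylow.pts S (τ, true)) (SymSylow.pts S (τ, false)) := by
      simpa [SymSylow.pts] using SymSylow.swap_of_moved τ.2.1 (SymSylow.rep_moved S τ)
    have e2 : (σ τ).1 = swap (SymSylow.pts S (σ τ, true)) (SymSylow.pts S (σ τ, false)) := by
      simpa [SymSylow.pts] using SymSylow.swap_of_moved (σ τ).2.1 (SymSylow.rep_moved S (σ τ))
    rw [e1, ← Equiv.swap_apply_apply, hgp, hgp, e2]
  have hg : g ∈ Subgroup.normalizer (SymSylow.swaps S) := by
    rw [Subgroup.mem_set_normalizer_iff]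
    intro τ
    constructor
    · intro h
      rw [hconj ⟨τ, h⟩]
      exact (σ ⟨τ, h⟩).2
    · intro h
      have := hconj (σ.symm ⟨_, h⟩)
      rw [Equiv.apply_symm_apply, mul_left_inj, mul_right_inj] at this
      rw [← this]
      exact (σ.symm ⟨_, h⟩).2
  refine ⟨⟨g, hg⟩, Equiv.ext fun τ => Subtype.ext ((SymSylow.phi_apply _ _ τ).trans (hconj τ)), ?_⟩
  show g * g = 1
  rw [Perm.extendDomain_mul, ← Perm.extendDomain_one f]
  congr 1
  ext ⟨a, b⟩ : 1
  have := DFunLike.congr_fun hσ a
  simp [Perm.mul_apply] at this ⊢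
  exact this

/-- The involutions of a subgroup generate it. -/
def InvGen {G : Type*} [Group G] (S : Subgroup G) : Prop := S ≤ Subgroup.closure {x | x ∈ S ∧ x * x = 1}

theorem invGen_aux : ∀ (n : ℕ) (α : Type _) [DecidableEq α] [Fintype α], Fintype.card α = n →
    ∀ T : Sylow 2 (Perm α), InvGen (T : Subgroup (Perm α)) := by
  intro n
  induction n using Nat.strong_induction_on with
  | _ n ih =>
    intro α _ _ hn T t ht
    classical
    rcases Nat.eq_zero_or_pos n with h0 | h0
    · have : IsEmpty α := Fintype.card_eq_zero_iff.1 (hn.trans h0)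
      rw [Subsingleton.elim t 1]; exact one_mem _
    set S := (T : Subgroup (Perm α))
    set N := Subgroup.normalizer (SymSylow.swaps S)
    obtain ⟨Q, hQ⟩ := SymSylow.phi_image_sylow T
    have hcard : Fintype.card (SymSylow.swaps S) < n := by
      have := Fintype.card_le_of_injective _ (SymSylow.pts_injective S T.2)
      rw [Fintype.card_prod, Fintype.card_bool] at this
      omega
    have hker : IsPGroup 2 (SymSylow.phi S).ker := fun k => ⟨1, Subtype.ext (Subtype.ext (by
      simpa [pow_two] using SymSylow.ker_phi T (MonoidHom.mem_ker.1 k.2)))⟩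
    have hback : ∀ g : N, SymSylow.phi S g ∈ (Q : Subgroup _) → g.1 ∈ S := by
      intro g hg
      have h1 : IsPGroup 2 ((Q : Subgroup _).comap (SymSylow.phi S)) := Q.2.comap_of_ker_isPGroup _ hker
      have h2 : ((Q : Subgroup _).comap (SymSylow.phi S)).map N.subtype = S := by
        refine T.3 (h1.map _) fun t ht => ?_
        exact ⟨⟨t, SymSylow.self_le_normalizer_swaps S ht⟩, hQ.ge ⟨_, ht, rfl⟩, rfl⟩
      exact h2.le ⟨g, hg, rfl⟩
    set C := Subgroup.closure {x : Perm α | x ∈ S ∧ x * x = 1}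
    have hq : ∀ σ ∈ (Q : Subgroup _), ∃ g : N, SymSylow.phi S g = σ ∧ g.1 ∈ C := by
      intro σ hσ
      have h1 : σ ∈ Subgroup.closure {x | x ∈ (Q : Subgroup _) ∧ x * x = 1} := ih _ hcard _ rfl Q hσ
      clear hσ
      induction h1 using Subgroup.closure_induction with
      | mem x hx =>
        obtain ⟨g, e, g2⟩ := exists_invol_lift T hx.2
        exact ⟨g, e, Subgroup.subset_closure ⟨hback g (e ▸ hx.1), g2⟩⟩
      | one => exact ⟨1, map_one _, one_mem _⟩
      | mul a b _ _ iha ihb =>
        obtain ⟨g, e, hg⟩ := iha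
        obtain ⟨g', e', hg'⟩ := ihb
        exact ⟨g * g', by rw [map_mul, e, e'], mul_mem hg hg'⟩
      | inv a _ iha =>
        obtain ⟨g, e, hg⟩ := iha
        exact ⟨g⁻¹, by rw [map_inv, e], inv_mem hg⟩
    set t' : N := ⟨t, SymSylow.self_le_normalizer_swaps S ht⟩
    obtain ⟨g, e, hg⟩ := hq _ (hQ.ge ⟨t', ht, rfl⟩)
    have hsub : C ≤ S := (Subgroup.closure_le _).2 fun x hx => hx.1
    have hk : SymSylow.phi S (g⁻¹ * t') = 1 := by rw [map_mul, map_inv, e, inv_mul_cancel]
    have h1 : (g⁻¹ * t').1 ∈ C :=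
      Subgroup.subset_closure ⟨mul_mem (inv_mem (hsub hg)) ht, SymSylow.ker_phi T hk⟩
    have := mul_mem hg h1
    simpa [t'] using this

theorem invGen_sylow (T : Sylow 2 (Perm α)) : InvGen (T : Subgroup (Perm α)) := invGen_aux _ α rfl T

theorem sqComm_sylow_perm (T : Sylow 2 (Perm α)) : SqComm (T : Subgroup (Perm α)) := by
  intro x
  rw [← mem_sqSub]
  obtain ⟨t, ht⟩ := x
  have key : ∀ t, t ∈ Subgroup.closure {x : Perm α | x ∈ (T : Subgroup (Perm α)) ∧ x * x = 1} →
      t ∈ (sqSub (T : Subgroup (Perm α))).map (T : Subgroup (Perm α)).subtype := by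
    intro t ht
    refine (Subgroup.closure_le _).2 ?_ ht
    rintro x ⟨hx, h2⟩
    exact ⟨⟨x, hx⟩, sqSub_of_invol (Subtype.ext h2), rfl⟩
  obtain ⟨y, hy, e⟩ := key t (invGen_sylow T ht)
  rwa [show (⟨t, ht⟩ : (T : Subgroup (Perm α))) = y from Subtype.ext e.symm]

omit [DecidableEq α] in
theorem sylow_transitive (T : Sylow 2 (Perm α)) {j : ℕ} (hj : Fintype.card α = 2 ^ j) (a b : α) :
    ∃ σ ∈ (T : Subgroup (Perm α)), σ a = b := by
  classical
  set S := (T : Subgroup (Perm α))
  have horb : MulAction.orbit S a = Set.univ := by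
    refine Set.eq_of_subset_of_ncard_le (Set.subset_univ _) ?_ Set.finite_univ
    rw [Set.ncard_univ, Nat.card_eq_fintype_card, hj, ← Nat.card_coe_set_eq,
      Nat.card_congr (MulAction.orbitEquivQuotientStabilizer S a), ← Subgroup.index_eq_card]
    have h1 := Subgroup.card_mul_index (MulAction.stabilizer S a)
    have h2 := Subgroup.card_mul_index (MulAction.stabilizer (Perm α) a)
    have h3 : (MulAction.stabilizer (Perm α) a).index = 2 ^ j := by
      rw [MulAction.index_stabilizer_of_transitive, Nat.card_eq_fintype_card, hj]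
    have hS : Nat.card (MulAction.stabilizer S a) ∣ Nat.card (MulAction.stabilizer (Perm α) a) :=
      Subgroup.card_dvd_of_injective
        (((Subgroup.subtype S).comp (MulAction.stabilizer S a).subtype).codRestrict _ fun g =>
          (g.2 : g.1 • a = a))
        (fun x y e => Subtype.ext (Subtype.ext (congrArg Subtype.val e :)))
    rw [h3] at h2
    have hdvd : Nat.card S ∣ Nat.card (Perm α) := Subgroup.card_subgroup_dvd_card S
    obtain ⟨c, hc⟩ := (T.isPGroup'.to_subgroup (MulAction.stabilizer S a)).exists_card_eq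
    obtain ⟨d, hd⟩ := T.isPGroup'.exists_card_eq
    have hf := T.card_eq_multiplicity
    rw [hd] at hf
    have hcd : c + j ≤ d := by
      have h4 : 2 ^ (c + j) ∣ Nat.card (Perm α) := by
        rw [pow_add, ← hc, ← h2]; exact mul_dvd_mul hS dvd_rfl
      rw [Nat.pow_right_injective (le_refl 2) hf]
      exact (Nat.prime_two.pow_dvd_iff_le_factorization Nat.card_pos.ne').1 h4
    rw [hc, hd] at h1
    refine Nat.le_of_mul_le_mul_left ?_ (show 0 < 2 ^ c by positivity)
    rw [h1, ← pow_add]
    exact Nat.pow_le_pow_right (by norm_num) hcd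
  obtain ⟨g, hg⟩ := (horb.ge (Set.mem_univ b) : b ∈ MulAction.orbit S a)
  exact ⟨g.1, g.2, hg⟩

end sym

end Cfsg.Agent.FGS.SqC
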