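/-
Sylow 2-subgroups of Sp_{2n}(q) and SL_n(q), q odd, as products of rank-one pieces permuted by a Sylow 2-subgroup of Sym(n).
-/
import Cfsg.Agent.Lib.FGS.SylowTwoSquares
import Cfsg.Agent.Lib.Forms.SpOrder
import Cfsg.Agent.Lib.LinearGroups.Basic
import Cfsg.Agent.S0261

set_option autoImplicit false

namespace Cfsg.Agent.FGS.SqC

open Matrix

section Abstract

theorem block_sylow {G N S : Type*} [Group G] [Finite G] [Group N] [Group S] (i : N →* G) (j : S →* G)
    (hnorm : ∀ s n, ∃ n', j s * i n * (j s)⁻¹ = i n') (hinj : ∀ n s, i n * j s = 1 → n = 1 ∧ s = 1)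
    (hcard : Nat.card N * Nat.card S = 2 ^ padicValNat 2 (Nat.card G)) (hS : SqComm S)
    (hN : ∀ (H : Subgroup G) (i' : N →* H) (j' : S →* H), (∀ n, (i' n : G) = i n) → (∀ s, (j' s : G) = j s) →
      ∀ n, i' n ∈ sqSub H)
    (P : Sylow 2 G) : SqComm (P : Subgroup G) := by
  set H := i.range ⊔ j.range
  let i' : N →* H := i.codRestrict H fun n => Subgroup.mem_sup_left ⟨n, rfl⟩
  let j' : S →* H := j.codRestrict H fun s => Subgroup.mem_sup_right ⟨s, rfl⟩
  have hle : j.range ≤ Subgroup.normalizer (i.range : Set G) := by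
    rintro _ ⟨s, rfl⟩
    rw [Subgroup.mem_normalizer_iff]
    refine fun x => ⟨?_, fun hx => ?_⟩
    · rintro ⟨n, rfl⟩
      obtain ⟨n', e⟩ := hnorm s n
      exact ⟨n', e.symm⟩
    · obtain ⟨n, e⟩ := hx
      obtain ⟨n', e'⟩ := hnorm s⁻¹ n
      refine ⟨n', ?_⟩
      rw [← e', map_inv, inv_inv, e]
      group
  have hmem : ∀ x : H, ∃ n s, i' n * j' s = x := by
    rintro ⟨x, hx⟩
    rw [← SetLike.mem_coe, Subgroup.coe_mul_of_right_le_normalizer_left _ _ hle] at hx
    obtain ⟨_, ⟨n, rfl⟩, _, ⟨s, rfl⟩, e⟩ := hx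
    exact ⟨n, s, Subtype.ext e⟩
  have hbij : Function.Bijective (fun p : N × S => i' p.1 * j' p.2) := by
    refine ⟨fun ⟨n, s⟩ ⟨n', s'⟩ e => ?_, fun x => ?_⟩
    · have e1 : i n * j s = i n' * j s' := congrArg Subtype.val e
      have h1 : i (n'⁻¹ * n) * j (s * s'⁻¹) = 1 := by
        rw [map_mul, map_mul, map_inv, map_inv,
          show (i n')⁻¹ * i n * (j s * (j s')⁻¹) = (i n')⁻¹ * (i n * j s) * (j s')⁻¹ by group, e1]
        group
      obtain ⟨a, b⟩ := hinj _ _ h1
      exact Prod.ext (inv_mul_eq_one.1 a).symm (mul_inv_eq_one.1 b)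
    · obtain ⟨n, s, e⟩ := hmem x
      exact ⟨(n, s), e⟩
  refine sylow_sqComm H.subtype Subtype.val_injective
    (by rw [← Nat.card_eq_of_bijective _ hbij, Nat.card_prod, hcard]) ?_ P
  intro x
  obtain ⟨n, s, rfl⟩ := hmem x
  rw [← mem_sqSub]
  exact mul_mem (hN H i' j' (fun _ => rfl) (fun _ => rfl) n) (hom_sqSub j' hS s)

end Abstract

section Blocks

variable {F : Type*} [Field F] {ι : Type*} [Fintype ι] [DecidableEq ι]

/-- Index map for the block decomposition. -/
def bidx : ι ⊕ ι ≃ Fin 2 × ι where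
  toFun := Sum.elim (fun i => (0, i)) (fun i => (1, i))
  invFun p := if p.1 = 0 then .inl p.2 else .inr p.2
  left_inv x := by rcases x with i | i <;> simp
  right_inv p := by
    obtain ⟨a, i⟩ := p
    fin_cases a <;> simp

omit [Fintype ι] in
theorem fromBlocks_diag_eq (f : ι → Matrix (Fin 2) (Fin 2) F) :
    fromBlocks (diagonal fun i => f i 0 0) (diagonal fun i => f i 0 1) (diagonal fun i => f i 1 0)
      (diagonal fun i => f i 1 1) = (blockDiagonal f).submatrix bidx bidx := by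
  ext (i | i) (j | j) <;> simp [bidx, blockDiagonal_apply, diagonal_apply]

/-- Block diagonal matrices. -/
def Dm : (ι → Matrix (Fin 2) (Fin 2) F) →* Matrix (ι ⊕ ι) (ι ⊕ ι) F where
  toFun f := fromBlocks (diagonal fun i => f i 0 0) (diagonal fun i => f i 0 1) (diagonal fun i => f i 1 0)
    (diagonal fun i => f i 1 1)
  map_one' := by simp [fromBlocks_one]
  map_mul' f g := by
    simp only [fromBlocks_multiply, diagonal_mul_diagonal, diagonal_add]
    congr 1 <;> ext i : 1 <;> simp [Matrix.mul_apply, Fin.sum_univ_two]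

theorem Dm_apply (f : ι → Matrix (Fin 2) (Fin 2) F) : Dm f =
    fromBlocks (diagonal fun i => f i 0 0) (diagonal fun i => f i 0 1) (diagonal fun i => f i 1 0)
      (diagonal fun i => f i 1 1) := rfl

theorem det_Dm (f : ι → Matrix (Fin 2) (Fin 2) F) : (Dm f).det = ∏ i, (f i).det := by
  rw [Dm_apply, fromBlocks_diag_eq, det_submatrix_equiv_self, det_blockDiagonal]

/-- Permutation matrices. -/
def pM : Equiv.Perm ι →* Matrix ι ι F where
  toFun σ := Matrix.of fun i j => if i = σ j then 1 else 0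
  map_one' := by
    ext i j
    simp [Matrix.one_apply]
    congr
  map_mul' σ τ := by
    ext i j
    simp only [Matrix.mul_apply, Matrix.of_apply]
    rw [Finset.sum_eq_single (τ j)]
    · simp [Equiv.Perm.mul_apply]
      congr
    · intro b _ hb; simp [hb]
    · simp

theorem pM_apply (σ : Equiv.Perm ι) (i j : ι) : (pM σ : Matrix ι ι F) i j = if i = σ j then 1 else 0 := rfl

theorem pM_transpose (σ : Equiv.Perm ι) : (pM σ : Matrix ι ι F)ᵀ = pM σ⁻¹ := by
  ext i j
  simp only [transpose_apply, pM_apply]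
  congr 1
  apply propext
  constructor <;> rintro rfl <;> simp

theorem pM_diag (σ : Equiv.Perm ι) (d : ι → F) :
    (pM σ : Matrix ι ι F) * diagonal d = diagonal (fun i => d (σ.symm i)) * pM σ := by
  ext i j
  rw [mul_diagonal, diagonal_mul, pM_apply]
  split_ifs with e
  · subst e; simp
  · simp

theorem det_pM_sq (σ : Equiv.Perm ι) : (pM σ : Matrix ι ι F).det * (pM σ : Matrix ι ι F).det = 1 := by
  nth_rewrite 2 [← det_transpose]
  rw [pM_transpose, ← det_mul, ← map_mul, mul_inv_cancel, map_one, det_one]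

/-- Simultaneous permutation of the two halves. -/
def Pm : Equiv.Perm ι →* Matrix (ι ⊕ ι) (ι ⊕ ι) F where
  toFun σ := fromBlocks (pM σ) 0 0 (pM σ)
  map_one' := by simp [fromBlocks_one]
  map_mul' σ τ := by simp [fromBlocks_multiply]

theorem Pm_apply (σ : Equiv.Perm ι) : (Pm σ : Matrix (ι ⊕ ι) (ι ⊕ ι) F) = fromBlocks (pM σ) 0 0 (pM σ) := rfl

theorem det_Pm (σ : Equiv.Perm ι) : (Pm σ : Matrix (ι ⊕ ι) (ι ⊕ ι) F).det = 1 := by
  rw [Pm_apply, det_fromBlocks_zero₁₂, det_pM_sq]

theorem Pm_Dm (σ : Equiv.Perm ι) (f : ι → Matrix (Fin 2) (Fin 2) F) :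
    Pm σ * Dm f = Dm (fun i => f (σ.symm i)) * Pm σ := by
  simp [Pm_apply, Dm_apply, fromBlocks_multiply, pM_diag]

theorem Dm_Pm_eq_one {f : ι → Matrix (Fin 2) (Fin 2) F} {σ : Equiv.Perm ι} (h : Dm f * Pm σ = 1) :
    f = 1 ∧ σ = 1 := by
  have hσ : σ = 1 := by
    ext j
    have := congrFun (congrFun h (Sum.inl j)) (Sum.inl j)
    simp [Pm_apply, Dm_apply, fromBlocks_multiply, diagonal_mul, pM_apply] at this
    rw [Equiv.Perm.one_apply]
    by_contra hne
    rw [if_neg (Ne.symm hne)] at this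
    exact zero_ne_one this
  subst hσ
  rw [map_one, mul_one, Dm_apply] at h
  refine ⟨?_, rfl⟩
  funext i
  ext a b
  fin_cases a <;> fin_cases b
  · simpa using congrFun (congrFun h (Sum.inl i)) (Sum.inl i)
  · simpa using congrFun (congrFun h (Sum.inl i)) (Sum.inr i)
  · simpa using congrFun (congrFun h (Sum.inr i)) (Sum.inl i)
  · simpa using congrFun (congrFun h (Sum.inr i)) (Sum.inr i)

theorem Dm_symplectic (f : ι → Matrix (Fin 2) (Fin 2) F) (hf : ∀ i, (f i).det = 1) :
    Dm f ∈ symplecticGroup ι F := by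
  rw [SymplecticGroup.mem_iff, Dm_apply]
  simp only [Matrix.J, fromBlocks_transpose, diagonal_transpose, fromBlocks_multiply, mul_zero, mul_one,
    Matrix.mul_neg, zero_add, add_zero, Matrix.neg_mul, diagonal_mul_diagonal]
  ext (i | i) (j | j) <;> rcases eq_or_ne i j with rfl | e
  all_goals simp_all [det_fin_two]
  all_goals first | linear_combination hf i | linear_combination -(hf i) | ring

theorem Pm_symplectic (σ : Equiv.Perm ι) : (Pm σ : Matrix (ι ⊕ ι) (ι ⊕ ι) F) ∈ symplecticGroup ι F := by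
  rw [SymplecticGroup.mem_iff, Pm_apply]
  simp [Matrix.J, fromBlocks_transpose, fromBlocks_multiply, pM_transpose, ← map_mul]

end Blocks

section Val

theorem odd_pow_sub_one {q : ℕ} (hq : 1 < q) (k : ℕ) (hk : k ≠ 0) : q ^ k - 1 ≠ 0 := by
  have : 1 < q ^ k := Nat.one_lt_pow hk hq
  omega

theorem val_even {q : ℕ} (hq : 1 < q) (ho : Odd q) (i : ℕ) :
    padicValNat 2 (q ^ (2 * (i + 1)) - 1) = padicValNat 2 (q ^ 2 - 1) + padicValNat 2 (i + 1) := by
  obtain ⟨c, rfl⟩ := ho
  have h2 : ∀ n, n ≠ 0 → Even n → padicValNat 2 ((2 * c + 1) ^ n - 1) + 1 =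
      padicValNat 2 (2 * c + 1 + 1) + padicValNat 2 (2 * c + 1 - 1) + padicValNat 2 n := by
    intro n hn he
    have := padicValNat.pow_two_sub_pow (x := 2 * c + 1) (y := 1) hq (by omega) (by omega) hn he
    simpa using this
  have a := h2 2 two_ne_zero even_two
  have b := h2 (2 * (i + 1)) (by omega) (even_two_mul _)
  rw [padicValNat.mul two_ne_zero (by omega), padicValNat.self one_lt_two] at b
  rw [padicValNat.self one_lt_two] at a
  omega

theorem val_odd {q : ℕ} (hq : 1 < q) (ho : Odd q) (i : ℕ) :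
    padicValNat 2 (q ^ (2 * i + 1) - 1) = padicValNat 2 (q - 1) := by
  have hg : Odd (∑ j ∈ Finset.range (2 * i + 1), q ^ j) := by
    induction i with
    | zero => simp
    | succ i ih =>
      rw [show 2 * (i + 1) + 1 = 2 * i + 1 + 1 + 1 by ring, Finset.sum_range_succ _ (2 * i + 1 + 1),
        Finset.sum_range_succ _ (2 * i + 1)]
      exact (ih.add_odd ho.pow).add_odd ho.pow
  have h1 : 1 ≤ q := hq.le
  have e := geom_sum_mul_add (q - 1) (2 * i + 1)
  rw [Nat.sub_add_cancel h1] at e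
  rw [show q ^ (2 * i + 1) - 1 = (∑ j ∈ Finset.range (2 * i + 1), q ^ j) * (q - 1) by omega,
    padicValNat.mul (by obtain ⟨c, hc⟩ := hg; omega) (by omega),
    padicValNat.eq_zero_of_not_dvd (by obtain ⟨c, hc⟩ := hg; omega), zero_add]

theorem val_prod_even {q : ℕ} (hq : 1 < q) (ho : Odd q) (m : ℕ) :
    padicValNat 2 (∏ i ∈ Finset.range m, (q ^ (2 * (i + 1)) - 1)) =
      m * padicValNat 2 (q ^ 2 - 1) + padicValNat 2 m.factorial := by
  induction m with
  | zero => simp
  | succ m ih =>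
    rw [Finset.prod_range_succ, padicValNat.mul
      (Finset.prod_ne_zero_iff.2 fun i _ => odd_pow_sub_one hq _ (by omega)) (odd_pow_sub_one hq _ (by omega)),
      ih, val_even hq ho, Nat.factorial_succ, padicValNat.mul (by omega) m.factorial_ne_zero]
    ring

theorem val_prod {q : ℕ} (hq : 1 < q) (ho : Odd q) (m : ℕ) :
    padicValNat 2 (∏ i ∈ Finset.range (2 * m), (q ^ (i + 1) - 1)) =
      m * padicValNat 2 (q - 1) + m * padicValNat 2 (q ^ 2 - 1) + padicValNat 2 m.factorial ∧
    padicValNat 2 (∏ i ∈ Finset.range (2 * m + 1), (q ^ (i + 1) - 1)) =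
      (m + 1) * padicValNat 2 (q - 1) + m * padicValNat 2 (q ^ 2 - 1) + padicValNat 2 m.factorial := by
  have nz : ∀ k, ∏ i ∈ Finset.range k, (q ^ (i + 1) - 1) ≠ 0 :=
    fun k => Finset.prod_ne_zero_iff.2 fun i _ => odd_pow_sub_one hq _ (by omega)
  induction m with
  | zero => simp
  | succ m ih =>
    have e1 : padicValNat 2 (∏ i ∈ Finset.range (2 * (m + 1)), (q ^ (i + 1) - 1)) =
        (m + 1) * padicValNat 2 (q - 1) + (m + 1) * padicValNat 2 (q ^ 2 - 1) + padicValNat 2 (m + 1).factorial := by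
      rw [show 2 * (m + 1) = 2 * m + 1 + 1 by ring, Finset.prod_range_succ,
        padicValNat.mul (nz _) (odd_pow_sub_one hq _ (by omega)), ih.2,
        show 2 * m + 1 + 1 = 2 * (m + 1) by ring, val_even hq ho, Nat.factorial_succ,
        padicValNat.mul (by omega) m.factorial_ne_zero]
      ring
    refine ⟨e1, ?_⟩
    rw [Finset.prod_range_succ, padicValNat.mul (nz _) (odd_pow_sub_one hq _ (by omega)), e1, val_odd hq ho]
    ring

theorem val_q_pow {q : ℕ} (ho : Odd q) (k : ℕ) : padicValNat 2 (q ^ k) = 0 :=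
  padicValNat.eq_zero_of_not_dvd fun h => by
    have := Nat.prime_two.dvd_of_dvd_pow h
    rw [Nat.odd_iff] at ho
    omega

end Val

section Groups

variable {F : Type*} [Field F] [Fintype F]

theorem card_perm_sylow {α : Type*} [DecidableEq α] [Fintype α] (S : Sylow 2 (Equiv.Perm α)) :
    Nat.card (S : Subgroup (Equiv.Perm α)) = 2 ^ padicValNat 2 (Fintype.card α).factorial := by
  rw [S.card_eq_multiplicity, Nat.card_perm, Nat.card_eq_fintype_card, Nat.factorization_def _ Nat.prime_two]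

theorem val_card_SL (hF : Odd (Fintype.card F)) {n : ℕ} (hn : 1 ≤ n) :
    padicValNat 2 (Fintype.card F - 1) + padicValNat 2 (Nat.card (SpecialLinearGroup (Fin n) F)) =
      padicValNat 2 (∏ i ∈ Finset.range n, (Fintype.card F ^ (i + 1) - 1)) := by
  have hq : 1 < Fintype.card F := Fintype.one_lt_card
  set q := Fintype.card F
  have e := LinGrp.natCard_SL_mul (F := F) n hn
  have e2 : ∏ i : Fin n, (q ^ n - q ^ (i : ℕ)) =
      (∏ i ∈ Finset.range n, q ^ i) * ∏ i ∈ Finset.range n, (q ^ (i + 1) - 1) := by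
    rw [Fin.prod_univ_eq_prod_range (fun i => q ^ n - q ^ i), ← Finset.prod_range_reflect (fun i => q ^ (i + 1) - 1),
      ← Finset.prod_mul_distrib]
    refine Finset.prod_congr rfl fun i hi => ?_
    have hi' := Finset.mem_range.1 hi
    rw [Nat.mul_sub, mul_one, ← pow_add, show i + (n - 1 - i + 1) = n by omega]
  rw [e2] at e
  have h1 : (∏ i ∈ Finset.range n, q ^ i) ≠ 0 := Finset.prod_ne_zero_iff.2 fun i _ => by positivity
  have h2 : (∏ i ∈ Finset.range n, (q ^ (i + 1) - 1)) ≠ 0 :=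
    Finset.prod_ne_zero_iff.2 fun i _ => odd_pow_sub_one hq _ (by omega)
  have e3 := congrArg (padicValNat 2) e
  rw [padicValNat.mul (by omega) Nat.card_pos.ne', padicValNat.mul h1 h2, Finset.prod_pow_eq_pow_sum,
    val_q_pow hF, zero_add] at e3
  exact e3

theorem val_card_SL2 (hF : Odd (Fintype.card F)) :
    padicValNat 2 (Nat.card (SpecialLinearGroup (Fin 2) F)) = padicValNat 2 (Fintype.card F ^ 2 - 1) := by
  have h := val_card_SL (F := F) hF (n := 2) (by norm_num)
  have h2 := (val_prod (Fintype.one_lt_card (α := F)) hF 1).1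
  simp only [mul_one, Nat.factorial_one, padicValNat_one_right, one_mul, add_zero] at h2
  omega

theorem sylow_SL2_sqComm (hF : Odd (Fintype.card F)) (P : Sylow 2 (SpecialLinearGroup (Fin 2) F)) :
    SqComm (P : Subgroup (SpecialLinearGroup (Fin 2) F)) := by
  obtain ⟨k, hk, ⟨e⟩⟩ := S0261.result hF P
  exact sqComm_of_equiv e.symm (quaternion_sqComm hk)

theorem single_gen {ι L : Type*} [Fintype ι] [DecidableEq ι] [Group L] {H : Type*} [Group H]
    (i' : (ι → L) →* H) (hL : SqComm L) (n : ι → L) : i' n ∈ sqSub H := by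
  have : n ∈ (sqSub H).comap i' := by
    refine Subgroup.pi_mem_of_mulSingle_mem (H := (sqSub H).comap i') n fun k => ?_
    rw [Subgroup.mem_comap]
    exact hom_sqSub (i'.comp (MonoidHom.mulSingle (fun _ : ι => L) k)) hL (n k)
  exact this

/-- Sylow 2-subgroups of `Sp_{2n}(q)`, `q` odd. -/
theorem symplectic_sqComm (hF : Odd (Fintype.card F)) (n : ℕ) (P : Sylow 2 (symplecticGroup (Fin n) F)) :
    SqComm (P : Subgroup (symplecticGroup (Fin n) F)) := by
  classical
  let Q : Sylow 2 (SpecialLinearGroup (Fin 2) F) := default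
  let S : Sylow 2 (Equiv.Perm (Fin n)) := default
  let i : (Fin n → (Q : Subgroup (SpecialLinearGroup (Fin 2) F))) →* symplecticGroup (Fin n) F :=
    { toFun := fun f => ⟨Dm fun k => (f k).1.1, Dm_symplectic _ fun k => (f k).1.2⟩
      map_one' := Subtype.ext (map_one Dm)
      map_mul' := fun f g => Subtype.ext (map_mul Dm (fun k => (f k).1.1) fun k => (g k).1.1) }
  let j : (S : Subgroup (Equiv.Perm (Fin n))) →* symplecticGroup (Fin n) F :=
    { toFun := fun s => ⟨Pm s.1, Pm_symplectic _⟩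
      map_one' := Subtype.ext (map_one Pm)
      map_mul' := fun s t => Subtype.ext (map_mul Pm s.1 t.1) }
  refine block_sylow i j (fun s f => ⟨fun k => f (s.1.symm k), ?_⟩) (fun f s h => ?_) ?_ (sqComm_sylow_perm S)
    (fun H i' j' _ _ f => single_gen i' (sylow_SL2_sqComm hF Q) f) P
  · rw [mul_inv_eq_iff_eq_mul]
    exact Subtype.ext (Pm_Dm s.1 fun k => (f k).1.1)
  · obtain ⟨a, b⟩ := Dm_Pm_eq_one (congrArg Subtype.val h :)
    exact ⟨funext fun k => Subtype.ext (Subtype.ext (congrFun a k)), Subtype.ext b⟩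
  · rw [Nat.card_fun, Q.card_eq_multiplicity, Nat.factorization_def _ Nat.prime_two, val_card_SL2 hF,
      card_perm_sylow, Fintype.card_fin, Nat.card_eq_fintype_card, Fintype.card_fin, ← pow_mul, ← pow_add,
      FormsLib.card_symplecticGroup, padicValNat.mul (by positivity)
        (Finset.prod_ne_zero_iff.2 fun k _ => odd_pow_sub_one Fintype.one_lt_card _ (by omega)),
      val_q_pow hF, val_prod_even Fintype.one_lt_card hF, zero_add, mul_comm]

/-- The reindexing isomorphism of special linear groups. -/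
def slHom {a b : Type*} [Fintype a] [DecidableEq a] [Fintype b] [DecidableEq b] (e : a ≃ b) :
    SpecialLinearGroup a F →* SpecialLinearGroup b F where
  toFun g := ⟨Matrix.reindex e e g.1, by rw [det_reindex_self]; exact g.2⟩
  map_one' := by apply Subtype.ext; simp
  map_mul' g g' := by
    apply Subtype.ext
    show Matrix.reindex e e (g.1 * g'.1) = Matrix.reindex e e g.1 * Matrix.reindex e e g'.1
    simp [Matrix.submatrix_mul_equiv]

omit [Fintype F] in
theorem slHom_injective {a b : Type*} [Fintype a] [DecidableEq a] [Fintype b] [DecidableEq b] (e : a ≃ b) :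
    Function.Injective (slHom (F := F) e) := fun _ _ h =>
  Subtype.ext ((Matrix.reindex e e).injective (congrArg Subtype.val h :))

theorem exists_eps (F : Type*) [Field F] [Fintype F] : ∃ ε : Fˣ,
    orderOf ε = 2 ^ padicValNat 2 (Fintype.card F - 1) ∧
      ∀ x : Fˣ, x ^ 2 ^ padicValNat 2 (Fintype.card F - 1) = 1 → x ∈ Subgroup.zpowers ε := by
  classical
  set e := padicValNat 2 (Fintype.card F - 1)
  obtain ⟨g, hg⟩ := IsCyclic.exists_generator (α := Fˣ)
  have hord : orderOf g = Fintype.card F - 1 := by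
    rw [orderOf_eq_card_of_forall_mem_zpowers hg, Nat.card_units, Nat.card_eq_fintype_card]
  have hd : 2 ^ e ∣ Fintype.card F - 1 := pow_padicValNat_dvd
  have hne : Fintype.card F - 1 ≠ 0 := by have := Fintype.one_lt_card (α := F); omega
  have hε : orderOf (g ^ ((Fintype.card F - 1) / 2 ^ e)) = 2 ^ e := by
    rw [← hord] at hd hne ⊢
    exact orderOf_pow_orderOf_div hne hd
  refine ⟨_, hε, fun x hx => ?_⟩
  have hle : Subgroup.zpowers (g ^ ((Fintype.card F - 1) / 2 ^ e)) ≤ (powMonoidHom (2 ^ e) : Fˣ →* Fˣ).ker := by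
    rw [Subgroup.zpowers_le, MonoidHom.mem_ker, powMonoidHom_apply]
    exact orderOf_dvd_iff_pow_eq_one.1 (dvd_of_eq hε)
  rw [Subgroup.eq_of_le_of_card_ge hle (by
    rw [IsCyclic.card_powMonoidHom_ker, Nat.card_zpowers, hε]
    exact Nat.le_of_dvd (by positivity) (Nat.gcd_dvd_right _ _))]
  exact hx

/-- A Sylow 2-subgroup of `GL₂(q)` containing a suitable diagonal element. -/
theorem exists_Q (hF : Odd (Fintype.card F)) : ∃ (Q : Subgroup (GL (Fin 2) F)) (d : Q) (ε : Fˣ),
    orderOf ε = 2 ^ padicValNat 2 (Fintype.card F - 1) ∧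
    (d : GL (Fin 2) F).val = !![(ε : F), 0; 0, 1] ∧
    Nat.card Q = 2 ^ (padicValNat 2 (Fintype.card F - 1) + padicValNat 2 (Fintype.card F ^ 2 - 1)) ∧
    (∀ x : Q, Matrix.GeneralLinearGroup.det (x : GL (Fin 2) F) ∈ Subgroup.zpowers ε) ∧
    ∃ (T : Subgroup (SpecialLinearGroup (Fin 2) F)) (φ : T →* Q), SqComm T ∧
      (∀ t, Matrix.GeneralLinearGroup.det (φ t : GL (Fin 2) F) = 1) ∧
      ∀ x : Q, Matrix.GeneralLinearGroup.det (x : GL (Fin 2) F) = 1 → x ∈ φ.range := by
  classical
  obtain ⟨ε, hε, hsmall⟩ := exists_eps F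
  let d0 : GL (Fin 2) F := Matrix.GeneralLinearGroup.mkOfDetNeZero !![(ε : F), 0; 0, 1]
    (by simp [Matrix.det_fin_two_of])
  have hd0 : d0.val = !![(ε : F), 0; 0, 1] := rfl
  have hpow : ∀ k : ℕ, (d0 ^ k).val = !![(ε : F) ^ k, 0; 0, 1] := by
    intro k
    induction k with
    | zero => simp [Matrix.one_fin_two]
    | succ k ih => rw [pow_succ, Units.val_mul, ih, hd0]; simp [pow_succ]
  have hp : IsPGroup 2 (Subgroup.zpowers d0) := by
    have h1 : d0 ^ 2 ^ padicValNat 2 (Fintype.card F - 1) = 1 := by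
      apply Units.ext
      rw [hpow, ← hε, ← Units.val_pow_eq_pow_val, pow_orderOf_eq_one]
      simp [Matrix.one_fin_two]
    obtain ⟨j, -, hj⟩ := (Nat.dvd_prime_pow Nat.prime_two).1 (orderOf_dvd_of_pow_eq_one h1)
    exact IsPGroup.of_card (n := j) (by rw [Nat.card_zpowers, hj])
  obtain ⟨Q, hQ⟩ := hp.exists_le_sylow
  have hmem : d0 ∈ (Q : Subgroup (GL (Fin 2) F)) := hQ (Subgroup.mem_zpowers d0)
  have hcardQ : Nat.card (Q : Subgroup (GL (Fin 2) F)) =
      2 ^ (padicValNat 2 (Fintype.card F - 1) + padicValNat 2 (Fintype.card F ^ 2 - 1)) := by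
    rw [Q.card_eq_multiplicity, Nat.factorization_def _ Nat.prime_two]
    congr 1
    rw [LinGrp.natCard_GL_eq, Nat.card_eq_fintype_card (α := F),
      padicValNat.mul (by have := Fintype.one_lt_card (α := F); omega) Nat.card_pos.ne', val_card_SL2 hF]
  have hdet : ∀ x : (Q : Subgroup (GL (Fin 2) F)),
      Matrix.GeneralLinearGroup.det (x : GL (Fin 2) F) ∈ Subgroup.zpowers ε := by
    intro x
    obtain ⟨k, hk⟩ := Q.isPGroup' x
    set u := Matrix.GeneralLinearGroup.det (x : GL (Fin 2) F)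
    have h1 : orderOf u ∣ 2 ^ k := orderOf_dvd_of_pow_eq_one (by
      rw [← map_pow, ← Subgroup.coe_pow, hk, OneMemClass.coe_one, map_one])
    have h2 : orderOf u ∣ Fintype.card F - 1 := by
      rw [← Nat.card_eq_fintype_card, ← Nat.card_units]; exact orderOf_dvd_natCard u
    obtain ⟨j, -, hj⟩ := (Nat.dvd_prime_pow Nat.prime_two).1 h1
    refine hsmall u (orderOf_dvd_iff_pow_eq_one.1 ?_)
    rw [hj] at h2 ⊢
    exact pow_dvd_pow 2 ((padicValNat_dvd_iff_le (by have := Fintype.one_lt_card (α := F); omega)).1 h2)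
  refine ⟨_, ⟨d0, hmem⟩, ε, hε, hd0, hcardQ, hdet, ?_⟩
  let R : Subgroup (SpecialLinearGroup (Fin 2) F) := (Q : Subgroup (GL (Fin 2) F)).comap SpecialLinearGroup.toGL
  have hinj : Function.Injective (SpecialLinearGroup.toGL : SpecialLinearGroup (Fin 2) F →* GL (Fin 2) F) :=
    fun _ _ h => Subtype.ext (congrArg Units.val h :)
  have hR : IsPGroup 2 R := Q.2.comap_of_injective _ hinj
  obtain ⟨R', hR'⟩ := hR.exists_le_sylow
  have heq : (R' : Subgroup (SpecialLinearGroup (Fin 2) F)) = R := by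
    refine (Subgroup.eq_of_le_of_card_ge hR' ?_).symm
    let φ : (Q : Subgroup (GL (Fin 2) F)) →* Fˣ := Matrix.GeneralLinearGroup.det.comp (Subgroup.subtype _)
    have hk : Nat.card φ.ker = Nat.card R := by
      refine Nat.card_congr (Equiv.symm (Equiv.ofBijective
        (fun r : R => (⟨⟨SpecialLinearGroup.toGL r.1, r.2⟩, Units.ext r.1.2⟩ : φ.ker)) ⟨?_, ?_⟩))
      · exact fun a b h => Subtype.ext (hinj (congrArg (fun z => z.1.1) h :))
      · rintro ⟨⟨g, hg⟩, hk⟩
        have hd : g.val.det = 1 := congrArg Units.val (MonoidHom.mem_ker.1 hk :)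
        have hgg : SpecialLinearGroup.toGL (⟨g.val, hd⟩ : SpecialLinearGroup (Fin 2) F) = g := Units.ext rfl
        exact ⟨⟨⟨g.val, hd⟩, show SpecialLinearGroup.toGL _ ∈ _ from hgg.symm ▸ hg⟩,
          Subtype.ext (Subtype.ext (Units.ext rfl))⟩
    have h3 : φ.range ≤ Subgroup.zpowers ε := by rintro _ ⟨x, rfl⟩; exact hdet x
    have h4 := Subgroup.card_le_of_le h3
    rw [Nat.card_zpowers, hε] at h4
    have h5 := Subgroup.card_mul_index φ.ker
    rw [Subgroup.index_ker, hcardQ, hk] at h5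
    rw [R'.card_eq_multiplicity, Nat.factorization_def _ Nat.prime_two, val_card_SL2 hF]
    refine Nat.le_of_mul_le_mul_left ?_ (show 0 < 2 ^ padicValNat 2 (Fintype.card F - 1) by positivity)
    rw [← pow_add, ← h5, mul_comm (Nat.card R)]
    exact Nat.mul_le_mul_right _ h4
  refine ⟨(R' : Subgroup (SpecialLinearGroup (Fin 2) F)),
    (SpecialLinearGroup.toGL.comp (Subgroup.subtype _)).codRestrict _ (fun r => heq.le r.2),
    sylow_SL2_sqComm hF R', fun r => Units.ext r.1.2, fun x hx => ?_⟩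
  have hd : (x : GL (Fin 2) F).val.det = 1 := congrArg Units.val hx
  have hxx : SpecialLinearGroup.toGL (⟨(x : GL (Fin 2) F).val, hd⟩ : SpecialLinearGroup (Fin 2) F) = x :=
    Units.ext rfl
  exact ⟨⟨⟨_, hd⟩, heq.ge (show SpecialLinearGroup.toGL _ ∈ _ from hxx.symm ▸ x.2)⟩, Subtype.ext (Units.ext rfl)⟩

end Groups

end Cfsg.Agent.FGS.SqC
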