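/-
Sylow 2-subgroups of SL_n(q), q odd.
-/
import Cfsg.Agent.Lib.FGS.SylowTwoClassical

set_option autoImplicit false

namespace Cfsg.Agent.FGS.SqC

open Matrix

variable {F : Type*} [Field F]

/-- The matrices `diag(x, 1)`. -/
def dgl : Fˣ →* GL (Fin 2) F where
  toFun x := ⟨!![(x : F), 0; 0, 1], !![((x⁻¹ : Fˣ) : F), 0; 0, 1], by simp [Matrix.one_fin_two],
    by simp [Matrix.one_fin_two]⟩
  map_one' := by apply Units.ext; simp [Matrix.one_fin_two]
  map_mul' x y := by apply Units.ext; simp

theorem det_dgl (x : Fˣ) : Matrix.GeneralLinearGroup.det (dgl x) = x := by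
  apply Units.ext
  show Matrix.det !![(x : F), 0; 0, 1] = x
  simp [Matrix.det_fin_two_of]

variable {ι : Type*} [Fintype ι] [DecidableEq ι]

/-- Block diagonal elements of `GL`. -/
def blockGL (Q : Subgroup (GL (Fin 2) F)) : (ι → Q) →* GL (ι ⊕ ι) F :=
  MonoidHom.toHomUnits (Dm.comp
    { toFun := fun f k => (f k).1.1
      map_one' := rfl
      map_mul' := fun _ _ => rfl })

theorem coe_blockGL (Q : Subgroup (GL (Fin 2) F)) (f : ι → Q) :
    (blockGL Q f).1 = Dm fun k => (f k).1.1 := rfl

/-- Permutation elements of `GL`. -/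
def permGL (S : Subgroup (Equiv.Perm ι)) : S →* GL (ι ⊕ ι) F :=
  MonoidHom.toHomUnits ((Pm (F := F)).comp S.subtype)

theorem coe_permGL (S : Subgroup (Equiv.Perm ι)) (s : S) : ((permGL S s : GL (ι ⊕ ι) F)).1 = Pm s.1 := rfl

theorem permGL_blockGL (Q : Subgroup (GL (Fin 2) F)) (S : Subgroup (Equiv.Perm ι)) (s : S) (f : ι → Q) :
    permGL S s * blockGL Q f = blockGL Q (fun k => f (s.1.symm k)) * permGL S s :=
  Units.ext (Pm_Dm s.1 fun k => (f k).1.1)

theorem blockGL_permGL_eq_one (Q : Subgroup (GL (Fin 2) F)) (S : Subgroup (Equiv.Perm ι)) {f : ι → Q} {s : S}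
    (h : blockGL Q f * permGL S s = 1) : f = 1 ∧ s = 1 := by
  obtain ⟨a, b⟩ := Dm_Pm_eq_one (congrArg Units.val h :)
  exact ⟨funext fun k => Subtype.ext (Units.ext (congrFun a k)), Subtype.ext b⟩

/-- Append the inverse determinant. -/
def extendSL : GL ι F →* SpecialLinearGroup (ι ⊕ Unit) F where
  toFun g := ⟨fromBlocks g.1 0 0 (diagonal fun _ => ((Matrix.GeneralLinearGroup.det g)⁻¹ : Fˣ)), by
    rw [det_fromBlocks_zero₁₂, det_diagonal, Fintype.prod_unique]
    exact Units.mul_inv (Matrix.GeneralLinearGroup.det g)⟩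
  map_one' := by apply Subtype.ext; simp [fromBlocks_one]
  map_mul' g h := by
    apply Subtype.ext
    show _ = fromBlocks g.1 0 0 _ * fromBlocks h.1 0 0 _
    simp [fromBlocks_multiply, mul_comm]

theorem extendSL_injective : Function.Injective (extendSL (ι := ι) (F := F)) := fun g h e => by
  have h1 : (fromBlocks g.1 0 0 _).toBlocks₁₁ = (fromBlocks h.1 0 0 _).toBlocks₁₁ :=
    congrArg toBlocks₁₁ (congrArg Subtype.val e)
  rw [toBlocks_fromBlocks₁₁, toBlocks_fromBlocks₁₁] at h1
  exact Units.ext h1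

variable [Fintype F]

theorem special_odd_sqComm (hF : Odd (Fintype.card F)) (hq : 4 ∣ Fintype.card F + 1) (m : ℕ)
    (P : Sylow 2 (SpecialLinearGroup (Fin (2 * m + 1)) F)) :
    SqComm (P : Subgroup (SpecialLinearGroup (Fin (2 * m + 1)) F)) := by
  classical
  obtain ⟨Q, d, ε, hε, hd, hcardQ, hdet, T, φ, hT, hφ1, hφ⟩ := exists_Q hF
  have he : padicValNat 2 (Fintype.card F - 1) = 1 := by
    obtain ⟨c, hc⟩ : ∃ c, Fintype.card F = 4 * c + 3 := by
      obtain ⟨k, hk⟩ := hq; exact ⟨k - 1, by omega⟩
    rw [show Fintype.card F - 1 = 2 * (2 * c + 1) by omega, padicValNat.mul (by norm_num) (by omega),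
      padicValNat.self one_lt_two, padicValNat.eq_zero_of_not_dvd (by omega)]
  rw [he, pow_one] at hε
  have hd2 : d * d = 1 := by
    refine Subtype.ext (Units.ext ?_)
    have h1 : (ε : F) * ε = 1 := by
      rw [← Units.val_mul, ← sq, ← hε, pow_orderOf_eq_one, Units.val_one]
    rw [Subgroup.coe_mul, Units.val_mul, hd]
    simp [Matrix.one_fin_two, h1]
  let S : Sylow 2 (Equiv.Perm (Fin m)) := default
  let e : (Fin m ⊕ Fin m) ⊕ Unit ≃ Fin (2 * m + 1) := Fintype.equivFinOfCardEq (by simp; ring)
  obtain ⟨ψ, hψ⟩ : ∃ ψ : GL (Fin m ⊕ Fin m) F →* SpecialLinearGroup (Fin (2 * m + 1)) F, Function.Injective ψ :=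
    ⟨(slHom e).comp extendSL, fun x y h => extendSL_injective (slHom_injective e h)⟩
  refine block_sylow (ψ.comp (blockGL Q)) (ψ.comp (permGL (S : Subgroup (Equiv.Perm (Fin m)))))
    (fun s f => ⟨fun k => f (s.1.symm k), ?_⟩) (fun f s h => ?_) ?_ (sqComm_sylow_perm S)
    (fun H i' j' _ _ f => ?_) P
  · rw [mul_inv_eq_iff_eq_mul, MonoidHom.comp_apply, MonoidHom.comp_apply, MonoidHom.comp_apply, ← map_mul,
      ← map_mul, permGL_blockGL]
  · rw [MonoidHom.comp_apply, MonoidHom.comp_apply, ← map_mul] at h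
    exact blockGL_permGL_eq_one _ _ (hψ (h.trans (map_one ψ).symm))
  · rw [Nat.card_fun, hcardQ, card_perm_sylow, Fintype.card_fin, Nat.card_eq_fintype_card, Fintype.card_fin,
      ← pow_mul, ← pow_add]
    congr 1
    have h1 := val_card_SL (F := F) hF (n := 2 * m + 1) (by omega)
    have h2 := (val_prod (Fintype.one_lt_card (α := F)) hF m).2
    rw [add_mul, mul_comm _ m, mul_comm _ m]
    rw [add_mul, one_mul] at h2
    omega
  · have hsplit : ∀ k, ∃ g : Q, g ∈ φ.range ∧ (f k = g ∨ f k = g * d) := by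
      intro k
      have hdd : Matrix.GeneralLinearGroup.det (d : GL (Fin 2) F) = ε := by
        apply Units.ext
        show (d : GL (Fin 2) F).val.det = ε
        rw [hd]; simp [Matrix.det_fin_two_of]
      have hε2 : ε * ε = 1 := by rw [← sq, ← hε, pow_orderOf_eq_one]
      obtain ⟨n, hn⟩ := Subgroup.mem_zpowers_iff.1 (hdet (f k))
      rw [← zpow_mod_orderOf, hε] at hn
      rcases Int.emod_two_eq n with h0 | h0
      · push_cast at hn; rw [h0, zpow_zero] at hn
        exact ⟨f k, hφ _ hn.symm, Or.inl rfl⟩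
      · push_cast at hn; rw [h0, zpow_one] at hn
        refine ⟨f k * d, hφ _ ?_, Or.inr (by rw [mul_assoc, hd2, mul_one])⟩
        rw [Subgroup.coe_mul, map_mul, ← hn, hdd, hε2]
    refine (Subgroup.pi_mem_of_mulSingle_mem (H := (sqSub H).comap i') f fun k => ?_ :)
    rw [Subgroup.mem_comap]
    have hsingle : ∀ g ∈ φ.range, i' (Pi.mulSingle k g) ∈ sqSub H := by
      rintro _ ⟨t, rfl⟩
      exact hom_sqSub (i'.comp ((MonoidHom.mulSingle (fun _ : Fin m => ↥Q) k).comp φ)) hT t
    have hdmem : i' (Pi.mulSingle k d) ∈ sqSub H :=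
      sqSub_of_invol (by rw [← map_mul, ← Pi.mulSingle_mul, hd2, Pi.mulSingle_one, map_one])
    obtain ⟨g, hg, e1 | e1⟩ := hsplit k <;> rw [e1]
    · exact hsingle g hg
    · rw [Pi.mulSingle_mul, map_mul]; exact mul_mem (hsingle g hg) hdmem

/-- The pair element `x` at `a`, `x⁻¹` at `b`. -/
def pairEl {W : Type*} [CommGroup W] (a b : ι) (x : W) : ι → W := Pi.mulSingle a x * Pi.mulSingle b x⁻¹

set_option maxHeartbeats 1600000 in
theorem special_even_sqComm (hF : Odd (Fintype.card F)) {m : ℕ} (hm : 1 ≤ m)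
    (hq : 4 ∣ Fintype.card F + 1 ∨ (4 ∣ Fintype.card F - 1 ∧ ∃ j : ℕ, m = 2 ^ j))
    (P : Sylow 2 (SpecialLinearGroup (Fin (2 * m)) F)) :
    SqComm (P : Subgroup (SpecialLinearGroup (Fin (2 * m)) F)) := by
  classical
  obtain ⟨Q, d, ε, hε, hd, hcardQ, hdet, T, φ, hT, hφ1, hφ⟩ := exists_Q hF
  set W := Subgroup.zpowers ε
  let detQ : Q →* W := (Matrix.GeneralLinearGroup.det.comp Q.subtype).codRestrict W hdet
  have hdgl : ∀ w : W, dgl w.1 ∈ Q := by
    rintro ⟨w, hw⟩
    obtain ⟨n, rfl⟩ := Subgroup.mem_zpowers_iff.1 hw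
    have : dgl ε = (d : GL (Fin 2) F) := Units.ext hd.symm
    show dgl (ε ^ n) ∈ Q
    rw [map_zpow, this]
    exact zpow_mem d.2 n
  let δ : W →* Q := (dgl.comp W.subtype).codRestrict Q hdgl
  have hdδ : ∀ w : W, detQ (δ w) = w := fun w => Subtype.ext (det_dgl w.1)
  let pr : (Fin m → Q) →* W :=
    { toFun := fun f => ∏ k, detQ (f k)
      map_one' := by simp
      map_mul' := fun f g => by simp [Finset.prod_mul_distrib] }
  have hprδ : ∀ (k : Fin m) (w : W), pr (Pi.mulSingle k (δ w)) = w := fun k w => by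
    show ∏ k', detQ ((Pi.mulSingle k (δ w) : Fin m → Q) k') = w
    rw [Finset.prod_eq_single k (fun k' _ hk' => by rw [Pi.mulSingle_eq_of_ne hk', map_one]) (by simp),
      Pi.mulSingle_eq_same, hdδ]
  let k0 : Fin m := ⟨0, hm⟩
  let S : Sylow 2 (Equiv.Perm (Fin m)) := default
  let e : Fin m ⊕ Fin m ≃ Fin (2 * m) := Fintype.equivFinOfCardEq (by simp; ring)
  have hdetblock : ∀ f : pr.ker, (blockGL Q f.1).1.det = 1 := by
    intro f
    rw [coe_blockGL, det_Dm]
    have h1 : ((((pr f.1 : W) : Fˣ) : F)) = 1 := by rw [MonoidHom.mem_ker.1 f.2]; rfl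
    refine Eq.trans ?_ h1
    show _ = ((((∏ k, detQ (f.1 k)) : W) : Fˣ) : F)
    rw [SubmonoidClass.coe_finsetProd, Units.coe_prod]
    rfl
  let iN : pr.ker →* SpecialLinearGroup (Fin m ⊕ Fin m) F :=
    { toFun := fun f => ⟨(blockGL Q f.1).1, hdetblock f⟩
      map_one' := Subtype.ext (by simp)
      map_mul' := fun f g => Subtype.ext (congrArg Units.val (map_mul (blockGL Q) f.1 g.1)) }
  let jS : (S : Subgroup (Equiv.Perm (Fin m))) →* SpecialLinearGroup (Fin m ⊕ Fin m) F :=
    { toFun := fun s => ⟨Pm s.1, det_Pm _⟩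
      map_one' := Subtype.ext (map_one Pm)
      map_mul' := fun s t => Subtype.ext (map_mul Pm s.1 t.1) }
  have hperm : ∀ (s : Equiv.Perm (Fin m)) (f : Fin m → Q), pr (fun k => f (s.symm k)) = pr f := fun s f =>
    Equiv.prod_comp s.symm fun k => detQ (f k)
  have hnorm : ∀ (s : (S : Subgroup (Equiv.Perm (Fin m)))) (n : pr.ker),
      jS s * iN n = iN ⟨fun k => n.1 (s.1.symm k), by rw [MonoidHom.mem_ker, hperm]; exact n.2⟩ * jS s :=
    fun s n => Subtype.ext (Pm_Dm s.1 fun k => (n.1 k).1.1)
  refine block_sylow ((slHom e).comp iN) ((slHom e).comp jS)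
    (fun s f => ⟨⟨fun k => f.1 (s.1.symm k), by rw [MonoidHom.mem_ker, hperm]; exact f.2⟩, ?_⟩) (fun f s h => ?_) ?_
    (sqComm_sylow_perm S) (fun H i' j' hi' hj' f => ?_) P
  · rw [mul_inv_eq_iff_eq_mul, MonoidHom.comp_apply, MonoidHom.comp_apply, MonoidHom.comp_apply, ← map_mul,
      ← map_mul, hnorm]
  · rw [MonoidHom.comp_apply, MonoidHom.comp_apply, ← map_mul] at h
    have h2 := slHom_injective e (h.trans (map_one (slHom e)).symm)
    obtain ⟨a, b⟩ := Dm_Pm_eq_one (congrArg Subtype.val h2 :)
    exact ⟨Subtype.ext (funext fun k => Subtype.ext (Units.ext (congrFun a k))), Subtype.ext b⟩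
  · have h1 := Subgroup.card_mul_index pr.ker
    rw [Subgroup.index_ker, MonoidHom.range_eq_top.2 fun w => ⟨_, hprδ k0 w⟩, Subgroup.card_top,
      Nat.card_fun, hcardQ, Nat.card_eq_fintype_card (α := Fin m), Fintype.card_fin, ← pow_mul, Nat.card_zpowers,
      hε] at h1
    rw [card_perm_sylow, Fintype.card_fin]
    refine Nat.eq_of_mul_eq_mul_right (show 0 < 2 ^ padicValNat 2 (Fintype.card F - 1) by positivity) ?_
    rw [mul_right_comm, h1, ← pow_add, ← pow_add]
    congr 1
    have h2 := val_card_SL (F := F) hF (n := 2 * m) (by omega)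
    have h3 := (val_prod (Fintype.one_lt_card (α := F)) hF m).1
    rw [add_mul, mul_comm _ m, mul_comm _ m]
    omega
  · let η : (ι' : Fin m → W) → (∏ k, ι' k = 1) → pr.ker := fun w hw => ⟨fun k => δ (w k), by
      show ∏ k, detQ (δ (w k)) = 1
      simp only [hdδ, hw]⟩
    have hpair : ∀ (a b : Fin m) (x : W), ∏ k, pairEl a b x k = 1 := fun a b x => by
      simp [pairEl, Finset.prod_mul_distrib]
    let R : Fin m → Fin m → Prop := fun a b => ∀ x, i' (η (pairEl a b x) (hpair a b x)) ∈ sqSub H
    have η_mul : ∀ u v hu hv huv, η u hu * η v hv = η (u * v) huv := fun u v hu hv huv =>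
      Subtype.ext (funext fun k => (map_mul δ (u k) (v k)).symm)
    have hrefl : ∀ a, R a a := fun a x => by
      have : η (pairEl a a x) (hpair a a x) = 1 :=
        Subtype.ext (funext fun k => by
          show δ (pairEl a a x k) = 1
          rw [show pairEl a a x = 1 by simp only [pairEl, ← Pi.mulSingle_mul, mul_inv_cancel, Pi.mulSingle_one],
            Pi.one_apply, map_one])
      rw [this, map_one]; exact one_mem _
    have hRtrans : ∀ {a b c}, R a b → R b c → R a c := fun {a b c} h1 h2 x => by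
      have h12 : pairEl a b x * pairEl b c x = pairEl a c x := by
        simp only [pairEl]
        rw [mul_assoc, ← mul_assoc (Pi.mulSingle b x⁻¹ : Fin m → W), ← Pi.mulSingle_mul, inv_mul_cancel,
          Pi.mulSingle_one, one_mul]
      have : η (pairEl a c x) (hpair a c x) =
          η (pairEl a b x) (hpair a b x) * η (pairEl b c x) (hpair b c x) :=
        Subtype.ext (funext fun k => by
          show δ (pairEl a c x k) = δ (pairEl a b x k) * δ (pairEl b c x k)
          rw [← map_mul, ← Pi.mul_apply, h12])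
      rw [this, map_mul]; exact mul_mem (h1 x) (h2 x)
    have hR : ∀ a b, R a b := by
      rcases hq with hq | ⟨-, j, hj⟩
      · intro a b x
        refine sqSub_of_invol ?_
        have he : padicValNat 2 (Fintype.card F - 1) = 1 := by
          obtain ⟨c, hc⟩ : ∃ c, Fintype.card F = 4 * c + 3 := by
            obtain ⟨k, hk⟩ := hq; exact ⟨k - 1, by omega⟩
          rw [show Fintype.card F - 1 = 2 * (2 * c + 1) by omega, padicValNat.mul (by norm_num) (by omega),
            padicValNat.self one_lt_two, padicValNat.eq_zero_of_not_dvd (by omega)]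
        have hx : x * x = 1 := by
          have h1 : orderOf x ∣ Nat.card W := orderOf_dvd_natCard x
          rw [Nat.card_zpowers, hε, he, pow_one] at h1
          rw [← sq]; exact orderOf_dvd_iff_pow_eq_one.1 h1
        have : η (pairEl a b x) (hpair a b x) * η (pairEl a b x) (hpair a b x) = 1 := by
          refine Subtype.ext (funext fun k => ?_)
          show δ (pairEl a b x k) * δ (pairEl a b x k) = 1
          rw [← map_mul, ← Pi.mul_apply,
            show pairEl a b x * pairEl a b x = 1 by
              simp only [pairEl]; rw [mul_mul_mul_comm, ← Pi.mulSingle_mul, ← Pi.mulSingle_mul, ← mul_inv, hx]; simp,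
            Pi.one_apply, map_one]
        rw [← map_mul, this, map_one]
      · have inv_step : ∀ s : Equiv.Perm (Fin m), s ∈ (S : Subgroup (Equiv.Perm (Fin m))) → s * s = 1 →
            ∀ a, R a (s a) := by
          intro s hs hss a x
          refine sqSub_of_inverted (s := j' ⟨s, hs⟩) ?_
          have hsym : s.symm = s := inv_eq_of_mul_eq_one_right hss
          have e1 : jS ⟨s, hs⟩ * iN (η (pairEl a (s a) x) (hpair a (s a) x)) =
              iN (η (pairEl a (s a) x) (hpair a (s a) x))⁻¹ * jS ⟨s, hs⟩ := by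
            rw [hnorm]
            congr 2
            refine Subtype.ext (funext fun k => ?_)
            show δ (pairEl a (s a) x (s.symm k)) = (δ (pairEl a (s a) x k))⁻¹
            rw [← map_inv, hsym]
            congr 1
            simp only [pairEl, Pi.mul_apply, Pi.mulSingle_apply]
            have c1 : s k = a ↔ k = s a := ⟨fun h => by rw [← h]; exact (DFunLike.congr_fun hss k).symm,
              fun h => by rw [h]; exact DFunLike.congr_fun hss a⟩
            simp only [c1, s.apply_eq_iff_eq]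
            split_ifs <;> simp [mul_comm]
          refine mul_inv_eq_of_eq_mul (Subtype.ext ?_)
          rw [← map_inv i', Subgroup.coe_mul, Subgroup.coe_mul, hi', hi', hj', MonoidHom.comp_apply,
            MonoidHom.comp_apply, MonoidHom.comp_apply, ← map_mul, ← map_mul, e1]
        intro a b
        obtain ⟨σ, hσ, rfl⟩ := sylow_transitive S (by rw [Fintype.card_fin, hj]) a b
        have h1 := invGen_sylow S hσ
        clear hσ
        induction h1 using Subgroup.closure_induction generalizing a with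
        | mem s hs => exact inv_step s hs.1 hs.2 a
        | one => exact hrefl a
        | mul s t _ _ ih1 ih2 => exact hRtrans (ih2 a) (ih1 (t a))
        | inv s _ ih =>
          intro x
          have h := ih (s⁻¹ a) x⁻¹
          rw [show s (s⁻¹ a) = a from s.apply_symm_apply a] at h
          have e : pairEl a (s⁻¹ a) x = pairEl (s⁻¹ a) a x⁻¹ := by simp [pairEl, mul_comm]
          simp only [e]
          exact h
    let u : Fin m → W := fun k => detQ (f.1 k)
    have hu : ∏ k, u k = 1 := MonoidHom.mem_ker.1 f.2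
    let g : pr.ker := η u hu
    have hfg : i' (f * g⁻¹) ∈ sqSub H := by
      have hT' : ∀ k, (f * g⁻¹).1 k ∈ φ.range := fun k => hφ _ (by
        have : detQ ((f * g⁻¹).1 k) = 1 := by
          show detQ (f.1 k * (δ (u k))⁻¹) = 1
          rw [map_mul, map_inv, hdδ, mul_inv_cancel]
        exact congrArg Subtype.val this)
      choose t ht using hT'
      let χ : (Fin m → T) →* pr.ker :=
        MonoidHom.codRestrict
          { toFun := fun v k => φ (v k)
            map_one' := funext fun _ => map_one φ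
            map_mul' := fun v w => funext fun k => map_mul φ (v k) (w k) } _ (fun v => by
          show ∏ k, detQ (φ (v k)) = 1
          refine Finset.prod_eq_one fun k _ => Subtype.ext ?_
          exact hφ1 (v k))
      rw [show f * g⁻¹ = χ t from Subtype.ext (funext fun k => (ht k).symm)]
      exact single_gen (i'.comp χ) hT t
    have hg : i' g ∈ sqSub H := by
      have hall : ∀ s : Finset (Fin m), ∃ hw : ∏ k', (∏ k ∈ s, pairEl k k0 (u k)) k' = 1,
          i' (η (∏ k ∈ s, pairEl k k0 (u k)) hw) ∈ sqSub H := by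
        intro s
        induction s using Finset.induction_on with
        | empty =>
          refine ⟨by simp, ?_⟩
          rw [show η (∏ k ∈ (∅ : Finset (Fin m)), pairEl k k0 (u k)) (by simp) = 1 from
            Subtype.ext (funext fun k => by simp [η]), map_one]
          exact one_mem _
        | insert k s hk ih =>
          obtain ⟨hw, ih⟩ := ih
          rw [Finset.prod_insert hk]
          have huv : ∏ j, (pairEl k k0 (u k) * ∏ k ∈ s, pairEl k k0 (u k)) j = 1 := by
            simp only [Pi.mul_apply]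
            rw [Finset.prod_mul_distrib, hpair, hw, one_mul]
          refine ⟨huv, ?_⟩
          rw [← η_mul _ _ (hpair k k0 (u k)) hw huv, map_mul]
          exact mul_mem (hR k k0 (u k)) ih
      obtain ⟨hw, h⟩ := hall Finset.univ
      have he : ∏ k, pairEl k k0 (u k) = u := by
        have h1 : ∏ k, (Pi.mulSingle k0 (u k)⁻¹ : Fin m → W) = 1 := by
          have := map_prod (MonoidHom.mulSingle (fun _ : Fin m => W) k0) (fun k => (u k)⁻¹) Finset.univ
          rw [show (∏ k, (Pi.mulSingle k0 (u k)⁻¹ : Fin m → W)) = _ from this.symm, Finset.prod_inv_distrib, hu,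
            inv_one, map_one]
        simp only [pairEl]
        rw [Finset.prod_mul_distrib, h1, mul_one, Finset.univ_prod_mulSingle]
      have hgu : g = η (∏ k, pairEl k k0 (u k)) hw := Subtype.ext (funext fun k => by show δ (u k) = δ _; rw [he])
      rw [hgu]; exact h
    have := mul_mem hfg hg
    rwa [← map_mul, inv_mul_cancel_right] at this

end Cfsg.Agent.FGS.SqC
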