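/-
Groups with class sizes `{1, m, m * n}`, `m` and `n` coprime: basic tools and the proof that `m` is
a prime power.
-/
import Mathlib
import Cfsg.Agent.Lib.Basics.CoprimeAction
import Cfsg.Agent.Lib.FGB.Basic
import Cfsg.Agent.Lib.InvChar.Basics
import Cfsg.Agent.Lib.Transfer.Residual

set_option autoImplicit false
set_option linter.all false

namespace Cfsg.Agent.FGS.ThreeSizes

open Subgroup
open scoped Pointwise

universe u

variable {G : Type u} [Group G] [Finite G] {m n p q r : ℕ}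

/-- The centraliser of an element. -/
abbrev cz (g : G) : Subgroup G := centralizer ({g} : Set G)

/-- An element of `p`-power order. -/
def PEl (p : ℕ) (g : G) : Prop := ∃ k, orderOf g ∣ p ^ k

/-- The exponent of `p` in the order of a subgroup. -/
noncomputable def nu (p : ℕ) (H : Subgroup G) : ℕ := (Nat.card H).factorization p

theorem mem_cz {g x : G} : x ∈ cz g ↔ Commute x g := mem_centralizer_singleton_iff

theorem center_le_cz (g : G) : center G ≤ cz g := fun _ hx =>
  mem_cz.2 ((mem_center_iff.1 hx g).symm)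

theorem cz_central_mul {c : G} (hc : c ∈ center G) (g : G) : cz (c * g) = cz g := by
  ext y
  have hy : Commute y c := mem_center_iff.1 hc y
  rw [mem_cz, mem_cz]
  refine ⟨fun h => ?_, fun h => hy.mul_right h⟩
  simpa [← mul_assoc] using hy.inv_right.mul_right h

theorem cz_conj (x g : G) : cz (x * g * x⁻¹) = MulAut.conj x • cz g := by
  ext y
  rw [Basics.mem_conj_smul, mem_cz, mem_cz]
  constructor
  · intro h
    show x⁻¹ * y * x * g = g * (x⁻¹ * y * x)
    calc x⁻¹ * y * x * g = x⁻¹ * (y * (x * g * x⁻¹)) * x := by group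
      _ = x⁻¹ * (x * g * x⁻¹ * y) * x := by rw [h.eq]
      _ = g * (x⁻¹ * y * x) := by group
  · intro h
    show y * (x * g * x⁻¹) = x * g * x⁻¹ * y
    calc y * (x * g * x⁻¹) = x * (x⁻¹ * y * x * g) * x⁻¹ := by group
      _ = x * (g * (x⁻¹ * y * x)) * x⁻¹ := by rw [h.eq]
      _ = x * g * x⁻¹ * y := by group

theorem index_cz_conj (x g : G) : (cz (x * g * x⁻¹)).index = (cz g).index := by
  have h1 := card_mul_index (cz (x * g * x⁻¹))
  rw [← card_mul_index (cz g), cz_conj, Basics.card_conj_smul, ← cz_conj] at h1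
  exact Nat.eq_of_mul_eq_mul_left Nat.card_pos h1

theorem nu_cz_conj (x g : G) : nu p (cz (x * g * x⁻¹)) = nu p (cz g) := by
  rw [nu, cz_conj, Basics.card_conj_smul]; rfl

theorem commute_conj {a b : G} (x : G) (h : Commute a b) :
    Commute (x * a * x⁻¹) (x * b * x⁻¹) := by
  simpa using h.map (MulAut.conj x)

theorem PEl.conj {g : G} (h : PEl p g) (x : G) : PEl p (x * g * x⁻¹) := by
  obtain ⟨k, hk⟩ := h
  exact ⟨k, by rwa [show x * g * x⁻¹ = MulAut.conj x g from rfl, MulEquiv.orderOf_eq]⟩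

theorem coprime_conj {g : G} (h : (orderOf g).Coprime p) (x : G) :
    (orderOf (x * g * x⁻¹)).Coprime p := by
  rwa [show x * g * x⁻¹ = MulAut.conj x g from rfl, MulEquiv.orderOf_eq]

theorem pel_of_mem [hp : Fact p.Prime] {S : Subgroup G} (hS : IsPGroup p S) {g : G} (hg : g ∈ S) :
    PEl p g := by
  obtain ⟨k, hk⟩ := IsPGroup.iff_orderOf.1 hS ⟨g, hg⟩
  exact ⟨k, by rw [← hk, orderOf_mk]⟩

theorem isPGroup_zpowers [hp : Fact p.Prime] {g : G} (h : PEl p g) : IsPGroup p (zpowers g) := by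
  obtain ⟨k, hk⟩ := h
  obtain ⟨j, -, hj⟩ := (Nat.dvd_prime_pow hp.out).1 hk
  exact IsPGroup.of_card (n := j) (by rw [Nat.card_zpowers, hj])

theorem PEl.coprime [hq : Fact q.Prime] {g : G} (h : PEl q g) (hp : p.Prime) (hne : q ≠ p) :
    (orderOf g).Coprime p := by
  obtain ⟨k, hk⟩ := h
  exact Nat.Coprime.coprime_dvd_left hk
    (((Nat.coprime_primes hq.out hp).2 hne).pow_left k)

theorem PEl.mul {a b : G} (ha : PEl p a) (hb : PEl p b) (h : Commute a b) : PEl p (a * b) := by
  obtain ⟨i, hi⟩ := ha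
  obtain ⟨j, hj⟩ := hb
  exact ⟨i + j, h.orderOf_mul_dvd_mul_orderOf.trans (by rw [pow_add]; exact Nat.mul_dvd_mul hi hj)⟩

theorem PEl.inv {a : G} (ha : PEl p a) : PEl p a⁻¹ := by
  obtain ⟨i, hi⟩ := ha
  exact ⟨i, by rwa [orderOf_inv]⟩

/-! ### `nu` -/

theorem nu_mono {H K : Subgroup G} (h : H ≤ K) : nu p H ≤ nu p K :=
  (Nat.factorization_le_iff_dvd Nat.card_pos.ne' Nat.card_pos.ne').2 (card_dvd_of_le h) p

theorem nu_top : nu p (⊤ : Subgroup G) = (Nat.card G).factorization p := by rw [nu, card_top]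

theorem nu_add_index (H : Subgroup G) :
    nu p H + H.index.factorization p = (Nat.card G).factorization p := by
  rw [← card_mul_index H, Nat.factorization_mul Nat.card_pos.ne' index_ne_zero_of_finite]
  rfl

theorem card_pGroup_le [hp : Fact p.Prime] {S H : Subgroup G} (hS : IsPGroup p S) (hle : S ≤ H) :
    Nat.card S ≤ p ^ nu p H := by
  obtain ⟨j, hj⟩ := hS.exists_card_eq
  rw [hj]
  exact Nat.pow_le_pow_right hp.out.pos ((hp.out.pow_dvd_iff_le_factorization Nat.card_pos.ne').1
    (hj ▸ card_dvd_of_le hle))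

theorem exists_sylowIn_ge [hp : Fact p.Prime] {S K : Subgroup G} (hS : IsPGroup p S) (hSK : S ≤ K) :
    ∃ T : Subgroup G, Basics.IsSylowIn p K T ∧ S ≤ T := by
  obtain ⟨P, hP⟩ := (hS.comap_subtype (K := K)).exists_le_sylow
  exact ⟨_, Basics.isSylowIn_map P, fun s hs => ⟨⟨s, hSK hs⟩, hP hs, rfl⟩⟩

theorem exists_pel_not_mem [hp : Fact p.Prime] {H K : Subgroup G}
    (h : nu p (H ⊓ K) < nu p H) : ∃ z ∈ H, PEl p z ∧ z ∉ K := by
  by_contra hno
  push Not at hno
  obtain ⟨T, hT, -⟩ := exists_sylowIn_ge (p := p) IsPGroup.of_bot (bot_le : ⊥ ≤ H)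
  have hle : T ≤ H ⊓ K := fun t ht => mem_inf.2 ⟨hT.1 ht, hno t (hT.1 ht) (pel_of_mem hT.isPGroup ht)⟩
  have h1 := card_pGroup_le hT.isPGroup hle
  rw [hT.2] at h1
  exact absurd ((Nat.pow_le_pow_iff_right hp.out.one_lt).1 h1) (not_le.2 h)

theorem exists_noncentral [hp : Fact p.Prime] {H : Subgroup G}
    (h : nu p (center G) < nu p H) : ∃ z ∈ H, PEl p z ∧ z ∉ center G :=
  exists_pel_not_mem ((nu_mono inf_le_right).trans_lt h)

theorem le_of_pel {H K : Subgroup G}
    (h : ∀ q : ℕ, q.Prime → ∀ w ∈ H, PEl q w → w ∈ K) : H ≤ K := by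
  have e : H ⊓ K = H := by
    refine eq_of_le_of_card_ge inf_le_left (le_of_eq ?_)
    refine Nat.eq_of_factorization_eq Nat.card_pos.ne' Nat.card_pos.ne' fun q => ?_
    by_cases hq : q.Prime
    · haveI := Fact.mk hq
      refine le_antisymm (not_lt.1 fun hlt => ?_) (nu_mono inf_le_left)
      obtain ⟨z, hz, hzq, hzK⟩ := exists_pel_not_mem hlt
      exact hzK (h q hq z hz hzq)
    · rw [Nat.factorization_eq_zero_of_not_prime _ hq, Nat.factorization_eq_zero_of_not_prime _ hq]
  exact e ▸ inf_le_right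

theorem normal_of_le_center {S : Subgroup G} (h : S ≤ center G) : S.Normal := by
  refine ⟨fun s hs x => ?_⟩
  rw [mem_center_iff.1 (h hs) x, mul_inv_cancel_right]
  exact hs

/-- A normal `p`-subgroup lies in every Sylow subgroup of a subgroup containing it. -/
theorem le_sylowIn [hp : Fact p.Prime] {N K T : Subgroup G} [N.Normal] (hN : IsPGroup p N)
    (hNK : N ≤ K) (hT : Basics.IsSylowIn p K T) : N ≤ T := by
  have h1 : IsPGroup p (T ⊔ N : Subgroup G) := hT.isPGroup.to_sup_of_normal_right hN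
  have h2 := card_pGroup_le h1 (sup_le hT.1 hNK)
  rw [nu, ← hT.2] at h2
  exact le_sup_right.trans (eq_of_le_of_card_ge le_sup_left h2).ge

theorem card_inf_center [hp : Fact p.Prime] {K T : Subgroup G} (hK : center G ≤ K)
    (hT : Basics.IsSylowIn p K T) : Nat.card (T ⊓ center G : Subgroup G) = p ^ nu p (center G) := by
  obtain ⟨S, hS, -⟩ := exists_sylowIn_ge (p := p) IsPGroup.of_bot (bot_le : ⊥ ≤ center G)
  haveI := normal_of_le_center hS.1
  have h1 : S ≤ T ⊓ center G := le_inf (le_sylowIn hS.isPGroup (hS.1.trans hK) hT) hS.1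
  refine le_antisymm (card_pGroup_le (hT.isPGroup.to_le inf_le_left) inf_le_right) ?_
  exact hS.2.symm.le.trans (card_le_of_le h1)

theorem nu_center_lt [hp : Fact p.Prime] {H : Subgroup G} {z : G} (hH : center G ≤ H)
    (hz : z ∈ H) (hzp : PEl p z) (hzc : z ∉ center G) : nu p (center G) < nu p H := by
  obtain ⟨T, hT, hzT⟩ := exists_sylowIn_ge (isPGroup_zpowers hzp) (zpowers_le.2 hz)
  have h1 := card_inf_center hH hT
  have hlt : T ⊓ center G < T :=
    lt_of_le_of_ne inf_le_left fun he => hzc (mem_inf.1 (he.ge (hzT (mem_zpowers z)))).2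
  have h2 := Basics.card_lt_of_lt hlt
  rw [h1, hT.2] at h2
  exact (Nat.pow_lt_pow_iff_right hp.out.one_lt).1 h2

/-! ### coprime products -/

theorem commute_parts [hp : Fact p.Prime] {z v c : G} (h : Commute z v) (hz : PEl p z)
    (hv : (orderOf v).Coprime p) (hc : Commute c (z * v)) : Commute c z ∧ Commute c v := by
  obtain ⟨k, hk⟩ := hz
  obtain ⟨j, hj⟩ := exists_pow_eq_self_of_coprime (n := orderOf v) (x := z)
    (Nat.Coprime.coprime_dvd_right hk (hv.pow_right k))
  have h1 : Commute c ((z * v) ^ orderOf v) := hc.pow_right _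
  rw [h.mul_pow, pow_orderOf_eq_one, mul_one] at h1
  have h2 : Commute c z := by
    have := h1.pow_right j
    rwa [hj] at this
  refine ⟨h2, ?_⟩
  simpa using h2.inv_right.mul_right hc

theorem cz_mul_eq [hp : Fact p.Prime] {z v : G} (h : Commute z v) (hz : PEl p z)
    (hv : (orderOf v).Coprime p) : cz (z * v) = cz z ⊓ cz v := by
  ext c
  rw [mem_inf, mem_cz, mem_cz, mem_cz]
  exact ⟨fun hc => commute_parts h hz hv hc, fun hc => hc.1.mul_right hc.2⟩

theorem mul_not_center [hp : Fact p.Prime] {z v : G} (h : Commute z v) (hz : PEl p z)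
    (hv : (orderOf v).Coprime p) (hc : z ∉ center G ∨ v ∉ center G) : z * v ∉ center G := by
  intro hzv
  have := fun y : G => commute_parts (c := y) h hz hv (mem_center_iff.1 hzv y)
  rcases hc with hc | hc
  · exact hc (mem_center_iff.2 fun y => (this y).1.eq)
  · exact hc (mem_center_iff.2 fun y => (this y).2.eq)

/-! ### the hypothesis -/

/-- Class sizes `1`, `m`, `m * n`. -/
structure Data (G : Type u) [Group G] (m n : ℕ) : Prop where
  sizes : ∀ g : G, g ∉ center G → (cz g).index = m ∨ (cz g).index = m * n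
  one_lt_m : 1 < m
  one_lt_n : 1 < n
  cop : m.Coprime n
  ex_m : ∃ g : G, (cz g).index = m
  ex_mn : ∃ g : G, (cz g).index = m * n

theorem index_cz_of_center {g : G} (h : g ∈ center G) : (cz g).index = 1 := by
  rw [index_eq_one, eq_top_iff]
  exact fun y _ => mem_cz.2 (mem_center_iff.1 h y)

variable (D : Data G m n)
include D

theorem not_center_m {g : G} (h : (cz g).index = m) : g ∉ center G := fun hc => by
  have := index_cz_of_center hc
  have := D.one_lt_m
  omega

theorem not_center_mn {g : G} (h : (cz g).index = m * n) : g ∉ center G := fun hc => by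
  have h1 := index_cz_of_center hc
  rw [h, mul_eq_one] at h1
  have := D.one_lt_m
  omega

theorem m_lt_mn : m < m * n := lt_mul_of_one_lt_right (by have := D.one_lt_m; omega) D.one_lt_n

theorem nu_cz [hp : Fact p.Prime] (hpm : p ∣ m) {g : G} (hg : g ∉ center G) :
    nu p (cz g) + m.factorization p = (Nat.card G).factorization p := by
  rw [← nu_add_index (cz g)]
  rcases D.sizes g hg with h | h <;> rw [h]
  have hn : n.factorization p = 0 := Nat.factorization_eq_zero_of_not_dvd fun hd =>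
    hp.out.not_dvd_one (D.cop ▸ Nat.dvd_gcd hpm hd)
  rw [Nat.factorization_mul (by have := D.one_lt_m; omega) (by have := D.one_lt_n; omega)]
  simp [hn]

theorem nu_eq [hp : Fact p.Prime] (hpm : p ∣ m) {g h : G} (hg : g ∉ center G) (hh : h ∉ center G) :
    nu p (cz g) = nu p (cz h) := by
  have h1 := nu_cz D hpm hg
  have h2 := nu_cz D hpm hh
  omega

theorem nu_lt_top [hp : Fact p.Prime] (hpm : p ∣ m) {g : G} (hg : g ∉ center G) :
    nu p (cz g) < (Nat.card G).factorization p := by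
  have h1 := nu_cz D hpm hg
  have : 0 < m.factorization p :=
    hp.out.factorization_pos_of_dvd (by have := D.one_lt_m; omega) hpm
  omega

theorem exists_pel (hq : q.Prime) {g : G} (h : q ∣ (cz g).index) :
    ∃ z : G, PEl q z ∧ z ∉ center G := by
  haveI := Fact.mk hq
  have h1 : nu q (center G) < nu q (⊤ : Subgroup G) := by
    have h2 := nu_add_index (p := q) (cz g)
    have h3 := nu_mono (p := q) (center_le_cz g)
    have h4 : 0 < (cz g).index.factorization q :=
      hq.factorization_pos_of_dvd index_ne_zero_of_finite h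
    rw [nu_top]
    omega
  obtain ⟨z, -, hz⟩ := exists_noncentral h1
  exact ⟨z, hz⟩

theorem exists_pel_m (hp : p.Prime) (hpm : p ∣ m) : ∃ z : G, PEl p z ∧ z ∉ center G := by
  obtain ⟨g, hg⟩ := D.ex_m
  exact exists_pel D hp (hg ▸ hpm)

theorem nu_center_lt_cz [hp : Fact p.Prime] (hpm : p ∣ m) {g : G} (hg : g ∉ center G) :
    nu p (center G) < nu p (cz g) := by
  obtain ⟨z, hz, hzc⟩ := exists_pel_m D hp.out hpm
  rw [nu_eq D hpm hg hzc]
  exact nu_center_lt (center_le_cz z) (mem_cz.2 (Commute.refl z)) hz hzc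

omit D

/-- If all `p`-regular elements have class sizes prime to `p`, they commute with all
`p`-elements. -/
theorem commute_of_full {C : Type u} [Group C] [Finite C] [hp : Fact p.Prime]
    (h : ∀ v : C, (orderOf v).Coprime p → nu p (cz v) = (Nat.card C).factorization p)
    {a b : C} (ha : PEl p a) (hb : (orderOf b).Coprime p) : Commute a b := by
  obtain ⟨P⟩ : Nonempty (Sylow p C) := inferInstance
  set Z := centralizer ((P : Subgroup C) : Set C) with hZ
  have htop : (P : Subgroup C) ⊔ Z = ⊤ := by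
    refine FGB.eq_top_of_conj_cover fun g => ?_
    obtain ⟨a', b', ha', hb', hab, hak, hbk⟩ := Transfer.exists_pPart_mul (p := p) g
    have hc : Commute a' b' := by
      obtain ⟨i, rfl⟩ := ha'
      obtain ⟨j, rfl⟩ := hb'
      exact (Commute.refl g).zpow_zpow i j
    obtain ⟨T, hT, haT⟩ := exists_sylowIn_ge (isPGroup_zpowers hak) (zpowers_le.2 (mem_cz.2 hc))
    have hTc : Nat.card T = p ^ (Nat.card C).factorization p := by
      rw [hT.2, ← h b' hbk]; rfl
    obtain ⟨x, hx⟩ := MulAction.exists_smul_eq C (Sylow.ofCard T hTc) P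
    have hx' : MulAut.conj x • T = (P : Subgroup C) := by
      rw [← hx, Sylow.coe_subgroup_smul, Sylow.coe_ofCard]
    refine ⟨x, ?_⟩
    rw [← hab, show x * (a' * b') * x⁻¹ = (x * a' * x⁻¹) * (x * b' * x⁻¹) by group]
    refine mul_mem_sup (hx' ▸ Basics.conj_mem_conj_smul (haT (mem_zpowers a'))) ?_
    refine mem_centralizer_iff.2 fun s hs => ?_
    rw [SetLike.mem_coe, ← hx', Basics.mem_conj_smul] at hs
    have h1 := commute_conj x (mem_cz.1 (hT.1 hs))
    rwa [show x * (x⁻¹ * s * x) * x⁻¹ = s by group] at h1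
  have hPn : (P : Subgroup C).Normal := by
    rw [← normalizer_eq_top_iff, eq_top_iff, ← htop]
    refine sup_le le_normalizer fun c hc => mem_normalizer_iff.2 fun s => ?_
    constructor
    · intro hs
      rwa [← mem_centralizer_iff.1 hc s hs, mul_inv_cancel_right]
    · intro hs
      have h1 := mem_centralizer_iff.1 hc _ hs
      rw [inv_mul_cancel_right] at h1
      exact (mul_left_cancel h1).symm ▸ hs
  have haP : a ∈ (P : Subgroup C) := by
    have h1 : IsPGroup p ((P : Subgroup C) ⊔ zpowers a : Subgroup C) :=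
      P.2.to_sup_of_normal_left (isPGroup_zpowers ha)
    exact (P.3 h1 le_sup_left) ▸ mem_sup_right (mem_zpowers a)
  haveI := hPn
  haveI : Z.Normal := normal_centralizer
  have hbZ : b ∈ Z := by
    rw [← QuotientGroup.eq_one_iff, ← QuotientGroup.mk'_apply]
    obtain ⟨s, hs, c, hc, hsc⟩ := mem_sup_of_normal_right.1 (htop ▸ mem_top b)
    have he : QuotientGroup.mk' Z b = QuotientGroup.mk' Z s := by
      rw [← hsc, map_mul, show QuotientGroup.mk' Z c = 1 from (QuotientGroup.eq_one_iff c).2 hc,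
        mul_one]
    obtain ⟨k, hk⟩ := pel_of_mem P.2 hs
    refine Transfer.eq_one_of_pow_of_coprime (p := p) ⟨k, ?_⟩
      (Nat.Coprime.coprime_dvd_left (orderOf_map_dvd _ b) hb)
    rw [he]
    exact (orderOf_map_dvd _ s).trans hk
  exact mem_centralizer_iff.1 hbZ a haP

theorem card_cz_subgroup {C : Subgroup G} (v : C) :
    Nat.card (cz v) = Nat.card (C ⊓ cz (v : G) : Subgroup G) := by
  rw [← card_map_of_injective C.subtype_injective]
  congr 2
  ext y
  constructor
  · rintro ⟨w, hw, rfl⟩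
    exact mem_inf.2 ⟨w.2, mem_cz.2 (congrArg Subtype.val (mem_cz.1 hw))⟩
  · intro hy
    obtain ⟨hy1, hy2⟩ := mem_inf.1 hy
    exact ⟨⟨y, hy1⟩, mem_cz.2 (Subtype.ext (mem_cz.1 hy2)), rfl⟩

include D

/-- In the centraliser of a `p`-element, `p ∣ m`, the `p`-elements commute with the `p`-regular
ones. -/
theorem split [hp : Fact p.Prime] (hpm : p ∣ m) {z a b : G} (hz : PEl p z) (hzc : z ∉ center G)
    (ha : Commute a z) (hb : Commute b z) (hap : PEl p a) (hbp : (orderOf b).Coprime p) :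
    Commute a b := by
  have key : ∀ v : cz z, (orderOf v).Coprime p →
      nu p (cz v) = (Nat.card (cz z)).factorization p := by
    intro v hv
    have hc : Commute z (v : G) := (mem_cz.1 v.2).symm
    have hv' : (orderOf (v : G)).Coprime p := by rwa [orderOf_coe]
    rw [nu, card_cz_subgroup, ← cz_mul_eq hc hz hv']
    exact nu_eq D hpm (mul_not_center hc hz hv' (Or.inl hzc)) hzc
  have := commute_of_full key (a := ⟨a, mem_cz.2 ha⟩) (b := ⟨b, mem_cz.2 hb⟩)
    (by obtain ⟨k, hk⟩ := hap; exact ⟨k, by rwa [orderOf_mk]⟩) (by rwa [orderOf_mk])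
  exact congrArg Subtype.val this

omit D

/-- Every noncentral `p`-element commutes with a noncentral `p`-regular element. -/
def NoIso (G : Type u) [Group G] (p : ℕ) : Prop :=
  ∀ z : G, PEl p z → z ∉ center G →
    ∃ v : G, (orderOf v).Coprime p ∧ v ∉ center G ∧ Commute v z

include D

theorem false_of_all_commute [hp : Fact p.Prime] (hpm : p ∣ m) (hno : NoIso G p) {z : G}
    (hz : PEl p z) (hzc : z ∉ center G)
    (hall : ∀ v : G, (orderOf v).Coprime p → Commute v z) : False := by
  obtain ⟨S, hS, -⟩ := exists_sylowIn_ge (p := p) IsPGroup.of_bot (bot_le : ⊥ ≤ cz z)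
  obtain ⟨P, hSP⟩ := hS.isPGroup.exists_le_sylow
  obtain ⟨g, hgP, hgz⟩ : ∃ g ∈ (P : Subgroup G), g ∉ cz z := by
    by_contra hno'
    push Not at hno'
    have h1 := card_pGroup_le P.2 hno'
    rw [P.card_eq_multiplicity] at h1
    exact absurd ((Nat.pow_le_pow_iff_right hp.out.one_lt).1 h1)
      (not_le.2 (nu_lt_top D hpm hzc))
  have hgc : g ∉ center G := fun h => hgz (center_le_cz z h)
  obtain ⟨v, hv, hvc, hvg⟩ := hno g (pel_of_mem P.2 hgP) hgc
  have hle : S ⊔ zpowers g ≤ cz v := sup_le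
    (fun s hs => mem_cz.2 (split D hpm hz hzc (mem_cz.1 (hS.1 hs)) (hall v hv)
      (pel_of_mem hS.isPGroup hs) hv)) (zpowers_le.2 (mem_cz.2 hvg.symm))
  have hle' : S ⊔ zpowers g ≤ (P : Subgroup G) := sup_le hSP (zpowers_le.2 hgP)
  have h1 := card_pGroup_le (P.2.to_le hle') hle
  rw [nu_eq D hpm hvc hzc, show p ^ nu p (cz z) = Nat.card S from hS.2.symm] at h1
  exact hgz (hS.1 ((eq_of_le_of_card_ge le_sup_left h1).ge (mem_sup_right (mem_zpowers g))))

omit D

theorem exists_full [hp : Fact p.Prime] (P : Sylow p G) {z : G} (hz : PEl p z) :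
    ∃ x : G, x * z * x⁻¹ ∈ (P : Subgroup G) ∧
      Nat.card ((P : Subgroup G) ⊓ cz (x * z * x⁻¹) : Subgroup G) = p ^ nu p (cz z) := by
  obtain ⟨S, hS, hzS⟩ := exists_sylowIn_ge (isPGroup_zpowers hz)
    (zpowers_le.2 (mem_cz.2 (Commute.refl z)) : zpowers z ≤ cz z)
  obtain ⟨Q, hSQ⟩ := hS.isPGroup.exists_le_sylow
  obtain ⟨x, hx⟩ := MulAction.exists_smul_eq G Q P
  have hx' : MulAut.conj x • S ≤ (P : Subgroup G) := by
    rw [← hx, Sylow.coe_subgroup_smul]
    exact pointwise_smul_le_pointwise_smul_iff.2 hSQ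
  have hx'' : MulAut.conj x • S ≤ cz (x * z * x⁻¹) := by
    rw [cz_conj]; exact pointwise_smul_le_pointwise_smul_iff.2 hS.1
  refine ⟨x, hx' (Basics.conj_mem_conj_smul (hzS (mem_zpowers z))), le_antisymm ?_ ?_⟩
  · rw [← nu_cz_conj x z]
    exact card_pGroup_le (P.2.to_le inf_le_left) inf_le_right
  · have := card_le_of_le (le_inf hx' hx'')
    rw [Basics.card_conj_smul, hS.2] at this
    exact this

theorem exists_central_mod [hp : Fact p.Prime] (P : Sylow p G)
    (hP : ¬ (P : Subgroup G) ≤ center G) :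
    ∃ z ∈ (P : Subgroup G), z ∉ center G ∧
      ∀ π ∈ (P : Subgroup G), π * z * π⁻¹ * z⁻¹ ∈ center G := by
  set Pb := (P : Subgroup G).map (QuotientGroup.mk' (center G)) with hPb
  haveI : Nontrivial Pb := by
    rw [nontrivial_iff_ne_bot]
    intro h
    rw [hPb, Subgroup.map_eq_bot_iff, QuotientGroup.ker_mk'] at h
    exact hP h
  obtain ⟨c, -, hc, hc1⟩ := InvChar.exists_mem_center_of_normal (P.2.map _)
    (⊤ : Subgroup Pb) top_ne_bot
  obtain ⟨z, hz, hze⟩ := c.2
  refine ⟨z, hz, fun hzc => hc1 (Subtype.ext ?_), fun π hπ => ?_⟩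
  · rw [← hze]; exact (QuotientGroup.eq_one_iff z).2 hzc
  · have h1 := congrArg Subtype.val (mem_center_iff.1 hc ⟨_, π, hπ, rfl⟩)
    simp only [Subgroup.coe_mul, ← hze] at h1
    rw [← QuotientGroup.eq_one_iff, ← QuotientGroup.mk'_apply]
    simp only [map_mul, map_inv]
    rw [h1, mul_inv_cancel_right, mul_inv_cancel]

theorem cz_conj_of_central_mod {π z : G} (h : π * z * π⁻¹ * z⁻¹ ∈ center G) :
    cz (π * z * π⁻¹) = cz z := by
  have := cz_central_mul h z
  rwa [inv_mul_cancel_right] at this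

theorem le_normalizer_cz {P : Subgroup G} {z : G}
    (h : ∀ π ∈ P, π * z * π⁻¹ * z⁻¹ ∈ center G) : P ≤ normalizer (cz z : Set G) := by
  intro π hπ
  rw [← Basics.conj_smul_eq_self_iff, ← cz_conj, cz_conj_of_central_mod (h π hπ)]

theorem card_inf_of_normalized [hp : Fact p.Prime] (P : Sylow p G) {C : Subgroup G}
    (hC : (P : Subgroup G) ≤ normalizer (C : Set G)) :
    Nat.card ((P : Subgroup G) ⊓ C : Subgroup G) = p ^ nu p C := by
  have e := congrArg (fun k => k.factorization p)
    (Basics.card_mul_card_eq_card_sup_mul_card_inf hC)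
  simp only [Nat.factorization_mul Nat.card_pos.ne' Nat.card_pos.ne', Finsupp.add_apply] at e
  have hsup : (Nat.card (C ⊔ (P : Subgroup G) : Subgroup G)).factorization p =
      (Nat.card (P : Subgroup G)).factorization p := by
    refine le_antisymm ?_ (nu_mono le_sup_right)
    rw [P.card_eq_multiplicity, hp.out.factorization_pow, Finsupp.single_eq_same]
    exact (nu_mono (p := p) le_top).trans_eq nu_top
  rw [hsup, inf_comm] at e
  obtain ⟨j, hj⟩ := (P.2.to_le (inf_le_left : (P : Subgroup G) ⊓ C ≤ P)).exists_card_eq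
  rw [hj, hp.out.factorization_pow, Finsupp.single_eq_same] at e
  rw [hj]
  congr 1
  rw [nu]
  omega

include D

/-- Either two full centraliser subgroups meet outside the centre, or `e ≤ a`. -/
theorem two_mul_nu_le [hp : Fact p.Prime] (hpm : p ∣ m) (hno : NoIso G p) {g₀ : G}
    (hg₀ : g₀ ∉ center G) :
    2 * nu p (cz g₀) ≤ (Nat.card G).factorization p + nu p (center G) := by
  by_contra hbig
  push Not at hbig
  obtain ⟨P⟩ : Nonempty (Sylow p G) := inferInstance
  have hPc : ¬ (P : Subgroup G) ≤ center G := by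
    intro h
    have h1 := card_pGroup_le P.2 h
    rw [P.card_eq_multiplicity] at h1
    have := (Nat.pow_le_pow_iff_right hp.out.one_lt).1 h1
    have := nu_center_lt_cz D hpm hg₀
    have := nu_lt_top D hpm hg₀
    omega
  obtain ⟨z₀, hz₀P, hz₀c, hz₀⟩ := exists_central_mod P hPc
  have hz₀p := pel_of_mem P.2 hz₀P
  have hB₀ := card_inf_of_normalized P (le_normalizer_cz hz₀)
  -- two full subgroups meet outside the centre
  have meet : ∀ z₁ z₂ : G, z₁ ∉ center G → z₂ ∉ center G →
      Nat.card ((P : Subgroup G) ⊓ cz z₁ : Subgroup G) = p ^ nu p (cz z₁) →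
      Nat.card ((P : Subgroup G) ⊓ cz z₂ : Subgroup G) = p ^ nu p (cz z₂) →
      ∃ y : G, PEl p y ∧ y ∉ center G ∧ Commute y z₁ ∧ Commute y z₂ := by
    intro z₁ z₂ h1 h2 hc1 hc2
    set A := (P : Subgroup G) ⊓ cz z₁
    set B := (P : Subgroup G) ⊓ cz z₂
    by_contra hn
    push Not at hn
    have hle : A ⊓ B ≤ center G := fun y hy => by
      by_contra hyc
      exact hn y (pel_of_mem P.2 (mem_inf.1 (mem_inf.1 hy).1).1) hyc
        (mem_cz.1 (mem_inf.1 (mem_inf.1 hy).1).2) (mem_cz.1 (mem_inf.1 (mem_inf.1 hy).2).2)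
    have h3 := card_pGroup_le (P.2.to_le (inf_le_left.trans inf_le_left : A ⊓ B ≤ P)) hle
    have h4 : Nat.card (A ⊓ B : Subgroup G) * B.relIndex A = Nat.card A := by
      rw [← inf_relIndex_left]
      exact Basics.card_subgroupOf (inf_le_left : A ⊓ B ≤ A) ▸ card_mul_index _
    have h5 : Nat.card B * B.relIndex P = Nat.card (P : Subgroup G) :=
      Basics.card_subgroupOf (inf_le_left : B ≤ P) ▸ card_mul_index _
    have h6 : B.relIndex A ≤ B.relIndex P :=
      relIndex_le_of_le_right inf_le_left index_ne_zero_of_finite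
    rw [nu_eq D hpm h1 hg₀] at hc1
    rw [nu_eq D hpm h2 hg₀] at hc2
    rw [P.card_eq_multiplicity, hc2] at h5
    rw [hc1] at h4
    have h7 : p ^ (2 * nu p (cz g₀)) ≤ p ^ (nu p (center G) + (Nat.card G).factorization p) := by
      rw [two_mul, pow_add, pow_add, ← h5]
      calc p ^ nu p (cz g₀) * p ^ nu p (cz g₀)
          = Nat.card (A ⊓ B : Subgroup G) * B.relIndex A * p ^ nu p (cz g₀) := by rw [h4]
        _ ≤ p ^ nu p (center G) * B.relIndex P * p ^ nu p (cz g₀) :=
            Nat.mul_le_mul_right _ (Nat.mul_le_mul h3 h6)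
        _ = p ^ nu p (center G) * (p ^ nu p (cz g₀) * B.relIndex P) := by ring
    have := (Nat.pow_le_pow_iff_right hp.out.one_lt).1 h7
    omega
  -- `p`-regular elements of full centralisers agree
  have same : ∀ z : G, PEl p z → z ∉ center G →
      Nat.card ((P : Subgroup G) ⊓ cz z : Subgroup G) = p ^ nu p (cz z) →
      ∀ v : G, (orderOf v).Coprime p → Commute v z → Commute v z₀ := by
    intro z hz hzc hzf v hv hvz
    obtain ⟨y, hy, hyc, hy0, hy1⟩ := meet z₀ z hz₀c hzc hB₀ hzf
    have h1 : Commute v y := (split D hpm hz hzc hy1 hvz hy hv).symm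
    exact (split D hpm hy hyc hy0.symm h1 hz₀p hv).symm
  set W : Set G := {v | (orderOf v).Coprime p ∧ Commute v z₀}
  set K := closure W with hK
  have hKz : K ≤ cz z₀ := (closure_le _).2 fun v hv => mem_cz.2 hv.2
  have hPK : (P : Subgroup G) ≤ normalizer (K : Set G) := by
    intro π hπ
    rw [← Basics.conj_smul_eq_self_iff]
    refine eq_of_le_of_card_ge ?_ (Basics.card_conj_smul π K).ge
    show K.map (MulAut.conj π).toMonoidHom ≤ K
    rw [hK, MonoidHom.map_closure]
    refine closure_mono ?_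
    rintro _ ⟨v, ⟨hv1, hv2⟩, rfl⟩
    refine ⟨coprime_conj hv1 π, mem_cz.1 ?_⟩
    rw [← cz_conj_of_central_mod (hz₀ π hπ)]
    exact mem_cz.2 (commute_conj π hv2)
  have htop : (P : Subgroup G) ⊔ K = ⊤ := by
    refine FGB.eq_top_of_conj_cover fun g => ?_
    obtain ⟨a, b, ha, hb, hab, hak, hbk⟩ := Transfer.exists_pPart_mul (p := p) g
    by_cases hgc : g ∈ center G
    · obtain ⟨T, hT⟩ := (isPGroup_zpowers hak).exists_le_sylow
      obtain ⟨x, hx⟩ := MulAction.exists_smul_eq G T P
      have hbc : b ∈ center G := zpowers_le.2 hgc hb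
      refine ⟨x, ?_⟩
      rw [← hab, show x * (a * b) * x⁻¹ = (x * a * x⁻¹) * (x * b * x⁻¹) by group]
      refine mul_mem_sup ?_ (subset_closure ⟨coprime_conj hbk x, ?_⟩)
      · rw [← hx, Sylow.coe_subgroup_smul]
        exact Basics.conj_mem_conj_smul (hT (mem_zpowers a))
      · rw [mem_center_iff.1 hbc x, mul_inv_cancel_right]
        exact ((mem_center_iff.1 hbc z₀).symm : Commute b z₀)
    obtain ⟨z, hzg, hz, hzc⟩ := exists_noncentral (nu_center_lt_cz D hpm hgc)
    obtain ⟨x, hxP, hxf⟩ := exists_full P hz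
    rw [← nu_cz_conj x z] at hxf
    set z₁ := x * z * x⁻¹
    have hz₁c : z₁ ∉ center G := fun h => hzc <| by
      have := (inferInstance : (center G).Normal).conj_mem _ h x⁻¹
      simpa [z₁, mul_assoc] using this
    obtain ⟨i, hi⟩ := ha
    obtain ⟨j, hj⟩ := hb
    have haz : Commute (x * a * x⁻¹) z₁ :=
      commute_conj x (hi ▸ ((mem_cz.1 hzg).symm.zpow_left i))
    have hbz : Commute (x * b * x⁻¹) z₁ :=
      commute_conj x (hj ▸ ((mem_cz.1 hzg).symm.zpow_left j))
    obtain ⟨T, hT, haT⟩ := exists_sylowIn_ge (isPGroup_zpowers (PEl.conj hak x))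
      (zpowers_le.2 (mem_cz.2 haz))
    obtain ⟨c, hc, hcT⟩ := hT.exists_conj (T := (P : Subgroup G) ⊓ cz z₁) ⟨inf_le_right, hxf⟩
    refine ⟨c * x, ?_⟩
    rw [← hab, show c * x * (a * b) * (c * x)⁻¹ =
      (c * (x * a * x⁻¹) * c⁻¹) * (c * (x * b * x⁻¹) * c⁻¹) by group]
    have h1 := hcT ▸ Basics.conj_mem_conj_smul (g := c) (haT (mem_zpowers _))
    refine mul_mem_sup (mem_inf.1 h1).1 (subset_closure ⟨coprime_conj (coprime_conj hbk x) c, ?_⟩)
    refine same z₁ (PEl.conj hz x) hz₁c hxf _ (coprime_conj (coprime_conj hbk x) c) ?_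
    have h2 := commute_conj c hbz
    rwa [show c * z₁ * c⁻¹ = z₁ by rw [(mem_cz.1 hc).eq, mul_inv_cancel_right]] at h2
  have hKn : K.Normal := by
    rw [← normalizer_eq_top_iff, eq_top_iff, ← htop]
    exact sup_le hPK le_normalizer
  refine false_of_all_commute D hpm hno hz₀p hz₀c fun v hv => mem_cz.1 (hKz ?_)
  rw [← QuotientGroup.eq_one_iff, ← QuotientGroup.mk'_apply]
  obtain ⟨s, hs, k, hk, hsk⟩ := mem_sup_of_normal_right.1 (htop ▸ mem_top v)
  have he : QuotientGroup.mk' K v = QuotientGroup.mk' K s := by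
    rw [← hsk, map_mul, show QuotientGroup.mk' K k = 1 from (QuotientGroup.eq_one_iff k).2 hk,
      mul_one]
  obtain ⟨j, hj⟩ := pel_of_mem P.2 hs
  refine Transfer.eq_one_of_pow_of_coprime (p := p) ⟨j, ?_⟩
    (Nat.Coprime.coprime_dvd_left (orderOf_map_dvd _ v) hv)
  rw [he]
  exact (orderOf_map_dvd _ s).trans hj

omit D

theorem exists_invariant [hp : Fact p.Prime] [hr : Fact r.Prime] {P C B R : Subgroup G}
    (hP : IsPGroup p P) (hPC : P ≤ normalizer (C : Set G)) (hR : Basics.IsSylowIn r C R)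
    (hB : B ≤ C) (hBR : B ≤ normalizer (R : Set G)) (hBc : Nat.card B = p ^ nu p C) :
    ∃ S : Subgroup G, Basics.IsSylowIn r C S ∧ P ≤ normalizer (S : Set G) := by
  let T : Set (Subgroup G) := {S | Basics.IsSylowIn r C S}
  have hinv : ∀ a : P, ∀ S ∈ T, MulAut.conj (a : G) • S ∈ T := fun a S hS =>
    hS.conj_smul (hPC a.2)
  let _ : MulAction P T :=
    { smul := fun a S => ⟨MulAut.conj (a : G) • S.1, hinv a S S.2⟩
      one_smul := fun S => Subtype.ext (by
        show MulAut.conj ((1 : P) : G) • S.1 = S.1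
        rw [Subgroup.coe_one, Basics.conj_smul_one])
      mul_smul := fun a b S => Subtype.ext (by
        show MulAut.conj ((a * b : P) : G) • S.1 =
          MulAut.conj (a : G) • MulAut.conj (b : G) • S.1
        rw [Subgroup.coe_mul, map_mul, mul_smul]) }
  have hTc : ¬ p ∣ Nat.card T := by
    obtain ⟨Q, hQ⟩ := hR.exists_sylow
    have e : Nat.card T = Nat.card (Sylow r C) := by
      refine (Nat.card_congr (Equiv.ofBijective
        (fun Q : Sylow r C => (⟨(Q : Subgroup C).map C.subtype, Basics.isSylowIn_map Q⟩ : T))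
        ⟨fun Q₁ Q₂ h => Sylow.ext (map_injective C.subtype_injective (congrArg Subtype.val h)),
          fun S => ?_⟩)).symm
      obtain ⟨Q', hQ'⟩ := S.2.exists_sylow
      exact ⟨Q', Subtype.ext hQ'⟩
    rw [e, Sylow.card_eq_index_normalizer Q]
    intro hd
    set N := normalizer ((Q : Subgroup C) : Set C) with hN
    have hBN : B.subgroupOf C ≤ N := by
      rintro b hb
      rw [hN, mem_normalizer_iff]
      intro q
      have h1 := mem_normalizer_iff.1 (hBR hb) (q : G)
      rw [← hQ] at h1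
      change C.subtype q ∈ _ ↔ C.subtype (b * q * b⁻¹) ∈ _ at h1
      rwa [mem_map_iff_mem C.subtype_injective, mem_map_iff_mem C.subtype_injective] at h1
    have h2 := card_dvd_of_le hBN
    rw [Basics.card_subgroupOf hB, hBc] at h2
    have h3 := card_mul_index N
    have h4 : p ^ (nu p C + 1) ∣ Nat.card C := by
      rw [← h3, pow_succ]; exact Nat.mul_dvd_mul h2 hd
    have h5 : nu p C + 1 ≤ nu p C := (hp.out.pow_dvd_iff_le_factorization Nat.card_pos.ne').1 h4
    omega
  obtain ⟨⟨S, hS⟩, hfix⟩ := hP.nonempty_fixed_point_of_prime_not_dvd_card T hTc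
  exact ⟨S, hS, fun a ha => Basics.conj_smul_eq_self_iff.1 (congrArg Subtype.val (hfix ⟨a, ha⟩))⟩

include D

theorem pow_dvd_pow_sub_one [hp : Fact p.Prime] [hr : Fact r.Prime] (hne : p ≠ r) (hpm : p ∣ m)
    (hrm : r ∣ m) {g₀ : G} (hg₀ : g₀ ∉ center G) :
    p ^ m.factorization p ∣ r ^ (nu r (cz g₀) - nu r (center G)) - 1 := by
  obtain ⟨P⟩ : Nonempty (Sylow p G) := inferInstance
  have hPc : ¬ (P : Subgroup G) ≤ center G := by
    intro h
    have h1 := card_pGroup_le P.2 h
    rw [P.card_eq_multiplicity] at h1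
    have := (Nat.pow_le_pow_iff_right hp.out.one_lt).1 h1
    have := nu_center_lt_cz D hpm hg₀
    have := nu_lt_top D hpm hg₀
    omega
  obtain ⟨z, hzP, hzc, hz⟩ := exists_central_mod P hPc
  have hzp := pel_of_mem P.2 hzP
  have hPN := le_normalizer_cz hz
  have hB := card_inf_of_normalized P hPN
  set B := (P : Subgroup G) ⊓ cz z with hBdef
  have hcomm : ∀ S : Subgroup G, Basics.IsSylowIn r (cz z) S → ∀ b ∈ B, ∀ w ∈ S, Commute b w :=
    fun S hS b hb w hw => split D hpm hzp hzc (mem_cz.1 (mem_inf.1 hb).2) (mem_cz.1 (hS.1 hw))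
      (pel_of_mem P.2 (mem_inf.1 hb).1) ((pel_of_mem hS.isPGroup hw).coprime hp.out hne.symm)
  obtain ⟨R₀, hR₀, -⟩ := exists_sylowIn_ge (p := r) IsPGroup.of_bot (bot_le : ⊥ ≤ cz z)
  have hBR : B ≤ normalizer (R₀ : Set G) := fun b hb => mem_normalizer_iff.2 fun w => by
    constructor
    · intro hw
      rwa [(hcomm R₀ hR₀ b hb w hw).eq, mul_inv_cancel_right]
    · intro hw
      have h1 := (hcomm R₀ hR₀ b hb _ hw).eq
      rw [inv_mul_cancel_right] at h1
      exact (mul_left_cancel h1.symm) ▸ hw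
  obtain ⟨R, hR, hPR⟩ := exists_invariant P.2 hPN hR₀ inf_le_right hBR hB
  let S : Set G := (R : Set G) \ (center G : Set G)
  have hinv : ∀ a : P, ∀ w ∈ S, (a : G) * w * (a : G)⁻¹ ∈ S := by
    rintro a w ⟨hw1, hw2⟩
    refine ⟨(mem_normalizer_iff.1 (hPR a.2) w).1 hw1, fun hc => hw2 ?_⟩
    have := (inferInstance : (center G).Normal).conj_mem _ hc (a : G)⁻¹
    simpa [mul_assoc] using this
  let _ : MulAction P S :=
    { smul := fun a w => ⟨(a : G) * w * (a : G)⁻¹, hinv a w w.2⟩
      one_smul := fun w => Subtype.ext (by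
        show ((1 : P) : G) * w * ((1 : P) : G)⁻¹ = w
        simp)
      mul_smul := fun a b w => Subtype.ext (by
        show ((a * b : P) : G) * w * ((a * b : P) : G)⁻¹ =
          (a : G) * ((b : G) * w * (b : G)⁻¹) * (a : G)⁻¹
        rw [Subgroup.coe_mul]; group) }
  have hstab : ∀ w : S, MulAction.stabilizer P w = B.subgroupOf P := by
    intro w
    have hle : B ≤ (P : Subgroup G) ⊓ cz (w : G) := fun b hb =>
      mem_inf.2 ⟨(mem_inf.1 hb).1, mem_cz.2 (hcomm R hR b hb w w.2.1)⟩
    have he : B = (P : Subgroup G) ⊓ cz (w : G) := eq_of_le_of_card_ge hle (by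
      rw [hB, nu_eq D hpm hzc w.2.2]
      exact card_pGroup_le (P.2.to_le inf_le_left) inf_le_right)
    ext a
    rw [MulAction.mem_stabilizer_iff, mem_subgroupOf, he, mem_inf, mem_cz, Subtype.ext_iff]
    show (a : G) * w * (a : G)⁻¹ = w ↔ _
    rw [mul_inv_eq_iff_eq_mul]
    exact ⟨fun h => ⟨a.2, h⟩, fun h => h.2⟩
  have hidx : (B.subgroupOf (P : Subgroup G)).index = p ^ m.factorization p := by
    have h1 := card_mul_index (B.subgroupOf (P : Subgroup G))
    rw [Basics.card_subgroupOf inf_le_left, hB, P.card_eq_multiplicity, ← nu_cz D hpm hzc,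
      pow_add] at h1
    exact Nat.eq_of_mul_eq_mul_left (pow_pos hp.out.pos _) h1
  have hdvd : p ^ m.factorization p ∣ Nat.card S := by
    haveI := Fintype.ofFinite (Quotient (MulAction.orbitRel P S))
    rw [Nat.card_congr (MulAction.selfEquivSigmaOrbitsQuotientStabilizer P S), Nat.card_sigma]
    refine Finset.dvd_sum fun ω _ => ?_
    rw [hstab, ← index_eq_card, hidx]
  have hcard : Nat.card S + r ^ nu r (center G) = r ^ nu r (cz z) := by
    rw [← card_inf_center (center_le_cz z) hR, Nat.card_coe_set_eq]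
    have h1 := Set.ncard_diff_add_ncard_of_subset
      (show ((R ⊓ center G : Subgroup G) : Set G) ⊆ (R : Set G) from fun w hw => hw.1)
    have h2 : (R : Set G) \ ((R ⊓ center G : Subgroup G) : Set G) = S := by
      ext w
      simp only [S, Set.mem_diff, SetLike.mem_coe, mem_inf]
      tauto
    rw [h2] at h1
    rw [← Nat.card_coe_set_eq ((R ⊓ center G : Subgroup G) : Set G)] at h1
    exact h1.trans (by rw [← Nat.card_coe_set_eq]; exact hR.2)
  have hle : nu r (center G) ≤ nu r (cz g₀) := nu_mono (center_le_cz _)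
  rw [nu_eq D hrm hzc hg₀, ← Nat.sub_add_cancel hle, pow_add] at hcard
  have hS : Nat.card S = r ^ nu r (center G) * (r ^ (nu r (cz g₀) - nu r (center G)) - 1) := by
    rw [Nat.mul_sub_one, mul_comm]
    omega
  rw [hS] at hdvd
  exact (((Nat.coprime_primes hp.out hr.out).2 hne).pow _ _).dvd_of_dvd_mul_left hdvd

theorem noIso_of_two [hp : Fact p.Prime] [hr : Fact r.Prime] (hne : p ≠ r)
    (hrm : r ∣ m) : NoIso G p := fun z _ hzc => by
  obtain ⟨v, hv, hvr, hvc⟩ := exists_noncentral (nu_center_lt_cz D hrm hzc)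
  exact ⟨v, hvr.coprime hp.out hne.symm, hvc, mem_cz.1 hv⟩

/-- `m` has a single prime divisor. -/
theorem prime_unique (hp : p.Prime) (hr : r.Prime) (hpm : p ∣ m) (hrm : r ∣ m) : p = r := by
  by_contra hne
  haveI := Fact.mk hp
  haveI := Fact.mk hr
  obtain ⟨g, hg⟩ := D.ex_m
  have hgc := not_center_m D hg
  have h1 := two_mul_nu_le D hpm (noIso_of_two D hne hrm) hgc
  have h2 := two_mul_nu_le D hrm (noIso_of_two D (Ne.symm hne) hpm) hgc
  have h3 := pow_dvd_pow_sub_one D hne hpm hrm hgc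
  have h4 := pow_dvd_pow_sub_one D (Ne.symm hne) hrm hpm hgc
  have h5 := nu_center_lt_cz D hpm hgc
  have h6 := nu_center_lt_cz D hrm hgc
  have h7 := nu_cz D hpm hgc
  have h8 := nu_cz D hrm hgc
  set a := m.factorization p
  set b := m.factorization r
  set e := nu p (cz g) - nu p (center G)
  set f := nu r (cz g) - nu r (center G)
  have hpe : 1 < p ^ e := Nat.one_lt_pow (by omega) hp.one_lt
  have hrf : 1 < r ^ f := Nat.one_lt_pow (by omega) hr.one_lt
  have h9 := Nat.le_of_dvd (by omega) h3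
  have h10 := Nat.le_of_dvd (by omega) h4
  have h11 : r ^ f ≤ r ^ b := Nat.pow_le_pow_right hr.pos (by omega)
  have h12 : p ^ e ≤ p ^ a := Nat.pow_le_pow_right hp.pos (by omega)
  omega

end Cfsg.Agent.FGS.ThreeSizes
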