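/-
Groups with class sizes `{1, m, m * n}`, `m` and `n` coprime: the structure.
-/
import Mathlib
import Cfsg.Agent.Lib.FGS.ThreeSizes
import Cfsg.Agent.Lib.FGS.Kazarin
import Cfsg.Agent.Lib.FGS.SquarefreeStructure
import Cfsg.Agent.Lib.Transfer.Quadratic
import Cfsg.Agent.Lib.Basics.CoprimeGen

set_option autoImplicit false
set_option linter.all false

namespace Cfsg.Agent.FGS.ThreeSizes

open Subgroup Cfsg
open scoped Pointwise IsMulCommutative commutatorElement

universe u

variable {G : Type u} [Group G] [Finite G] {m n p q r a : ℕ}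

theorem sylowIn_top [Fact p.Prime] (P : Sylow p G) :
    Basics.IsSylowIn p (⊤ : Subgroup G) (P : Subgroup G) :=
  ⟨le_top, by rw [card_top]; exact P.card_eq_multiplicity⟩

theorem exists_mul [Fact p.Prime] (P : Sylow p G) {g : G} {b : ℕ}
    (hidx : (cz g).index = p ^ b) (k : G) : ∃ π ∈ (P : Subgroup G), π⁻¹ * k ∈ cz g :=
  Kazarin.exists_mul_mem (C := cz g) le_top (sylowIn_top P)
    (by rw [relIndex_top_right]; exact hidx) (mem_top k)

theorem card_inf_of_index [hp : Fact p.Prime] (P : Sylow p G) {g : G} {b : ℕ}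
    (hidx : (cz g).index = p ^ b) :
    Nat.card ((P : Subgroup G) ⊓ cz g : Subgroup G) = p ^ nu p (cz g) := by
  refine le_antisymm (card_pGroup_le (P.2.to_le inf_le_left) inf_le_right) ?_
  have h1 : Nat.card ((P : Subgroup G) ⊓ cz g : Subgroup G) * (cz g).relIndex P =
      Nat.card (P : Subgroup G) := by
    rw [← inf_relIndex_left]
    exact Basics.card_subgroupOf (inf_le_left : (P : Subgroup G) ⊓ cz g ≤ P) ▸ card_mul_index _
  have h2 : (cz g).relIndex P ≤ p ^ b := by
    rw [← hidx, ← relIndex_top_right]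
    exact relIndex_le_of_le_right le_top (by rw [relIndex_top_right]; exact index_ne_zero_of_finite)
  have h3 := nu_add_index (p := p) (cz g)
  rw [hidx, hp.out.factorization_pow, Finsupp.single_eq_same] at h3
  rw [P.card_eq_multiplicity, ← h3, pow_add] at h1
  refine Nat.le_of_mul_le_mul_right (c := p ^ b) ?_ (pow_pos hp.out.pos b)
  rw [← h1]
  exact Nat.mul_le_mul_left _ h2

theorem nu_of_index [hp : Fact p.Prime] [hq : Fact q.Prime] (hne : q ≠ p) {g : G} {b : ℕ}
    (hidx : (cz g).index = p ^ b) : nu q (cz g) = (Nat.card G).factorization q := by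
  rw [← nu_add_index (cz g), hidx, hp.out.factorization_pow, Finsupp.single_eq_of_ne hne,
    add_zero]

theorem exists_conj_sylow [hp : Fact p.Prime] [hq : Fact q.Prime] (hne : q ≠ p) {g : G} {b : ℕ}
    (hidx : (cz g).index = p ^ b) {R : Subgroup G} (hR : Basics.IsSylowIn q ⊤ R) :
    ∃ x : G, MulAut.conj x • R ≤ cz g := by
  obtain ⟨S, hS, -⟩ := exists_sylowIn_ge (p := q) IsPGroup.of_bot (bot_le : ⊥ ≤ cz g)
  have hS' : Basics.IsSylowIn q ⊤ S := ⟨le_top, by
    rw [card_top, hS.2, ← nu_of_index hne hidx]; rfl⟩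
  obtain ⟨x, -, hx⟩ := hR.exists_conj hS'
  exact ⟨x, hx.le.trans hS.1⟩

theorem index_eq_and_eq {H K : Subgroup G} (h : H ≤ K) (hi : H.index = K.index) : H = K := by
  refine eq_of_le_of_card_ge h ?_
  have h1 := card_mul_index H
  rw [hi, ← card_mul_index K] at h1
  exact (Nat.eq_of_mul_eq_mul_right (Nat.pos_of_ne_zero index_ne_zero_of_finite) h1).ge

theorem exists_pow_mem [hp : Fact p.Prime] {B : Subgroup G} {h : G} (hh : PEl p h) (hB : h ∉ B) :
    ∃ k : ℕ, h ^ p ^ k ∉ B ∧ (h ^ p ^ k) ^ p ∈ B := by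
  obtain ⟨j, hj⟩ := hh
  by_contra hno
  push Not at hno
  have : ∀ k, h ^ p ^ k ∉ B := by
    intro k
    induction k with
    | zero => simpa using hB
    | succ k ih => rw [pow_succ, pow_mul]; exact hno k ih
  exact this j (by rw [orderOf_dvd_iff_pow_eq_one.1 hj]; exact one_mem B)

theorem eq_one_of_pel [hp : Fact p.Prime] [hq : Fact q.Prime] (hne : p ≠ q) {k : G}
    (h1 : PEl p k) (h2 : PEl q k) : k = 1 :=
  Transfer.eq_one_of_pow_of_coprime h1 (h2.coprime hp.out hne.symm)

theorem pel_of_pow_mem_center [hp : Fact p.Prime] [hq : Fact q.Prime] (hne : p ≠ q) {x : G}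
    (hx : PEl q x) (h : x ^ p ∈ center G) : x ∈ center G := by
  obtain ⟨k, hk⟩ := hx
  obtain ⟨j, hj⟩ := exists_pow_eq_self_of_coprime (n := p) (x := x)
    (Nat.Coprime.coprime_dvd_right hk (((Nat.coprime_primes hp.out hq.out).2 hne).pow_right k))
  rw [← hj]
  exact pow_mem h j

theorem le_cz_of_normal [hq : Fact q.Prime] {V : Subgroup G} [V.Normal] (hV : IsPGroup q V)
    {g : G} (hg : nu q (cz g) = (Nat.card G).factorization q) : V ≤ cz g := by
  obtain ⟨S, hS, -⟩ := exists_sylowIn_ge (p := q) IsPGroup.of_bot (bot_le : ⊥ ≤ cz g)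
  have hS' : Basics.IsSylowIn q (⊤ : Subgroup G) S := ⟨le_top, by
    rw [card_top, hS.2, ← hg]; rfl⟩
  exact (le_sylowIn hV le_top hS').trans hS.1

variable (D : Data G m n)
include D

theorem le_of_mn {g h : G} (hg : (cz g).index = m * n) (hh : g * h ∉ center G)
    (heq : cz (g * h) = cz g ⊓ cz h) : cz g ≤ cz h := by
  have h1 := index_dvd_of_le (show cz (g * h) ≤ cz g by rw [heq]; exact inf_le_left)
  rw [hg] at h1
  rcases D.sizes _ hh with h2 | h2
  · rw [h2] at h1
    have := Nat.le_of_dvd (by have := D.one_lt_m; omega) h1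
    have := m_lt_mn D
    omega
  · rw [← index_eq_and_eq (show cz (g * h) ≤ cz g by rw [heq]; exact inf_le_left)
      (h2.trans hg.symm), heq]
    exact inf_le_right

theorem le_cz_of_mn_left [hp : Fact p.Prime] {z v : G} (hc : Commute z v) (hz : PEl p z)
    (hv : (orderOf v).Coprime p) (hi : (cz z).index = m * n) : cz z ≤ cz v :=
  le_of_mn D hi (mul_not_center hc hz hv (Or.inl (not_center_mn D hi))) (cz_mul_eq hc hz hv)

theorem le_cz_of_mn_right [hp : Fact p.Prime] {z v : G} (hc : Commute z v) (hz : PEl p z)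
    (hv : (orderOf v).Coprime p) (hi : (cz v).index = m * n) : cz v ≤ cz z := by
  refine le_of_mn D hi ?_ ?_
  · rw [← hc.eq]
    exact mul_not_center hc hz hv (Or.inr (not_center_mn D hi))
  · rw [← hc.eq, cz_mul_eq hc hz hv, inf_comm]

theorem index_m_of_le {g h : G} (hg : (cz g).index = m) (hle : cz g ≤ cz h) (hh : h ∉ center G) :
    (cz h).index = m := by
  rcases D.sizes h hh with h1 | h1
  · exact h1
  · have h2 := index_dvd_of_le hle
    rw [hg, h1] at h2
    have := Nat.le_of_dvd (by have := D.one_lt_m; omega) h2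
    have := m_lt_mn D
    omega

theorem exists_primePow_index_m :
    ∃ (r : ℕ) (x : G), r.Prime ∧ PEl r x ∧ (cz x).index = m := by
  obtain ⟨g, hg⟩ := D.ex_m
  have hgc := not_center_m D hg
  by_contra hno
  push Not at hno
  refine hgc ((le_of_pel (H := zpowers g) (K := center G) fun q hq w hw hwq => ?_) (mem_zpowers g))
  by_contra hwc
  refine hno q w hq hwq (index_m_of_le D hg (fun y hy => mem_cz.2 ?_) hwc)
  obtain ⟨i, rfl⟩ := hw
  exact (mem_cz.1 hy).zpow_right i

/-- A `p`-element of class size `m` commutes with every `p`-regular element. -/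
theorem commute_of_index_m [hp : Fact p.Prime] (hpm : p ∣ m) (hma : m = p ^ a) {z : G}
    (hz : PEl p z) (hzm : (cz z).index = m) :
    ∀ v : G, (orderOf v).Coprime p →
      Commute v z ∧ v ∈ centralizer ((pCore p G : Subgroup G) : Set G) := by
  have hzc := not_center_m D hzm
  have hidx : (cz z).index = p ^ a := hzm.trans hma
  have hzU : z ∈ pCore p G := Kazarin.mem_pCore_of_pElement hz ⟨a, hidx⟩
  have hU : IsPGroup p (pCore p G) := Basics.pCore_isPGroup p
  have hUn : (pCore p G : Subgroup G).Normal := inferInstance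
  haveI := hUn
  haveI : (centralizer ((pCore p G : Subgroup G) : Set G)).Normal := normal_centralizer
  have key : ∀ q : ℕ, q.Prime → q ≠ p → ∀ w : G, PEl q w →
      w ∈ centralizer ((pCore p G : Subgroup G) : Set G) := by
    intro q hq hqp w hw
    haveI := Fact.mk hq
    obtain ⟨R, hR, hwR⟩ := exists_sylowIn_ge (isPGroup_zpowers hw)
      (le_top : zpowers w ≤ (⊤ : Subgroup G))
    obtain ⟨x, hx⟩ := exists_conj_sylow hqp hidx hR
    have hy := mem_cz.1 (hx (Basics.conj_mem_conj_smul (hwR (mem_zpowers w))))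
    have hyp : (orderOf (x * w * x⁻¹)).Coprime p := (PEl.conj hw x).coprime hp.out hqp
    have hnorm : ∀ g : G, g ∈ normalizer ((pCore p G : Subgroup G) : Set G) := fun g => by
      rw [normalizer_eq_top_iff.2 hUn]; exact mem_top g
    have h1 := Transfer.commute_of_commute_fixed (P := zpowers z) (V := pCore p G)
      (isPGroup_zpowers hz) hU (fun y _ => hnorm y) hyp (hnorm _)
      (fun y hy' => by obtain ⟨i, rfl⟩ := hy'; exact hy.zpow_right i)
      (fun u hu hcu => (split D hpm hz hzc (hcu z (mem_zpowers z)).symm hy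
        (pel_of_mem hU hu) hyp).symm)
    have h2 : x * w * x⁻¹ ∈ centralizer ((pCore p G : Subgroup G) : Set G) :=
      mem_centralizer_iff.2 fun u hu => (h1 u hu).eq.symm
    have h3 := Normal.conj_mem inferInstance _ h2 x⁻¹
    simpa [mul_assoc] using h3
  intro v hv
  have hvC : v ∈ centralizer ((pCore p G : Subgroup G) : Set G) := by
    refine (le_of_pel (H := zpowers v) (K := centralizer ((pCore p G : Subgroup G) : Set G))
      fun q hq w hw hwq => ?_) (mem_zpowers v)
    rcases eq_or_ne q p with rfl | hqp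
    · rw [Transfer.eq_one_of_pow_of_coprime (p := q) hwq
        (Nat.Coprime.coprime_dvd_left (orderOf_dvd_of_mem_zpowers hw) hv)]
      exact one_mem _
    · exact key q hq hqp w hwq
  exact ⟨(mem_centralizer_iff.1 hvC z hzU).symm, hvC⟩

theorem false_of_all_mn [hp : Fact p.Prime] (hpm : p ∣ m) (hma : m = p ^ a) (hno : NoIso G p)
    (hmn : ∀ z : G, PEl p z → z ∉ center G → (cz z).index = m * n) : False := by
  obtain ⟨r, x₁, hr, hx₁, hx₁m⟩ := exists_primePow_index_m D
  haveI := Fact.mk hr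
  have hrp : r ≠ p := by
    intro e
    have := hmn x₁ (e ▸ hx₁) (not_center_m D hx₁m)
    have := m_lt_mn D
    omega
  obtain ⟨P⟩ : Nonempty (Sylow p G) := inferInstance
  have hPc : ¬ (P : Subgroup G) ≤ center G := by
    intro h
    have h1 := card_pGroup_le P.2 h
    rw [P.card_eq_multiplicity] at h1
    have := (Nat.pow_le_pow_iff_right hp.out.one_lt).1 h1
    have := nu_center_lt_cz D hpm (not_center_m D hx₁m)
    have := nu_lt_top D hpm (not_center_m D hx₁m)
    omega
  obtain ⟨z₀, hz₀P, hz₀c, hz₀⟩ := exists_central_mod P hPc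
  have hz₀p := pel_of_mem P.2 hz₀P
  have hPN := le_normalizer_cz hz₀
  have hB := card_inf_of_normalized P hPN
  set B := (P : Subgroup G) ⊓ cz z₀ with hBdef
  have hBp : ∀ b ∈ B, PEl p b := fun b hb => pel_of_mem P.2 (mem_inf.1 hb).1
  -- all `p`-elements have equally large `r`-part in their centralisers
  have hδ : ∀ z : G, PEl p z → z ∉ center G → nu r (center G) < nu r (cz z) := by
    intro z hz hzc
    obtain ⟨y, hyx, hy, hyc⟩ := exists_noncentral (nu_center_lt_cz D hpm (not_center_m D hx₁m))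
    have h1 := nu_center_lt (center_le_cz y) (mem_cz.2 (mem_cz.1 hyx).symm) hx₁
      (not_center_m D hx₁m)
    have h2 := nu_add_index (p := r) (cz y)
    have h3 := nu_add_index (p := r) (cz z)
    rw [hmn y hy hyc] at h2
    rw [hmn z hz hzc] at h3
    omega
  -- choose `x`
  obtain ⟨x, hx, hxm, hxz₀⟩ : ∃ x : G, PEl r x ∧ (cz x).index = m ∧ Commute x z₀ := by
    obtain ⟨e, hez, he, hec⟩ := exists_noncentral (hδ z₀ hz₀p hz₀c)
    have hecop := he.coprime hp.out hrp
    rcases D.sizes e hec with hei | hei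
    · exact ⟨e, he, hei, mem_cz.1 hez⟩
    · obtain ⟨R, hR, heR⟩ := exists_sylowIn_ge (isPGroup_zpowers he)
        (le_top : zpowers e ≤ (⊤ : Subgroup G))
      obtain ⟨k, hk⟩ := exists_conj_sylow hrp (hx₁m.trans hma) hR
      refine ⟨k⁻¹ * x₁ * k⁻¹⁻¹, PEl.conj hx₁ _, (index_cz_conj _ _).trans hx₁m, ?_⟩
      have h1 := commute_conj k⁻¹ (mem_cz.1 (hk (Basics.conj_mem_conj_smul (heR (mem_zpowers e)))))
      rw [show k⁻¹ * (k * e * k⁻¹) * k⁻¹⁻¹ = e by group] at h1
      exact mem_cz.1 (le_cz_of_mn_right D (mem_cz.1 hez).symm hz₀p hecop hei (mem_cz.2 h1.symm))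
  have hxc := not_center_m D hxm
  have hxcop := hx.coprime hp.out hrp
  have hBx : ∀ b ∈ B, Commute b x := fun b hb =>
    split D hpm hz₀p hz₀c (mem_cz.1 (mem_inf.1 hb).2) hxz₀ (hBp b hb) hxcop
  have hBsyl : Basics.IsSylowIn p (cz x) B :=
    ⟨fun b hb => mem_cz.2 (hBx b hb), by rw [hB, nu_eq D hpm hz₀c hxc]; rfl⟩
  -- `p`-regular elements of `C(z₀)` commute
  have habel : ∀ v w : G, (orderOf v).Coprime p → Commute v z₀ → Commute w z₀ →
      (orderOf w).Coprime p → Commute w v := fun v w hv hvz hwz hw =>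
    mem_cz.1 (le_cz_of_mn_left D hvz.symm hz₀p hv (hmn z₀ hz₀p hz₀c) (mem_cz.2 hwz))
  -- the normal closure `V`
  have hconj : ∀ k : G, Commute (k * x * k⁻¹) z₀ := by
    intro k
    obtain ⟨π, hπ, hc⟩ := exists_mul P (hxm.trans hma) k
    have h2 : k * x * k⁻¹ = π * x * π⁻¹ := by
      calc k * x * k⁻¹ = π * ((π⁻¹ * k) * x) * k⁻¹ := by group
        _ = π * (x * (π⁻¹ * k)) * k⁻¹ := by rw [(mem_cz.1 hc).eq]
        _ = π * x * π⁻¹ := by group
    rw [h2]
    refine mem_cz.1 ?_
    rw [← cz_conj_of_central_mod (hz₀ π hπ)]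
    exact mem_cz.2 (commute_conj π hxz₀)
  set V := normalClosure ({x} : Set G) with hVdef
  have hVz : ∀ w ∈ V, PEl r w ∧ Commute w z₀ := by
    intro w hw
    refine closure_induction (fun y hy => ?_) ⟨⟨0, by simp⟩, Commute.one_left _⟩
      (fun a b _ _ ha hb => ⟨ha.1.mul hb.1 (habel b a (hb.1.coprime hp.out hrp) hb.2 ha.2
        (ha.1.coprime hp.out hrp)), ha.2.mul_left hb.2⟩)
      (fun a _ ha => ⟨ha.1.inv, ha.2.inv_left⟩) hw
    obtain ⟨x', hx', hc⟩ := Group.mem_conjugatesOfSet_iff.1 hy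
    rw [Set.mem_singleton_iff] at hx'
    subst x'
    obtain ⟨k, rfl⟩ := isConj_iff.1 hc
    exact ⟨PEl.conj hx k, hconj k⟩
  have hxV : x ∈ V := subset_normalClosure rfl
  have hVab : ∀ v ∈ V, ∀ w ∈ V, Commute v w := fun v hv w hw =>
    habel w v ((hVz w hw).1.coprime hp.out hrp) (hVz w hw).2 (hVz v hv).2
      ((hVz v hv).1.coprime hp.out hrp)
  have hVr : IsPGroup r V := IsPGroup.iff_orderOf.2 fun w => by
    obtain ⟨k, hk⟩ := (hVz w w.2).1
    obtain ⟨j, -, hj⟩ := (Nat.dvd_prime_pow hr).1 hk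
    exact ⟨j, by rw [← orderOf_coe, hj]⟩
  have hVn : V.Normal := normalClosure_normal
  have hBV : ∀ b ∈ B, ∀ w ∈ V, Commute b w := fun b hb w hw =>
    split D hpm hz₀p hz₀c (mem_cz.1 (mem_inf.1 hb).2) (hVz w hw).2 (hBp b hb)
      ((hVz w hw).1.coprime hp.out hrp)
  have KV : ∀ b : G, PEl p b → Commute b x → ∀ w ∈ V, Commute b w := by
    intro b hb hbx w hw
    obtain ⟨T, hT, hbT⟩ := exists_sylowIn_ge (isPGroup_zpowers hb) (zpowers_le.2 (mem_cz.2 hbx))
    obtain ⟨k, -, hk⟩ := hT.exists_conj hBsyl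
    have h1 := hBV _ (hk ▸ Basics.conj_mem_conj_smul (hbT (mem_zpowers b))) _
      (hVn.conj_mem w hw k)
    have h2 := commute_conj k⁻¹ h1
    rwa [show k⁻¹ * (k * b * k⁻¹) * k⁻¹⁻¹ = b by group,
      show k⁻¹ * (k * w * k⁻¹) * k⁻¹⁻¹ = w by group] at h2
  have stab : ∀ e ∈ V, e ∉ center G → ∀ h ∈ (P : Subgroup G), Commute h e → h ∈ B := by
    intro e he hec h hh hhe
    have hle : B ≤ (P : Subgroup G) ⊓ cz e := fun b hb =>
      mem_inf.2 ⟨(mem_inf.1 hb).1, mem_cz.2 (hBV b hb e he)⟩
    have he' : B = (P : Subgroup G) ⊓ cz e := eq_of_le_of_card_ge hle (by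
      rw [hB, nu_eq D hpm hz₀c hec]
      exact card_pGroup_le (P.2.to_le inf_le_left) inf_le_right)
    rw [he']
    exact mem_inf.2 ⟨hh, mem_cz.2 hhe⟩
  -- `g`
  haveI hBn : (B.subgroupOf (P : Subgroup G)).Normal := by
    refine ⟨fun b hb π => ?_⟩
    rw [mem_subgroupOf] at hb ⊢
    obtain ⟨hb1, hb2⟩ := mem_inf.1 hb
    exact mem_inf.2 ⟨mul_mem (mul_mem π.2 hb1) (inv_mem π.2),
      (mem_normalizer_iff.1 (hPN π.2) _).1 hb2⟩
  obtain ⟨g, hgP, hgB, hgp, hgc⟩ : ∃ g ∈ (P : Subgroup G), g ∉ B ∧ g ^ p ∈ B ∧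
      ∀ π ∈ (P : Subgroup G), g * π * g⁻¹ * π⁻¹ ∈ B := by
    have hQp : IsPGroup p ((P : Subgroup G) ⧸ B.subgroupOf (P : Subgroup G)) :=
      P.2.to_quotient _
    haveI : Nontrivial ((P : Subgroup G) ⧸ B.subgroupOf (P : Subgroup G)) := by
      refine QuotientGroup.nontrivial_iff.2 fun h => ?_
      rw [subgroupOf_eq_top] at h
      have h1 := card_le_of_le h
      rw [hB, P.card_eq_multiplicity] at h1
      exact absurd ((Nat.pow_le_pow_iff_right hp.out.one_lt).1 h1)
        (not_le.2 (nu_lt_top D hpm hz₀c))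
    haveI : Nontrivial (center ((P : Subgroup G) ⧸ B.subgroupOf (P : Subgroup G))) :=
      hQp.center_nontrivial
    obtain ⟨j, hj0, hj⟩ := (hQp.to_subgroup (center _)).nontrivial_iff_card.1 inferInstance
    obtain ⟨c, hc⟩ := exists_prime_orderOf_dvd_card' p
      (hj ▸ dvd_pow_self p (by omega) :
        p ∣ Nat.card (center ((P : Subgroup G) ⧸ B.subgroupOf (P : Subgroup G))))
    obtain ⟨g, hg⟩ := QuotientGroup.mk'_surjective _
      (c : (P : Subgroup G) ⧸ B.subgroupOf (P : Subgroup G))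
    refine ⟨g, g.2, fun hgB => ?_, ?_, fun π hπ => ?_⟩
    · have : c = 1 := Subtype.ext (by
        rw [← hg]; exact (QuotientGroup.eq_one_iff g).2 (mem_subgroupOf.2 hgB))
      rw [this, orderOf_one] at hc
      exact hp.out.ne_one hc.symm
    · have h1 : QuotientGroup.mk' (B.subgroupOf (P : Subgroup G)) (g ^ p) = 1 := by
        rw [map_pow, hg, ← Subgroup.coe_pow, show c ^ p = 1 from orderOf_dvd_iff_pow_eq_one.1 hc.dvd, Subgroup.coe_one]
      exact (mem_subgroupOf (h := g ^ p)).1 ((QuotientGroup.eq_one_iff _).1 h1)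
    · have h1 := mem_center_iff.1 c.2 (QuotientGroup.mk' _ ⟨π, hπ⟩)
      have h2 : QuotientGroup.mk' (B.subgroupOf (P : Subgroup G)) (g * ⟨π, hπ⟩ * g⁻¹ * ⟨π, hπ⟩⁻¹) =
          1 := by
        simp only [map_mul, map_inv, hg]
        rw [← h1, mul_inv_cancel_right, mul_inv_cancel]
      generalize hπ' : (⟨π, hπ⟩ : (P : Subgroup G)) = π' at h2
      have h3 := (mem_subgroupOf (h := g * π' * g⁻¹ * π'⁻¹)).1 ((QuotientGroup.eq_one_iff _).1 h2)
      rw [← hπ'] at h3
      exact h3
  have hgcen : g ∉ center G := fun h => hgB (mem_inf.2 ⟨hgP, center_le_cz _ h⟩)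
  have hgel := pel_of_mem P.2 hgP
  have hgx : ¬ Commute g x := fun h => hgB (stab x hxV hxc g hgP h)
  -- `v`
  obtain ⟨v, hvg', hv, hvc⟩ := exists_noncentral (hδ g hgel hgcen)
  have hvg := mem_cz.1 hvg'
  have hvcop := hv.coprime hp.out hrp
  have hvm : (cz v).index = m := by
    refine (D.sizes v hvc).resolve_right fun hvi => ?_
    have hveq : cz v = cz g := le_antisymm (le_cz_of_mn_right D hvg.symm hgel hvcop hvi)
      (le_cz_of_mn_left D hvg.symm hgel hvcop (hmn g hgel hgcen))
    set π := QuotientGroup.mk' (center G)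
    obtain ⟨T, hT⟩ := (isPGroup_zpowers hv).map π |>.exists_le_sylow
    have hVT : V.map π ≤ (T : Subgroup (G ⧸ center G)) := by
      haveI : (V.map π).Normal := hVn.map π (QuotientGroup.mk'_surjective _)
      have h1 : IsPGroup r ((T : Subgroup (G ⧸ center G)) ⊔ V.map π : Subgroup _) :=
        T.2.to_sup_of_normal_right (hVr.map π)
      exact le_sup_right.trans (T.3 h1 le_sup_left).le
    haveI : ((V.map π).subgroupOf (T : Subgroup (G ⧸ center G))).Normal := by
      haveI : (V.map π).Normal := hVn.map π (QuotientGroup.mk'_surjective _)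
      infer_instance
    have hne : (V.map π).subgroupOf (T : Subgroup (G ⧸ center G)) ≠ ⊥ := by
      intro h
      rw [subgroupOf_eq_bot] at h
      have h1 : π x ∈ V.map π ⊓ (T : Subgroup (G ⧸ center G)) :=
        mem_inf.2 ⟨mem_map_of_mem π hxV, hVT (mem_map_of_mem π hxV)⟩
      rw [h.eq_bot, mem_bot] at h1
      exact hxc ((QuotientGroup.eq_one_iff x).1 h1)
    obtain ⟨c, hcV, hcc, hc1⟩ := InvChar.exists_mem_center_of_normal T.2
      ((V.map π).subgroupOf (T : Subgroup (G ⧸ center G))) hne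
    obtain ⟨e, he, hec⟩ := mem_subgroupOf.1 hcV
    have hecn : e ∉ center G := fun h => hc1 (Subtype.ext (by
      rw [← hec]; exact (QuotientGroup.eq_one_iff e).2 h))
    have h2 : π e * π v = π v * π e := by
      have := congrArg Subtype.val
        (mem_center_iff.1 hcc ⟨π v, hT (mem_map_of_mem π (mem_zpowers v))⟩)
      simp only [Subgroup.coe_mul, ← hec] at this
      exact this.symm
    have h3 : e * v * e⁻¹ * v⁻¹ ∈ center G := by
      refine (QuotientGroup.eq_one_iff _).1 ?_
      show π (e * v * e⁻¹ * v⁻¹) = 1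
      simp only [map_mul, map_inv]
      rw [h2, mul_inv_cancel_right, mul_inv_cancel]
    have h4 : e * g * e⁻¹ ∈ cz v := by
      rw [← cz_conj_of_central_mod h3]
      exact mem_cz.2 (commute_conj e hvg.symm)
    rw [hveq, mem_cz] at h4
    have h5 : g * (e * g * e⁻¹)⁻¹ ∈ V := by
      rw [show g * (e * g * e⁻¹)⁻¹ = (g * e * g⁻¹) * e⁻¹ by group]
      exact mul_mem (hVn.conj_mem e he g) (inv_mem he)
    have h6 : g * (e * g * e⁻¹)⁻¹ = 1 :=
      eq_one_of_pel hrp.symm (hgel.mul (PEl.conj hgel e).inv h4.symm.inv_right) (hVz _ h5).1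
    rw [mul_inv_eq_one, eq_mul_inv_iff_mul_eq] at h6
    exact hgB (stab e he hecn g hgP h6)
  have hvV : V ≤ cz v := le_cz_of_normal hVr (nu_of_index hrp (hvm.trans hma))
  have noY : ∀ y : G, PEl p y → y ∉ center G → Commute y x → Commute y v → False := by
    intro y hy hyc hyx hyv
    obtain ⟨S, hS, -⟩ := exists_sylowIn_ge (p := p) IsPGroup.of_bot (bot_le : ⊥ ≤ cz y)
    have hsv : ∀ s ∈ S, Commute s v ∧ Commute s x := fun s hs =>
      ⟨split D hpm hy hyc (mem_cz.1 (hS.1 hs)) hyv.symm (pel_of_mem hS.isPGroup hs) hvcop,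
       split D hpm hy hyc (mem_cz.1 (hS.1 hs)) hyx.symm (pel_of_mem hS.isPGroup hs) hxcop⟩
    have hS' : Basics.IsSylowIn p (cz v) S :=
      ⟨fun s hs => mem_cz.2 (hsv s hs).1, by
        rw [hS.2]; exact congrArg (p ^ ·) (nu_eq D hpm hyc hvc)⟩
    obtain ⟨T, hT, hgT⟩ := exists_sylowIn_ge (isPGroup_zpowers hgel)
      (zpowers_le.2 (mem_cz.2 hvg.symm))
    obtain ⟨d, -, hd⟩ := hT.exists_conj hS'
    have hs := hd ▸ Basics.conj_mem_conj_smul (g := d) (hgT (mem_zpowers g))
    have h1 := KV _ (pel_of_mem hS.isPGroup hs) (hsv _ hs).2 _ (hVn.conj_mem x hxV d)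
    have h2 := commute_conj d⁻¹ h1
    rw [show d⁻¹ * (d * g * d⁻¹) * d⁻¹⁻¹ = g by group,
      show d⁻¹ * (d * x * d⁻¹) * d⁻¹⁻¹ = x by group] at h2
    exact hgx h2
  have hxv : Commute x v := mem_cz.1 (hvV hxV)
  set u := x * v with hu
  have hur : PEl r u := hx.mul hv hxv
  have hucop := hur.coprime hp.out hrp
  have huc : u ∉ center G := by
    intro huc
    have h1 : Commute g u := mem_center_iff.1 huc g
    have h2 := h1.mul_right hvg.symm.inv_right
    rw [hu, mul_inv_cancel_right] at h2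
    exact hgx h2
  rcases D.sizes u huc with hum | humn
  swap
  · obtain ⟨y, hyu', hy, hyc⟩ := exists_noncentral (nu_center_lt_cz D hpm huc)
    have hyu := mem_cz.1 hyu'
    have hxu : x ∈ cz u := mem_cz.2 ((Commute.refl x).mul_right hxv)
    have hyx : Commute y x := (mem_cz.1 (le_cz_of_mn_right D hyu hy hucop humn hxu)).symm
    refine noY y hy hyc hyx ?_
    have := hyx.inv_right.mul_right hyu
    rwa [hu, inv_mul_cancel_left] at this
  obtain ⟨h₀, hh₀, hh₀p, hh₀c⟩ := exists_noncentral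
    (show nu p (center G) < nu p ((P : Subgroup G) ⊓ cz u) by
      have h1 := card_inf_of_index P (hum.trans hma)
      have h2 : nu p ((P : Subgroup G) ⊓ cz u) = nu p (cz u) := by
        rw [nu, h1, hp.out.factorization_pow, Finsupp.single_eq_same]
      rw [h2]
      exact nu_center_lt_cz D hpm huc)
  obtain ⟨hh₀P, hh₀u'⟩ := mem_inf.1 hh₀
  have hh₀u := mem_cz.1 hh₀u'
  have hh₀B : h₀ ∉ B := by
    intro hB'
    have hh₀x := hBx _ hB'
    refine noY h₀ hh₀p hh₀c hh₀x ?_
    have := hh₀x.inv_right.mul_right hh₀u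
    rwa [hu, inv_mul_cancel_left] at this
  obtain ⟨k, hk1, hk2⟩ := exists_pow_mem hh₀p hh₀B
  set h := h₀ ^ p ^ k with hh
  have hhP : h ∈ (P : Subgroup G) := pow_mem hh₀P _
  have hhu : Commute h u := hh₀u.pow_left _
  by_cases hcase : ∃ j : ℕ, g * h ^ j ∈ B
  · obtain ⟨j, hj⟩ := hcase
    set b := g * h ^ j with hb
    have h1 : g * u * g⁻¹ = b * u * b⁻¹ := by
      rw [hb, mul_inv_rev, show g * h ^ j * u * ((h ^ j)⁻¹ * g⁻¹) =
        g * ((h ^ j * u) * (h ^ j)⁻¹) * g⁻¹ by group, (hhu.pow_left j).eq, mul_inv_cancel_right]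
    set w := x⁻¹ * (g * x * g⁻¹) with hw
    have hwV : w ∈ V := mul_mem (inv_mem hxV) (hVn.conj_mem x hxV g)
    have h2 : b * v * b⁻¹ = w * v := by
      have e1 : g * u * g⁻¹ = (g * x * g⁻¹) * v := by
        rw [hu, show g * (x * v) * g⁻¹ = (g * x * g⁻¹) * (g * v * g⁻¹) by group,
          show g * v * g⁻¹ = v by rw [← hvg.eq, mul_inv_cancel_right]]
      have e2 : b * u * b⁻¹ = x * (b * v * b⁻¹) := by
        rw [hu, show b * (x * v) * b⁻¹ = (b * x * b⁻¹) * (b * v * b⁻¹) by group,
          show b * x * b⁻¹ = x by rw [(hBx b hj).eq, mul_inv_cancel_right]]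
      rw [e1, e2] at h1
      rw [hw, mul_assoc x⁻¹, h1, inv_mul_cancel_left]
    have h3 : w = 1 := SquarefreeClass.eq_one_of_conj (p := r) (g := b) (a := v) (c := w)
      (hVz w hwV).1 ((hBp b hj).coprime hr hrp.symm) (hBV b hj w hwV).eq h2
    rw [hw, inv_mul_eq_one, eq_mul_inv_iff_mul_eq] at h3
    exact hgx h3.symm
  push Not at hcase
  haveI hVc : IsMulCommutative V := ⟨⟨fun a b => Subtype.ext (hVab a a.2 b b.2).eq⟩⟩
  have hone : ∀ b ∈ B, MulAut.conjNormal (H := V) b = 1 := fun b hb => MulEquiv.ext fun w => by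
    refine Subtype.ext ?_
    rw [MulAut.conjNormal_apply, MulAut.one_apply, (hBV b hb w w.2).eq, mul_inv_cancel_right]
  have hxp : (⟨x, hxV⟩ : V) ^ p ∈ (center G).subgroupOf V := by
    refine Basics.pow_mem_of_commuting_auts p (MulAut.conjNormal (H := V) g)
      (MulAut.conjNormal (H := V) h) ?_ ?_ ?_ ((center G).subgroupOf V) ?_ _
    · refine commutatorElement_eq_one_iff_commute.1 ?_
      rw [← map_commutatorElement]
      exact hone _ (hgc h hhP)
    · rw [← map_pow]; exact hone _ hgp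
    · rw [← map_pow]; exact hone _ hk2
    · intro φ hφ w hw
      rw [mem_subgroupOf]
      by_contra hwc
      obtain ⟨γ, hγP, hγB, rfl⟩ : ∃ γ ∈ (P : Subgroup G), γ ∉ B ∧
          φ = MulAut.conjNormal (H := V) γ := by
        rcases hφ with ⟨j, rfl⟩ | rfl
        · exact ⟨g * h ^ j, mul_mem hgP (pow_mem hhP j), hcase j, (by rw [hh]; simp [map_mul, map_pow])⟩
        · exact ⟨h, hhP, hk1, rfl⟩
      have h1 := congrArg Subtype.val hw
      rw [MulAut.conjNormal_apply, mul_inv_eq_iff_eq_mul] at h1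
      exact hγB (stab w w.2 hwc γ hγP h1)
  rw [mem_subgroupOf] at hxp
  exact hxc (pel_of_pow_mem_center hrp.symm hx (by simpa using hxp))

/-- An isolated element exists. -/
theorem exists_isolated [hp : Fact p.Prime] (hpm : p ∣ m) (hma : m = p ^ a) :
    ∃ z : G, PEl p z ∧ z ∉ center G ∧
      ∀ v : G, (orderOf v).Coprime p → Commute v z → v ∈ center G := by
  by_contra hcon
  push Not at hcon
  have hno : NoIso G p := fun z hz hzc => by
    obtain ⟨v, hv, hvz, hvc⟩ := hcon z hz hzc
    exact ⟨v, hv, hvc, hvz⟩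
  by_cases hP : ∃ z : G, PEl p z ∧ (cz z).index = m
  · obtain ⟨z, hz, hzm⟩ := hP
    exact false_of_all_commute D hpm hno hz (not_center_m D hzm)
      fun v hv => (commute_of_index_m D hpm hma hz hzm v hv).1
  · push Not at hP
    exact false_of_all_mn D hpm hma hno fun z hz hzc => (D.sizes z hzc).resolve_left (hP z hz)

omit D

/-- The conclusion of the classification of groups with class sizes `{1, m, m * n}`. -/
theorem main (D : Data G m n) : m.Prime ∧ m ∣ n - 1 ∧
    (∃ M : Subgroup G, M.Normal ∧ (M : Set G) = {x : G | (cz x).index = 1 ∨ (cz x).index = m} ∧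
      M.index = m ∧ IsMulCommutative M) ∧
    (∃ N : Subgroup G, N.Normal ∧ (Nat.card N).Coprime m ∧ ∃ a : ℕ, N.index = m ^ a) ∧
    ∀ P : Sylow m G, Nat.card (commutator (P : Subgroup G)) = m := by
  have hm1 : m ≠ 1 := by have := D.one_lt_m; omega
  set p := m.minFac with hpdef
  have hp : p.Prime := Nat.minFac_prime hm1
  have hpm : p ∣ m := Nat.minFac_dvd m
  haveI := Fact.mk hp
  obtain ⟨a, hma⟩ : ∃ a, m = p ^ a :=
    ⟨_, Nat.eq_prime_pow_of_unique_prime_dvd (by have := D.one_lt_m; omega)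
      fun hd hdm => prime_unique D hd hp hdm hpm⟩
  obtain ⟨z₁, hz₁, hz₁c, hiso⟩ := exists_isolated D hpm hma
  have hζ : ∀ q : ℕ, q.Prime → q ≠ p → nu q (cz z₁) = nu q (center G) := by
    intro q hq hqp
    haveI := Fact.mk hq
    refine le_antisymm (not_lt.1 fun hlt => ?_) (nu_mono (center_le_cz z₁))
    obtain ⟨w, hw, hwq, hwc⟩ := exists_noncentral hlt
    exact hwc (hiso w (hwq.coprime hp hqp) (mem_cz.1 hw))
  obtain ⟨q₀, hq₀, hq₀n⟩ : ∃ q : ℕ, q.Prime ∧ q ∣ n :=
    ⟨n.minFac, Nat.minFac_prime (by have := D.one_lt_n; omega), Nat.minFac_dvd n⟩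
  have hq₀p : q₀ ≠ p := fun e => hp.not_dvd_one
    (D.cop ▸ Nat.dvd_gcd hpm (e ▸ hq₀n) : p ∣ 1)
  have hz₁mn : (cz z₁).index = m * n := by
    refine (D.sizes z₁ hz₁c).resolve_left fun h => ?_
    obtain ⟨g, hg⟩ := D.ex_mn
    haveI := Fact.mk hq₀
    have h1 := nu_of_index hq₀p (h.trans hma)
    have h2 := nu_add_index (p := q₀) (cz g)
    have h3 := nu_mono (p := q₀) (center_le_cz g)
    have h4 : 0 < (cz g).index.factorization q₀ := hq₀.factorization_pos_of_dvd
      index_ne_zero_of_finite (by rw [hg]; exact dvd_mul_of_dvd_right hq₀n m)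
    rw [hζ q₀ hq₀ hq₀p] at h1
    omega
  have hmidx : ∀ q : ℕ, q.Prime → q ≠ p → ∀ (w g : G), PEl q w → w ∉ center G → Commute w g →
      g ∉ center G → (cz g).index = m := by
    intro q hq hqp w g hw hwc hwg hgc
    haveI := Fact.mk hq
    refine (D.sizes g hgc).resolve_right fun h => ?_
    have h1 := nu_center_lt (center_le_cz g) (mem_cz.2 hwg) hw hwc
    have h2 := nu_add_index (p := q) (cz g)
    have h3 := nu_add_index (p := q) (cz z₁)
    rw [h] at h2
    rw [hz₁mn, hζ q hq hqp] at h3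
    omega
  obtain ⟨v, hv, hvc⟩ : ∃ v : G, PEl q₀ v ∧ v ∉ center G := by
    obtain ⟨g, hg⟩ := D.ex_mn
    exact exists_pel D hq₀ (g := g) (by rw [hg]; exact dvd_mul_of_dvd_right hq₀n m)
  haveI := Fact.mk hq₀
  have hvcop := hv.coprime hp hq₀p
  obtain ⟨z, hzv', hz, hzc⟩ := exists_noncentral (nu_center_lt_cz D hpm hvc)
  have hzv := mem_cz.1 hzv'
  have hzm : (cz z).index = m := hmidx q₀ hq₀ hq₀p v z hv hvc hzv.symm hzc
  have hall := commute_of_index_m D hpm hma hz hzm
  set M := cz z with hM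
  have heq : ∀ (b w : G), PEl p b → b ∉ center G → ∀ q : ℕ, q.Prime → q ≠ p → PEl q w →
      w ∉ center G → Commute b w → cz b = cz w := by
    intro b w hb hbc q hq hqp hw hwc hbw
    haveI := Fact.mk hq
    have hwcop := hw.coprime hp hqp
    have hbm := hmidx q hq hqp w b hw hwc hbw.symm hbc
    have hwm := hmidx q hq hqp w w hw hwc (Commute.refl w) hwc
    have hum := hmidx q hq hqp w (b * w) hw hwc (hbw.symm.mul_right (Commute.refl w))
      (mul_not_center hbw hb hwcop (Or.inl hbc))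
    have he := cz_mul_eq hbw hb hwcop
    rw [← index_eq_and_eq (show cz (b * w) ≤ cz b by rw [he]; exact inf_le_left)
      (hum.trans hbm.symm), index_eq_and_eq (show cz (b * w) ≤ cz w by rw [he]; exact inf_le_right)
      (hum.trans hwm.symm)]
  have hMv : cz v = M := (heq z v hz hzc q₀ hq₀ hq₀p hv hvc hzv).symm
  have hMel : ∀ q : ℕ, q.Prime → ∀ w ∈ M, PEl q w → w ∉ center G → cz w = M := by
    intro q hq w hw hwq hwc
    haveI := Fact.mk hq
    rcases eq_or_ne q p with rfl | hqp
    · exact (heq w v hwq hwc q₀ hq₀ hq₀p hv hvc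
        (mem_cz.1 (hMv ▸ hw))).trans hMv
    · exact (heq z w hz hzc q hq hqp hwq hwc (mem_cz.1 hw).symm).symm
  have hMab : ∀ w ∈ M, ∀ y ∈ M, Commute y w := by
    intro w hw y hy
    refine (mem_centralizer_iff.1 ((le_of_pel (H := M) (K := centralizer (M : Set G))
      fun q hq k hk hkq => ?_) hw) y hy : Commute y w)
    refine mem_centralizer_iff.2 fun t ht => ?_
    by_cases hkc : k ∈ center G
    · exact mem_center_iff.1 hkc t
    · exact mem_cz.1 ((hMel q hq k hk hkq hkc).symm ▸ ht)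
  have hall' : ∀ w : G, (orderOf w).Coprime p → w ∈ M := fun w hw => mem_cz.2 (hall w hw).1
  have hUM : (pCore p G : Subgroup G) ≤ M := fun u hu => by
    rw [← hMv]
    exact mem_cz.2 (mem_centralizer_iff.1 (hall v hvcop).2 u hu)
  have hMU : M = centralizer ((pCore p G : Subgroup G) : Set G) := by
    refine le_antisymm (fun w hw => mem_centralizer_iff.2 fun u hu => (hMab w hw u (hUM hu)).eq)
      fun w hw => mem_cz.2 ?_
    exact (mem_centralizer_iff.1 hw z
      (Kazarin.mem_pCore_of_pElement hz ⟨a, hzm.trans hma⟩)).symm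
  haveI hMn : M.Normal := by
    rw [hMU]
    haveI : (pCore p G : Subgroup G).Normal := inferInstance
    exact normal_centralizer
  have hMm : ∀ w ∈ M, w ∉ center G → (cz w).index = m := fun w hw hwc =>
    index_m_of_le D hzm (fun y hy => mem_cz.2 (hMab w hw y hy)) hwc
  have hMcz : ∀ w ∈ M, w ∉ center G → cz w = M := fun w hw hwc =>
    (index_eq_and_eq (fun y hy => mem_cz.2 (hMab w hw y hy)) (hzm.trans (hMm w hw hwc).symm)).symm
  have hnotM : ∀ g : G, g ∉ M → g ∉ center G ∧ (cz g).index ≠ m ∧ cz g ⊓ M = center G := by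
    intro g hg
    have hgc : g ∉ center G := fun h => hg (center_le_cz z h)
    have hcap : cz g ⊓ M = center G := by
      refine le_antisymm (fun w hw => ?_) (le_inf (center_le_cz g) (center_le_cz z))
      obtain ⟨hw1, hw2⟩ := mem_inf.1 hw
      by_contra hwc
      exact hg (hMcz w hw2 hwc ▸ mem_cz.2 (mem_cz.1 hw1).symm)
    refine ⟨hgc, fun hgm => ?_, hcap⟩
    have h1 : nu q₀ (center G) < nu q₀ (cz g) := by
      rw [nu_of_index hq₀p (hgm.trans hma), ← nu_top]
      exact nu_center_lt le_top (mem_top v) hv hvc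
    obtain ⟨w, hw, hwq, hwc⟩ := exists_noncentral h1
    exact hwc (hcap.le (mem_inf.2 ⟨hw, hall' w (hwq.coprime hp hq₀p)⟩))
  obtain ⟨P⟩ : Nonempty (Sylow p G) := inferInstance
  have hPM := card_inf_of_index P (hzm.trans hma)
  have hc1 := nu_lt_top D hpm hzc
  have hPle : ¬ (P : Subgroup G) ≤ M := by
    intro h
    have h1 := card_pGroup_le P.2 h
    rw [P.card_eq_multiplicity] at h1
    exact absurd ((Nat.pow_le_pow_iff_right hp.one_lt).1 h1) (not_le.2 hc1)
  -- an element of `P ∩ M` fixed by `P` modulo the centre, of order `p` modulo the centre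
  obtain ⟨b, hbP, hbM, hbc, hbp, hbconj⟩ : ∃ b ∈ (P : Subgroup G), b ∈ M ∧ b ∉ center G ∧
      b ^ p ∈ center G ∧ ∀ π ∈ (P : Subgroup G), π * b * π⁻¹ * b⁻¹ ∈ center G := by
    set π' := QuotientGroup.mk' (center G)
    set Pb := (P : Subgroup G).map π'
    have hne : ((((P : Subgroup G) ⊓ M).map π').subgroupOf Pb) ≠ ⊥ := by
      intro h
      rw [subgroupOf_eq_bot] at h
      have h0 := h.eq_bot
      rw [inf_eq_left.2 (map_mono inf_le_left), Subgroup.map_eq_bot_iff,
        QuotientGroup.ker_mk'] at h0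
      have h1 := card_pGroup_le (P.2.to_le inf_le_left) h0
      rw [hPM] at h1
      exact absurd ((Nat.pow_le_pow_iff_right hp.one_lt).1 h1)
        (not_le.2 (nu_center_lt_cz D hpm hzc))
    haveI : ((((P : Subgroup G) ⊓ M).map π').subgroupOf Pb).Normal := by
      refine ⟨fun y hy k => ?_⟩
      rw [mem_subgroupOf] at hy ⊢
      obtain ⟨y', hy', hye⟩ := hy
      obtain ⟨k', hk', hke⟩ := k.2
      refine ⟨k' * y' * k'⁻¹, mem_inf.2 ⟨mul_mem (mul_mem hk' (mem_inf.1 hy').1) (inv_mem hk'),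
        hMn.conj_mem _ (mem_inf.1 hy').2 k'⟩, ?_⟩
      simp [hye, hke]
    obtain ⟨c, hcN, hcc, hc1'⟩ := InvChar.exists_mem_center_of_normal (P.2.map π') _ hne
    obtain ⟨b₀, hb₀, hb₀e⟩ := mem_subgroupOf.1 hcN
    obtain ⟨hb₀P, hb₀M⟩ := mem_inf.1 hb₀
    have hb₀c : b₀ ∉ center G := fun h => hc1' (Subtype.ext (by
      rw [← hb₀e]; exact (QuotientGroup.eq_one_iff b₀).2 h))
    obtain ⟨k, hk1, hk2⟩ := exists_pow_mem (pel_of_mem P.2 hb₀P) hb₀c
    refine ⟨b₀ ^ p ^ k, pow_mem hb₀P _, pow_mem hb₀M _, hk1, hk2, fun π hπ => ?_⟩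
    have h1 := congrArg Subtype.val (mem_center_iff.1 hcc ⟨π' π, π, hπ, rfl⟩)
    simp only [Subgroup.coe_mul, ← hb₀e] at h1
    have h2 : Commute (π' π) (π' (b₀ ^ p ^ k)) := by
      rw [map_pow]; exact (show Commute (π' π) (π' b₀) from h1).pow_right _
    refine (QuotientGroup.eq_one_iff _).1 ?_
    show π' (π * b₀ ^ p ^ k * π⁻¹ * (b₀ ^ p ^ k)⁻¹) = 1
    simp only [map_mul, map_inv]
    rw [h2.eq, mul_inv_cancel_right, mul_inv_cancel]
  have hbcz := hMcz b hbM hbc
  have hpow : ∀ π ∈ (P : Subgroup G), π ^ p ∈ M := by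
    intro π hπ
    set c := π * b * π⁻¹ * b⁻¹ with hc
    have hcz : c ∈ center G := hbconj π hπ
    have hcb : Commute c b := (mem_center_iff.1 hcz b).symm
    have e : π * b * π⁻¹ = c * b := by rw [hc]; group
    have e1 : c ^ p = 1 := by
      have h1 : π * b ^ p * π⁻¹ = c ^ p * b ^ p := by rw [← conj_pow, e, hcb.mul_pow]
      rw [mem_center_iff.1 hbp π, mul_inv_cancel_right] at h1
      exact right_eq_mul.1 h1
    have e2 : ∀ k : ℕ, π ^ k * b * (π ^ k)⁻¹ = c ^ k * b := by
      intro k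
      induction k with
      | zero => simp
      | succ k ih =>
        rw [pow_succ', mul_inv_rev, show π * π ^ k * b * ((π ^ k)⁻¹ * π⁻¹) =
          π * (π ^ k * b * (π ^ k)⁻¹) * π⁻¹ by group, ih,
          show π * (c ^ k * b) * π⁻¹ = (π * c ^ k * π⁻¹) * (π * b * π⁻¹) by group,
          mem_center_iff.1 (pow_mem hcz k) π, mul_inv_cancel_right, e, ← mul_assoc, ← pow_succ]
    have h2 := e2 p
    rw [e1, one_mul, mul_inv_eq_iff_eq_mul] at h2
    exact hbcz ▸ mem_cz.2 h2
  have hcomm : ∀ π ∈ (P : Subgroup G), ∀ σ ∈ (P : Subgroup G), π * σ * π⁻¹ * σ⁻¹ ∈ M := by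
    intro π hπ σ hσ
    have key : ∀ s t : G, π * 1 = π → s ∈ (P : Subgroup G) → t ∈ (P : Subgroup G) →
        s * t * b * (s * t)⁻¹ = (t * b * t⁻¹ * b⁻¹) * (s * b * s⁻¹ * b⁻¹) * b := by
      intro s t _ hs ht
      have hc := hbconj t ht
      calc s * t * b * (s * t)⁻¹ = s * (t * b * t⁻¹ * b⁻¹) * b * s⁻¹ := by group
        _ = (t * b * t⁻¹ * b⁻¹) * s * b * s⁻¹ := by rw [mem_center_iff.1 hc s]
        _ = (t * b * t⁻¹ * b⁻¹) * (s * b * s⁻¹ * b⁻¹) * b := by group
    have h1 : π * σ * b * (π * σ)⁻¹ = σ * π * b * (σ * π)⁻¹ := by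
      rw [key π σ (mul_one π) hπ hσ, key σ π (mul_one π) hσ hπ,
        mem_center_iff.1 (hbconj π hπ) (σ * b * σ⁻¹ * b⁻¹)]
    have h2 : Commute ((σ * π)⁻¹ * (π * σ)) b := by
      show (σ * π)⁻¹ * (π * σ) * b = b * ((σ * π)⁻¹ * (π * σ))
      calc (σ * π)⁻¹ * (π * σ) * b = (σ * π)⁻¹ * (π * σ * b * (π * σ)⁻¹) * (π * σ) := by group
        _ = (σ * π)⁻¹ * (σ * π * b * (σ * π)⁻¹) * (π * σ) := by rw [h1]
        _ = b * ((σ * π)⁻¹ * (π * σ)) := by group
    have h3 : (σ * π)⁻¹ * (π * σ) ∈ M := hbcz ▸ mem_cz.2 h2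
    have h4 := hMn.conj_mem _ h3 (σ * π)
    rwa [show σ * π * ((σ * π)⁻¹ * (π * σ)) * (σ * π)⁻¹ = π * σ * π⁻¹ * σ⁻¹ by group] at h4
  obtain ⟨g, hgP, hgM⟩ : ∃ g ∈ (P : Subgroup G), g ∉ M := by
    by_contra h
    push Not at h
    exact hPle h
  haveI hMc : IsMulCommutative M := ⟨⟨fun s t => Subtype.ext (hMab t t.2 s s.2).eq⟩⟩
  have hone : ∀ k ∈ M, MulAut.conjNormal (H := M) k = 1 := fun k hk => MulEquiv.ext fun w => by
    refine Subtype.ext ?_
    rw [MulAut.conjNormal_apply, MulAut.one_apply, (hMab w w.2 k hk).eq, mul_inv_cancel_right]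
  have hcyc : (P : Subgroup G) ≤ zpowers g ⊔ ((P : Subgroup G) ⊓ M) := by
    intro h hh
    by_cases hhM : h ∈ M
    · exact mem_sup_right (mem_inf.2 ⟨hh, hhM⟩)
    by_cases hcase : ∃ j : ℕ, g * h ^ j ∈ M
    · obtain ⟨j, hj⟩ := hcase
      have hjp : j.Coprime p := by
        refine ((hp.coprime_iff_not_dvd).2 fun ⟨t, ht⟩ => hgM ?_).symm
        rw [ht, pow_mul] at hj
        exact (mul_mem_cancel_right (pow_mem (hpow h hh) t)).1 hj
      have h1 : h ^ j ∈ zpowers g ⊔ ((P : Subgroup G) ⊓ M) := by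
        rw [show h ^ j = g⁻¹ * (g * h ^ j) by group]
        exact mul_mem (mem_sup_left (inv_mem (mem_zpowers g)))
          (mem_sup_right (mem_inf.2 ⟨mul_mem hgP (pow_mem hh j), hj⟩))
      obtain ⟨k, hk⟩ := pel_of_mem P.2 hh
      obtain ⟨i, hi⟩ := exists_pow_eq_self_of_coprime (n := j) (x := h)
        (Nat.Coprime.coprime_dvd_right hk (hjp.pow_right k))
      rw [← hi]
      exact pow_mem h1 i
    exfalso
    push Not at hcase
    have hxp : (⟨v, hall' v hvcop⟩ : M) ^ p ∈ (center G).subgroupOf M := by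
      refine Basics.pow_mem_of_commuting_auts p (MulAut.conjNormal (H := M) g)
        (MulAut.conjNormal (H := M) h) ?_ ?_ ?_ ((center G).subgroupOf M) ?_ _
      · refine commutatorElement_eq_one_iff_commute.1 ?_
        rw [← map_commutatorElement]
        exact hone _ (hcomm g hgP h hh)
      · rw [← map_pow]; exact hone _ (hpow g hgP)
      · rw [← map_pow]; exact hone _ (hpow h hh)
      · intro φ hφ w hw
        rw [mem_subgroupOf]
        by_contra hwc
        obtain ⟨γ, hγB, rfl⟩ : ∃ γ : G, γ ∉ M ∧ φ = MulAut.conjNormal (H := M) γ := by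
          rcases hφ with ⟨j, rfl⟩ | rfl
          · exact ⟨g * h ^ j, hcase j, by rw [map_mul, map_pow]⟩
          · exact ⟨h, hhM, rfl⟩
        have h1 := congrArg Subtype.val hw
        rw [MulAut.conjNormal_apply, mul_inv_eq_iff_eq_mul] at h1
        exact hγB (hMcz w w.2 hwc ▸ mem_cz.2 h1)
    rw [mem_subgroupOf] at hxp
    exact hvc (pel_of_pow_mem_center hq₀p.symm hv (by simpa using hxp))
  have hmp : m = p := by
    have h1 : Nat.card (P : Subgroup G) ≤ p * Nat.card ((P : Subgroup G) ⊓ M : Subgroup G) := by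
      set B := (P : Subgroup G) ⊓ M
      have hN : zpowers g ≤ normalizer (B : Set G) := zpowers_le.2 (by
        rw [mem_normalizer_iff]
        intro w
        simp only [B, mem_inf]
        exact and_congr
          ((mul_mem_cancel_right (inv_mem hgP)).trans (mul_mem_cancel_left hgP)).symm
          (mem_normalizer_iff.1 (by rw [normalizer_eq_top_iff.2 hMn]; exact mem_top g) w))
      have e := Basics.card_mul_card_eq_card_sup_mul_card_inf hN
      have h2 : Nat.card (P : Subgroup G) ≤ Nat.card (B ⊔ zpowers g : Subgroup G) :=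
        card_le_of_le (by rw [sup_comm]; exact hcyc)
      have h3 : orderOf g ≤ p * Nat.card (B ⊓ zpowers g : Subgroup G) := by
        have h4 : zpowers (g ^ p) ≤ B ⊓ zpowers g := zpowers_le.2 (mem_inf.2
          ⟨mem_inf.2 ⟨pow_mem hgP p, hpow g hgP⟩, pow_mem (mem_zpowers g) p⟩)
        have h5 := card_le_of_le h4
        rw [Nat.card_zpowers] at h5
        have h6 : orderOf g ∣ p * orderOf (g ^ p) := orderOf_dvd_of_pow_eq_one (by
          rw [pow_mul, pow_orderOf_eq_one])
        exact (Nat.le_of_dvd (Nat.mul_pos hp.pos (orderOf_pos _)) h6).trans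
          (Nat.mul_le_mul_left p h5)
      rw [Nat.card_zpowers] at e
      refine Nat.le_of_mul_le_mul_right (c := Nat.card (B ⊓ zpowers g : Subgroup G)) ?_
        Nat.card_pos
      calc Nat.card (P : Subgroup G) * Nat.card (B ⊓ zpowers g : Subgroup G)
          ≤ Nat.card (B ⊔ zpowers g : Subgroup G) * Nat.card (B ⊓ zpowers g : Subgroup G) :=
            Nat.mul_le_mul_right _ h2
        _ = Nat.card B * orderOf g := e.symm
        _ ≤ Nat.card B * (p * Nat.card (B ⊓ zpowers g : Subgroup G)) :=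
            Nat.mul_le_mul_left _ h3
        _ = p * Nat.card B * Nat.card (B ⊓ zpowers g : Subgroup G) := by ring
    rw [P.card_eq_multiplicity, hPM, ← nu_cz D hpm hzc, ← pow_succ'] at h1
    have h2 := (Nat.pow_le_pow_iff_right hp.one_lt).1 h1
    rw [hma, hp.factorization_pow, Finsupp.single_eq_same] at h2
    have : a ≠ 0 := fun h => by rw [h, pow_zero] at hma; exact hm1 hma
    have ha : a = 1 := by omega
    rw [hma, ha, pow_one]
  clear_value p
  subst hmp
  have hc : nu m (cz z) + 1 = (Nat.card G).factorization m := by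
    rw [← nu_cz D hpm hzc, hp.factorization_self]
  have he : nu m (cz z) = nu m (center G) + 1 := by
    obtain ⟨hgc, -, hcap⟩ := hnotM g hgM
    have hsup : M ⊔ cz g = ⊤ := by
      have hlt : M < M ⊔ cz g := lt_of_le_of_ne le_sup_left fun h =>
        hgM (h.symm ▸ mem_sup_right (mem_cz.2 (Commute.refl g)))
      have h1 := index_dvd_of_le hlt.le
      rw [hzm] at h1
      rcases (Nat.dvd_prime hp).1 h1 with h2 | h2
      · exact index_eq_one.1 h2
      · exact absurd (index_eq_and_eq hlt.le (hzm.trans h2.symm)) hlt.ne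
    have e := Basics.card_mul_card_eq_card_sup_mul_card_inf
      (show cz g ≤ normalizer (M : Set G) by rw [normalizer_eq_top_iff.2 hMn]; exact le_top)
    rw [hsup, card_top, inf_comm, hcap] at e
    have e' := congrArg (fun k => k.factorization m) e
    simp only [Nat.factorization_mul Nat.card_pos.ne' Nat.card_pos.ne', Finsupp.add_apply] at e'
    have h2 := nu_eq D hpm hgc hzc
    simp only [nu] at h2 hc ⊢
    change (Nat.card (cz z)).factorization m + _ = _ at e'
    omega
  -- the normal complement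
  let N : Subgroup G :=
    { carrier := {w | (orderOf w).Coprime m}
      one_mem' := by simp
      mul_mem' := fun {s t} hs ht => Nat.Coprime.coprime_dvd_left
        (hMab t (hall' t ht) s (hall' s hs)).orderOf_mul_dvd_mul_orderOf (Nat.Coprime.mul_left hs ht)
      inv_mem' := fun {s} hs => by
        show (orderOf s⁻¹).Coprime m
        rwa [orderOf_inv] }
  have hNn : N.Normal := ⟨fun w hw k => coprime_conj hw k⟩
  have hNcop : (Nat.card N).Coprime m := (hp.coprime_iff_not_dvd.2 fun hd => by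
    obtain ⟨w, hw⟩ := exists_prime_orderOf_dvd_card' m hd
    have : (orderOf (w : G)).Coprime m := w.2
    rw [orderOf_coe, hw, Nat.coprime_self] at this
    exact hp.ne_one this).symm
  have hNidx : ∃ b, N.index = m ^ b := by
    haveI := hNn
    obtain ⟨b, hb⟩ := IsPGroup.iff_card.1 (Transfer.isPGroup_quotient_of_pResidual_le (p := m) N
      ((closure_le _).2 fun w hw => hw))
    exact ⟨b, by rw [index_eq_card, hb]⟩
  refine ⟨hp, ?_, ⟨M, hMn, ?_, hzm, hMc⟩, ⟨N, hNn, hNcop, hNidx⟩, fun S => ?_⟩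
  · -- `m ∣ n - 1`
    haveI := hNn
    have hfixcard : Nat.card N = Nat.card (N ⊓ center G : Subgroup G) * n := by
      have hn0 : n ≠ 0 := by have := D.one_lt_n; omega
      refine Nat.eq_of_factorization_eq Nat.card_pos.ne' (Nat.mul_ne_zero Nat.card_pos.ne' hn0)
        fun q => ?_
      rw [Nat.factorization_mul Nat.card_pos.ne' hn0, Finsupp.add_apply]
      by_cases hq : q.Prime
      · haveI := Fact.mk hq
        rcases eq_or_ne q m with rfl | hqp
        · rw [Nat.factorization_eq_zero_of_not_dvd ((hp.coprime_iff_not_dvd).1 hNcop.symm),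
            Nat.factorization_eq_zero_of_not_dvd fun h => (hp.coprime_iff_not_dvd).1 hNcop.symm
              (h.trans (card_dvd_of_le inf_le_left)),
            Nat.factorization_eq_zero_of_not_dvd ((hp.coprime_iff_not_dvd).1 D.cop)]
        · have h1 : nu q N = (Nat.card G).factorization q := by
            rw [← nu_top]
            refine le_antisymm (nu_mono le_top) (not_lt.1 fun hlt => ?_)
            obtain ⟨w, -, hw, hwN⟩ := exists_pel_not_mem (H := (⊤ : Subgroup G)) (K := N)
              (by rwa [top_inf_eq])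
            exact hwN (hw.coprime hp hqp)
          have h2 : nu q (N ⊓ center G) = nu q (center G) := by
            refine le_antisymm (nu_mono inf_le_right) (not_lt.1 fun hlt => ?_)
            obtain ⟨w, hwc, hw, hwN⟩ := exists_pel_not_mem (H := center G) (K := N)
              (by rwa [inf_comm])
            exact hwN (hw.coprime hp hqp)
          have h3 := nu_add_index (p := q) (cz z₁)
          rw [hz₁mn, hζ q hq hqp, Nat.factorization_mul hp.ne_zero hn0, Finsupp.add_apply,
            hp.factorization, Finsupp.single_eq_of_ne hqp, zero_add] at h3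
          rw [nu] at h1 h2
          rw [h1, h2, ← h3, nu]
      · rw [Nat.factorization_eq_zero_of_not_prime _ hq, Nat.factorization_eq_zero_of_not_prime _ hq,
          Nat.factorization_eq_zero_of_not_prime _ hq]
    let _ : MulAction (P : Subgroup G) N :=
      MulAction.compHom N ((MulAut.conjNormal (H := N)).comp (P : Subgroup G).subtype)
    have h1 := P.2.card_modEq_card_fixedPoints N
    have h2 : Nat.card (MulAction.fixedPoints (P : Subgroup G) N) =
        Nat.card (N ⊓ center G : Subgroup G) := by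
      refine Nat.card_congr ⟨fun w => ⟨(w : N), mem_inf.2 ⟨(w : N).2, ?_⟩⟩,
        fun w => ⟨⟨w, (mem_inf.1 w.2).1⟩, fun k => Subtype.ext ?_⟩, fun _ => rfl, fun _ => rfl⟩
      · have h3 := congrArg Subtype.val (w.2 ⟨g, hgP⟩)
        change g * ((w : N) : G) * g⁻¹ = ((w : N) : G) at h3
        rw [mul_inv_eq_iff_eq_mul] at h3
        exact (hnotM g hgM).2.2.le (mem_inf.2 ⟨mem_cz.2 (Commute.symm h3), hall' _ (w : N).2⟩)
      · change (k : G) * w * (k : G)⁻¹ = w
        rw [mem_center_iff.1 (mem_inf.1 w.2).2, mul_inv_cancel_right]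
    rw [h2, hfixcard] at h1
    have hcop : m.Coprime (Nat.card (N ⊓ center G : Subgroup G)) :=
      Nat.Coprime.coprime_dvd_right (card_dvd_of_le inf_le_left) hNcop.symm
    have h4 : n ≡ 1 [MOD m] := Nat.ModEq.cancel_left_of_coprime
      (by rw [Nat.coprime_iff_gcd_eq_one] at hcop; exact hcop) (by simpa using h1)
    exact (Nat.modEq_iff_dvd' (by have := D.one_lt_n; omega)).1 h4.symm
  · ext w
    simp only [SetLike.mem_coe, Set.mem_setOf_eq]
    constructor
    · intro hw
      by_cases hwc : w ∈ center G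
      · exact Or.inl (index_cz_of_center hwc)
      · exact Or.inr (hMm w hw hwc)
    · intro hw
      by_contra hwM
      obtain ⟨hwc, hwm, -⟩ := hnotM w hwM
      rcases hw with h | h
      · refine hwc (mem_center_iff.2 fun y => ?_)
        exact (mem_cz.1 (index_eq_one.1 h ▸ mem_top y) : Commute y w).eq
      · exact hwm h
  · -- the derived subgroup of a Sylow subgroup
    obtain ⟨k, hk⟩ := MulAction.exists_smul_eq G P S
    have e : Nat.card (commutator (S : Subgroup G)) = Nat.card (commutator (P : Subgroup G)) := by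
      set φ := P.equiv S
      have hmap : (commutator (P : Subgroup G)).map φ.toMonoidHom =
          commutator (S : Subgroup G) := by
        rw [map_commutator_eq, MonoidHom.range_eq_top.2 φ.surjective]
        rfl
      rw [← hmap, card_map_of_injective φ.injective]
    rw [e]
    have hkn := (SquarefreeClass.knoche P.2 fun y => ?_).2
    · rcases (Nat.dvd_prime hp).1 hkn with h | h
      · exfalso
        have h0 : ⁅(⟨g, hgP⟩ : (P : Subgroup G)), (⟨b, hbP⟩ : (P : Subgroup G))⁆ ∈
            commutator (P : Subgroup G) :=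
          commutator_mem_commutator (mem_top _) (mem_top _)
        rw [card_eq_one.1 h] at h0
        have h1 := mem_bot.1 h0
        have h2 : Commute g b :=
          congrArg Subtype.val (commutatorElement_eq_one_iff_mul_comm.1 h1)
        exact hgM (hbcz ▸ mem_cz.2 h2)
      · exact h
    · by_cases hyc : (y : G) ∈ center G
      · rw [index_eq_one.2 (eq_top_iff.2 fun s _ =>
          mem_centralizer_singleton_iff.2 (Subtype.ext (mem_center_iff.1 hyc (s : G))))]
        exact one_dvd _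
      · have hcard := card_mul_index (cz y)
        rw [card_cz_subgroup, P.card_eq_multiplicity, ← hc, he] at hcard
        obtain ⟨j, hj⟩ := (P.2.to_le (inf_le_left :
          (P : Subgroup G) ⊓ cz (y : G) ≤ P)).exists_card_eq
        have hlt : nu m (center G) < j := by
          obtain ⟨Z, hZ, -⟩ := exists_sylowIn_ge (p := m) IsPGroup.of_bot
            (bot_le : ⊥ ≤ center G)
          haveI := normal_of_le_center hZ.1
          have hZP : Z ≤ (P : Subgroup G) := le_sylowIn hZ.isPGroup le_top (sylowIn_top P)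
          have hlt : Z < (P : Subgroup G) ⊓ cz (y : G) := lt_of_le_of_ne
            (le_inf hZP (hZ.1.trans (center_le_cz _))) fun h => hyc
              (hZ.1 (h.ge (mem_inf.2 ⟨y.2, mem_cz.2 (Commute.refl _)⟩)))
          have := Basics.card_lt_of_lt hlt
          rw [hZ.2, hj] at this
          exact (Nat.pow_lt_pow_iff_right hp.one_lt).1 this
        rw [hj] at hcard
        obtain ⟨i, hi, hi'⟩ := (Nat.dvd_prime_pow hp).1 (Dvd.intro_left _ hcard)
        rw [hi', ← pow_add] at hcard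
        have := Nat.pow_right_injective hp.two_le hcard
        show (cz y).index ∣ m
        rw [hi']
        exact (pow_dvd_pow m (show i ≤ 1 by omega)).trans (by rw [pow_one])

end Cfsg.Agent.FGS.ThreeSizes
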