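import Mathlib

/-!
Small families of transpositions, and normal subgroups of symmetric groups.
-/

set_option autoImplicit false
set_option linter.all false

open Equiv

namespace Cfsg.Agent.FGS.Transpos

variable {α : Type*} [Fintype α] [DecidableEq α]

/-- A labelling which is constant on the orbits generated by `m` transpositions. -/
theorem exists_label : ∀ (m : ℕ) (t : Fin m → Perm α), (∀ i, (t i).IsSwap) →
    ∃ L : α → α, (∀ i x, L (t i x) = L x) ∧
      Fintype.card α ≤ (Finset.univ.image L).card + m
  | 0, _, _ => ⟨id, fun i => i.elim0, by simp⟩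
  | m + 1, t, ht => by
    obtain ⟨L, hL, hc⟩ := exists_label m (fun i => t i.succ) fun i => ht _
    obtain ⟨a, b, hab, ht0⟩ := ht 0
    refine ⟨fun x => if L x = L b then L a else L x, fun i x => ?_, ?_⟩
    · cases i using Fin.cases with
      | zero =>
        rw [ht0]
        rcases eq_or_ne x a with rfl | hxa
        · simp only [swap_apply_left]
          split_ifs <;> simp_all
        rcases eq_or_ne x b with rfl | hxb
        · simp only [swap_apply_right]
          split_ifs <;> simp_all
        · rw [swap_apply_of_ne_of_ne hxa hxb]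
      | succ i => simp only [hL]
    · have hsub : (Finset.univ.image L).erase (L b) ⊆
          Finset.univ.image (fun x => if L x = L b then L a else L x) := by
        intro y hy
        simp only [Finset.mem_erase, Finset.mem_image, Finset.mem_univ, true_and] at hy ⊢
        obtain ⟨hy1, x, rfl⟩ := hy
        exact ⟨x, if_neg hy1⟩
      have h1 := Finset.card_le_card hsub
      have h2 := Finset.pred_card_le_card_erase (s := Finset.univ.image L) (a := L b)
      omega

/-- The fibres of a labelling with many labels are small. -/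
theorem fiber_le (L : α → α) (m : ℕ) (hc : Fintype.card α ≤ (Finset.univ.image L).card + m)
    (l : α) : Fintype.card {x // L x = l} ≤ m + 1 := by
  classical
  rw [Fintype.card_subtype]
  have hsub : (Finset.univ.image L).erase l ⊆ (Finset.univ.filter fun x => ¬ L x = l).image L := by
    intro y hy
    simp only [Finset.mem_erase, Finset.mem_image, Finset.mem_univ, true_and, Finset.mem_filter] at hy ⊢
    obtain ⟨hy1, x, rfl⟩ := hy
    exact ⟨x, hy1, rfl⟩
  have h1 := (Finset.card_le_card hsub).trans Finset.card_image_le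
  have h2 := Finset.pred_card_le_card_erase (s := Finset.univ.image L) (a := l)
  have h3 := Finset.card_filter_add_card_filter_not (s := (Finset.univ : Finset α)) (fun x => L x = l)
  rw [Finset.card_univ] at h3
  omega

/-- The permutations preserving a labelling. -/
def labelStab (L : α → α) : Subgroup (Perm α) where
  carrier := {f | ∀ x, L (f x) = L x}
  one_mem' := fun _ => rfl
  mul_mem' := fun {f g} hf hg x => by rw [Perm.mul_apply, hf, hg]
  inv_mem' := fun {f} hf x => by
    conv_rhs => rw [← f.apply_symm_apply x, hf]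
    rfl

theorem closure_le_labelStab {ι : Type*} (t : ι → Perm α) (L : α → α)
    (hL : ∀ i x, L (t i x) = L x) : Subgroup.closure (Set.range t) ≤ labelStab L :=
  (Subgroup.closure_le _).2 (by rintro _ ⟨i, rfl⟩; exact hL i)

/-- A nontrivial normal subgroup of a symmetric group is transitive. -/
theorem exists_apply_eq {N : Subgroup (Perm α)} (hN : N.Normal) (hne : N ≠ ⊥) (a b : α) :
    ∃ f ∈ N, f a = b := by
  obtain ⟨f, hf, hf1⟩ := (Subgroup.ne_bot_iff_exists_ne_one.1 hne).elim
    fun f hf => (⟨f.1, f.2, fun e => hf (Subtype.ext e)⟩ : ∃ f ∈ N, f ≠ 1)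
  obtain ⟨x, hx⟩ : ∃ x, f x ≠ x := by
    by_contra hcon
    push Not at hcon
    exact hf1 (Equiv.ext hcon)
  rcases eq_or_ne a b with rfl | hab
  · exact ⟨1, one_mem N, rfl⟩
  set e₁ := swap x a with he₁
  set e := swap (e₁ (f x)) b * e₁ with he
  have h1 : e x = a := by
    rw [he, Perm.mul_apply, he₁, swap_apply_left, ← he₁]
    refine swap_apply_of_ne_of_ne (fun h => hx ?_) hab
    refine e₁.injective ?_
    rw [← h, he₁, swap_apply_left]
  have h2 : e (f x) = b := by rw [he, Perm.mul_apply, swap_apply_left]
  exact ⟨e * f * e⁻¹, hN.conj_mem f hf e, by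
    rw [Perm.mul_apply, Perm.mul_apply, show e⁻¹ a = x from e.symm_apply_eq.2 h1.symm, h2]⟩

theorem card_dvd_of_normal {N : Subgroup (Perm α)} (hN : N.Normal) (hne : N ≠ ⊥) :
    Fintype.card α ∣ Nat.card N := by
  rcases isEmpty_or_nonempty α with h | ⟨⟨a⟩⟩
  · exact absurd (Subsingleton.elim N ⊥) hne
  haveI : MulAction.IsPretransitive N α := ⟨fun x y => by
    obtain ⟨f, hf, hfx⟩ := exists_apply_eq hN hne x y
    exact ⟨⟨f, hf⟩, hfx⟩⟩
  rw [← Nat.card_eq_fintype_card, ← MulAction.index_stabilizer_of_transitive N a]
  exact Subgroup.index_dvd_card _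

theorem sSup_eq_bot_of_not_dvd (S : Set (Subgroup (Perm α))) (hS : ∀ N ∈ S, N.Normal)
    (hd : ∀ N ∈ S, ¬ Fintype.card α ∣ Nat.card N) : sSup S = ⊥ := by
  rw [sSup_eq_bot]
  intro N hN
  by_contra h
  exact hd N hN (card_dvd_of_normal (hS N hN) h)

end Cfsg.Agent.FGS.Transpos
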