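import Cfsg.Agent.Lib.FGS.FixedTwoModule

/-!
# An element of order three with two-dimensional commutator normalising an odd `r`-group
-/

set_option autoImplicit false
set_option linter.all false

namespace Cfsg.Agent.TwoDimCommutator

open scoped TensorProduct
open FixedTwoModule

local notation "kk" => AlgebraicClosure (ZMod 2)

variable {E : Type*} [AddCommGroup E] [Module (ZMod 2) E] [Finite E]

/-- Frobenius on the scalars. -/
noncomputable def frob : kk →ₗ[ZMod 2] kk where
  toFun c := c ^ 2
  map_add' a b := by rw [add_pow_char]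
  map_smul' t c := by
    rcases (show ∀ t : ZMod 2, t = 0 ∨ t = 1 by decide) t with rfl | rfl <;> simp

theorem frob_injective : Function.Injective frob := fun a b h => by
  have h' : (a - b) ^ 2 = 0 := by
    rw [sub_pow_char]; exact sub_eq_zero.2 h
  exact sub_eq_zero.1 ((pow_eq_zero_iff two_ne_zero).1 h')

noncomputable def sig : kk ⊗[ZMod 2] E →ₗ[ZMod 2] kk ⊗[ZMod 2] E := LinearMap.rTensor E frob

theorem sig_injective : Function.Injective (sig (E := E)) := by
  exact Module.Flat.rTensor_preserves_injective_linearMap frob frob_injective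

theorem sig_smul (c : kk) (v : kk ⊗[ZMod 2] E) : sig (c • v) = c ^ 2 • sig v := by
  induction v with
  | zero => simp
  | tmul a e => simp [sig, frob, TensorProduct.smul_tmul', mul_pow]
  | add u w hu hw => simp only [smul_add, map_add, hu, hw]

variable {S : Type*} [Group S] [Finite S]

theorem sig_ext (ρ : Representation (ZMod 2) S E) (s : S) (v : kk ⊗[ZMod 2] E) :
    ext' ρ s (sig v) = sig (ext' ρ s v) := by
  induction v with
  | zero => simp
  | tmul a e => show (ρ s).baseChange kk _ = sig ((ρ s).baseChange kk _); simp [sig]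
  | add u w hu hw => simp only [map_add, hu, hw]

theorem one_tmul_injective : Function.Injective fun e : E => (1 : kk) ⊗ₜ[ZMod 2] e := by
  classical
  intro a b h
  set B := Module.Basis.ofVectorSpace (ZMod 2) kk
  obtain ⟨i, hi⟩ : ∃ i, B.repr 1 i ≠ 0 := by
    by_contra hcon
    push Not at hcon
    exact one_ne_zero (B.repr.map_eq_zero_iff.1 (Finsupp.ext (f := B.repr 1) (g := 0) fun i => hcon i))
  have h' := congrArg (fun v : kk ⊗[ZMod 2] E => TensorProduct.equivFinsuppOfBasisLeft B v i) h
  simp only [TensorProduct.equivFinsuppOfBasisLeft_apply_tmul_apply] at h'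
  rw [show B.repr 1 i = 1 from ((show ∀ t : ZMod 2, t = 0 ∨ t = 1 by decide) _).resolve_left hi] at h'
  simpa using h'

/-- The square of a character. -/
noncomputable def sq {A : Type*} [Monoid A] (θ : A →* kk) : A →* kk := (powMonoidHom 2).comp θ

theorem sq_injective {A : Type*} [Monoid A] : Function.Injective (sq (A := A)) := fun θ φ h =>
  MonoidHom.ext fun a => frob_injective (DFunLike.congr_fun h a : θ a ^ 2 = φ a ^ 2)

theorem sig_wsp (ρ : Representation (ZMod 2) S E) (A : Subgroup S) {θ : A →* kk}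
    {v : kk ⊗[ZMod 2] E} (hv : v ∈ wsp (ext' ρ) A θ) : sig v ∈ wsp (ext' ρ) A (sq θ) := by
  intro a
  rw [sig_ext, hv a, sig_smul]
  rfl

theorem sq_tw (A : Subgroup S) [A.Normal] (s : S) (θ : A →* kk) : sq (tw A s θ) = tw A s (sq θ) := rfl

theorem indep_fin {V : Type*} [AddCommGroup V] [Module kk V] (R : Representation kk S V) (A : Subgroup S)
    {n : ℕ} (θ : Fin n → (A →* kk)) (hθ : Function.Injective θ) (z : Fin n → V)
    (hz : ∀ i, z i ∈ wsp R A (θ i)) (h : ∑ i, z i = 0) : ∀ i, z i = 0 := by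
  classical
  intro i
  let f : (A →* kk) → V := fun φ => if hφ : ∃ j, θ j = φ then z hφ.choose else 0
  have hf : ∀ j, f (θ j) = z j := fun j => by
    simp only [f, dif_pos (⟨j, rfl⟩ : ∃ j', θ j' = θ j)]
    rw [hθ (⟨j, rfl⟩ : ∃ j', θ j' = θ j).choose_spec]
  have := indep R A (Finset.univ.image θ) f (fun φ hφ => by
    obtain ⟨j, -, rfl⟩ := Finset.mem_image.1 hφ
    rw [hf]; exact hz j) (by
    rw [Finset.sum_image fun a _ b _ e => hθ e]
    simpa only [hf] using h) (θ i) (Finset.mem_image_of_mem _ (Finset.mem_univ i))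
  rwa [hf] at this

theorem iSup_wsp {V : Type*} [AddCommGroup V] [Module kk V] [FiniteDimensional kk V]
    (R : Representation kk S V) (A : Subgroup S) (hA : ∀ a ∈ A, ∀ b ∈ A, a * b = b * a)
    (hodd : Odd (Nat.card A)) : ⨆ θ : A →* kk, wsp R A θ = ⊤ := by
  classical
  by_contra hne
  set Z := ⨆ θ : A →* kk, wsp R A θ with hZ
  have hinv : ∀ a : A, ∀ v ∈ Z, R a v ∈ Z := by
    intro a v hv
    refine Submodule.iSup_induction _ (motive := fun v => R (a : S) v ∈ Z) hv ?_ (by simp) ?_
    · intro θ w hw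
      rw [hw a]
      exact Submodule.smul_mem _ _ (Submodule.mem_iSup_of_mem θ hw)
    · intro u w hu hw
      rw [map_add]; exact add_mem hu hw
  let R' : Representation kk A (V ⧸ Z) :=
    { toFun := fun a => Z.mapQ Z (R (a : S)) fun v hv => hinv a v hv
      map_one' := by ext v; simp
      map_mul' := fun a b => by ext v; simp }
  have : Nontrivial (V ⧸ Z) := Submodule.Quotient.nontrivial_iff.2 hne
  obtain ⟨χ, v, hv0, hv⟩ := exists_weight R' (⊤ : Subgroup A)
    (fun a _ b _ => Subtype.ext (hA a a.2 b b.2))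
  let θ : A →* kk := χ.comp (Subgroup.topEquiv (G := A)).symm.toMonoidHom
  obtain ⟨v', rfl⟩ := Z.mkQ_surjective v
  have := Fintype.ofFinite A
  set w : V := ∑ a : A, θ a⁻¹ • R (a : S) v' with hw
  have hmem : w ∈ wsp R A θ := by
    intro b
    rw [hw, map_sum, Finset.smul_sum]
    refine Fintype.sum_equiv (Equiv.mulLeft b) _ _ fun a => ?_
    rw [map_smul, ← Module.End.mul_apply, ← map_mul, smul_smul]
    simp only [Equiv.coe_mulLeft, Subgroup.coe_mul]
    congr 1
    rw [← map_mul]
    congr 1
    refine Subtype.ext ?_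
    simp only [Subgroup.coe_mul, InvMemClass.coe_inv, mul_inv_rev]
    rw [hA _ (inv_mem a.2) _ (inv_mem b.2), mul_inv_cancel_left]
  have h1 : Z.mkQ w = (Fintype.card A : kk) • Z.mkQ v' := by
    rw [hw, map_sum, ← Finset.card_univ, Nat.cast_smul_eq_nsmul, ← Finset.sum_const]
    refine Finset.sum_congr rfl fun a _ => ?_
    have h := hv ⟨a, Subgroup.mem_top a⟩
    rw [map_smul, show Z.mkQ (R (a : S) v') = θ a • Z.mkQ v' from h, smul_smul, ← map_mul, inv_mul_cancel,
      map_one, one_smul]
  have hcard : (Fintype.card A : kk) ≠ 0 := by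
    rw [Ne, CharP.cast_eq_zero_iff kk 2, ← Nat.card_eq_fintype_card, Nat.two_dvd_ne_zero]
    exact Nat.odd_iff.1 hodd
  have h2 : Z.mkQ w = 0 := (Submodule.Quotient.mk_eq_zero Z).2 (Submodule.mem_iSup_of_mem θ hmem)
  rw [h1, smul_eq_zero] at h2
  exact hv0 (h2.resolve_left hcard)

/-- Faithful case. -/
theorem core (ρ : Representation (ZMod 2) S E) (hinj : Function.Injective ρ) (D : Subgroup S) [hDn : D.Normal]
    {r : ℕ} [Fact r.Prime] (hr2 : r ≠ 2) (hD : IsPGroup r D)
    (hab : r ≠ 3 ∨ ∀ a ∈ D, ∀ b ∈ D, a * b = b * a) (x : S) (hx3 : x ^ 3 = 1)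
    (hW : Module.finrank (ZMod 2) (LinearMap.range (ρ x - 1)) ≤ 2)
    (hgen : ∀ N : Submodule (ZMod 2) E, (∀ d ∈ D, ∀ v ∈ N, ρ d v ∈ N) →
      LinearMap.range (ρ x - 1) ≤ N → N = ⊤) :
    ∃ ψ : D →* kk, ∀ d : D, ψ d = 1 → ∀ e, ρ d (ρ x e - e) = ρ x e - e := by
  classical
  by_cases hDbot : D = ⊥
  · refine ⟨1, fun d _ e => ?_⟩
    have : (d : S) = 1 := Subgroup.mem_bot.1 (hDbot ▸ d.2)
    rw [this, map_one]; rfl
  have : Module.Finite (ZMod 2) E := Module.Finite.of_finite
  let Z : Subgroup S :=
    { carrier := {a | a ∈ D ∧ ∀ d ∈ D, a * d = d * a}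
      one_mem' := ⟨one_mem _, fun d _ => by simp⟩
      mul_mem' := fun {a b} ha hb => ⟨mul_mem ha.1 hb.1, fun d hd => by
        rw [mul_assoc, hb.2 d hd, ← mul_assoc, ha.2 d hd, mul_assoc]⟩
      inv_mem' := fun {a} ha => ⟨inv_mem ha.1, fun d hd =>
        ((show Commute a d from ha.2 d hd).inv_left).eq⟩ }
  have hZn : Z.Normal := ⟨fun a ha g => ⟨hDn.conj_mem a ha.1 g, fun d hd => by
    have h := ha.2 _ (hDn.conj_mem' d hd g)
    calc g * a * g⁻¹ * d = g * (a * (g⁻¹ * d * g)) * g⁻¹ := by group
      _ = g * ((g⁻¹ * d * g) * a) * g⁻¹ := by rw [h]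
      _ = d * (g * a * g⁻¹) := by group⟩⟩
  have hZD : Z ≤ D := fun a ha => ha.1
  have hZc : ∀ a ∈ Z, ∀ b ∈ Z, a * b = b * a := fun a ha b hb => ha.2 b hb.1
  have hZne : Z ≠ ⊥ := by
    intro hbot
    have : Nontrivial D := (Subgroup.nontrivial_iff_ne_bot D).2 hDbot
    have := hD.center_nontrivial
    obtain ⟨⟨c, hc⟩, hc1⟩ := exists_ne (1 : Subgroup.center D)
    have : (c : S) ∈ Z := ⟨c.2, fun d hd => congrArg Subtype.val (Subgroup.mem_center_iff.1 hc ⟨d, hd⟩).symm⟩
    rw [hbot, Subgroup.mem_bot] at this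
    exact hc1 (Subtype.ext (Subtype.ext this))
  have hZr : ∀ (θ : Z →* kk) (a : Z) (m : ℕ), θ a ^ m = 1 → m.Coprime r → θ a = 1 := by
    intro θ a m hm hcop
    obtain ⟨j, hj⟩ := hD ⟨a, hZD a.2⟩
    have hj' : a ^ r ^ j = 1 := Subtype.ext (by simpa using congrArg Subtype.val hj)
    have h2 : θ a ^ r ^ j = 1 := by rw [← map_pow, hj', map_one]
    have hu : IsUnit (θ a) := (Group.isUnit a).map θ
    obtain ⟨u, hu⟩ := hu
    rw [← hu] at hm h2 ⊢
    have e1 : u ^ m = 1 := Units.ext (by simpa using hm)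
    have e2 : u ^ r ^ j = 1 := Units.ext (by simpa using h2)
    rw [orderOf_eq_one_iff.1 (Nat.eq_one_of_dvd_coprimes (hcop.pow_right j) (orderOf_dvd_of_pow_eq_one e1)
      (orderOf_dvd_of_pow_eq_one e2))]
    rfl
  have h2r : Nat.Coprime 2 r := (Nat.coprime_primes Nat.prime_two Fact.out).2 (Ne.symm hr2)
  have hsq1 : ∀ θ : Z →* kk, sq θ = θ → θ = 1 := fun θ h => MonoidHom.ext fun a => by
    have h' : θ a ^ 2 = θ a := DFunLike.congr_fun h a
    have hu : θ a ≠ 0 := ((Group.isUnit a).map θ).ne_zero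
    rw [pow_two] at h'
    exact mul_left_cancel₀ hu (h'.trans (mul_one _).symm)
  set R := ext' ρ with hR
  set Y : Submodule kk (kk ⊗[ZMod 2] E) := LinearMap.range (R x - 1) with hY
  have hYdim : Module.finrank kk Y ≤ 2 := by
    let b := Module.finBasis (ZMod 2) (LinearMap.range (ρ x - 1))
    have hle : Y ≤ Submodule.span kk (Set.range fun j => (1 : kk) ⊗ₜ[ZMod 2] ((b j : E))) := by
      rintro _ ⟨v, rfl⟩
      induction v with
      | zero => rw [map_zero]; exact zero_mem _
      | tmul c e =>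
        rw [show (R x - 1) (c ⊗ₜ[ZMod 2] e) = c • ((1 : kk) ⊗ₜ[ZMod 2] ((ρ x - 1) e)) by
          show (ρ x).baseChange kk (c ⊗ₜ e) - c ⊗ₜ e = _
          rw [LinearMap.baseChange_tmul, TensorProduct.smul_tmul', smul_eq_mul, mul_one]
          simp [TensorProduct.tmul_sub]]
        refine Submodule.smul_mem _ _ ?_
        have h := congrArg (fun z : LinearMap.range (ρ x - 1) => (1 : kk) ⊗ₜ[ZMod 2] (z : E))
          (b.sum_repr ⟨_, LinearMap.mem_range_self (ρ x - 1) e⟩)
        simp only [Submodule.coe_sum, Submodule.coe_smul, TensorProduct.tmul_sum, TensorProduct.tmul_smul] at h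
        rw [← h]
        exact Submodule.sum_mem _ fun j _ =>
          Submodule.smul_of_tower_mem _ _ (Submodule.subset_span (Set.mem_range_self j))
      | add u w hu hw => rw [map_add]; exact add_mem hu hw
    refine (Submodule.finrank_mono hle).trans ((finrank_range_le_card _).trans ?_)
    rw [Fintype.card_fin]; exact hW
  have hYmem : ∀ v, R x v - v ∈ Y := fun v => ⟨v, rfl⟩
  have hYσ : ∀ y ∈ Y, sig y ∈ Y := by
    rintro _ ⟨v, rfl⟩
    exact ⟨sig v, by simp [hR, sig_ext]⟩
  -- a vector fixed by `d` controls the image in `E`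
  have descend : ∀ d : S, (∀ y ∈ Y, R d y = y) → ∀ e, ρ d (ρ x e - e) = ρ x e - e := by
    intro d hd e
    refine one_tmul_injective ?_
    have := hd _ (hYmem ((1 : kk) ⊗ₜ[ZMod 2] e))
    change (ρ d).baseChange kk ((ρ x).baseChange kk (1 ⊗ₜ e) - 1 ⊗ₜ e) =
      (ρ x).baseChange kk (1 ⊗ₜ e) - 1 ⊗ₜ e at this
    simpa [TensorProduct.tmul_sub] using this
  have hpairY : ∀ y₀ ∈ Y, ∀ y₁ ∈ Y, LinearIndependent kk ![y₀, y₁] →
      ∀ y ∈ Y, ∃ a b : kk, a • y₀ + b • y₁ = y := by
    intro y₀ h0 y₁ h1 hli y hy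
    have hle : Submodule.span kk (Set.range ![y₀, y₁]) ≤ Y := by
      rw [Submodule.span_le]
      rintro _ ⟨i, rfl⟩
      fin_cases i <;> simp [h0, h1]
    have e := Submodule.eq_of_le_of_finrank_le hle (by
      rw [finrank_span_eq_card hli, Fintype.card_fin]; exact hYdim)
    rw [← e, Matrix.range_cons, Matrix.range_cons, Matrix.range_empty, Set.union_empty, Set.singleton_union,
      Submodule.mem_span_pair] at hy
    exact hy
  by_cases hmov : ∃ θ : Z →* kk, ∃ v, v ≠ 0 ∧ v ∈ wsp R Z θ ∧ tw Z x θ ≠ θ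
  · obtain ⟨θ, v, hv0, hv, hne⟩ := hmov
    let φ : Fin 3 → (Z →* kk) := fun i => tw Z (x ^ (i : ℕ)) θ
    let u : Fin 3 → kk ⊗[ZMod 2] E := fun i => R (x ^ (i : ℕ)) v
    have hu : ∀ i, u i ∈ wsp R Z (φ i) := fun i => map_wsp R Z _ hv
    have hinjR : ∀ s w, R s w = 0 → w = 0 := fun s w h => by
      have := congrArg (R s⁻¹) h
      rwa [← Module.End.mul_apply, ← map_mul, inv_mul_cancel, map_one, Module.End.one_apply, map_zero] at this
    have hu0 : ∀ i, u i ≠ 0 := fun i h => hv0 (hinjR _ _ h)
    have hne2 : tw Z (x ^ 2) θ ≠ θ := fun h => hne (by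
      have h' := congrArg (tw Z x) h
      rw [← tw_mul, ← pow_succ', hx3, tw_one] at h'
      exact h'.symm)
    have hφ : Function.Injective φ := by
      have h01 : φ 0 ≠ φ 1 := fun h => hne (by simpa [φ, tw_one] using h.symm)
      have h02 : φ 0 ≠ φ 2 := fun h => hne2 (by simpa [φ, tw_one] using h.symm)
      have h12 : φ 1 ≠ φ 2 := fun h => hne (by
        have h' := congrArg (tw Z x⁻¹) h
        simp only [φ, Fin.val_one, Fin.val_two, pow_one, pow_two, ← tw_mul, inv_mul_cancel, tw_one,
          inv_mul_cancel_left] at h'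
        exact h'.symm)
      intro i j h
      fin_cases i <;> fin_cases j <;> first
        | rfl
        | exact absurd h h01
        | exact absurd h.symm h01
        | exact absurd h h02
        | exact absurd h.symm h02
        | exact absurd h h12
        | exact absurd h.symm h12
    have hs2 : ∀ i : Fin 3, R x (u i) = u (i + 1) := by
      intro i
      show R x (R (x ^ (i : ℕ)) v) = R (x ^ ((i + 1 : Fin 3) : ℕ)) v
      rw [← Module.End.mul_apply, ← map_mul, ← pow_succ']
      fin_cases i <;> simp [hx3]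
    set y₀ := u 1 - u 0 with hy0d
    set y₁ := u 2 - u 1 with hy1d
    have hy0 : y₀ ∈ Y := by
      have := hYmem (u 0); rwa [hs2] at this
    have hy1 : y₁ ∈ Y := by
      have := hYmem (u 1); rwa [hs2] at this
    have hli : LinearIndependent kk ![y₀, y₁] := by
      rw [LinearIndependent.pair_iff]
      intro a b h
      have h' := indep_fin R Z φ hφ ![(-a) • u 0, (a - b) • u 1, b • u 2]
        (fun i => by fin_cases i <;> exact Submodule.smul_mem _ _ (hu _)) (by
          rw [Fin.sum_univ_three, ← h, hy0d, hy1d]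
          simp only [Matrix.cons_val_zero, Matrix.cons_val_one, Matrix.cons_val]
          module)
      have h0 := h' 0
      have h2' := h' 2
      simp only [Matrix.cons_val_zero, Matrix.cons_val, smul_eq_zero, neg_eq_zero, hu0, or_false] at h0 h2'
      exact ⟨h0, h2'⟩
    have hspan := hpairY y₀ hy0 y₁ hy1 hli
    have hline : ∀ w ∈ wsp R Z θ, ∃ c : kk, w = c • v := by
      intro w hw
      obtain ⟨a, b, hab'⟩ := hspan _ (hYmem w)
      refine ⟨a, ?_⟩
      have hw0 : w ∈ wsp R Z (φ 0) := by simpa [φ, tw_one] using hw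
      have hw1 : R x w ∈ wsp R Z (φ 1) := by simpa [φ] using map_wsp R Z x hw
      have h' := indep_fin R Z φ hφ ![a • u 0 - w, R x w - (a - b) • u 1, -(b • u 2)]
        (fun i => by
          fin_cases i
          · exact sub_mem (Submodule.smul_mem _ _ (hu 0)) hw0
          · exact sub_mem hw1 (Submodule.smul_mem _ _ (hu 1))
          · exact neg_mem (Submodule.smul_mem _ _ (hu 2))) (by
          rw [Fin.sum_univ_three]
          simp only [Matrix.cons_val_zero, Matrix.cons_val_one, Matrix.cons_val]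
          rw [show R x w = a • y₀ + b • y₁ + w by rw [hab']; abel, hy0d, hy1d]
          module) 0
      simp only [Matrix.cons_val_zero, sub_eq_zero] at h'
      rw [← h']
      simp [u]
    have hlinei : ∀ i : Fin 3, ∀ w ∈ wsp R Z (φ i), ∃ c : kk, w = c • u i := by
      intro i w hw
      obtain ⟨c, hc⟩ := hline (R (x ^ (i : ℕ))⁻¹ w) (by
        have := map_wsp R Z (x ^ (i : ℕ))⁻¹ hw
        rwa [← tw_mul, inv_mul_cancel, tw_one] at this)
      refine ⟨c, ?_⟩
      have := congrArg (R (x ^ (i : ℕ))) hc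
      rwa [← Module.End.mul_apply, ← map_mul, mul_inv_cancel, map_one, Module.End.one_apply, map_smul] at this
    have hσv0 : sig v ≠ 0 := fun h => hv0 (sig_injective (h.trans (map_zero _).symm))
    obtain ⟨i, hi⟩ : ∃ i, sq θ = φ i := by
      by_contra hcon
      push Not at hcon
      obtain ⟨a, b, hab'⟩ := hspan _ (hYσ _ hy0)
      let φ' : Fin 5 → (Z →* kk) := ![sq θ, tw Z x (sq θ), φ 0, φ 1, φ 2]
      have hne' : sq θ ≠ tw Z x (sq θ) := fun h => hne (sq_injective (by rw [sq_tw]; exact h.symm))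
      have hstep : ∀ i : Fin 3, tw Z x (φ i) = φ (i + 1) := by
        intro i
        show tw Z x (tw Z (x ^ (i : ℕ)) θ) = tw Z (x ^ ((i + 1 : Fin 3) : ℕ)) θ
        rw [← tw_mul, ← pow_succ']
        fin_cases i <;> simp [hx3]
      have hout : ∀ i, tw Z x (sq θ) ≠ φ i := fun i h => hcon (i + 2) (by
        have h' := congrArg (fun χ => tw Z x (tw Z x χ)) h
        simp only [hstep] at h'
        rw [← tw_mul, ← tw_mul, ← pow_two, ← pow_succ, hx3, tw_one] at h'
        rw [h', add_assoc]; rfl)
      have hφ' : Function.Injective φ' := by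
        intro i j h
        fin_cases i <;> fin_cases j <;> first
          | rfl
          | exact absurd h hne'
          | exact absurd h.symm hne'
          | exact absurd h (hcon _)
          | exact absurd h.symm (hcon _)
          | exact absurd h (hout _)
          | exact absurd h.symm (hout _)
          | exact absurd (hφ h) (by decide)
      have h' := indep_fin R Z φ' hφ' ![-sig v, R x (sig v), a • u 0, -((a - b) • u 1), -(b • u 2)]
        (fun i => by
          fin_cases i
          · exact neg_mem (sig_wsp ρ Z hv)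
          · exact map_wsp R Z x (sig_wsp ρ Z hv)
          · exact Submodule.smul_mem _ _ (hu 0)
          · exact neg_mem (Submodule.smul_mem _ _ (hu 1))
          · exact neg_mem (Submodule.smul_mem _ _ (hu 2))) (by
          rw [Fin.sum_univ_five]
          simp only [Matrix.cons_val_zero, Matrix.cons_val_one, Matrix.cons_val]
          have e : R x (sig v) = a • y₀ + b • y₁ + sig v := by
            have h1 : sig y₀ = R x (sig v) - sig v := by
              rw [hy0d, map_sub, hR, sig_ext]
              simp [u, hR]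
            rw [hab', h1, sub_add_cancel]
          rw [e, hy0d, hy1d]
          module) 0
      simp only [Matrix.cons_val_zero, neg_eq_zero] at h'
      exact hσv0 h'
    have hθ1 : θ ≠ 1 := fun h => hne (by subst h; ext a; simp [tw])
    have hi0 : i ≠ 0 := fun h => hθ1 (hsq1 θ (by rw [hi, h]; simp [φ, tw_one]))
    -- `D` acts on the line of `v`
    have hd : ∀ d : D, ∃ c : kk, R (d : S) v = c • v := fun d => by
      refine hline _ fun a => ?_
      rw [← Module.End.mul_apply, ← map_mul, show (a : S) * d = d * a from a.2.2 d d.2, map_mul,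
        Module.End.mul_apply, hv a, map_smul]
    choose c hc using hd
    refine ⟨⟨⟨c, ?_⟩, fun d e => ?_⟩, fun d hd1 => descend d fun y hy => ?_⟩
    · refine smul_left_injective kk hv0 ?_
      show c 1 • v = (1 : kk) • v
      rw [← hc 1]; simp
    · refine smul_left_injective kk hv0 ?_
      show c (d * e) • v = (c d * c e) • v
      rw [← hc (d * e), Subgroup.coe_mul, map_mul, Module.End.mul_apply, hc e, map_smul, hc d, smul_smul,
        mul_comm]
    have hdv : R (d : S) v = v := by
      rw [hc d]; change c d = 1 at hd1; rw [hd1, one_smul]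
    -- fixed lines
    have hfixline : ∀ (j : Fin 3) (w : kk ⊗[ZMod 2] E), w ∈ wsp R Z (φ j) → w ≠ 0 → R (d : S) w = w →
        R (d : S) (u j) = u j := by
      intro j w hw hw0 hdw
      obtain ⟨e, rfl⟩ := hlinei j w hw
      rw [map_smul] at hdw
      exact smul_right_injective _ (fun he : e = 0 => hw0 (by rw [he, zero_smul])) hdw
    have hσ1 : R (d : S) (u i) = u i := hfixline i (sig v) (hi ▸ sig_wsp ρ Z hv) hσv0 (by
      rw [hR, sig_ext, ← hR, hdv])
    have hsq2 : sq (sq θ) = φ (i + i) := by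
      rw [hi]
      show sq (tw Z (x ^ (i : ℕ)) θ) = _
      rw [sq_tw, hi]
      show tw Z (x ^ (i : ℕ)) (tw Z (x ^ (i : ℕ)) θ) = tw Z (x ^ ((i + i : Fin 3) : ℕ)) θ
      rw [← tw_mul, ← pow_add]
      fin_cases i <;> simp [pow_succ, hx3] <;> simp [← pow_succ, hx3, pow_succ' x 3]
    have hσ2 : R (d : S) (u (i + i)) = u (i + i) := hfixline (i + i) (sig (sig v))
      (hsq2 ▸ sig_wsp ρ Z (sig_wsp ρ Z hv)) (fun h => hσv0 (sig_injective (h.trans (map_zero _).symm))) (by
      rw [hR, sig_ext, sig_ext, ← hR, hdv])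
    have hall : ∀ j, R (d : S) (u j) = u j := by
      have h0 : R (d : S) (u 0) = u 0 := by simpa [u] using hdv
      intro j
      have hcases : j = 0 ∨ j = i ∨ j = i + i :=
        (show ∀ i j : Fin 3, i ≠ 0 → j = 0 ∨ j = i ∨ j = i + i by decide) i j hi0
      rcases hcases with rfl | rfl | rfl
      exacts [h0, hσ1, hσ2]
    obtain ⟨a, b, rfl⟩ := hspan y hy
    simp only [hy0d, hy1d, map_add, map_smul, map_sub, hall]
  push Not at hmov
  by_cases hfix : ∀ θ : Z →* kk, θ ≠ 1 → ∀ v ∈ wsp R Z θ, R x v = v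
  · -- then `Z` centralises the commutator space
    exfalso
    have hY1 : Y ≤ wsp R Z 1 := by
      rintro _ ⟨v, rfl⟩
      have hv : v ∈ (⊤ : Submodule kk (kk ⊗[ZMod 2] E)) := trivial
      rw [← iSup_wsp R Z hZc (Odd.of_dvd_nat (by
        obtain ⟨j, hj⟩ := IsPGroup.iff_card.1 hD
        rw [hj]; exact ((Fact.out : r.Prime).odd_of_ne_two hr2).pow) (Subgroup.card_dvd_of_le hZD))] at hv
      refine Submodule.iSup_induction _ (motive := fun v => (R x - 1) v ∈ wsp R Z 1) hv ?_ (by simp) ?_
      · intro θ w hw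
        by_cases h1 : θ = 1
        · subst h1
          have := map_wsp R Z x hw
          rw [show tw Z x (1 : Z →* kk) = 1 by ext a; simp [tw]] at this
          exact sub_mem this hw
        · rw [LinearMap.sub_apply, Module.End.one_apply, hfix θ h1 w hw, sub_self]
          exact zero_mem _
      · intro u w hu hw; rw [map_add]; exact add_mem hu hw
    have hN := hgen
      { carrier := {e | ∀ a ∈ Z, ρ a e = e}
        add_mem' := fun {v w} hv hw a ha => by rw [map_add, hv a ha, hw a ha]
        zero_mem' := fun a _ => map_zero _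
        smul_mem' := fun c v hv a ha => by rw [map_smul, hv a ha] }
      (fun d hd v hv a ha => by
        rw [← Module.End.mul_apply, ← map_mul, ha.2 d hd, map_mul, Module.End.mul_apply, hv a ha])
      (by
        rintro _ ⟨e, rfl⟩ a ha
        exact descend a (fun y hy => by
          have := hY1 hy ⟨a, ha⟩
          rwa [MonoidHom.one_apply, one_smul] at this) e)
    refine hZne ((Subgroup.eq_bot_iff_forall _).2 fun a ha => hinj ?_)
    rw [map_one]
    ext e
    have he : e ∈ (⊤ : Submodule (ZMod 2) E) := trivial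
    rw [← hN] at he
    exact he a ha
  push Not at hfix
  obtain ⟨θ, hθ1, v, hv, hvx⟩ := hfix
  have hv0 : v ≠ 0 := fun h => hvx (by rw [h, map_zero])
  have htw : tw Z x θ = θ := hmov θ v hv0 hv
  set w := R x v - v with hwd
  have hw : w ∈ wsp R Z θ := sub_mem (by simpa [htw] using map_wsp R Z x hv) hv
  have hw0 : w ≠ 0 := sub_ne_zero.2 hvx
  have hwY : w ∈ Y := hYmem v
  have hσw0 : sig w ≠ 0 := fun h => hw0 (sig_injective (h.trans (map_zero _).symm))
  have hne1 : sq θ ≠ θ := fun h => hθ1 (hsq1 θ h)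
  have h4 : sq (sq θ) = θ := by
    by_contra h4
    let φ : Fin 3 → (Z →* kk) := ![θ, sq θ, sq (sq θ)]
    have hφ : Function.Injective φ := by
      have h12 : sq θ ≠ sq (sq θ) := fun h => hne1 (sq_injective h.symm)
      intro i j h
      fin_cases i <;> fin_cases j <;> first
        | rfl
        | exact absurd h hne1
        | exact absurd h.symm hne1
        | exact absurd h h4
        | exact absurd h.symm h4
        | exact absurd h h12
        | exact absurd h.symm h12
    have hli : LinearIndependent kk ![w, sig w, sig (sig w)] := by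
      rw [Fintype.linearIndependent_iff]
      intro g hg i
      have := indep_fin R Z φ hφ (fun i => g i • ![w, sig w, sig (sig w)] i) (fun i => by
        fin_cases i
        · exact Submodule.smul_mem _ _ hw
        · exact Submodule.smul_mem _ _ (sig_wsp ρ Z hw)
        · exact Submodule.smul_mem _ _ (sig_wsp ρ Z (sig_wsp ρ Z hw))) hg i
      refine (smul_eq_zero.1 this).resolve_right ?_
      fin_cases i
      · exact hw0
      · exact hσw0
      · exact fun h => hσw0 (sig_injective (h.trans (map_zero _).symm))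
    have hle : Submodule.span kk (Set.range ![w, sig w, sig (sig w)]) ≤ Y := by
      rw [Submodule.span_le]
      rintro _ ⟨i, rfl⟩
      fin_cases i <;> simp [hwY, hYσ]
    have := Submodule.finrank_mono hle
    rw [finrank_span_eq_card hli, Fintype.card_fin] at this
    omega
  have hr3 : r = 3 := by
    by_contra hr3
    refine hθ1 (MonoidHom.ext fun a => hZr θ a 3 ?_ ((Nat.coprime_primes Nat.prime_three Fact.out).2 (Ne.symm hr3)))
    have h : (θ a ^ 2) ^ 2 = θ a := DFunLike.congr_fun h4 a
    have hu : θ a ≠ 0 := ((Group.isUnit a).map θ).ne_zero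
    refine mul_left_cancel₀ hu ?_
    rw [← pow_succ', mul_one]
    rw [← pow_mul] at h
    exact h
  have hDc := hab.resolve_left (not_not.2 hr3)
  have hDZ : ∀ d : D, (d : S) ∈ Z := fun d => ⟨d.2, fun e he => hDc d d.2 e he⟩
  let inc : D →* Z :=
    { toFun := fun d => ⟨d, hDZ d⟩
      map_one' := rfl
      map_mul' := fun _ _ => rfl }
  refine ⟨θ.comp inc, fun d hd => descend d fun y hy => ?_⟩
  have hli : LinearIndependent kk ![w, sig w] := by
    rw [LinearIndependent.pair_iff]
    intro a b h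
    have hφ : Function.Injective ![θ, sq θ] := by
      intro i j h
      fin_cases i <;> fin_cases j <;> first
        | rfl
        | exact absurd h hne1
        | exact absurd h.symm hne1
    have h' := indep_fin R Z ![θ, sq θ] hφ ![a • w, b • sig w] (fun i => by
      fin_cases i
      · exact Submodule.smul_mem _ _ hw
      · exact Submodule.smul_mem _ _ (sig_wsp ρ Z hw)) (by rw [Fin.sum_univ_two]; exact h)
    exact ⟨(smul_eq_zero.1 (h' 0)).resolve_right hw0, (smul_eq_zero.1 (h' 1)).resolve_right hσw0⟩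
  obtain ⟨a, b, rfl⟩ := hpairY w hwY (sig w) (hYσ _ hwY) hli y hy
  have hd' : R (d : S) w = w := by
    have := hw (inc d)
    rw [show θ (inc d) = 1 from hd, one_smul] at this
    exact this
  rw [map_add, map_smul, map_smul, hd', hR, sig_ext, ← hR, hd']

/-- An element with two-dimensional commutator and cube acting trivially, normalising an odd `r`-group `D`:
a character of `D` controls the action of `D` on the commutator space. -/
theorem two_dim (ρ : Representation (ZMod 2) S E) (D : Subgroup S) {r : ℕ} [Fact r.Prime] (hr2 : r ≠ 2)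
    (hD : IsPGroup r D) (hab : r ≠ 3 ∨ ∀ a ∈ D, ∀ b ∈ D, a * b = b * a) (x : S)
    (hxD : x ∈ Subgroup.normalizer (D : Set S)) (hx3 : ρ x ^ 3 = 1)
    (hW : Module.finrank (ZMod 2) (LinearMap.range (ρ x - 1)) ≤ 2) :
    ∃ ψ : D →* kk, ∀ d : D, ψ d = 1 → ∀ e, ρ d (ρ x e - e) = ρ x e - e := by
  classical
  have : Module.Finite (ZMod 2) E := Module.Finite.of_finite
  set G0 : Subgroup S := D ⊔ Subgroup.zpowers x with hG0
  set U : Submodule (ZMod 2) E :=
    Submodule.span (ZMod 2) {w | ∃ d ∈ D, ∃ y ∈ LinearMap.range (ρ x - 1), ρ d y = w} with hU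
  have hWU : LinearMap.range (ρ x - 1) ≤ U := fun y hy =>
    Submodule.subset_span ⟨1, one_mem _, y, hy, by simp⟩
  let St : Submonoid S :=
    { carrier := {g | ∀ w ∈ U, ρ g w ∈ U}
      one_mem' := fun w hw => by simpa using hw
      mul_mem' := fun {a b} ha hb w hw => by rw [map_mul]; exact ha _ (hb w hw) }
  have hDU : ∀ d ∈ D, d ∈ St := by
    intro d hd w hw
    induction hw using Submodule.span_induction with
    | mem w hw =>
      obtain ⟨e, he, y, hy, rfl⟩ := hw
      exact Submodule.subset_span ⟨d * e, mul_mem hd he, y, hy, by rw [map_mul]; rfl⟩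
    | zero => rw [map_zero]; exact zero_mem _
    | add u v _ _ hu hv => rw [map_add]; exact add_mem hu hv
    | smul c u _ hu => rw [map_smul]; exact Submodule.smul_mem _ _ hu
  have hxU : x ∈ St := by
    intro w hw
    induction hw using Submodule.span_induction with
    | mem w hw =>
      obtain ⟨e, he, y, hy, rfl⟩ := hw
      refine Submodule.subset_span ⟨x * e * x⁻¹, (Subgroup.mem_normalizer_iff.1 hxD e).1 he, ρ x y, ?_, ?_⟩
      · obtain ⟨z, rfl⟩ := hy
        exact ⟨ρ x z, by simp [map_sub]⟩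
      · rw [← Module.End.mul_apply, ← map_mul, inv_mul_cancel_right, map_mul]; rfl
    | zero => rw [map_zero]; exact zero_mem _
    | add u v _ _ hu hv => rw [map_add]; exact add_mem hu hv
    | smul c u _ hu => rw [map_smul]; exact Submodule.smul_mem _ _ hu
  have hG0U : ∀ g : G0, (g : S) ∈ St := by
    intro g
    have hsub : G0 ≤ ({ St with
        inv_mem' := fun {a} (ha : a ∈ St) => by
          have hpow : ∀ m : ℕ, a ^ m ∈ St := fun m => St.pow_mem ha m
          rw [show a⁻¹ = a ^ (orderOf a - 1) by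
            refine (eq_inv_of_mul_eq_one_left ?_).symm
            rw [← pow_succ, Nat.sub_add_cancel (orderOf_pos a), pow_orderOf_eq_one]]
          exact hpow _ } : Subgroup S) := by
      rw [hG0, sup_le_iff, Subgroup.zpowers_le]
      exact ⟨hDU, hxU⟩
    exact hsub g.2
  let f : G0 →* Module.End (ZMod 2) U :=
    { toFun := fun g => (ρ (g : S)).restrict (hG0U g)
      map_one' := by ext v; simp
      map_mul' := fun a b => by ext v; simp }
  let F := f.toHomUnits
  let ρ' : Representation (ZMod 2) F.range U := (Units.coeHom _).comp F.range.subtype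
  have hx0 : x ∈ G0 := Subgroup.mem_sup_right (Subgroup.mem_zpowers x)
  have hD0 : D ≤ G0 := le_sup_left
  have hDn : (D.subgroupOf G0).Normal :=
    (Subgroup.normal_subgroupOf_iff_le_normalizer hD0).2
      (sup_le Subgroup.le_normalizer (Subgroup.zpowers_le.2 hxD))
  set D' : Subgroup F.range := (D.subgroupOf G0).map F.rangeRestrict with hD'
  have hD'n : D'.Normal := hDn.map _ F.rangeRestrict_surjective
  have hD'p : IsPGroup r D' :=
    ((hD.of_equiv (Subgroup.subgroupOfEquivOfLe hD0).symm)).map _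
  have hab' : r ≠ 3 ∨ ∀ a ∈ D', ∀ b ∈ D', a * b = b * a := hab.imp id fun h => by
    rintro _ ⟨a, ha, rfl⟩ _ ⟨b, hb, rfl⟩
    rw [← map_mul, ← map_mul]
    congr 1
    exact Subtype.ext (h a ha b hb)
  have hval : ∀ (g : G0) (v : U), ((ρ' (F.rangeRestrict g) v : U) : E) = ρ (g : S) (v : E) := fun g v => rfl
  have : Finite F.range := Finite.of_surjective _ F.rangeRestrict_surjective
  have hlift : ∀ z, (ρ x - 1) (ρ x ((ρ x - 1) z)) = (ρ x - 1) z := by
    intro z
    have h2 : ∀ w : E, w + w = 0 := fun w => by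
      rw [← two_smul (ZMod 2) w, show (2 : ZMod 2) = 0 from rfl, zero_smul]
    have h3 : ρ x (ρ x (ρ x z)) = z := by
      have := LinearMap.congr_fun hx3 z
      simpa [pow_succ, pow_zero] using this
    simp only [LinearMap.sub_apply, Module.End.one_apply, map_sub, h3]
    rw [← sub_eq_zero, show z - ρ x (ρ x z) - (ρ x (ρ x z) - ρ x z) - (ρ x z - z) =
      (z + z) - (ρ x (ρ x z) + ρ x (ρ x z)) by abel, h2, h2, sub_zero]
  obtain ⟨ψ', hψ'⟩ := core ρ' (fun a b h => Subtype.ext (Units.ext h)) D' hr2 hD'p hab' (F.rangeRestrict ⟨x, hx0⟩)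
    (Subtype.ext (Units.ext (LinearMap.ext fun v => Subtype.ext (by
      show ((f ⟨x, hx0⟩ ^ 3) v : E) = (v : E)
      rw [← map_pow]
      show ρ (x ^ 3) (v : E) = (v : E)
      rw [map_pow, hx3]; rfl)))) (by
      refine le_of_eq_of_le (Submodule.equivMapOfInjective U.subtype U.injective_subtype
        (LinearMap.range (ρ' (F.rangeRestrict ⟨x, hx0⟩) - 1))).finrank_eq
        ((Submodule.finrank_mono ?_).trans hW)
      rintro _ ⟨_, ⟨v, rfl⟩, rfl⟩
      exact ⟨(v : E), by simp [hval]⟩)
    (fun N hN hle => by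
      have h1 : ∀ w ∈ U, ∀ hw : w ∈ U, (⟨w, hw⟩ : U) ∈ N := by
        intro w hw
        induction hw using Submodule.span_induction with
        | mem w hw =>
          intro hwU
          obtain ⟨d, hd, y, ⟨z, rfl⟩, rfl⟩ := hw
          have hy : (ρ x - 1) z ∈ LinearMap.range (ρ x - 1) := LinearMap.mem_range_self _ z
          have hmem : (⟨(ρ x - 1) z, hWU hy⟩ : U) ∈ N := by
            exact hle ⟨⟨ρ x ((ρ x - 1) z), hxU _ (hWU hy)⟩, Subtype.ext (hlift z)⟩
          have := hN (F.rangeRestrict ⟨d, hD0 hd⟩) ⟨⟨d, hD0 hd⟩, hd, rfl⟩ _ hmem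
          exact this
        | zero => intro h; exact N.zero_mem
        | add u v hu hv ihu ihv => intro h; exact N.add_mem (ihu hu) (ihv hv)
        | smul c u hu ih => intro h; exact N.smul_mem c (ih hu)
      exact eq_top_iff.2 fun v _ => h1 v v.2 v.2)
  let toD' : D →* D' :=
    { toFun := fun d => ⟨F.rangeRestrict ⟨d, hD0 d.2⟩, ⟨⟨d, hD0 d.2⟩, d.2, rfl⟩⟩
      map_one' := Subtype.ext (map_one F.rangeRestrict)
      map_mul' := fun a b => Subtype.ext (map_mul F.rangeRestrict ⟨a, hD0 a.2⟩ ⟨b, hD0 b.2⟩) }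
  refine ⟨ψ'.comp toD', fun d hd e => ?_⟩
  have := congrArg Subtype.val
    (hψ' (toD' d) hd ⟨ρ x ((ρ x - 1) e), hxU _ (hWU (LinearMap.mem_range_self _ e))⟩)
  have hl := hlift e
  simp only [LinearMap.sub_apply, Module.End.one_apply] at hl this
  change ρ (d : S) (ρ x (ρ x (ρ x e - e)) - ρ x (ρ x e - e)) =
    ρ x (ρ x (ρ x e - e)) - ρ x (ρ x e - e) at this
  rwa [hl] at this

end Cfsg.Agent.TwoDimCommutator
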