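import Mathlib

/-!
# Automorphisms of odd order of doubly transitive groups

A twisted invariant 0-1 matrix of a doubly transitive group is the incidence matrix of a symmetric
design; multiplying it with itself forces the squared twist to map point stabilisers to point stabilisers
when the block size is prime to the degree.
-/

set_option autoImplicit false
set_option linter.all false

namespace Cfsg.Agent.FGS.TwoTransDesign

open Finset Matrix MulAction

variable {Ω G : Type*} [Fintype Ω] [DecidableEq Ω] [Group G] [MulAction G Ω]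

/-- A matrix invariant under the action twisted by `γ` on the columns. -/
def TwInv (γ : MulAut G) (A : Matrix Ω Ω ℤ) : Prop := ∀ (g : G) x y, A (g • x) (γ g • y) = A x y

/-- The orbit of a pair under the twisted action, as a matrix. -/
noncomputable def orbMat (γ : MulAut G) (ω o : Ω) : Matrix Ω Ω ℤ :=
  Matrix.of fun x y => by classical exact if ∃ g : G, g • ω = x ∧ γ g • o = y then 1 else 0

theorem twInv_orbMat (γ : MulAut G) (ω o : Ω) : TwInv γ (orbMat γ ω o) := by
  classical
  intro g x y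
  simp only [orbMat, Matrix.of_apply]
  refine if_congr ⟨?_, ?_⟩ rfl rfl
  · rintro ⟨u, hu, hu'⟩
    exact ⟨g⁻¹ * u, by rw [mul_smul, hu, inv_smul_smul],
      by rw [map_mul, map_inv, mul_smul, hu', inv_smul_smul]⟩
  · rintro ⟨u, hu, hu'⟩
    exact ⟨g * u, by rw [mul_smul, hu], by rw [map_mul, mul_smul, hu']⟩

theorem orbMat_zero_one (γ : MulAut G) (ω o x y : Ω) : orbMat γ ω o x y = 0 ∨ orbMat γ ω o x y = 1 := by
  classical
  simp only [orbMat, Matrix.of_apply]
  split_ifs <;> simp

theorem orbMat_col (γ : MulAut G) (ω o : Ω) :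
    ∑ x, orbMat γ ω o x o = (Nat.card (MulAction.orbit ((stabilizer G o).map γ.symm.toMonoidHom) ω) : ℤ) := by
  classical
  simp only [orbMat, Matrix.of_apply]
  rw [Finset.sum_boole, Nat.card_coe_set_eq, ← Set.ncard_coe_finset]
  congr 2
  ext x
  simp only [Finset.coe_filter, Finset.mem_univ, true_and, Set.mem_setOf_eq]
  constructor
  · rintro ⟨g, hg, hg'⟩
    exact ⟨⟨g, γ g, hg', γ.symm_apply_apply g⟩, hg⟩
  · rintro ⟨⟨g, u, hu, rfl⟩, hg⟩
    exact ⟨γ.symm u, hg, by rw [MulEquiv.apply_symm_apply]; exact hu⟩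

variable [IsPretransitive G Ω] (htwo : ∀ a b c d : Ω, a ≠ b → c ≠ d → ∃ g : G, g • a = c ∧ g • b = d)

include htwo in
theorem gram (γ : MulAut G) {A : Matrix Ω Ω ℤ} (hA : TwInv γ A) (h01 : ∀ x y, A x y = 0 ∨ A x y = 1)
    (o : Ω) {k : ℤ} (hk : ∑ x, A x o = k) (hn : 1 < Fintype.card Ω) :
    (∀ x, ∑ y, A x y = k) ∧ (∀ y, ∑ x, A x y = k) ∧ ∃ l : ℤ, k * k = k + ((Fintype.card Ω : ℤ) - 1) * l ∧
      ∀ a b, (∑ y, A a y * A b y = if a = b then k else l) ∧ (∑ y, A y a * A y b = if a = b then k else l) := by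
  classical
  have hrow : ∀ (g : G) x, ∑ y, A (g • x) y = ∑ y, A x y := fun g x =>
    (Fintype.sum_equiv (MulAction.toPerm (γ g)) _ _ fun y => (hA g x y).symm).symm
  have hcol : ∀ (g : G) y, ∑ x, A x (γ g • y) = ∑ x, A x y := fun g y =>
    (Fintype.sum_equiv (MulAction.toPerm g) _ _ fun x => (hA g x y).symm).symm
  have hC : ∀ y, ∑ x, A x y = k := fun y => by
    obtain ⟨g, hg⟩ := MulAction.exists_smul_eq G o y
    rw [← hg, ← γ.apply_symm_apply g, hcol, hk]
  have hR : ∀ x, ∑ y, A x y = k := by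
    intro x
    have h1 : ∀ z, ∑ y, A z y = ∑ y, A x y := fun z => by
      obtain ⟨g, hg⟩ := MulAction.exists_smul_eq G x z
      rw [← hg, hrow]
    have h2 : ∑ z, ∑ y, A z y = ∑ y, ∑ z, A z y := Finset.sum_comm
    rw [Finset.sum_congr rfl fun z _ => h1 z, Finset.sum_congr rfl fun z _ => hC z, Finset.sum_const,
      Finset.sum_const, nsmul_eq_mul, nsmul_eq_mul] at h2
    exact mul_left_cancel₀ (Nat.cast_ne_zero.2 (by rw [Finset.card_univ]; omega)) h2
  obtain ⟨u, v, huv⟩ := Fintype.one_lt_card_iff.1 hn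
  set l := ∑ y, A u y * A v y with hl
  set l' := ∑ y, A y u * A y v with hl'
  have hsq : ∀ x y, A x y * A x y = A x y := fun x y => by rcases h01 x y with h | h <;> rw [h] <;> norm_num
  have hO : ∀ a b, ∑ y, A a y * A b y = if a = b then k else l := by
    intro a b
    split_ifs with h
    · subst h; rw [Finset.sum_congr rfl fun y _ => hsq a y, hR]
    · obtain ⟨g, hg1, hg2⟩ := htwo u v a b huv h
      rw [hl, ← hg1, ← hg2]
      exact (Fintype.sum_equiv (MulAction.toPerm (γ g)) _ _ fun y => by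
        rw [MulAction.toPerm_apply, hA, hA]).symm
  have hO' : ∀ a b, ∑ y, A y a * A y b = if a = b then k else l' := by
    intro a b
    split_ifs with h
    · subst h; rw [Finset.sum_congr rfl fun y _ => hsq y a, hC]
    · obtain ⟨g, hg1, hg2⟩ := htwo u v a b huv h
      rw [hl', ← hg1, ← hg2, ← γ.apply_symm_apply g]
      exact (Fintype.sum_equiv (MulAction.toPerm (γ.symm g)) _ _ fun y => by
        rw [MulAction.toPerm_apply, hA, hA]).symm
  have eqn : ∀ (B : Matrix Ω Ω ℤ) (c : ℤ), (∀ x, ∑ y, B x y = k) → (∀ y, ∑ x, B x y = k) →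
      (∀ a b, ∑ y, B a y * B b y = if a = b then k else c) → k * k = k + ((Fintype.card Ω : ℤ) - 1) * c := by
    intro B c h1 h2 h3
    have h4 : ∑ b, ∑ y, B u y * B b y = k * k := by
      rw [Finset.sum_comm, Finset.sum_congr rfl fun y _ => (Finset.mul_sum _ _ _).symm]
      simp only [h2]
      rw [← Finset.sum_mul, h1]
    rw [← h4, Finset.sum_congr rfl fun b _ => h3 u b, ← Finset.add_sum_erase _ _ (Finset.mem_univ u),
      if_pos rfl, Finset.sum_congr rfl fun b hb => if_neg (Ne.symm (Finset.ne_of_mem_erase hb)),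
      Finset.sum_const, Finset.card_erase_of_mem (Finset.mem_univ u), Finset.card_univ, nsmul_eq_mul,
      Nat.cast_sub (by omega), Nat.cast_one]
  have e1 := eqn A l hR hC hO
  have e2 := eqn Aᵀ l' hC hR hO'
  have hll : l' = l := mul_left_cancel₀ (a := (Fintype.card Ω : ℤ) - 1) (by omega) (by linarith)
  exact ⟨hR, hC, l, e1, fun a b => ⟨hO a b, hll ▸ hO' a b⟩⟩

include htwo in
/-- Every twisted invariant matrix lies in the span of the design matrix and the all-one matrix. -/
theorem span (γ : MulAut G) {B : Matrix Ω Ω ℤ} (hB : TwInv γ B) (h01 : ∀ x y, B x y = 0 ∨ B x y = 1)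
    {C : Matrix Ω Ω ℤ} (hC : TwInv γ C) {k l : ℤ} (hR : ∀ x, ∑ y, B x y = k)
    (hBB : ∀ a b, ∑ y, B a y * B b y = if a = b then k else l)
    (heq : k * k = k + ((Fintype.card Ω : ℤ) - 1) * l) (hk0 : 0 < k) (hk : k < Fintype.card Ω)
    (hn : 1 < Fintype.card Ω) :
    ∃ a b : ℤ, ∀ x y, C x y = a + b * B x y := by
  classical
  obtain ⟨u, v, huv⟩ := Fintype.one_lt_card_iff.1 hn
  have hm : k - l ≠ 0 := fun h => by
    have h' : k * k = k * (Fintype.card Ω : ℤ) := by rw [heq, show l = k by linarith]; ring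
    exact hk.ne (mul_left_cancel₀ hk0.ne' h')
  have hD : ∀ g a b, ∑ x, B x (γ g • a) * C x (γ g • b) = ∑ x, B x a * C x b := fun g a b =>
    (Fintype.sum_equiv (MulAction.toPerm g) _ _ fun x => by rw [MulAction.toPerm_apply, hB, hC]).symm
  set p := ∑ x, B x u * C x u with hp
  set q := ∑ x, B x u * C x v with hq
  have hDval : ∀ a b, ∑ x, B x a * C x b = if a = b then p else q := by
    intro a b
    split_ifs with h
    · subst h
      obtain ⟨g, hg⟩ := MulAction.exists_smul_eq G u a
      rw [hp, ← hg, ← γ.apply_symm_apply g, hD]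
    · obtain ⟨g, hg1, hg2⟩ := htwo u v a b huv h
      rw [hq, ← hg1, ← hg2, ← γ.apply_symm_apply g, hD]
  -- multiply on the left by `B`
  have hkey : ∀ x y, (k - l) * C x y + l * ∑ z, C z y = (p - q) * B x y + q * k := by
    intro x y
    have e : ∑ a, B x a * ∑ z, B z a * C z y = ∑ z, (∑ a, B x a * B z a) * C z y := by
      simp only [Finset.mul_sum, Finset.sum_mul]
      rw [Finset.sum_comm]
      exact Finset.sum_congr rfl fun z _ => Finset.sum_congr rfl fun a _ => by ring
    have el : ∑ z, (∑ a, B x a * B z a) * C z y = (k - l) * C x y + l * ∑ z, C z y := by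
      simp only [hBB, ite_mul]
      rw [Finset.mul_sum, ← Finset.sum_erase_add _ _ (Finset.mem_univ x), if_pos rfl,
        Finset.sum_congr rfl fun z hz => if_neg (Ne.symm (Finset.ne_of_mem_erase hz)),
        ← Finset.sum_erase_add (f := fun z => l * C z y) _ (Finset.mem_univ x)]
      ring
    have er : ∑ a, B x a * ∑ z, B z a * C z y = (p - q) * B x y + q * k := by
      simp only [hDval, mul_ite]
      rw [← hR x, Finset.mul_sum, ← Finset.sum_erase_add _ _ (Finset.mem_univ y), if_pos rfl,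
        Finset.sum_congr rfl fun a ha => if_neg (Finset.ne_of_mem_erase ha),
        ← Finset.sum_erase_add (f := fun a => q * B x a) _ (Finset.mem_univ y)]
      rw [Finset.sum_congr rfl fun a (_ : a ∈ univ.erase y) => mul_comm (B x a) q]
      ring
    rw [← el, ← er, e]
  have hs : ∀ y, ∑ z, C z y = ∑ z, C z u := fun y => by
    obtain ⟨g, hg⟩ := MulAction.exists_smul_eq G u y
    rw [← hg, ← γ.apply_symm_apply g]
    exact (Fintype.sum_equiv (MulAction.toPerm (γ.symm g)) _ _ fun x => (hC _ x u).symm).symm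
  obtain ⟨x0, h0⟩ : ∃ x, B x u = 0 := by
    by_contra h
    push Not at h
    have hc : ∀ x y, B x y = 1 := fun x y => by
      obtain ⟨g, hg⟩ := MulAction.exists_smul_eq G u y
      have h2 := hB (γ.symm g) ((γ.symm g)⁻¹ • x) u
      rw [smul_inv_smul, γ.apply_symm_apply, hg] at h2
      rw [h2]
      exact (h01 _ u).resolve_left (h _)
    have h3 := hR u
    simp [hc] at h3
    omega
  by_cases hall : ∃ x1, B x1 u = 1
  · obtain ⟨x1, h1⟩ := hall
    refine ⟨C x0 u, C x1 u - C x0 u, fun x y => mul_left_cancel₀ hm ?_⟩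
    have k1 := hkey x y
    have k2 := hkey x0 u
    have k3 := hkey x1 u
    rw [h0] at k2
    rw [h1] at k3
    rw [hs y] at k1
    rcases h01 x y with h | h <;> rw [h] at k1 ⊢ <;> linarith
  · push Not at hall
    exfalso
    have hz : ∀ x, B x u = 0 := fun x => (h01 x u).resolve_right (hall x)
    have hc : ∀ y, B u y = 0 := fun y => by
      obtain ⟨g, hg⟩ := MulAction.exists_smul_eq G u y
      have h2 := hB (γ.symm g) ((γ.symm g)⁻¹ • u) u
      rw [smul_inv_smul, γ.apply_symm_apply, hg, hz] at h2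
      exact h2
    have := hR u
    simp [hc] at this
    omega

omit [DecidableEq Ω] in
theorem map_stabilizer_eq [Finite G] (φ : MulAut G) (o w : Ω)
    (h : (stabilizer G o).map φ.toMonoidHom ≤ stabilizer G w) :
    (stabilizer G o).map φ.toMonoidHom = stabilizer G w := by
  refine Subgroup.eq_of_le_of_card_ge h (le_of_eq ?_)
  rw [Subgroup.card_map_of_injective φ.injective]
  have e : ∀ x : Ω, Nat.card (stabilizer G x) * Nat.card Ω = Nat.card G := fun x => by
    rw [← MulAction.index_stabilizer_of_transitive G x, Subgroup.card_mul_index]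
  exact Nat.eq_of_mul_eq_mul_right (Nat.card_pos_iff.2 ⟨⟨o⟩, inferInstance⟩) ((e w).trans (e o).symm)

theorem int_arith {n k l k₂ l₂ a b : ℤ} (hk : 0 < k) (hkn : k < n) (hk₂ : 0 < k₂) (hk₂n : k₂ < n)
    (hcop : IsCoprime k n) (e1 : k * k = k + (n - 1) * l) (e2 : k₂ * k₂ = k₂ + (n - 1) * l₂)
    (hsum : k * k = a * n + b * k₂) (hnorm : b * b * (k₂ - l₂) = (k - l) * (k - l)) :
    k₂ = 1 ∨ k₂ = n - 1 := by
  set m := k - l with hm
  set m₂ := k₂ - l₂ with hm₂
  have hn1 : 0 < n - 1 := by linarith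
  have hmeq : m * (n - 1) = k * (n - k) := by rw [hm]; linear_combination -(-1 : ℤ) * e1
  have hm2eq : m₂ * (n - 1) = k₂ * (n - k₂) := by rw [hm₂]; linear_combination -(-1 : ℤ) * e2
  have hm0 : 0 < m := by
    have : 0 < k * (n - k) := mul_pos hk (by linarith)
    nlinarith
  have hm20 : 0 < m₂ := by
    have : 0 < k₂ * (n - k₂) := mul_pos hk₂ (by linarith)
    nlinarith
  have hb : b ≠ 0 := by
    intro h; subst h; nlinarith
  obtain ⟨c, hc⟩ : b ∣ m := by
    rw [← Int.pow_dvd_pow_iff (n := 2) two_ne_zero]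
    exact ⟨m₂, by rw [pow_two, pow_two]; linarith⟩
  have hc2 : c * c = m₂ := by
    refine mul_left_cancel₀ (mul_ne_zero hb hb) ?_
    rw [hnorm, hc]; ring
  have hcopm : IsCoprime b n := by
    have h1 : IsCoprime m n := by
      have : m = k * k + n * (-l) := by rw [hm]; linear_combination -(1 : ℤ) * e1
      rw [this]
      exact (hcop.mul_left hcop).add_mul_left_left (-l)
    exact h1.of_isCoprime_of_dvd_left ⟨c, hc⟩
  have hd : n ∣ k₂ - c := by
    refine hcopm.symm.dvd_of_dvd_mul_left (show n ∣ b * (k₂ - c) from ⟨l - a, ?_⟩)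
    rw [mul_sub, ← hc, hm]
    linear_combination -(1 : ℤ) * hsum + e1
  have hcabs : c * c ≤ k₂ ∧ c * c ≤ n - k₂ := by
    rw [hc2]; constructor <;> nlinarith
  obtain ⟨t, ht⟩ := hd
  have hc1 : -n < c ∧ c < n := by constructor <;> nlinarith
  have htb : t = 0 ∨ t = 1 := by
    rcases le_or_gt t (-1) with h | h
    · have : n * t ≤ -n := by nlinarith
      nlinarith
    · rcases le_or_gt 2 t with h' | h'
      · have : n * t ≥ 2 * n := by nlinarith
        nlinarith
      · omega
  rcases htb with rfl | rfl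
  · left; nlinarith
  · right; nlinarith

include htwo in
theorem sq_step [Finite G] (α : MulAut G) (o ω : Ω) (hn : 1 < Fintype.card Ω)
    (hk : (Nat.card (MulAction.orbit ((stabilizer G o).map α.toMonoidHom) ω)).Coprime (Fintype.card Ω)) :
    ∃ p : Ω, (stabilizer G o).map (α * α).toMonoidHom = stabilizer G p := by
  classical
  set β : MulAut G := α.symm with hβ
  set A := orbMat β ω o with hA
  have hAi : TwInv β A := twInv_orbMat β ω o
  set kn := Nat.card (MulAction.orbit ((stabilizer G o).map α.toMonoidHom) ω) with hkn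
  have hkA : ∑ x, A x o = (kn : ℤ) := by
    rw [hA, orbMat_col, hkn, hβ, MulEquiv.symm_symm]
  obtain ⟨hR, hC, l, e1, hAA⟩ := gram htwo β hAi (fun x y => orbMat_zero_one β ω o x y) o hkA hn
  have hkpos : 0 < kn := Nat.card_pos_iff.2 ⟨⟨⟨ω, MulAction.mem_orbit_self ω⟩⟩, inferInstance⟩
  have hkle : kn ≤ Fintype.card Ω := by
    rw [hkn, ← Nat.card_eq_fintype_card]
    exact Nat.card_le_card_of_injective _ Subtype.val_injective
  have hklt : kn < Fintype.card Ω := lt_of_le_of_ne hkle fun h => by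
    rw [h, Nat.coprime_self] at hk; omega
  set γ : MulAut G := β * β with hγ
  set C : Matrix Ω Ω ℤ := A * A with hCdef
  have hCi : TwInv γ C := fun g x y => by
    show ∑ z, A (g • x) z * A z (β (β g) • y) = ∑ z, A x z * A z y
    exact (Fintype.sum_equiv (MulAction.toPerm (β g)) _ _ fun z => by
      rw [MulAction.toPerm_apply, hAi, hAi]).symm
  have hCsum : ∀ x, ∑ y, C x y = (kn : ℤ) * kn := fun x => by
    show ∑ y, ∑ z, A x z * A z y = _
    rw [Finset.sum_comm]
    refine (Finset.sum_congr rfl fun z _ => (Finset.mul_sum _ _ (A x z)).symm).trans ?_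
    simp only [hR]
    rw [← Finset.sum_mul, hR]
  obtain ⟨u, v, huv⟩ := Fintype.one_lt_card_iff.1 hn
  have hnorm : ∑ y, C u y * C u y - ∑ y, C u y * C v y = ((kn : ℤ) - l) * ((kn : ℤ) - l) := by
    have key : ∀ a b, ∑ y, C a y * C b y =
        ((kn : ℤ) - l) * (if a = b then (kn : ℤ) else l) + l * (kn * kn) := by
      intro a b
      calc ∑ y, C a y * C b y = ∑ z, ∑ w, A a z * A b w * ∑ y, A z y * A w y := by
            show ∑ y, (∑ z, A a z * A z y) * (∑ w, A b w * A w y) = _
            simp only [Finset.sum_mul_sum]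
            simp only [Finset.mul_sum]
            rw [Finset.sum_comm]
            refine Finset.sum_congr rfl fun z _ => ?_
            rw [Finset.sum_comm]
            exact Finset.sum_congr rfl fun w _ => Finset.sum_congr rfl fun y _ => by ring
        _ = ∑ z, ∑ w, (((kn : ℤ) - l) * (if z = w then A a z * A b w else 0) + l * (A a z * A b w)) := by
            refine Finset.sum_congr rfl fun z _ => Finset.sum_congr rfl fun w _ => ?_
            rw [(hAA z w).1]
            split_ifs <;> ring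
        _ = _ := by
            simp only [Finset.sum_add_distrib, ← Finset.mul_sum, Finset.sum_ite_eq, Finset.mem_univ, if_true]
            rw [(hAA a b).1, ← Finset.sum_mul, hR, hR]
    rw [key, key, if_pos rfl, if_neg huv]; ring
  set K := (stabilizer G o).map (α * α).toMonoidHom with hKdef
  have hγs : γ.symm = α * α := MulEquiv.ext fun g => by
    rw [MulEquiv.symm_apply_eq, hγ, hβ]
    show g = α.symm (α.symm (α (α g)))
    simp
  set B := orbMat γ o o with hB
  have hBi : TwInv γ B := twInv_orbMat γ o o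
  have hk2 : ∑ x, B x o = (Nat.card (MulAction.orbit K o) : ℤ) := by rw [hB, orbMat_col, hγs, hKdef]
  set k2 := Nat.card (MulAction.orbit K o) with hk2def
  have hk2pos : 0 < k2 := Nat.card_pos_iff.2 ⟨⟨⟨o, MulAction.mem_orbit_self o⟩⟩, inferInstance⟩
  have hk2le : k2 ≤ Fintype.card Ω := by
    rw [hk2def, ← Nat.card_eq_fintype_card]
    exact Nat.card_le_card_of_injective _ Subtype.val_injective
  rcases eq_or_lt_of_le hk2le with heq | hk2lt
  · exfalso
    have huniv : ∀ x, x ∈ MulAction.orbit K o := fun x => by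
      have h1 : MulAction.orbit K o = Set.univ := Set.eq_of_subset_of_ncard_le (Set.subset_univ _) (by
        rw [Set.ncard_univ, Nat.card_eq_fintype_card, ← Nat.card_coe_set_eq]; exact heq.ge)
      rw [h1]; trivial
    have hcol : ∀ x, C x o = C o o := by
      intro x
      obtain ⟨⟨g, hg⟩, rfl⟩ := huniv x
      obtain ⟨h, hh, rfl⟩ := hg
      show C ((α * α) h • o) o = C o o
      have h2 := hCi ((α * α) h) o o
      rw [← hγs, MulEquiv.apply_symm_apply] at h2
      rwa [show h • o = o from hh, hγs] at h2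
    have hall : ∀ x y, C x y = C o o := by
      intro x y
      obtain ⟨g, hg⟩ := MulAction.exists_smul_eq G o y
      have h2 := hCi (γ.symm g) ((γ.symm g)⁻¹ • x) o
      rw [smul_inv_smul, γ.apply_symm_apply, hg, hcol] at h2
      exact h2
    simp only [hall] at hnorm
    rw [sub_self] at hnorm
    have hl : (kn : ℤ) = l := by nlinarith
    have h5 : (kn : ℤ) * kn = kn * (Fintype.card Ω : ℤ) := by rw [e1, ← hl]; ring
    have h6 := mul_left_cancel₀ (Int.natCast_ne_zero.2 hkpos.ne') h5
    omega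
  obtain ⟨hR₂, hC₂, l₂, e2, hBB⟩ := gram htwo γ hBi (fun x y => orbMat_zero_one γ o o x y) o hk2 hn
  obtain ⟨a, b, hab⟩ := span htwo γ hBi (fun x y => orbMat_zero_one γ o o x y) hCi hR₂ (fun x y => (hBB x y).1) e2
    (by exact_mod_cast hk2pos) (by exact_mod_cast hk2lt) hn
  have hsum : (kn : ℤ) * kn = a * (Fintype.card Ω : ℤ) + b * k2 := by
    rw [← hCsum u]
    simp only [hab]
    rw [Finset.sum_add_distrib, Finset.sum_const, Finset.card_univ, ← Finset.mul_sum, hR₂, nsmul_eq_mul]
    ring
  have hnorm2 : b * b * ((k2 : ℤ) - l₂) = ((kn : ℤ) - l) * ((kn : ℤ) - l) := by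
    rw [← hnorm, ← Finset.sum_sub_distrib]
    simp only [hab]
    rw [Finset.sum_congr rfl fun y _ => show (a + b * B u y) * (a + b * B u y) - (a + b * B u y) * (a + b * B v y) =
        a * b * B u y - a * b * B v y + b * b * (B u y * B u y) - b * b * (B u y * B v y) by ring]
    simp only [Finset.sum_sub_distrib, Finset.sum_add_distrib, ← Finset.mul_sum, hR₂]
    rw [(hBB u u).1, (hBB u v).1, if_pos rfl, if_neg huv]
    ring
  rcases int_arith (by exact_mod_cast hkpos) (by exact_mod_cast hklt) (by exact_mod_cast hk2pos)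
    (by exact_mod_cast hk2lt) (Int.isCoprime_iff_gcd_eq_one.2 (by rw [Int.gcd_natCast_natCast]; exact hk)) e1 e2 hsum hnorm2 with h | h
  · refine ⟨o, map_stabilizer_eq _ o o fun g hg => ?_⟩
    haveI : Subsingleton (MulAction.orbit K o) := Finite.card_le_one_iff_subsingleton.1 (by
      rw [← hk2def]; exact_mod_cast h.le)
    exact congrArg Subtype.val (Subsingleton.elim
      (⟨g • o, ⟨⟨g, hg⟩, rfl⟩⟩ : MulAction.orbit K o) ⟨o, MulAction.mem_orbit_self o⟩)
  · have h1 : (MulAction.orbit K o)ᶜ.ncard = 1 := by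
      rw [Set.ncard_compl, Nat.card_eq_fintype_card, ← Nat.card_coe_set_eq, ← hk2def]
      omega
    obtain ⟨w, hw⟩ := Set.ncard_eq_one.1 h1
    have hwn : w ∉ MulAction.orbit K o := by
      have : w ∈ (MulAction.orbit K o)ᶜ := hw ▸ Set.mem_singleton w
      exact this
    refine ⟨w, map_stabilizer_eq _ o w fun g hg => ?_⟩
    have : g • w ∈ (MulAction.orbit K o)ᶜ := fun hin => hwn (by
      have h2 : w ∈ MulAction.orbit K (g • w) := ⟨⟨g, hg⟩⁻¹, inv_smul_smul g w⟩
      rwa [MulAction.orbit_eq_iff.2 hin] at h2)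
    rw [hw] at this
    exact this

omit [DecidableEq Ω] in
theorem main_aux [Finite G] (α : MulAut G) (hα : Odd (orderOf α)) (o : Ω)
    (h : ∃ p : Ω, (stabilizer G o).map (α * α).toMonoidHom = stabilizer G p) :
    ∃ p : Ω, (stabilizer G o).map α.toMonoidHom = stabilizer G p := by
  obtain ⟨p, hp⟩ := h
  have hiter : ∀ i : ℕ, ∀ x : Ω, ∃ q : Ω, (stabilizer G x).map (((α * α) ^ i : MulAut G)).toMonoidHom = stabilizer G q := by
    intro i
    induction i with
    | zero => exact fun x => ⟨x, by ext g; simp⟩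
    | succ i ih =>
      intro x
      obtain ⟨q, hq⟩ := ih x
      obtain ⟨g, rfl⟩ := MulAction.exists_smul_eq G o q
      refine ⟨(α * α) g • p, ?_⟩
      rw [pow_succ']
      change (stabilizer G x).map ((α * α).toMonoidHom.comp ((α * α) ^ i : MulAut G).toMonoidHom) = _
      rw [← Subgroup.map_map, hq, stabilizer_smul_eq_stabilizer_map_conj, stabilizer_smul_eq_stabilizer_map_conj,
        ← hp, Subgroup.map_map, Subgroup.map_map]
      congr 1
      ext z
      simp [map_mul, map_inv]
  obtain ⟨r, hr⟩ := hα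
  obtain ⟨q, hq⟩ := hiter (r + 1) o
  refine ⟨q, ?_⟩
  rwa [← pow_two, ← pow_mul, show 2 * (r + 1) = 2 * r + 1 + 1 by ring, ← hr, pow_succ, pow_orderOf_eq_one, one_mul] at hq

omit [DecidableEq Ω] in
theorem exists_perm [Finite G] (α : MulAut G) (o : Ω) {p : Ω}
    (hp : (stabilizer G o).map α.toMonoidHom = stabilizer G p) :
    ∃ σ : Equiv.Perm Ω, ∀ (g : G) x, σ (g • x) = α g • σ x := by
  choose g hg using fun x : Ω => MulAction.exists_smul_eq G o x
  let f : Ω → Ω := fun x => α (g x) • p
  have hf : ∀ u : G, f (u • o) = α u • p := by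
    intro u
    have h1 : (g (u • o))⁻¹ * u ∈ stabilizer G o := by
      rw [mem_stabilizer_iff, mul_smul, inv_smul_eq_iff, hg]
    have h2 : α ((g (u • o))⁻¹ * u) • p = p := (hp.le ⟨_, h1, rfl⟩ :)
    show α (g (u • o)) • p = α u • p
    rw [map_mul, map_inv, mul_smul, inv_smul_eq_iff] at h2
    exact h2.symm
  have hsurj : Function.Surjective f := fun y => by
    obtain ⟨u, hu⟩ := MulAction.exists_smul_eq G p y
    exact ⟨α.symm u • o, by rw [hf, α.apply_symm_apply, hu]⟩
  refine ⟨Equiv.ofBijective f ⟨Finite.injective_iff_surjective.2 hsurj, hsurj⟩, fun u x => ?_⟩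
  obtain ⟨w, rfl⟩ := MulAction.exists_smul_eq G o x
  show f (u • w • o) = α u • f (w • o)
  rw [smul_smul, hf, hf, map_mul, mul_smul]

include htwo in
omit [DecidableEq Ω] in
theorem orbit_card_of_stabilizer (q ω : Ω) :
    Nat.card (MulAction.orbit (stabilizer G q) ω) = 1 ∨
      Nat.card (MulAction.orbit (stabilizer G q) ω) = Fintype.card Ω - 1 := by
  classical
  rcases eq_or_ne ω q with rfl | hne
  · left
    haveI : Subsingleton (MulAction.orbit (stabilizer G ω) ω) := ⟨fun a b => by
      obtain ⟨_, ⟨x, hx⟩, rfl⟩ := a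
      obtain ⟨_, ⟨y, hy⟩, rfl⟩ := b
      exact Subtype.ext ((hx : x • ω = ω).trans (hy : y • ω = ω).symm)⟩
    exact Nat.card_eq_one_iff_unique.2 ⟨inferInstance, ⟨⟨ω, MulAction.mem_orbit_self ω⟩⟩⟩
  · right
    have : MulAction.orbit (stabilizer G q) ω = {q}ᶜ := by
      ext x
      constructor
      · rintro ⟨⟨g, hg⟩, rfl⟩ h
        exact hne (smul_left_cancel g ((h : g • ω = q).trans (hg : g • q = q).symm))
      · intro hx
        obtain ⟨g, hg1, hg2⟩ := htwo ω q x q hne hx
        exact ⟨⟨g, hg2⟩, hg1⟩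
    rw [this, Nat.card_coe_set_eq, Set.ncard_compl, Set.ncard_singleton, Nat.card_eq_fintype_card]

end Cfsg.Agent.FGS.TwoTransDesign
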