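/-
Wielandt's theorem on nilpotent Hall subgroups, in a relative form.
-/
import Mathlib
import Cfsg.Agent.Lib.FGS.ThreeSizes
import Cfsg.Agent.Lib.Transfer.Fusion
import Cfsg.Agent.Lib.Transfer.Hall
import Cfsg.Agent.Lib.OddLocal.PAction
import Cfsg.Agent.Lib.Basics.Schmidt

set_option autoImplicit false
set_option linter.all false

namespace Cfsg.Agent.FGS.WielandtHall

open Subgroup Cfsg FGS.ThreeSizes
open scoped Pointwise

universe u

variable {G : Type u} [Group G] [Finite G] {p q : ℕ}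

/-- `M` has a Sylow `p`-subgroup and a Sylow `q`-subgroup commuting elementwise. -/
def CommSyl (M : Subgroup G) (p q : ℕ) : Prop :=
  ∃ S T : Subgroup G, Basics.IsSylowIn p M S ∧ Basics.IsSylowIn q M T ∧
    ∀ a ∈ S, ∀ b ∈ T, Commute a b

theorem CommSyl.symm {M : Subgroup G} (h : CommSyl M p q) : CommSyl M q p := by
  obtain ⟨S, T, hS, hT, hc⟩ := h
  exact ⟨T, S, hT, hS, fun a ha b hb => (hc b hb a ha).symm⟩

theorem centralizes [hp : Fact p.Prime] [hq : Fact q.Prime] {M : Subgroup G} (h : CommSyl M p q)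
    {R : Subgroup G} (hR : IsPGroup p R) (hRM : R ≤ M) {y : G} (hy : PEl q y) (hyM : y ∈ M)
    (hyR : y ∈ normalizer (R : Set G)) : y ∈ centralizer (R : Set G) := by
  obtain ⟨S, T, hS, hT, hc⟩ := h
  obtain ⟨S₀, hS₀, hRS₀⟩ := exists_sylowIn_ge hR hRM
  obtain ⟨k, hkM, hk⟩ := hS₀.exists_conj hS
  have hkR : ∀ r ∈ R, k * r * k⁻¹ ∈ S := fun r hr => hk ▸ Basics.conj_mem_conj_smul (hRS₀ hr)
  set R' := MulAut.conj k • R with hR'
  have hR'S : R' ≤ S := hk ▸ pointwise_smul_le_pointwise_smul_iff.2 hRS₀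
  set y' := k * y * k⁻¹
  set N := M ⊓ normalizer (R' : Set G) with hN
  have hTN : T ≤ N := fun t ht => mem_inf.2 ⟨hT.1 ht, mem_normalizer_iff.2 fun r => by
    constructor
    · intro hr
      rwa [← (hc r (hR'S hr) t ht).eq, mul_inv_cancel_right]
    · intro hr
      have h1 := (hc _ (hR'S hr) t ht).eq
      rw [inv_mul_cancel_right] at h1
      exact (mul_left_cancel h1).symm ▸ hr⟩
  have hTN' : Basics.IsSylowIn q N T := ⟨hTN, le_antisymm (card_pGroup_le hT.isPGroup hTN)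
    (hT.2 ▸ Nat.pow_le_pow_right hq.out.pos (nu_mono inf_le_left))⟩
  have hy' : y' ∈ N := by
    refine mem_inf.2 ⟨mul_mem (mul_mem hkM hyM) (inv_mem hkM), ?_⟩
    rw [← Basics.conj_smul_eq_self_iff, hR', Basics.conj_smul_conj_smul,
      show k * y * k⁻¹ * k = k * y by group, ← Basics.conj_smul_conj_smul,
      Basics.conj_smul_eq_self_iff.2 hyR]
  obtain ⟨T', hT', hyT'⟩ := exists_sylowIn_ge (isPGroup_zpowers (PEl.conj hy k))
    (zpowers_le.2 hy')
  obtain ⟨n, hn, hnT⟩ := hT'.exists_conj hTN'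
  refine mem_centralizer_iff.2 fun r hr => ?_
  have h1 : n * (k * r * k⁻¹) * n⁻¹ ∈ R' := (mem_normalizer_iff.1 (mem_inf.1 hn).2 _).1
    (Basics.conj_mem_conj_smul hr)
  have h2 := hc _ (hR'S h1) _ (hnT ▸ Basics.conj_mem_conj_smul (hyT' (mem_zpowers y')))
  have h3 := commute_conj k⁻¹ (commute_conj n⁻¹ h2)
  rw [show k⁻¹ * (n⁻¹ * (n * (k * r * k⁻¹) * n⁻¹) * n⁻¹⁻¹) * k⁻¹⁻¹ = r by group,
    show k⁻¹ * (n⁻¹ * (n * y' * n⁻¹) * n⁻¹⁻¹) * k⁻¹⁻¹ = y by simp only [y']; group] at h3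
  exact h3.eq

/-- Such a subgroup `U` of `M` has a normal `p`-complement. -/
theorem complement_in [hp : Fact p.Prime] {M U : Subgroup G} (hUM : U ≤ M)
    (h : ∀ q : ℕ, q.Prime → q ∣ Nat.card U → q ≠ p → CommSyl M p q) :
    HasNormalPComplement p U := by
  refine Transfer.hasNormalPComplement_of_frobenius fun D hD g hg hgp => ?_
  refine (le_of_pel (H := zpowers g) (K := centralizer (D : Set U)) fun q hq w hw hwq => ?_)
    (mem_zpowers g)
  haveI := Fact.mk hq
  by_cases hw1 : w = 1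
  · rw [hw1]; exact one_mem _
  obtain ⟨i, hi⟩ := hwq
  obtain ⟨j, -, hj⟩ := (Nat.dvd_prime_pow hq).1 hi
  have hj0 : j ≠ 0 := fun hj0 => hw1 (orderOf_eq_one_iff.1 (by rw [hj, hj0, pow_zero]))
  have hqd : q ∣ orderOf w := hj ▸ dvd_pow_self q hj0
  have hqp : q ≠ p := by
    rintro rfl
    exact hq.ne_one ((Nat.coprime_self q).1 (Nat.Coprime.coprime_dvd_left (hqd.trans (orderOf_dvd_of_mem_zpowers hw)) hgp))
  have hwD : w ∈ normalizer (D : Set U) := zpowers_le.2 hg hw
  have h1 := centralizes (h q hq (hqd.trans (_root_.orderOf_dvd_natCard w)) hqp)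
    (hD.map U.subtype) ((map_subtype_le D).trans hUM)
    (⟨i, by rwa [orderOf_coe]⟩ : PEl q (w : G)) (hUM w.2)
    (le_normalizer_map U.subtype ⟨w, hwD, rfl⟩)
  exact mem_centralizer_iff.2 fun d hd => Subtype.ext
    (mem_centralizer_iff.1 h1 (d : G) ⟨d, hd, rfl⟩)

/-- In a subgroup `U` of `M`, the `p`-elements commute with the `p`-regular elements. -/
theorem commute_in [hp : Fact p.Prime] {M U : Subgroup G} (hUM : U ≤ M)
    (h : ∀ q : ℕ, q.Prime → q ∣ Nat.card U → q ≠ p → CommSyl M p q)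
    {a b : G} (ha : a ∈ U) (hb : b ∈ U) (hap : PEl p a) (hbp : (orderOf b).Coprime p) :
    Commute a b := by
  have hnc := complement_in hUM h
  set K := (pResidual p U).map U.subtype with hK
  have hKU : K ≤ U := map_subtype_le _
  have hKp : ¬ p ∣ Nat.card K := by
    rw [hK, card_map_of_injective U.subtype_injective]
    exact Transfer.hasNormalPComplement_iff.1 hnc
  obtain ⟨P, hP, haP⟩ := exists_sylowIn_ge (isPGroup_zpowers hap) (zpowers_le.2 ha)
  have hPK : P ≤ normalizer (K : Set G) := by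
    intro x hx
    have h1 : (⟨x, hP.1 hx⟩ : U) ∈ normalizer ((pResidual p U : Subgroup U) : Set U) := by
      rw [normalizer_eq_top_iff.2 inferInstance]
      exact mem_top _
    exact le_normalizer_map U.subtype ⟨_, h1, rfl⟩
  have hKC : K ≤ centralizer (P : Set G) := by
    have e : K ⊓ centralizer (P : Set G) = K := by
      refine eq_of_le_of_card_ge inf_le_left (le_of_eq ?_)
      refine Nat.eq_of_factorization_eq Nat.card_pos.ne' Nat.card_pos.ne' fun q => ?_
      by_cases hq : q.Prime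
      swap
      · rw [Nat.factorization_eq_zero_of_not_prime _ hq, Nat.factorization_eq_zero_of_not_prime _ hq]
      haveI := Fact.mk hq
      by_cases hqK : q ∣ Nat.card K
      swap
      · rw [Nat.factorization_eq_zero_of_not_dvd hqK, Nat.factorization_eq_zero_of_not_dvd
          fun hd => hqK (hd.trans (card_dvd_of_le inf_le_left))]
      have hqp : q ≠ p := fun e => hKp (e ▸ hqK)
      obtain ⟨S, -, hSK, hSq, hPS, hSi⟩ := OddLocal.exists_invariant_sylow_ge (q := q)
        hP.isPGroup hPK hKp (bot_le : (⊥ : Subgroup G) ≤ K) IsPGroup.of_bot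
        (fun x _ => mem_normalizer_iff.2 fun y => by simp [mem_bot])
      have hSC : S ≤ K ⊓ centralizer (P : Set G) := by
        refine le_inf hSK fun s hs => mem_centralizer_iff.2 fun x hx => ?_
        have h1 := centralizes (h q hq (hqK.trans (card_dvd_of_le hKU)) hqp).symm hSq
          (hSK.trans (hKU.trans hUM)) (pel_of_mem hP.isPGroup hx) (hUM (hP.1 hx)) (hPS hx)
        exact (mem_centralizer_iff.1 h1 s hs).symm
      refine le_antisymm ?_ (nu_mono inf_le_left)
      have h2 : nu q K = nu q S := by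
        rw [nu, nu, ← (Basics.card_subgroupOf hSK ▸ card_mul_index (S.subgroupOf K) :
          Nat.card S * S.relIndex K = Nat.card K), Nat.factorization_mul Nat.card_pos.ne'
          (show S.relIndex K ≠ 0 from index_ne_zero_of_finite), Finsupp.add_apply,
          Nat.factorization_eq_zero_of_not_dvd hSi, add_zero]
      exact (h2.trans_le (nu_mono hSC) : nu q K ≤ nu q (K ⊓ centralizer (P : Set G)))
    exact e ▸ inf_le_right
  have hbK : b ∈ K := ⟨⟨b, hb⟩, Transfer.mem_pResidual_of_coprime (by rwa [orderOf_mk]), rfl⟩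
  exact mem_centralizer_iff.1 (hKC hbK) a (haP (mem_zpowers a))

theorem commSyl_of_nilpotent {H M : Subgroup G} (hn : Group.IsNilpotent H) (hHM : H ≤ M)
    (hp : p.Prime) (hq : q.Prime) (hne : p ≠ q) (hHp : nu p H = nu p M) (hHq : nu q H = nu q M) :
    CommSyl M p q := by
  haveI := Fact.mk hp
  haveI := Fact.mk hq
  obtain ⟨S, hS, -⟩ := exists_sylowIn_ge (p := p) IsPGroup.of_bot (bot_le : ⊥ ≤ H)
  obtain ⟨T, hT, -⟩ := exists_sylowIn_ge (p := q) IsPGroup.of_bot (bot_le : ⊥ ≤ H)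
  refine ⟨S, T, ⟨hS.1.trans hHM, by rw [hS.2]; exact congrArg (p ^ ·) hHp⟩,
    ⟨hT.1.trans hHM, by rw [hT.2]; exact congrArg (q ^ ·) hHq⟩, fun a ha b hb => ?_⟩
  haveI := hn
  have h1 : (orderOf (⟨a, hS.1 ha⟩ : H)).Coprime (orderOf (⟨b, hT.1 hb⟩ : H)) := by
    obtain ⟨i, hi⟩ := pel_of_mem hS.isPGroup ha
    obtain ⟨j, hj⟩ := pel_of_mem hT.isPGroup hb
    rw [orderOf_mk, orderOf_mk]
    exact Nat.Coprime.coprime_dvd_left hi (Nat.Coprime.coprime_dvd_right hj
      (((Nat.coprime_primes hp hq).2 hne).pow i j))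
  exact congrArg Subtype.val (Transfer.commute_of_coprime_of_nilpotent h1)

/-- Wielandt's theorem. -/
theorem exists_conj_le : ∀ (n : ℕ) (M H U : Subgroup G), Nat.card U = n → U ≤ M → H ≤ M →
    Group.IsNilpotent H → (∀ p : ℕ, p.Prime → p ∣ Nat.card U → nu p H = nu p M) →
    ∃ x ∈ M, MulAut.conj x • U ≤ H := by
  intro n
  induction n using Nat.strong_induction_on with
  | _ n ih =>
  intro M H U hn hUM hHM hnil hν
  by_cases h1 : Nat.card U = 1
  · refine ⟨1, one_mem _, ?_⟩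
    rw [Basics.conj_smul_one, card_eq_one.1 h1]
    exact bot_le
  obtain ⟨p, hp, hpd⟩ := Nat.exists_prime_and_dvd h1
  haveI := Fact.mk hp
  obtain ⟨S, hS, -⟩ := exists_sylowIn_ge (p := p) IsPGroup.of_bot (bot_le : ⊥ ≤ H)
  have hSM : Basics.IsSylowIn p M S :=
    ⟨hS.1.trans hHM, by rw [hS.2]; exact congrArg (p ^ ·) (hν p hp hpd)⟩
  obtain ⟨P, hP, -⟩ := exists_sylowIn_ge (p := p) IsPGroup.of_bot (bot_le : ⊥ ≤ U)
  obtain ⟨P₀, hP₀, hPP₀⟩ := exists_sylowIn_ge hP.isPGroup (hP.1.trans hUM)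
  obtain ⟨x, hxM, hx⟩ := hP₀.exists_conj hSM
  set U' := MulAut.conj x • U with hU'
  set P' := MulAut.conj x • P with hP'
  have hU'c : Nat.card U' = Nat.card U := Basics.card_conj_smul x U
  have hU'M : U' ≤ M := (pointwise_smul_le_pointwise_smul_iff.2 hUM).trans
    (Basics.conj_smul_eq_self_iff.2 (le_normalizer hxM)).le
  have hP'S : P' ≤ S := hx ▸ pointwise_smul_le_pointwise_smul_iff.2 hPP₀
  have hP'U : P' ≤ U' := pointwise_smul_le_pointwise_smul_iff.2 hP.1
  have hP'p : IsPGroup p P' := Basics.isPGroup_conj_smul x hP.isPGroup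
  have hcomm : ∀ a b : G, a ∈ U' → b ∈ U' → PEl p a → (orderOf b).Coprime p → Commute a b :=
    fun a b ha hb hap hbp => commute_in hU'M (fun q hq hqd hqp =>
      commSyl_of_nilpotent hnil hHM hp hq (Ne.symm hqp) (hν p hp hpd) (hν q hq (hU'c ▸ hqd)))
      ha hb hap hbp
  -- the `p`-regular part
  have hcs : ∀ q : ℕ, q.Prime → q ∣ Nat.card U' → q ≠ p → CommSyl M p q := fun q hq hqd hqp =>
    commSyl_of_nilpotent hnil hHM hp hq (Ne.symm hqp) (hν p hp hpd) (hν q hq (hU'c ▸ hqd))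
  set K := (pResidual p U').map U'.subtype with hK
  have hKU : K ≤ U' := map_subtype_le _
  have hKp : ¬ p ∣ Nat.card K := by
    rw [hK, card_map_of_injective U'.subtype_injective]
    exact Transfer.hasNormalPComplement_iff.1 (complement_in hU'M hcs)
  have hKC : K ≤ centralizer (P' : Set G) := fun k hk => mem_centralizer_iff.2 fun a ha =>
    (hcomm a k (hP'U ha) (hKU hk) (pel_of_mem hP'p ha) ((hp.coprime_iff_not_dvd.2
      fun hd => hKp (hd.trans (Subgroup.orderOf_dvd_natCard _ hk))).symm)).eq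
  have hlt : Nat.card K < n := by
    rw [← hn, ← hU'c]
    exact lt_of_le_of_ne (card_le_of_le hKU) fun e => hKp (e ▸ (hU'c ▸ hpd))
  set M' := M ⊓ centralizer (P' : Set G) with hM'
  set H' := H ⊓ centralizer (P' : Set G) with hH'
  have hν' : ∀ q : ℕ, q.Prime → q ∣ Nat.card K → nu q H' = nu q M' := by
    intro q hq hqK
    haveI := Fact.mk hq
    have hqp : q ≠ p := fun e => hKp (e ▸ hqK)
    obtain ⟨T, hT, -⟩ := exists_sylowIn_ge (p := q) IsPGroup.of_bot (bot_le : ⊥ ≤ H)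
    have hTH' : T ≤ H' := fun t ht => mem_inf.2 ⟨hT.1 ht, mem_centralizer_iff.2 fun a ha => by
      haveI := hnil
      have h1 : (orderOf (⟨a, hS.1 (hP'S ha)⟩ : H)).Coprime (orderOf (⟨t, hT.1 ht⟩ : H)) := by
        obtain ⟨i, hi⟩ := pel_of_mem hP'p ha
        obtain ⟨j, hj⟩ := pel_of_mem hT.isPGroup ht
        rw [orderOf_mk, orderOf_mk]
        exact Nat.Coprime.coprime_dvd_left hi (Nat.Coprime.coprime_dvd_right hj
          (((Nat.coprime_primes hp hq).2 hqp.symm).pow i j))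
      exact (congrArg Subtype.val (Transfer.commute_of_coprime_of_nilpotent h1) :)⟩
    refine le_antisymm (nu_mono (inf_le_inf_right _ hHM)) ?_
    refine ((nu_mono inf_le_left).trans_eq (hν q hq ?_).symm).trans ?_
    · rw [← hU'c]; exact hqK.trans (card_dvd_of_le hKU)
    · have h2 := card_pGroup_le hT.isPGroup hTH'
      rw [hT.2] at h2
      exact (Nat.pow_le_pow_iff_right hq.one_lt).1 h2
  obtain ⟨y, hy, hyK⟩ := ih _ hlt M' H' K rfl
    (le_inf (hKU.trans hU'M) hKC) (inf_le_inf_right _ hHM)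
    (Basics.isNilpotent_of_le' inf_le_left hnil) hν'
  obtain ⟨hyM, hyC⟩ := mem_inf.1 hy
  refine ⟨y * x, mul_mem hyM hxM, ?_⟩
  rw [← Basics.conj_smul_conj_smul, ← hU']
  have hsplit : U' ≤ P' ⊔ K := by
    obtain ⟨Q, hQ⟩ := (show Basics.IsSylowIn p U' P' from ⟨hP'U, by
      rw [hP', Basics.card_conj_smul, hP.2, hU'c]⟩).exists_sylow
    have h1 := (Transfer.isComplement'_pResidual
      (Transfer.hasNormalPComplement_iff.1 (complement_in hU'M hcs)) Q).sup_eq_top
    have h2 := congrArg (Subgroup.map U'.subtype) h1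
    rw [Subgroup.map_sup, hQ, ← MonoidHom.range_eq_map, range_subtype, sup_comm] at h2
    exact h2.ge
  refine (pointwise_smul_le_pointwise_smul_iff.2 hsplit).trans ?_
  rw [Subgroup.smul_sup]
  refine sup_le ?_ (hyK.trans inf_le_left)
  intro a ha
  rw [Basics.mem_conj_smul] at ha
  have h1 := mem_centralizer_iff.1 hyC _ ha
  have h2 : y⁻¹ * a * y = a := mul_right_cancel (h1.trans (by group))
  exact hS.1 (hP'S (h2 ▸ ha))

end Cfsg.Agent.FGS.WielandtHall
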